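import Mathlib

/-!
Permutations of 315 points packed into numbers (nine bits per image), programs of such numbers,
and a certified stabiliser chain.
-/

set_option autoImplicit false

namespace CfsgLib.J2

/-- the `i`-th image -/
def getP (a i : ℕ) : ℕ := (a >>> (9 * i)) &&& 511

/-- pack a list of images -/
def packP : List ℕ → ℕ
  | [] => 0
  | x :: xs => x % 512 + 512 * packP xs

/-- the points -/
def pts : List ℕ := List.range 315

/-- composition `a ∘ b` -/
def compP (a b : ℕ) : ℕ := packP (pts.map fun i => getP a (getP b i))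

/-- the identity -/
def idP : ℕ := packP pts

/-- `a` encodes `σ` -/
def Rep (σ : Equiv.Perm (Fin 315)) (a : ℕ) : Prop := ∀ i : Fin 315, getP a i = (σ i : ℕ)

theorem getP_packP : ∀ (l : List ℕ) (i : ℕ) (hi : i < l.length), getP (packP l) i = l[i] % 512 := by
  intro l
  induction l with
  | nil => intro i hi; simp at hi
  | cons x xs ih =>
    intro i hi
    have h512 : ∀ n, getP n 0 = n % 512 := fun n => by
      rw [getP, show (511 : ℕ) = 2 ^ 9 - 1 by norm_num, Nat.and_two_pow_sub_one_eq_mod]; simp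
    cases i with
    | zero => rw [packP, h512]; simp
    | succ i =>
      have : getP (packP (x :: xs)) (i + 1) = getP (packP xs) i := by
        simp only [getP, packP, Nat.shiftRight_eq_div_pow]
        congr 1
        rw [show 9 * (i + 1) = 9 + 9 * i by ring, pow_add, ← Nat.div_div_eq_div_mul,
          show (2 : ℕ) ^ 9 = 512 by norm_num, Nat.add_mul_div_left _ _ (by norm_num),
          Nat.div_eq_of_lt (Nat.mod_lt _ (by norm_num)), Nat.zero_add]
      rw [this, ih i (by simpa using hi)]
      simp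

theorem getP_packP_pts (f : ℕ → ℕ) (i : Fin 315) : getP (packP (pts.map f)) i = f i % 512 := by
  rw [getP_packP _ _ (by simp [pts])]
  simp [pts]

theorem Rep.mul {σ τ : Equiv.Perm (Fin 315)} {a b : ℕ} (h : Rep σ a) (h' : Rep τ b) :
    Rep (σ * τ) (compP a b) := by
  intro i
  rw [compP, getP_packP_pts, h' i, h (τ i), Equiv.Perm.mul_apply,
    Nat.mod_eq_of_lt (lt_trans (Fin.is_lt _) (by norm_num))]

theorem rep_one : Rep 1 idP := by
  intro i
  have := getP_packP_pts id i
  rw [List.map_id] at this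
  rw [idP, this, id, Nat.mod_eq_of_lt (lt_trans i.is_lt (by norm_num))]
  rfl

theorem Rep.inj {σ τ : Equiv.Perm (Fin 315)} {a : ℕ} (h : Rep σ a) (h' : Rep τ a) : σ = τ :=
  Equiv.ext fun i => Fin.ext (by rw [← h i, ← h' i])

/-- `b` is a right inverse of `a` with all images on the points -/
def isInvP (a b : ℕ) : Bool := pts.all fun i => Nat.blt (getP b i) 315 && Nat.beq (getP a (getP b i)) i

theorem Rep.inv {σ : Equiv.Perm (Fin 315)} {a b : ℕ} (h : Rep σ a) (hb : isInvP a b = true) : Rep σ⁻¹ b := by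
  intro i
  have := List.all_eq_true.1 hb i (List.mem_range.2 i.is_lt)
  simp only [Bool.and_eq_true, Nat.blt_eq] at this
  obtain ⟨hlt, he⟩ := this
  have e : σ ⟨_, hlt⟩ = i := Fin.ext ((h ⟨_, hlt⟩).symm.trans (Nat.eq_of_beq_eq_true he))
  exact (congrArg Fin.val (Equiv.Perm.eq_inv_iff_eq.2 e))

/-- each new entry is the composition of two earlier ones, counted back from the newest -/
def runSLP : List (ℕ × ℕ × ℕ) → List ℕ → Bool
  | [], _ => true
  | (a, i, j) :: r, acc => Nat.beq a (compP (acc.getD i idP) (acc.getD j idP)) && runSLP r (a :: acc)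

theorem repIn_getD {H : Subgroup (Equiv.Perm (Fin 315))} {acc : List ℕ}
    (hacc : ∀ x ∈ acc, ∃ σ ∈ H, Rep σ x) (i : ℕ) : ∃ σ ∈ H, Rep σ (acc.getD i idP) := by
  by_cases hi : i < acc.length
  · rw [List.getD_eq_getElem _ _ hi]; exact hacc _ (List.getElem_mem hi)
  · rw [List.getD_eq_default _ _ (by omega)]; exact ⟨1, one_mem _, rep_one⟩

theorem runSLP_spec {H : Subgroup (Equiv.Perm (Fin 315))} : ∀ (r : List (ℕ × ℕ × ℕ)) (acc : List ℕ),
    runSLP r acc = true → (∀ x ∈ acc, ∃ σ ∈ H, Rep σ x) → ∀ x ∈ r.map Prod.fst, ∃ σ ∈ H, Rep σ x := by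
  intro r
  induction r with
  | nil => intro acc _ _ x hx; simp at hx
  | cons e r ih =>
    obtain ⟨a, i, j⟩ := e
    intro acc h hacc x hx
    simp only [runSLP, Bool.and_eq_true] at h
    obtain ⟨σ, hσ, rσ⟩ := repIn_getD hacc i
    obtain ⟨τ, hτ, rτ⟩ := repIn_getD hacc j
    have ha : ∃ σ ∈ H, Rep σ a := by
      rw [Nat.eq_of_beq_eq_true h.1]
      exact ⟨σ * τ, mul_mem hσ hτ, rσ.mul rτ⟩
    simp only [List.map_cons, List.mem_cons] at hx
    rcases hx with rfl | hx
    · exact ha
    · exact ih _ h.2 (fun y hy => (List.mem_cons.1 hy).elim (fun e => e ▸ ha) (hacc y)) x hx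

/-- evaluation of a product -/
def evalW : List ℕ → ℕ → ℕ
  | [], x => x
  | a :: w, x => getP a (evalW w x)

/-! ### Levels of a chain -/

/-- the products with one factor from each list -/
def prodSet : List (List ℕ) → Set (Equiv.Perm (Fin 315))
  | [] => {1}
  | T :: r => {σ | ∃ a ∈ T, ∃ τ, Rep τ a ∧ ∃ ρ ∈ prodSet r, σ = τ * ρ}

/-- read off the positions -/
def pickAt (all : List ℕ) (idx : List ℕ) : List ℕ := idx.map fun i => all.getD i idP

/-- the certificate of one level: inverses, program, positions of transversal and next generators,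
sifting codes -/
structure Lvl where
  invs : List ℕ
  slp : List (ℕ × ℕ × ℕ)
  tIdx : List ℕ
  sIdx : List ℕ
  sift : List ℕ

/-- all elements of a level, oldest first -/
def Lvl.elems (L : Lvl) (S : List ℕ) : List ℕ := idP :: S ++ L.invs ++ L.slp.map Prod.fst

/-- the transversal -/
def Lvl.trans (L : Lvl) (S : List ℕ) : List ℕ := pickAt (L.elems S) L.tIdx

/-- the next generators -/
def Lvl.next (L : Lvl) (S : List ℕ) : List ℕ := pickAt (L.elems S) L.sIdx

/-- the digits of a code in base 512, most significant first -/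
def digits512 : ℕ → ℕ → List ℕ
  | 0, _ => []
  | k + 1, c => digits512 k (c / 512) ++ [c % 512]

/-- choose one element from each list -/
def pick : List (List ℕ) → List ℕ → List ℕ
  | T :: r, i :: is => T.getD i idP :: pick r is
  | _, _ => []

/-- the sifting test for all pairs of generator and transversal element -/
def siftOK (base : List ℕ) (lists : List (List ℕ)) : List (ℕ × ℕ) → List ℕ → Bool
  | [], [] => true
  | (s, t) :: r, c :: cs =>
    let is := digits512 lists.length c
    let w := pick lists is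
    (Nat.beq w.length lists.length &&
      base.all fun f => Nat.beq (getP s (getP t f)) (evalW w f)) && siftOK base lists r cs
  | _, _ => false

/-- all conditions of one level, given the deeper transversals -/
def lvlOK (base : List ℕ) (k : ℕ) (S : List ℕ) (L : Lvl) (deeper : List (List ℕ)) : Bool :=
  Nat.beq L.invs.length S.length && (S.zip L.invs).all (fun p => isInvP p.1 p.2) &&
    runSLP L.slp ((idP :: S ++ L.invs).reverse) &&
    (L.trans S).any (Nat.beq idP) &&
    (L.trans S).all (fun t => (base.take k).all fun f => Nat.beq (getP t f) f) &&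
    (let ims := (L.trans S).map fun t => getP t (base.getD k 0)
     ims.Nodup) &&
    siftOK base (L.trans S :: deeper) (S.flatMap fun s => (L.trans S).map fun t => (s, t)) L.sift

/-- the transversals of a chain -/
def chainTrans : List ℕ → List Lvl → List (List ℕ)
  | _, [] => []
  | S, L :: r => L.trans S :: chainTrans (L.next S) r

/-- the whole chain -/
def chainOK (base : List ℕ) : ℕ → List ℕ → List Lvl → Bool
  | _, S, [] => S.all (Nat.beq idP)
  | k, S, L :: r => lvlOK base k S L (chainTrans (L.next S) r) && chainOK base (k + 1) (L.next S) r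

variable {base : List ℕ} {P : Subgroup (Equiv.Perm (Fin 315))}

theorem evalW_rep : ∀ (lists : List (List ℕ)) (is : List ℕ), (pick lists is).length = lists.length →
    (∀ T ∈ lists, idP ∈ T ∧ ∀ a ∈ T, ∃ σ, Rep σ a) →
    ∃ σ ∈ prodSet lists, ∀ f : Fin 315, evalW (pick lists is) f = (σ f : ℕ) := by
  intro lists
  induction lists with
  | nil => intro is _ _; exact ⟨1, rfl, fun f => by simp [pick, evalW]⟩
  | cons T r ih =>
    intro is hlen hT
    cases is with
    | nil => simp [pick] at hlen
    | cons i is =>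
      simp only [pick, List.length_cons, Nat.succ.injEq] at hlen
      obtain ⟨ρ, hρ, hρf⟩ := ih is hlen fun T' h' => hT T' (List.mem_cons_of_mem _ h')
      have hmem : T.getD i idP ∈ T := by
        by_cases hi : i < T.length
        · rw [List.getD_eq_getElem _ _ hi]; exact List.getElem_mem hi
        · rw [List.getD_eq_default _ _ (by omega)]; exact (hT T List.mem_cons_self).1
      obtain ⟨τ, hτ⟩ := (hT T List.mem_cons_self).2 _ hmem
      refine ⟨τ * ρ, ⟨_, hmem, τ, hτ, ρ, hρ, rfl⟩, fun f => ?_⟩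
      simp only [pick, evalW, Equiv.Perm.mul_apply, hρf f]
      exact hτ (ρ f)

theorem siftOK_spec : ∀ (lists : List (List ℕ)) (pairs : List (ℕ × ℕ)) (cs : List ℕ),
    siftOK base lists pairs cs = true → ∀ p ∈ pairs, ∃ is, (pick lists is).length = lists.length ∧
      ∀ f ∈ base, getP p.1 (getP p.2 f) = evalW (pick lists is) f := by
  intro lists pairs
  induction pairs with
  | nil => intro cs _ p hp; simp at hp
  | cons e r ih =>
    intro cs h p hp
    obtain ⟨s, t⟩ := e
    cases cs with
    | nil => simp [siftOK] at h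
    | cons c cs =>
      simp only [siftOK, Bool.and_eq_true, List.all_eq_true] at h
      rcases List.mem_cons.1 hp with rfl | hp
      · exact ⟨_, Nat.eq_of_beq_eq_true h.1.1, fun f hf => Nat.eq_of_beq_eq_true (h.1.2 f hf)⟩
      · exact ih cs h.2 p hp

theorem prodSet_fix : ∀ (lists : List (List ℕ)) (f : ℕ) (hf : f < 315),
    (∀ T ∈ lists, ∀ a ∈ T, getP a f = f) → ∀ σ ∈ prodSet lists, σ ⟨f, hf⟩ = ⟨f, hf⟩ := by
  intro lists
  induction lists with
  | nil => intro f hf _ σ hσ; rw [Set.mem_singleton_iff.1 hσ]; rfl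
  | cons T r ih =>
    rintro f hf hfix σ ⟨a, ha, τ, hτ, ρ, hρ, rfl⟩
    rw [Equiv.Perm.mul_apply, ih f hf (fun T' h' => hfix T' (List.mem_cons_of_mem _ h')) ρ hρ]
    exact Fin.ext ((hτ ⟨f, hf⟩).symm.trans (hfix T List.mem_cons_self a ha))

/-- The elements encoded by a list. -/
def repSet (S : List ℕ) : Set (Equiv.Perm (Fin 315)) := {σ | ∃ a ∈ S, Rep σ a}

theorem chain_spec (hbase : ∀ f ∈ base, f < 315)
    (hrigid : ∀ σ ∈ P, ∀ τ ∈ P, (∀ f : Fin 315, (f : ℕ) ∈ base → σ f = τ f) → σ = τ) :
    ∀ (levels : List Lvl) (k : ℕ) (S : List ℕ), chainOK base k S levels = true →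
      k + levels.length ≤ base.length → (∀ a ∈ S, ∃ σ ∈ P, Rep σ a) →
      (Subgroup.closure (repSet S) : Set (Equiv.Perm (Fin 315))) = prodSet (chainTrans S levels) ∧
        Nat.card (Subgroup.closure (repSet S)) = ((chainTrans S levels).map List.length).prod ∧
        (∀ T ∈ chainTrans S levels, (idP ∈ T ∧ ∀ a ∈ T, ∃ σ ∈ P, Rep σ a)) ∧
        ∀ T ∈ chainTrans S levels, ∀ a ∈ T, ∀ f ∈ base.take k, getP a f = f := by
  intro levels
  induction levels with
  | nil =>
    intro k S h _ _
    have hbot : Subgroup.closure (repSet S) = ⊥ := by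
      rw [Subgroup.closure_eq_bot_iff]
      rintro σ ⟨a, ha, hσ⟩
      simp only [chainOK, List.all_eq_true] at h
      rw [← Nat.eq_of_beq_eq_true (h a ha)] at hσ
      exact hσ.inj rep_one
    rw [hbot]
    exact ⟨Subgroup.coe_bot, by simp [chainTrans], by simp [chainTrans], by simp [chainTrans]⟩
  | cons L r ih =>
    intro k S h hk hS
    simp only [chainOK, lvlOK, Bool.and_eq_true, List.all_eq_true, List.any_eq_true, decide_eq_true_eq] at h
    obtain ⟨⟨⟨⟨⟨⟨⟨hil, hinv⟩, hslp⟩, hone⟩, hfix⟩, hnd⟩, hsift⟩, hrest⟩ := h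
    set H := Subgroup.closure (repSet S) with hH
    have hHP : H ≤ P := by
      rw [hH, Subgroup.closure_le]
      rintro σ ⟨a, ha, hσ⟩
      obtain ⟨τ, hτ, hτa⟩ := hS a ha
      rw [hσ.inj hτa]; exact hτ
    have hSH : ∀ x ∈ S, ∃ σ ∈ H, Rep σ x := fun x hx => by
      obtain ⟨σ, _, hr⟩ := hS x hx
      exact ⟨σ, Subgroup.subset_closure ⟨x, hx, hr⟩, hr⟩
    have hinit : ∀ x ∈ idP :: S ++ L.invs, ∃ σ ∈ H, Rep σ x := by
      intro x hx
      simp only [List.cons_append, List.mem_cons, List.mem_append] at hx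
      rcases hx with hx | hx | hx
      · rw [hx]; exact ⟨1, one_mem _, rep_one⟩
      · exact hSH x hx
      · obtain ⟨n, hn, rfl⟩ := List.getElem_of_mem hx
        have hl : L.invs.length = S.length := Nat.eq_of_beq_eq_true hil
        have hp : (S[n]'(hl ▸ hn), L.invs[n]) ∈ S.zip L.invs := by
          rw [← List.getElem_zip]; exact List.getElem_mem (by simp [hl, hl ▸ hn])
        obtain ⟨σ, hσ, hr⟩ := hSH _ (List.getElem_mem (hl ▸ hn))
        exact ⟨σ⁻¹, inv_mem hσ, hr.inv (hinv _ hp)⟩
    have helems : ∀ x ∈ L.elems S, ∃ σ ∈ H, Rep σ x := by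
      intro x hx
      rw [Lvl.elems, List.mem_append] at hx
      rcases hx with hx | hx
      · exact hinit x hx
      · exact runSLP_spec L.slp _ hslp (fun y hy => hinit y (List.mem_reverse.1 hy)) x hx
    have hpick : ∀ idx, ∀ x ∈ pickAt (L.elems S) idx, ∃ σ ∈ H, Rep σ x := by
      intro idx x hx
      simp only [pickAt, List.mem_map] at hx
      obtain ⟨i, -, rfl⟩ := hx
      exact repIn_getD helems i
    have hnext : ∀ a ∈ L.next S, ∃ σ ∈ P, Rep σ a := fun a ha => by
      obtain ⟨σ, hσ, hr⟩ := hpick _ a ha; exact ⟨σ, hHP hσ, hr⟩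
    have hk' : k + 1 + r.length ≤ base.length := by simp at hk; omega
    obtain ⟨eq', card', reps', fix'⟩ := ih (k + 1) (L.next S) hrest hk' hnext
    set H' := Subgroup.closure (repSet (L.next S)) with hH'
    have hH'H : H' ≤ H := by
      rw [hH', Subgroup.closure_le]
      rintro σ ⟨a, ha, hσ⟩
      obtain ⟨τ, hτ, hτa⟩ := hpick _ a ha
      rw [hσ.inj hτa]; exact hτ
    have hT : idP ∈ L.trans S ∧ ∀ a ∈ L.trans S, ∃ σ ∈ H, Rep σ a := by
      obtain ⟨x, hx, hxe⟩ := hone
      exact ⟨Nat.eq_of_beq_eq_true hxe ▸ hx, hpick _⟩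
    have hsub : prodSet (chainTrans S (L :: r)) ⊆ H := by
      rintro σ ⟨a, ha, τ, hτ, ρ, hρ, rfl⟩
      obtain ⟨τ', hτ', hr⟩ := hT.2 a ha
      rw [hτ.inj hr]
      rw [← eq'] at hρ
      exact mul_mem hτ' (hH'H hρ)
    have hclosed : ∀ s ∈ repSet S, ∀ σ ∈ prodSet (chainTrans S (L :: r)),
        s * σ ∈ prodSet (chainTrans S (L :: r)) := by
      rintro s ⟨c, hc, hsc⟩ σ ⟨a, ha, τ, hτ, ρ, hρ, rfl⟩
      obtain ⟨is, hlen, hev⟩ := siftOK_spec _ _ _ hsift (c, a)
        (List.mem_flatMap.2 ⟨c, hc, List.mem_map.2 ⟨a, ha, rfl⟩⟩)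
      obtain ⟨μ, hμ, hμf⟩ := evalW_rep _ is hlen (by
        intro T' hT'
        rcases List.mem_cons.1 hT' with rfl | hT'
        · exact ⟨hT.1, fun b hb => (hT.2 b hb).imp fun _ h => h.2⟩
        · exact ⟨(reps' T' hT').1, fun b hb => ((reps' T' hT').2 b hb).imp fun _ h => h.2⟩)
      have hsτ : s * τ ∈ P := by
        obtain ⟨s', hs', hr1⟩ := hSH c hc
        obtain ⟨τ', hτ', hr2⟩ := hT.2 a ha
        rw [hsc.inj hr1, hτ.inj hr2]
        exact hHP (mul_mem hs' hτ')
      have e : s * τ = μ := hrigid _ hsτ _ (hHP (hsub hμ)) fun f hf => Fin.ext (by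
        rw [← hμf f, ← hev f hf, Equiv.Perm.mul_apply, hτ f, hsc (τ f)])
      obtain ⟨a', ha', τ'', hτ'', ρ', hρ', e'⟩ := hμ
      refine ⟨a', ha', τ'', hτ'', ρ' * ρ, ?_, by rw [← mul_assoc, e, e', mul_assoc]⟩
      rw [← eq'] at hρ hρ' ⊢
      exact mul_mem hρ' hρ
    have hone' : (1 : Equiv.Perm (Fin 315)) ∈ prodSet (chainTrans S (L :: r)) :=
      ⟨idP, hT.1, 1, rep_one, 1, by rw [← eq']; exact one_mem _, (one_mul 1).symm⟩
    have hsup : (H : Set (Equiv.Perm (Fin 315))) ⊆ prodSet (chainTrans S (L :: r)) := by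
      intro σ hσ
      rw [hH] at hσ
      have : ∀ ρ ∈ prodSet (chainTrans S (L :: r)), σ * ρ ∈ prodSet (chainTrans S (L :: r)) := by
        induction hσ using Subgroup.closure_induction with
        | mem x hx => exact hclosed x hx
        | one => intro ρ hρ; rwa [one_mul]
        | mul x y _ _ hx hy => intro ρ hρ; rw [mul_assoc]; exact hx _ (hy _ hρ)
        | inv x _ hx =>
          intro ρ hρ
          obtain ⟨n, hn⟩ : ∃ n : ℕ, x ^ n = x⁻¹ := by
            refine ⟨orderOf x - 1, ?_⟩
            have hpos : 0 < orderOf x := orderOf_pos x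
            apply eq_inv_of_mul_eq_one_left
            rw [← pow_succ, Nat.sub_add_cancel hpos, pow_orderOf_eq_one]
          rw [← hn]
          clear hn
          induction n generalizing ρ with
          | zero => rwa [pow_zero, one_mul]
          | succ n ihn => rw [pow_succ, mul_assoc]; exact ihn _ (hx _ hρ)
      simpa using this 1 hone'
    have heq := Set.Subset.antisymm hsup hsub
    refine ⟨heq, ?_, ?_, ?_⟩
    · -- counting
      have hb : base.getD k 0 < 315 := by
        rw [List.getD_eq_getElem _ _ (by simp at hk; omega)]; exact hbase _ (List.getElem_mem _)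
      let b : Fin 315 := ⟨base.getD k 0, hb⟩
      have hTl : ∀ i : Fin (L.trans S).length, ∃ σ ∈ H, Rep σ ((L.trans S).get i) :=
        fun i => hT.2 _ (List.get_mem _ _)
      choose τ hτH hτR using hTl
      let F : Fin (L.trans S).length × H' → H := fun p => ⟨τ p.1 * p.2, mul_mem (hτH _) (hH'H p.2.2)⟩
      have hfixb : ∀ ρ : H', (ρ : Equiv.Perm (Fin 315)) b = b := by
        intro ρ
        refine prodSet_fix _ _ hb (fun T' hT' a ha => fix' T' hT' a ha _ ?_) ρ (eq' ▸ ρ.2)
        rw [List.getD_eq_getElem _ _ (by simp at hk; omega)]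
        exact List.mem_take_iff_getElem.2 ⟨k, by simp at hk ⊢; omega, rfl⟩
      have hF : Function.Bijective F := by
        constructor
        · rintro ⟨i, ρ⟩ ⟨j, ρ'⟩ e
          have e' : τ i * (ρ : Equiv.Perm (Fin 315)) = τ j * ρ' := congrArg Subtype.val e
          have eb := congrArg (fun σ : Equiv.Perm (Fin 315) => σ b) e'
          simp only [Equiv.Perm.mul_apply, hfixb] at eb
          have hij : i = j := by
            have : ((L.trans S).map fun t => getP t (base.getD k 0))[(i : ℕ)]'(by simp) =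
                ((L.trans S).map fun t => getP t (base.getD k 0))[(j : ℕ)]'(by simp) := by
              simp only [List.getElem_map]
              exact (hτR i b).trans ((congrArg Fin.val eb).trans (hτR j b).symm)
            exact Fin.ext ((List.Nodup.getElem_inj_iff hnd).1 this)
          subst hij
          exact Prod.ext rfl (Subtype.ext (mul_left_cancel e'))
        · intro x
          obtain ⟨a, ha, σ, hσ, ρ, hρ, e⟩ := ((Set.ext_iff.1 heq (x : Equiv.Perm (Fin 315))).1 x.2)
          obtain ⟨n, hn, rfl⟩ := List.getElem_of_mem ha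
          rw [← eq'] at hρ
          exact ⟨(⟨n, hn⟩, ⟨ρ, hρ⟩), Subtype.ext (by
            simp only [F]
            rw [e, (hτR ⟨n, hn⟩).inj hσ])⟩
      rw [← Nat.card_eq_of_bijective F hF, Nat.card_prod, Nat.card_fin, card']
      simp [chainTrans]
    · intro T hT'
      rcases List.mem_cons.1 hT' with rfl | hT'
      · exact ⟨hT.1, fun a ha => (hT.2 a ha).imp fun _ h => ⟨hHP h.1, h.2⟩⟩
      · exact reps' T hT'
    · intro T hT' a ha f hf
      rcases List.mem_cons.1 hT' with rfl | hT'
      · exact Nat.eq_of_beq_eq_true (hfix a ha f hf)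
      · exact fix' T hT' a ha f (by
          rw [List.take_add_one]; exact List.mem_append_left _ hf)

end CfsgLib.J2
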