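import Cfsg.Agent.Lib.Spor.J2.ChainLevels

/-! Level 3 of the stabiliser chain is certified. -/

set_option autoImplicit false
set_option maxRecDepth 100000

namespace CfsgLib.J2

theorem lvl3_ok : lvlOK base5 3 gens3 lvl3
    (chainTrans (lvl3.next gens3) [lvl4]) = true := by decide +kernel

end CfsgLib.J2
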