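import Cfsg.Agent.Lib.Spor.J2.ChainLevels

/-! Level 4 of the stabiliser chain is certified. -/

set_option autoImplicit false
set_option maxRecDepth 100000

namespace CfsgLib.J2

theorem lvl4_ok : lvlOK base5 4 gens4 lvl4
    (chainTrans (lvl4.next gens4) []) = true := by decide +kernel

theorem lvl4_done : chainOK base5 5 (lvl4.next gens4) [] = true := by decide +kernel

end CfsgLib.J2
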