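import Cfsg.Agent.Lib.Spor.J2.Action
import Cfsg.Agent.Lib.Spor.J2.ChainCheck0
import Cfsg.Agent.Lib.Spor.J2.ChainCheck1
import Cfsg.Agent.Lib.Spor.J2.ChainCheck2
import Cfsg.Agent.Lib.Spor.J2.ChainCheck3
import Cfsg.Agent.Lib.Spor.J2.ChainCheck4

/-!
The group of permutations of the 315 lines: order 604800, transitive; the four reflections
generate; the reflection group has order 1209600.
-/

set_option autoImplicit false
set_option maxRecDepth 100000

namespace CfsgLib.J2

open Cfsg.Spor

/-- the five levels -/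
def levels : List Lvl := [lvl0, lvl1, lvl2, lvl3, lvl4]

theorem chain_ok : chainOK base5 0 gens0 levels = true := by
  simp only [levels, chainOK, Bool.and_eq_true]
  exact ⟨lvl0_ok, lvl1_ok, lvl2_ok, lvl3_ok, lvl4_ok, lvl4_done⟩

/-- the four transversal lists, with the orbit lengths -/
theorem chain_lengths : (chainTrans gens0 levels).map List.length = [315, 10, 1, 64, 3] := by
  simp only [levels, chainTrans, List.map_cons, List.map_nil, Lvl.trans, pickAt, List.length_map]
  decide +kernel

/-- the generating reflections, in the reflection group -/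
noncomputable def gen (k : Fin 4) : twoJ2 := ⟨lineRefl (genLine k), lineRefl_mem _⟩

theorem gens0_eq : gens0 = List.ofFn genPerm := by simp [gens0, genPerm]

theorem repSet_gens0 : repSet gens0 = Set.range fun k => toLines (gen k) := by
  ext σ
  simp only [repSet, gens0_eq, List.mem_ofFn', Set.mem_setOf_eq, Set.mem_range, exists_exists_eq_and]
  exact exists_congr fun k => ⟨fun h => (gen_rep k).inj h, fun h => h ▸ gen_rep k⟩

/-- the group generated by the four permutations -/
noncomputable def imgGen : Subgroup (Equiv.Perm (Fin 315)) := Subgroup.closure (repSet gens0)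

theorem rigid {g h : twoJ2} (e : ∀ f : Fin 315, (f : ℕ) < 5 → act g f = act h f) :
    toLines g = toLines h := by
  have hc : h⁻¹ * g ∈ Subgroup.center twoJ2 := by
    have hs := sign_of_fixed (h⁻¹ * g) fun i hi => by
      rw [← toLines_apply, map_mul, map_inv, Equiv.Perm.mul_apply, toLines_apply g, e i hi,
        ← toLines_apply h]
      exact (toLines h).symm_apply_apply i
    rcases hs with e1 | e1
    · have : h⁻¹ * g = 1 := Subtype.ext e1
      rw [this]; exact one_mem _
    · have : h⁻¹ * g = ⟨negOne, negOne_mem⟩ := Subtype.ext e1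
      rw [this]; exact negOne_central
  have := (toLines_eq_one_iff _).2 hc
  rwa [map_mul, map_inv, inv_mul_eq_one, eq_comm] at this

theorem chain_facts :
    (imgGen : Set (Equiv.Perm (Fin 315))) = prodSet (chainTrans gens0 levels) ∧
      Nat.card imgGen = 604800 ∧
      (∀ T ∈ chainTrans gens0 levels, (idP ∈ T ∧ ∀ a ∈ T, ∃ σ ∈ toLines.range, Rep σ a)) := by
  have h := chain_spec (base := base5) (P := toLines.range) (by decide) (by
      rintro _ ⟨g, rfl⟩ _ ⟨h, rfl⟩ e
      exact rigid fun f hf => e f (by simp [base5]; omega))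
    levels 0 gens0 chain_ok (by simp [levels, base5]) (by
      intro a ha
      rw [gens0_eq, List.mem_ofFn'] at ha
      obtain ⟨k, rfl⟩ := ha
      exact ⟨_, ⟨_, rfl⟩, gen_rep k⟩)
  exact ⟨h.1, h.2.1.trans (by rw [chain_lengths]; rfl), h.2.2.1⟩

/-- every point is reached by the first transversal -/
theorem trans0_all : (List.range 315).all
    (fun j => (lvl0.trans gens0).any fun t => Nat.beq (getP t 0) j) = true := by decide +kernel

theorem imgGen_transitive (j : Fin 315) : ∃ σ ∈ imgGen, σ 0 = j := by
  obtain ⟨t, ht, e⟩ := List.any_eq_true.1 (List.all_eq_true.1 trans0_all j (List.mem_range.2 j.is_lt))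
  obtain ⟨hset, -, hT⟩ := chain_facts
  obtain ⟨σ, -, hσ⟩ := (hT (lvl0.trans gens0) List.mem_cons_self).2 t ht
  refine ⟨σ, ?_, Fin.ext ((hσ 0).symm.trans (Nat.eq_of_beq_eq_true e))⟩
  have hone : ∀ L : List (List ℕ), (∀ T ∈ L, idP ∈ T) → (1 : Equiv.Perm (Fin 315)) ∈ prodSet L := by
    intro L
    induction L with
    | nil => intro _; exact rfl
    | cons T r ih =>
      intro h
      exact ⟨idP, h T List.mem_cons_self, 1, rep_one, 1, ih fun T' h' => h T' (List.mem_cons_of_mem _ h'),
        (one_mul 1).symm⟩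
  rw [← SetLike.mem_coe, hset]
  exact ⟨t, ht, σ, hσ, 1, hone _ fun T' h' => (hT T' (List.mem_cons_of_mem _ h')).1, (mul_one σ).symm⟩

/-- the subgroup generated by the four reflections -/
noncomputable def genSub : Subgroup twoJ2 := Subgroup.closure (Set.range gen)

theorem genSub_map : genSub.map toLines = imgGen := by
  rw [genSub, MonoidHom.map_closure, imgGen, repSet_gens0, ← Set.range_comp]
  rfl

theorem genSub_transitive (j : Fin 315) : ∃ g ∈ genSub, act g 0 = j := by
  obtain ⟨σ, hσ, e⟩ := imgGen_transitive j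
  rw [← genSub_map] at hσ
  obtain ⟨g, hg, rfl⟩ := hσ
  exact ⟨g, hg, e⟩

theorem genSub_eq_top : genSub = ⊤ := by
  have hall : ∀ i, (⟨lineRefl i, lineRefl_mem i⟩ : twoJ2) ∈ genSub := by
    have conj : ∀ (g : twoJ2) (i : Fin 315), (⟨lineRefl (act g i), lineRefl_mem _⟩ : twoJ2) =
        g * ⟨lineRefl i, lineRefl_mem i⟩ * g⁻¹ := fun g i => Subtype.ext (act_spec g i).symm
    have h0 : (⟨lineRefl 0, lineRefl_mem 0⟩ : twoJ2) ∈ genSub := by
      obtain ⟨g, hg, e⟩ := genSub_transitive (genLine 0)
      have h1 := conj g 0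
      rw [e] at h1
      have hk : gen 0 ∈ genSub := Subgroup.subset_closure ⟨0, rfl⟩
      rw [gen, h1] at hk
      simpa [mul_assoc] using mul_mem (mul_mem (inv_mem hg) hk) hg
    intro i
    obtain ⟨g, hg, rfl⟩ := genSub_transitive i
    rw [conj g 0]
    exact mul_mem (mul_mem hg h0) (inv_mem hg)
  refine eq_top_iff.2 fun x _ => ?_
  obtain ⟨x, hx⟩ := x
  clear * - hall hx
  induction hx using Subgroup.closure_induction with
  | mem y hy => obtain ⟨i, rfl⟩ := isIcoReflection_range.1 hy; exact hall i
  | one => exact one_mem _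
  | mul a b _ _ ha hb => exact mul_mem ha hb
  | inv a _ ha => exact inv_mem ha

theorem range_toLines : toLines.range = imgGen := by
  rw [MonoidHom.range_eq_map, ← genSub_eq_top, genSub_map]

theorem ker_toLines : toLines.ker = Subgroup.center twoJ2 := by
  ext g; exact toLines_eq_one_iff g

/-- the quotient by the centre is the permutation group -/
noncomputable def quotEquiv : twoJ2 ⧸ Subgroup.center twoJ2 ≃* imgGen :=
  (QuotientGroup.quotientMulEquivOfEq ker_toLines.symm).trans
    ((QuotientGroup.quotientKerEquivRange toLines).trans (MulEquiv.subgroupCongr range_toLines))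

theorem card_twoJ2 : Nat.card twoJ2 = 1209600 := by
  rw [Subgroup.card_eq_card_quotient_mul_card_subgroup (Subgroup.center twoJ2),
    Nat.card_congr quotEquiv.toEquiv, chain_facts.2.1, card_center]

theorem card_J2 : Nat.card J2 = 604800 := by
  show Nat.card (twoJ2 ⧸ Subgroup.center twoJ2) = 604800
  rw [Nat.card_congr quotEquiv.toEquiv, chain_facts.2.1]

theorem twoJ2_transitive {f f' : Equiv.Perm icoLeech} (hf : IsIcoReflection f) (hf' : IsIcoReflection f') :
    ∃ g ∈ twoJ2, g * f * g⁻¹ = f' := by
  obtain ⟨i, rfl⟩ := isIcoReflection_range.1 hf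
  obtain ⟨j, rfl⟩ := isIcoReflection_range.1 hf'
  obtain ⟨g, -, ei⟩ := genSub_transitive i
  obtain ⟨h, -, ej⟩ := genSub_transitive j
  refine ⟨_, (h * g⁻¹).2, ?_⟩
  rw [act_spec]
  congr 1
  rw [← toLines_apply, map_mul, map_inv, Equiv.Perm.mul_apply, toLines_apply]
  rw [← ei, ← toLines_apply g]
  rw [show (toLines g)⁻¹ (toLines g 0) = 0 from (toLines g).symm_apply_apply 0]
  exact ej

end CfsgLib.J2
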