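import Cfsg.Agent.Lib.Spor.J2.Census
import Cfsg.Agent.Lib.Spor.J2.SimpleData

/-! Simplicity, and the element orders. -/

set_option autoImplicit false
set_option maxRecDepth 100000

namespace CfsgLib.J2

open Cfsg.Spor

theorem evalW_prod : ∀ (ws : List ℕ) (ρs : List (Equiv.Perm (Fin 315))), List.Forall₂ Rep ρs ws →
    ∀ f : Fin 315, evalW ws f = (ρs.prod f : ℕ) := by
  intro ws ρs h
  induction h with
  | nil => intro f; rfl
  | cons hab _ ih => intro f; rw [evalW, ih f, List.prod_cons, Equiv.Perm.mul_apply, hab]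

theorem rep_foldP : ∀ (ws : List ℕ) (ρs : List (Equiv.Perm (Fin 315))), List.Forall₂ Rep ρs ws →
    Rep ρs.prod (foldP ws) := by
  intro ws ρs h
  induction h with
  | nil => exact rep_one
  | cons hab _ ih => rw [List.prod_cons]; exact hab.mul ih

theorem exists_list_pick {is : List ℕ} (h : Nat.beq (pick chainLists is).length 5 = true) :
    ∃ ρs, List.Forall₂ Rep ρs (pick chainLists is) ∧ ρs.prod ∈ imgGen := by
  have hmem : ∀ (lists : List (List ℕ)) (is : List ℕ), (∀ T ∈ lists, idP ∈ T) →
      ∀ a ∈ pick lists is, ∃ T ∈ lists, a ∈ T := by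
    intro lists
    induction lists with
    | nil => intro is _ a ha; simp [pick] at ha
    | cons T r ih =>
      intro is hid a ha
      cases is with
      | nil => simp [pick] at ha
      | cons i is =>
        rcases List.mem_cons.1 (by simpa [pick] using ha : a ∈ T.getD i idP :: pick r is) with rfl | ha
        · refine ⟨T, List.mem_cons_self, ?_⟩
          by_cases hi : i < T.length
          · rw [List.getD_eq_getElem _ _ hi]; exact List.getElem_mem hi
          · rw [List.getD_eq_default _ _ (by omega)]; exact hid T List.mem_cons_self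
        · obtain ⟨T', h', h''⟩ := ih is (fun T' h' => hid T' (List.mem_cons_of_mem _ h')) a ha
          exact ⟨T', List.mem_cons_of_mem _ h', h''⟩
  have hall : ∀ a ∈ pick chainLists is, ∃ σ, Rep σ a ∧ σ ∈ imgGen := by
    intro a ha
    obtain ⟨T, hT, haT⟩ := hmem _ _ (fun T hT => (chainLists_reps T hT).1) a ha
    obtain ⟨σ, hσ, hr⟩ := (chainLists_reps T hT).2 a haT
    exact ⟨σ, hr, range_toLines ▸ hσ⟩
  generalize pick chainLists is = ws at hall
  clear h
  induction ws with
  | nil => exact ⟨[], List.Forall₂.nil, one_mem _⟩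
  | cons a ws ih =>
    obtain ⟨σ, hr, hσ⟩ := hall a List.mem_cons_self
    obtain ⟨ρs, h1, h2⟩ := ih fun b hb => hall b (List.mem_cons_of_mem _ hb)
    exact ⟨σ :: ρs, List.Forall₂.cons hr h1, by rw [List.prod_cons]; exact mul_mem hσ h2⟩

/-- the first generator in the group -/
noncomputable def gen0' : imgGen :=
  ⟨toLines (gen 0), Subgroup.subset_closure (repSet_gens0 ▸ ⟨0, rfl⟩)⟩

theorem gen0_rep : Rep (gen0' : Equiv.Perm (Fin 315)) genPerm0 := gen_rep 0

theorem simple_step {N : Subgroup imgGen} [N.Normal] {c : Cls} (hc : c.baseOK = true) {s : SCert}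
    (hs : simpleOK c s = true) (hx : c.elem hc ∈ N) : gen0' ∈ N := by
  simp only [simpleOK, Bool.and_eq_true, List.all_eq_true] at hs
  obtain ⟨⟨⟨⟨hg, hh⟩, hyi⟩, hgi⟩, hev⟩ := hs
  obtain ⟨gl, hgl, hgm⟩ := exists_list_pick hg
  obtain ⟨hl, hhl, hhm⟩ := exists_list_pick hh
  let x := c.elem hc
  let g : imgGen := ⟨gl.prod, hgm⟩
  let h : imgGen := ⟨hl.prod, hhm⟩
  have hxr : Rep (x : Equiv.Perm (Fin 315)) c.y := c.elem_rep hc
  have hgr : Rep (g : Equiv.Perm (Fin 315)) (foldP (pick chainLists s.gIdx)) := rep_foldP _ _ hgl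
  let q : List (Equiv.Perm (Fin 315)) :=
    [(x : Equiv.Perm (Fin 315)), (g : Equiv.Perm (Fin 315)), (x : Equiv.Perm (Fin 315))⁻¹,
      (g : Equiv.Perm (Fin 315))⁻¹]
  have hq : List.Forall₂ Rep q [c.y, foldP (pick chainLists s.gIdx), s.yi, s.gi] :=
    .cons hxr (.cons hgr (.cons (hxr.inv hyi) (.cons (hgr.inv hgi) .nil)))
  have hflat : ∀ e, List.Forall₂ Rep (List.replicate e q).flatten
      (List.replicate e [c.y, foldP (pick chainLists s.gIdx), s.yi, s.gi]).flatten := by
    intro e
    induction e with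
    | zero => exact .nil
    | succ e ih => simp only [List.replicate_succ, List.flatten_cons]; exact List.rel_append hq ih
  have hprod : ∀ e, (List.replicate e q).flatten.prod = ((x * g * x⁻¹ * g⁻¹ : imgGen) ^ e : imgGen) := by
    intro e
    induction e with
    | zero => simp
    | succ e ih =>
      rw [List.replicate_succ, List.flatten_cons, List.prod_append, ih, pow_succ']
      simp [q, mul_assoc]
  have hw : h * (x * g * x⁻¹ * g⁻¹) ^ s.e = gen0' * h := by
    refine Subtype.ext (imgGen_rigid (SetLike.coe_mem _) (SetLike.coe_mem _) fun f hf => Fin.ext ?_)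
    have hb := Nat.eq_of_beq_eq_true (hev f (by simp [base5]; omega))
    rw [evalW_prod _ _ (List.rel_append hhl (hflat s.e)) f, evalW_prod _ _ (List.Forall₂.cons gen0_rep hhl) f,
      List.prod_append, hprod] at hb
    simpa [h] using hb
  have hmem : (x * g * x⁻¹ * g⁻¹) ^ s.e ∈ N := by
    refine pow_mem ?_ _
    rw [mul_assoc x g, mul_assoc x]
    exact mul_mem hx (Subgroup.Normal.conj_mem inferInstance _ (inv_mem hx) g)
  have := Subgroup.Normal.conj_mem inferInstance _ hmem h
  rwa [hw, mul_inv_cancel_right] at this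

theorem mem_of_refl (K : Subgroup twoJ2) (hall : ∀ i, (⟨lineRefl i, lineRefl_mem i⟩ : twoJ2) ∈ K)
    (x : twoJ2) : x ∈ K := by
  obtain ⟨x, hx⟩ := x
  induction hx using Subgroup.closure_induction with
  | mem a ha => obtain ⟨i, rfl⟩ := isIcoReflection_range.1 ha; exact hall i
  | one => exact one_mem K
  | mul a b _ _ ha hb => exact mul_mem ha hb
  | inv a _ ha => exact inv_mem ha

theorem eq_top_of_gen0 {N : Subgroup imgGen} [N.Normal] (h : gen0' ∈ N) : N = ⊤ := by
  let π : twoJ2 →* imgGen := (MulEquiv.subgroupCongr range_toLines).toMonoidHom.comp toLines.rangeRestrict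
  have hπ : Function.Surjective π :=
    (MulEquiv.subgroupCongr range_toLines).surjective.comp toLines.rangeRestrict_surjective
  have hall : ∀ i, π ⟨lineRefl i, lineRefl_mem i⟩ ∈ N := by
    intro i
    obtain ⟨g, hg, he⟩ := twoJ2_transitive (isIcoReflection_range.2 ⟨genLine 0, rfl⟩)
      (isIcoReflection_range.2 ⟨i, rfl⟩)
    have e : (⟨lineRefl i, lineRefl_mem i⟩ : twoJ2) =
        (⟨g, hg⟩ : twoJ2) * gen 0 * (⟨g, hg⟩ : twoJ2)⁻¹ := Subtype.ext he.symm
    rw [e, map_mul, map_mul, map_inv]
    exact Subgroup.Normal.conj_mem inferInstance _ (show π (gen 0) ∈ N from h) _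
  rw [eq_top_iff]
  intro y _
  obtain ⟨z, rfl⟩ := hπ y
  exact mem_of_refl (N.comap π) hall z

theorem gen0_of_rep {N : Subgroup imgGen} [N.Normal] : ∀ k, clsRep k ∈ N → gen0' ∈ N := by
  have red : ∀ {x : imgGen} {n e d : ℕ}, orderOf x = n → e * d % n = 1 → x ^ e ∈ N → x ∈ N := by
    intro x n e d hn h hx
    rw [← pow_self hn h, pow_mul]; exact pow_mem hx d
  intro k hk
  fin_cases k
  · exact simple_step cls0_base cls0_simple hk
  · exact simple_step cls1_base cls1_simple hk
  · exact simple_step cls2_base cls2_simple hk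
  · exact simple_step cls3_base cls3_simple hk
  · exact simple_step cls4_base cls4_simple hk
  · exact simple_step cls5_base cls5_simple hk
  · exact simple_step cls6_base cls6_simple hk
  · exact simple_step cls7_base cls7_simple hk
  · exact simple_step cls8_base cls8_simple hk
  · exact simple_step cls9_base cls9_simple hk
  · exact simple_step cls10_base cls10_simple hk
  · exact simple_step cls11_base cls11_simple hk
  · exact simple_step cls12_base cls12_simple hk
  · exact simple_step cls13_base cls13_simple hk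
  · exact simple_step cls14_base cls14_simple hk
  · exact simple_step cls9_base cls9_simple (red (d := 7) (cls9.orderOf_elem cls9_base) (by decide) hk)
  · exact simple_step cls10_base cls10_simple (red (d := 7) (cls10.orderOf_elem cls10_base) (by decide) hk)
  · exact simple_step cls11_base cls11_simple (red (d := 3) (cls11.orderOf_elem cls11_base) (by decide) hk)
  · exact simple_step cls12_base cls12_simple (red (d := 3) (cls12.orderOf_elem cls12_base) (by decide) hk)
  · exact simple_step cls13_base cls13_simple (red (d := 8) (cls13.orderOf_elem cls13_base) (by decide) hk)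

instance isSimple_imgGen : IsSimpleGroup imgGen where
  exists_pair_ne := ⟨gen0', 1, fun h => by
    have e := congrArg (fun x : imgGen => (x : Equiv.Perm (Fin 315)) 0) h
    have h2 : getP genPerm0 0 = 0 := (gen0_rep 0).trans (congrArg Fin.val e)
    revert h2
    decide +kernel⟩
  eq_bot_or_eq_top_of_normal N hN := by
    rcases eq_or_ne N ⊥ with h | h
    · exact Or.inl h
    · obtain ⟨x, hx, hne⟩ := N.bot_or_exists_ne_one.resolve_left h
      obtain ⟨k, hk⟩ := census x hne
      obtain ⟨g, hg⟩ := isConj_iff.1 hk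
      refine Or.inr (eq_top_of_gen0 (gen0_of_rep k ?_))
      have := hN.conj_mem _ hx g⁻¹
      simpa [← hg, mul_assoc] using this

/-- the Hall–Janko group is the permutation group on the lines -/
noncomputable def j2Equiv : J2 ≃* imgGen := quotEquiv

theorem j2_simple : IsSimpleGroup J2 := by
  haveI : Nontrivial J2 := j2Equiv.toEquiv.nontrivial
  exact IsSimpleGroup.isSimpleGroup_of_surjective j2Equiv.symm.toMonoidHom j2Equiv.symm.surjective

theorem j2_nonabelian : ∃ a b : J2, a * b ≠ b * a := by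
  refine ⟨j2Equiv.symm ⟨toLines (gen 0), Subgroup.subset_closure (repSet_gens0 ▸ ⟨0, rfl⟩)⟩,
    j2Equiv.symm ⟨toLines (gen 1), Subgroup.subset_closure (repSet_gens0 ▸ ⟨1, rfl⟩)⟩, fun h => ?_⟩
  rw [← map_mul, ← map_mul, EmbeddingLike.apply_eq_iff_eq] at h
  have e : (toLines (gen 0) * toLines (gen 1) : Equiv.Perm (Fin 315)) = toLines (gen 1) * toLines (gen 0) :=
    congrArg Subtype.val h
  have key : (pts.all fun f => Nat.beq (getP genPerm0 (getP genPerm1 f)) (getP genPerm1 (getP genPerm0 f))) = false := by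
    decide +kernel
  rw [List.all_eq_false] at key
  obtain ⟨f, hf, hne⟩ := key
  refine hne (natBeq_of_eq ?_)
  let F : Fin 315 := ⟨f, List.mem_range.1 hf⟩
  have := congrArg (fun σ : Equiv.Perm (Fin 315) => (σ F : ℕ)) e
  simp only [Equiv.Perm.mul_apply] at this
  rw [show genPerm0 = genPerm 0 from rfl, show genPerm1 = genPerm 1 from rfl]
  rw [show f = (F : ℕ) from rfl, gen_rep 1 F, gen_rep 0, gen_rep 0 F, gen_rep 1]
  exact this

theorem orderOf_imgGen (σ : imgGen) : σ = 1 ∨ ∃ k, orderOf σ = clsOrd k := by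
  refine (eq_or_ne σ 1).imp id fun h => ?_
  obtain ⟨k, hk⟩ := census σ h
  obtain ⟨g, hg⟩ := isConj_iff.1 hk
  refine ⟨k, ?_⟩
  rw [← hg, ← orderOf_clsRep k]
  exact MulEquiv.orderOf_eq (MulAut.conj g) (clsRep k)

theorem range_orderOf_J2 :
    Set.range (orderOf : J2 → ℕ) = {1, 2, 3, 4, 5, 6, 7, 8, 10, 12, 15} := by
  have h1 : Set.range (orderOf : J2 → ℕ) = Set.range (orderOf : imgGen → ℕ) := by
    ext n
    exact ⟨fun ⟨x, hx⟩ => ⟨j2Equiv x, (MulEquiv.orderOf_eq j2Equiv x).trans hx⟩,
      fun ⟨x, hx⟩ => ⟨j2Equiv.symm x, (MulEquiv.orderOf_eq j2Equiv.symm x).trans hx⟩⟩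
  have h2 : Set.range (orderOf : imgGen → ℕ) = insert 1 (Set.range clsOrd) := by
    ext n
    constructor
    · rintro ⟨σ, rfl⟩
      rcases orderOf_imgGen σ with rfl | ⟨k, hk⟩
      · exact Or.inl orderOf_one
      · exact Or.inr ⟨k, hk.symm⟩
    · rintro (rfl | ⟨k, rfl⟩)
      · exact ⟨1, orderOf_one⟩
      · exact ⟨clsRep k, orderOf_clsRep k⟩
  have h3 : insert 1 (Finset.univ.image clsOrd) = ({1, 2, 3, 4, 5, 6, 7, 8, 10, 12, 15} : Finset ℕ) := by
    decide +kernel
  rw [h1, h2]
  have := congrArg ((↑) : Finset ℕ → Set ℕ) h3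
  simpa only [Finset.coe_insert, Finset.coe_image, Finset.coe_univ, Set.image_univ, Finset.coe_singleton] using this

end CfsgLib.J2
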