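import Cfsg.Agent.Lib.Spor.J2.GenBasic

/-! The generating reflection 0 permutes the lines as tabulated. -/

set_option autoImplicit false
set_option maxRecDepth 100000

namespace CfsgLib.J2

theorem gen0_low : genOK 33 genPerm0 genUnits0 0 158 = true := by decide +kernel

theorem gen0_high : genOK 33 genPerm0 genUnits0 158 157 = true := by decide +kernel

end CfsgLib.J2
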