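import Cfsg.Agent.Lib.Spor.J2.Min
import Cfsg.Agent.Lib.Spor.J2.GenCheck0
import Cfsg.Agent.Lib.Spor.J2.GenCheck1
import Cfsg.Agent.Lib.Spor.J2.GenCheck2
import Cfsg.Agent.Lib.Spor.J2.GenCheck3

/-!
The reflection group permutes the 315 lines; four reflections generate it; an element fixing the
five base lines is a sign; the kernel of the action is the centre.
-/

set_option autoImplicit false
set_option maxRecDepth 100000

namespace CfsgLib.J2

open Quaternion Cfsg.Spor

/-- left linear isometries of the lattice -/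
structure IsIso (g : Equiv.Perm icoLeech) : Prop where
  linear : ∀ (v w : icoLeech) (a : ℍ[ℝ]) (ha : a ∈ icosians),
    (g ⟨fun t => v.1 t + a * w.1 t, icoLeech_smul_add v.2 w.2 ha⟩ : Fin 3 → ℍ[ℝ]) =
      fun t => (g v).1 t + a * (g w).1 t
  isometry : ∀ v w : icoLeech, qip (g v).1 (g w).1 = qip v.1 w.1

theorem qip_qrefl (r v w : Fin 3 → ℍ[ℝ]) : qip (qrefl r v) w = qip v (qrefl r w) := by
  have h1 : qip (qrefl r v) w = qip v w - ((1 / 2 : ℝ) • qip v r) * qip r w := by
    rw [show qrefl r v = fun t => v t - ((1 / 2 : ℝ) • qip v r) * r t from rfl, qip_sub_left, qip_smul_left]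
  have h2 : qip v (qrefl r w) = qip v w - ((1 / 2 : ℝ) • qip v r) * qip r w := by
    rw [← qip_star, show qrefl r w = fun t => w t - ((1 / 2 : ℝ) • qip w r) * r t from rfl, qip_sub_left,
      qip_smul_left, star_sub, star_mul, Quaternion.star_smul, qip_star, qip_star, qip_star,
      mul_smul_comm, smul_mul_assoc]
  rw [h1, h2]

theorem isIso_refl (i : Fin 315) : IsIso (lineRefl i) where
  linear v w a ha := by
    funext t
    show qrefl (line i).val _ t = qrefl (line i).val v.1 t + a * qrefl (line i).val w.1 t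
    have : qip (fun k => v.1 k + a * w.1 k) (line i).val = qip v.1 (line i).val + a * qip w.1 (line i).val := by
      simp [qip, add_mul, Finset.sum_add_distrib, Finset.mul_sum, mul_assoc]
    simp only [qrefl, this, smul_add, add_mul, mul_sub, mul_smul_comm, smul_mul_assoc, mul_assoc]
    abel
  isometry v w := by
    show qip (qrefl (line i).val v.1) (qrefl (line i).val w.1) = qip v.1 w.1
    rw [qip_qrefl, qrefl_qrefl (line_ok i).2]

theorem IsIso.mul {g h : Equiv.Perm icoLeech} (hg : IsIso g) (hh : IsIso h) : IsIso (g * h) where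
  linear v w a ha := by
    show (g (h _)).1 = _
    rw [show h ⟨_, icoLeech_smul_add v.2 w.2 ha⟩ = ⟨_, icoLeech_smul_add (h v).2 (h w).2 ha⟩ from
      Subtype.ext (hh.linear v w a ha)]
    exact hg.linear _ _ a ha
  isometry v w := (hg.isometry _ _).trans (hh.isometry v w)

theorem IsIso.one : IsIso (1 : Equiv.Perm icoLeech) where
  linear _ _ _ _ := rfl
  isometry _ _ := rfl

theorem IsIso.inv {g : Equiv.Perm icoLeech} (hg : IsIso g) : IsIso g⁻¹ where
  linear v w a ha := by
    have h := hg.linear (g⁻¹ v) (g⁻¹ w) a ha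
    have e1 : g (g⁻¹ v) = v := g.apply_symm_apply v
    have e2 : g (g⁻¹ w) = w := g.apply_symm_apply w
    rw [e1, e2] at h
    have : g⁻¹ ⟨_, icoLeech_smul_add v.2 w.2 ha⟩ = ⟨_, icoLeech_smul_add (g⁻¹ v).2 (g⁻¹ w).2 ha⟩ := by
      rw [Equiv.Perm.inv_eq_iff_eq]
      exact Subtype.ext h.symm
    exact congrArg Subtype.val this
  isometry v w := by
    have h := hg.isometry (g⁻¹ v) (g⁻¹ w)
    rw [show g (g⁻¹ v) = v from g.apply_symm_apply v, show g (g⁻¹ w) = w from g.apply_symm_apply w] at h
    exact h.symm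

theorem isIco_of_mem {g : Equiv.Perm icoLeech} (hg : g ∈ twoJ2) : IsIso g := by
  induction hg using Subgroup.closure_induction with
  | mem x hx =>
    obtain ⟨i, rfl⟩ := isIcoReflection_range.1 hx
    exact isIso_refl i
  | one => exact IsIso.one
  | mul x y _ _ hx hy => exact hx.mul hy
  | inv x _ hx => exact hx.inv

theorem qrefl_unit {u : Q} (hu : u ∈ unitList) {v : V} (hv : v.ok = true) (x : Fin 3 → ℍ[ℝ]) :
    qrefl (fun t => u.val * v.val t) x = qrefl v.val x := by
  obtain ⟨gu, e1, -⟩ := units_check u hu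
  funext t
  simp only [qrefl]
  have hq : qip x (fun k => u.val * v.val k) = qip x v.val * star u.val := by
    simp [qip, Finset.sum_mul, mul_assoc]
  rw [hq, ← smul_mul_assoc, mul_assoc, ← mul_assoc (star u.val), ← val_conj,
    ← (good_mul (good_conj gu) gu).1, e1, val_one, one_mul]

/-- the lattice point of a line -/
noncomputable def linePt (i : Fin 315) : icoLeech := toLeech _ (line_ok i).1

theorem image_line {g : Equiv.Perm icoLeech} (hg : IsIso g) (i : Fin 315) :
    ∃ u ∈ unitList, ∃ j, (g (linePt i)).1 = (fun t => u.val * (line j).val t) ∧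
      g * lineRefl i * g⁻¹ = lineRefl j := by
  obtain ⟨r, hr, er⟩ := exists_model (g (linePt i)).2
  have h4 : r.dot r = ⟨8, 0, 0, 0, 0, 0, 0, 0⟩ := by
    refine (qip_four_iff hr).1 ?_
    rw [er, hg.isometry]; exact (line_ok i).2
  obtain ⟨u, hu, w, hw, rfl⟩ := min_cases hr h4
  obtain ⟨j, rfl⟩ := exists_line hw
  obtain ⟨gu, -, -⟩ := units_check u hu
  have e := (lmul_ok gu (line_ok j).1).2
  rw [e] at er
  refine ⟨u, hu, j, er.symm, ?_⟩
  refine Equiv.ext fun x => Subtype.ext ?_
  obtain ⟨y, rfl⟩ : ∃ y, g y = x := ⟨g.symm x, g.apply_symm_apply x⟩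
  show (g (lineRefl i (g⁻¹ (g y)))).1 = qrefl (line j).val (g y).1
  rw [show g⁻¹ (g y) = y from g.symm_apply_apply y, ← qrefl_unit hu (line_ok j).1, er]
  obtain ⟨c, hc, ec⟩ := qip_mem y.2 (linePt i).2
  have hlhs : lineRefl i y = ⟨_, icoLeech_smul_add y.2 (linePt i).2 (neg_mem hc)⟩ := by
    refine Subtype.ext (funext fun t => ?_)
    show y.1 t - ((1 / 2 : ℝ) • qip y.1 (linePt i).1) * (linePt i).1 t = _
    rw [ec, half_smul_add]
    show _ = y.1 t + -c * (linePt i).1 t
    rw [neg_mul, sub_eq_add_neg]
  rw [hlhs, hg.linear y (linePt i) (-c) (neg_mem hc)]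
  funext t
  simp only [qrefl, hg.isometry, ec, half_smul_add, neg_mul, sub_eq_add_neg]

/-- the image of a line under an element -/
noncomputable def act (g : twoJ2) (i : Fin 315) : Fin 315 :=
  Classical.choose (show ∃ j, (g : Equiv.Perm icoLeech) * lineRefl i * (g : Equiv.Perm icoLeech)⁻¹ = lineRefl j from by
    obtain ⟨_, _, j, _, h⟩ := image_line (isIco_of_mem g.2) i; exact ⟨j, h⟩)

theorem act_spec (g : twoJ2) (i : Fin 315) :
    (g : Equiv.Perm icoLeech) * lineRefl i * (g : Equiv.Perm icoLeech)⁻¹ = lineRefl (act g i) :=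
  Classical.choose_spec (show ∃ j, (g : Equiv.Perm icoLeech) * lineRefl i * (g : Equiv.Perm icoLeech)⁻¹ = lineRefl j from by
    obtain ⟨_, _, j, _, h⟩ := image_line (isIco_of_mem g.2) i; exact ⟨j, h⟩)

noncomputable instance : MulAction twoJ2 (Fin 315) where
  smul := act
  one_smul i := by
    refine lineRefl_injective ?_
    show lineRefl (act 1 i) = lineRefl i
    rw [← act_spec]; simp
  mul_smul g h i := by
    refine lineRefl_injective ?_
    show lineRefl (act (g * h) i) = lineRefl (act g (act h i))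
    rw [← act_spec g, ← act_spec h, ← act_spec]
    simp [mul_assoc]

theorem smul_def (g : twoJ2) (i : Fin 315) : g • i = act g i := rfl

/-- the action on lines -/
noncomputable def toLines : twoJ2 →* Equiv.Perm (Fin 315) := MulAction.toPermHom twoJ2 (Fin 315)

theorem toLines_apply (g : twoJ2) (i : Fin 315) : toLines g i = act g i := rfl

theorem lineRefl_mem (i : Fin 315) : lineRefl i ∈ twoJ2 :=
  Subgroup.subset_closure (isIcoReflection_range.2 ⟨i, rfl⟩)

theorem toLines_eq_one_iff (g : twoJ2) : toLines g = 1 ↔ g ∈ Subgroup.center twoJ2 := by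
  constructor
  · intro h
    rw [Subgroup.mem_center_iff]
    intro x
    have hc : ∀ i, Commute (g : Equiv.Perm icoLeech) (lineRefl i) := by
      intro i
      have := act_spec g i
      rw [← toLines_apply, h] at this
      exact mul_inv_eq_iff_eq_mul.1 this
    have hx : ∀ y ∈ twoJ2, Commute (g : Equiv.Perm icoLeech) y := by
      intro y hy
      induction hy using Subgroup.closure_induction with
      | mem z hz => obtain ⟨i, rfl⟩ := isIcoReflection_range.1 hz; exact hc i
      | one => exact Commute.one_right _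
      | mul a b _ _ ha hb => exact ha.mul_right hb
      | inv a _ ha => exact ha.inv_right
    exact Subtype.ext (hx x x.2).symm.eq
  · intro h
    ext i : 1
    refine lineRefl_injective ?_
    rw [toLines_apply, ← act_spec, Equiv.Perm.one_apply]
    have := congrArg Subtype.val (Subgroup.mem_center_iff.1 h ⟨_, lineRefl_mem i⟩)
    simp only [Subgroup.coe_mul] at this
    rw [← this, mul_inv_cancel_right]

/-! ### Rigidity -/

/-- only signs fix the five base lines -/
def rigidTest (u1 : Q) : Bool :=
  match lineList[3]?, lineList[4]? with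
  | some r, some r' =>
    let u2 := Q.mul (Q.mul r.y.conj u1) r.y
    let u3 := Q.half (Q.mul (Q.mul r.z.conj u1) r.z)
    (decide (u1 = Q.one) || decide (u1 = Q.one.neg)) && decide (u2 = u1) && decide (u3 = u1) ||
      !(decide (Q.mul r'.y u2 = Q.mul u1 r'.y) && decide (Q.mul r'.z u3 = Q.mul u1 r'.z))
  | _, _ => false

theorem rigid_check : ∀ u ∈ unitList, rigidTest u = true := by decide +kernel

theorem base_lines : line 0 = ⟨Q.two, Q.zero, Q.zero⟩ ∧ line 1 = ⟨Q.zero, Q.two, Q.zero⟩ ∧
    line 2 = ⟨Q.zero, Q.zero, Q.two⟩ ∧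
    (line 3).x = Q.one ∧ (line 4).x = Q.one ∧ Q.mul (line 3).y (line 3).y.conj = Q.one ∧
    Q.mul (line 3).y.conj (line 3).y = Q.one ∧ Q.mul (line 3).z.conj (line 3).z = Q.two ∧
    lineList[3]? = some (line 3) ∧ lineList[4]? = some (line 4) := by decide +kernel

/-- the sign `-1` -/
noncomputable def negOne : Equiv.Perm icoLeech := lineRefl 0 * lineRefl 1 * lineRefl 2

theorem negOne_apply (v : icoLeech) : (negOne v).1 = fun t => -v.1 t := by
  have e : ∀ (i : Fin 315) (t₀ : Fin 3), (line i).val = (fun k => if k = t₀ then 2 else 0) →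
      ∀ v : icoLeech, (lineRefl i v).1 = fun k => if k = t₀ then -v.1 k else v.1 k := by
    intro i t₀ hl v
    funext k
    show qrefl (line i).val v.1 k = _
    have hq : qip v.1 (line i).val = v.1 t₀ + v.1 t₀ + (v.1 t₀ + v.1 t₀) - (v.1 t₀ + v.1 t₀) := by
      rw [hl]
      simp [qip, apply_ite, mul_ite, mul_two]
    simp only [qrefl, hq, add_sub_cancel_right, half_smul_add]
    rw [hl]
    by_cases hk : k = t₀
    · subst hk; simp [mul_two]
    · simp [hk]
  obtain ⟨b0, b1, b2, -⟩ := base_lines
  have h0 := e 0 0 (by rw [b0]; funext k; fin_cases k <;> simp [V.val])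
  have h1 := e 1 1 (by rw [b1]; funext k; fin_cases k <;> simp [V.val])
  have h2 := e 2 2 (by rw [b2]; funext k; fin_cases k <;> simp [V.val])
  funext t
  show (lineRefl 0 (lineRefl 1 (lineRefl 2 v))).1 t = _
  rw [h0]; simp only [h1, h2]
  fin_cases t <;> simp

theorem negOne_mem : negOne ∈ twoJ2 :=
  mul_mem (mul_mem (lineRefl_mem 0) (lineRefl_mem 1)) (lineRefl_mem 2)

/-- fixed lines give unit multiples -/
theorem fixed_line (g : twoJ2) {i : Fin 315} (h : act g i = i) :
    ∃ u ∈ unitList, ((g : Equiv.Perm icoLeech) (linePt i)).1 = fun t => u.val * (line i).val t := by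
  obtain ⟨u, hu, j, e, ej⟩ := image_line (isIco_of_mem g.2) i
  have : lineRefl j = lineRefl i := by rw [← ej, act_spec, h]
  exact ⟨u, hu, lineRefl_injective this ▸ e⟩

theorem sign_of_fixed (g : twoJ2) (h : ∀ i : Fin 315, (i : ℕ) < 5 → act g i = i) :
    (g : Equiv.Perm icoLeech) = 1 ∨ (g : Equiv.Perm icoLeech) = negOne := by
  have hg := isIco_of_mem g.2
  obtain ⟨u0, hu0, e0⟩ := fixed_line g (h 0 (by decide))
  obtain ⟨u1, hu1, e1⟩ := fixed_line g (h 1 (by decide))
  obtain ⟨u2, hu2, e2⟩ := fixed_line g (h 2 (by decide))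
  obtain ⟨w, hw, e3⟩ := fixed_line g (h 3 (by decide))
  obtain ⟨w', hw', e4⟩ := fixed_line g (h 4 (by decide))
  obtain ⟨b0, b1, b2, b3, b4, by1, by2, bz, l3, l4⟩ := base_lines
  have g0 := (units_check _ hu0).1; have g1 := (units_check _ hu1).1; have g2 := (units_check _ hu2).1
  have gw := (units_check _ hw).1; have gw' := (units_check _ hw').1
  have hzero : (fun _ => (0 : ℍ[ℝ])) ∈ icoLeech :=
    ⟨fun _ => zero_mem _, ⟨0, zero_mem _, by simp⟩, ⟨0, zero_mem _, by simp⟩, ⟨0, zero_mem _, by simp⟩⟩
  -- the image of a vector, coordinatewise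
  have hdiag : ∀ v : icoLeech, ((g : Equiv.Perm icoLeech) v).1 =
      fun t => v.1 t * (![u0.val, u1.val, u2.val] : Fin 3 → ℍ[ℝ]) t := by
    intro v
    have z := hg.linear ⟨_, hzero⟩ ⟨_, hzero⟩ 0 (zero_mem _)
    simp only [zero_mul, add_zero] at z
    have hz0 : ((g : Equiv.Perm icoLeech) ⟨_, hzero⟩).1 = fun _ => 0 := by
      have := hg.linear ⟨_, hzero⟩ ⟨_, hzero⟩ 1 (one_mem _)
      simp only [one_mul, add_zero] at this
      funext t
      have := congrFun this t
      simpa using this
    have hI := v.2.1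
    let a := v.1 0; let b := v.1 1; let c := v.1 2
    have m1 := icoLeech_smul_add hzero (linePt 0).2 (hI 0)
    have m2 := icoLeech_smul_add m1 (linePt 1).2 (hI 1)
    have m3 := icoLeech_smul_add m2 (linePt 2).2 (hI 2)
    have two : (⟨_, m3⟩ : icoLeech) = ⟨_, icoLeech_smul_add v.2 v.2 (one_mem _)⟩ := by
      refine Subtype.ext (funext fun t => ?_)
      have l0 : (linePt 0).1 = ![(2 : ℍ[ℝ]), 0, 0] := by
        show (line 0).val = _; rw [b0]; simp [V.val]
      have l1 : (linePt 1).1 = ![(0 : ℍ[ℝ]), 2, 0] := by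
        show (line 1).val = _; rw [b1]; simp [V.val]
      have l2 : (linePt 2).1 = ![(0 : ℍ[ℝ]), 0, 2] := by
        show (line 2).val = _; rw [b2]; simp [V.val]
      fin_cases t <;> simp [l0, l1, l2, mul_two]
    have key := congrArg (fun x => ((g : Equiv.Perm icoLeech) x).1) two
    rw [hg.linear ⟨_, m2⟩ (linePt 2) _ (hI 2), hg.linear ⟨_, m1⟩ (linePt 1) _ (hI 1),
      hg.linear ⟨_, hzero⟩ (linePt 0) _ (hI 0), hg.linear v v 1 (one_mem _), hz0, e0, e1, e2] at key
    funext t
    refine double_cancel ?_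
    have := congrFun key t
    rw [one_mul] at this
    rw [← this, b0, b1, b2]
    fin_cases t <;> simp [V.val, mul_two, ← mul_assoc, two_mul, mul_add]
  -- the two further lines
  have f3 := (hdiag (linePt 3)).symm.trans e3
  have f4 := (hdiag (linePt 4)).symm.trans e4
  obtain ⟨rx, ry, rz⟩ := ok_good (line_ok 3).1
  obtain ⟨sx, sy, sz⟩ := ok_good (line_ok 4).1
  have p0 : u0.val = w.val := by
    have := congrFun f3 0
    simpa [linePt, toLeech, V.val, b3] using this
  have p0' : u0.val = w'.val := by
    have := congrFun f4 0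
    simpa [linePt, toLeech, V.val, b4] using this
  have q1 : (line 3).y.val * u1.val = u0.val * (line 3).y.val := by
    rw [p0]; simpa [linePt, toLeech, V.val] using congrFun f3 1
  have q2 : (line 3).z.val * u2.val = u0.val * (line 3).z.val := by
    rw [p0]; simpa [linePt, toLeech, V.val] using congrFun f3 2
  have q1' : (line 4).y.val * u1.val = u0.val * (line 4).y.val := by
    rw [p0']; simpa [linePt, toLeech, V.val] using congrFun f4 1
  have q2' : (line 4).z.val * u2.val = u0.val * (line 4).z.val := by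
    rw [p0']; simpa [linePt, toLeech, V.val] using congrFun f4 2
  obtain ⟨ey, gy⟩ := good_mul (good_conj ry) g0
  obtain ⟨ey', gy'⟩ := good_mul gy ry
  obtain ⟨ez, gz⟩ := good_mul (good_conj rz) g0
  obtain ⟨ez', gz'⟩ := good_mul gz rz
  have d1 : Q.mul (Q.mul (line 3).y.conj u0) (line 3).y = u1 := by
    refine CfsgLib.J2.val_injective ?_
    rw [ey', ey, mul_assoc, ← q1, ← mul_assoc, ← (good_mul (good_conj ry) ry).1, by2, val_one, one_mul]
  have d2 : Q.half (Q.mul (Q.mul (line 3).z.conj u0) (line 3).z) = u2 := by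
    have : Q.mul (Q.mul (line 3).z.conj u0) (line 3).z = u2.add u2 := by
      refine CfsgLib.J2.val_injective ?_
      rw [ez', ez, mul_assoc, ← q2, ← mul_assoc, ← (good_mul (good_conj rz) rz).1, bz, val_two, two_mul,
        val_add]
    rw [this]
    obtain ⟨a0, c0, a1, c1, a2, c2, a3, c3⟩ := u2
    simp only [Q.half, Q.add, Q.mk.injEq]
    omega
  have t := rigid_check u0 hu0
  simp only [rigidTest, l3, l4, d1, d2, Bool.or_eq_true, Bool.and_eq_true, Bool.not_eq_true',
    Bool.and_eq_false_iff, decide_eq_true_eq, decide_eq_false_iff_not] at t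
  have c1' : Q.mul (line 4).y u1 = Q.mul u0 (line 4).y :=
    CfsgLib.J2.val_injective (by rw [(good_mul sy g1).1, (good_mul g0 sy).1, q1'])
  have c2' : Q.mul (line 4).z u2 = Q.mul u0 (line 4).z :=
    CfsgLib.J2.val_injective (by rw [(good_mul sz g2).1, (good_mul g0 sz).1, q2'])
  rcases t with ⟨⟨hs, h1⟩, h2⟩ | ht
  · subst h1 h2
    rcases hs with rfl | rfl
    · refine Or.inl (Equiv.ext fun v => Subtype.ext ?_)
      rw [hdiag v]
      funext t; fin_cases t <;> simp
    · refine Or.inr (Equiv.ext fun v => Subtype.ext ?_)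
      rw [hdiag v, negOne_apply]
      funext t; fin_cases t <;> simp
  · exact (ht.elim (fun h => h c1') (fun h => h c2')).elim

theorem negOne_ne_one : negOne ≠ 1 := by
  intro h
  have e := congrArg (fun f : Equiv.Perm icoLeech => (f (linePt 0)).1 0) h
  simp only [negOne_apply, Equiv.Perm.one_apply] at e
  have e' : -(line 0).val 0 = (line 0).val 0 := e
  rw [base_lines.1] at e'
  have := congrArg QuaternionAlgebra.re e'
  simp [V.val, Q.two] at this
  norm_num at this

theorem negOne_central : (⟨negOne, negOne_mem⟩ : twoJ2) ∈ Subgroup.center twoJ2 := by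
  rw [Subgroup.mem_center_iff]
  rintro ⟨x, hx⟩
  refine Subtype.ext (Equiv.ext fun v => Subtype.ext ?_)
  show (x (negOne v)).1 = (negOne (x v)).1
  rw [negOne_apply]
  have hiso := isIco_of_mem hx
  have h0 : (negOne v).1 = fun t => (negOne v).1 t + 0 * v.1 t := by simp
  have hzero : (fun t => v.1 t + -1 * v.1 t) ∈ icoLeech := icoLeech_smul_add v.2 v.2 (neg_mem (one_mem _))
  have l1 := hiso.linear v v (-1) (neg_mem (one_mem _))
  have l2 := hiso.linear ⟨_, hzero⟩ v (-1) (neg_mem (one_mem _))
  have e : negOne v = ⟨_, icoLeech_smul_add hzero v.2 (neg_mem (Subring.one_mem icosians))⟩ := by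
    refine Subtype.ext ?_
    rw [negOne_apply]; simp
  rw [e, l2, l1]
  simp

theorem center_cases {g : twoJ2} (h : g ∈ Subgroup.center twoJ2) :
    (g : Equiv.Perm icoLeech) = 1 ∨ (g : Equiv.Perm icoLeech) = negOne := by
  refine sign_of_fixed g fun i _ => ?_
  rw [← toLines_apply, (toLines_eq_one_iff g).2 h]; rfl

theorem card_center : Nat.card (Subgroup.center twoJ2) = 2 := by
  let z0 : Subgroup.center twoJ2 := ⟨⟨negOne, negOne_mem⟩, negOne_central⟩
  have hz : z0 ≠ 1 := fun h => negOne_ne_one (congrArg (fun x : Subgroup.center twoJ2 => x.1.1) h)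
  have huniv : (Set.univ : Set (Subgroup.center twoJ2)) = {1, z0} := by
    ext ⟨x, hx⟩
    simp only [Set.mem_univ, Set.mem_insert_iff, Set.mem_singleton_iff, true_iff]
    rcases center_cases hx with e | e
    · exact Or.inl (Subtype.ext (Subtype.ext e))
    · exact Or.inr (Subtype.ext (Subtype.ext e))
  rw [← Set.ncard_univ, huniv, Set.ncard_pair hz.symm]

/-! ### The image -/

/-- the four generators, as indices -/
def genLine : Fin 4 → Fin 315 := ![33, 310, 6, 240]

/-- their packed permutations -/
def genPerm : Fin 4 → ℕ := ![genPerm0, genPerm1, genPerm2, genPerm3]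

theorem gen_rep (k : Fin 4) : Rep (toLines ⟨lineRefl (genLine k), lineRefl_mem _⟩) (genPerm k) := by
  intro j
  have key : ∀ (g : Fin 315) (p : ℕ) (ws : List ℕ) (a b : ℕ), genOK g p ws 0 a = true →
      genOK g p ws a b = true → a + b = 315 → getP p j = (act ⟨lineRefl g, lineRefl_mem _⟩ j : ℕ) := by
    intro g p ws a b h1 h2 hab
    have hg : lineList[(g : ℕ)]? = some (line g) := by
      rw [List.getElem?_eq_getElem (by rw [lineList_length]; exact g.is_lt)]; rfl
    simp only [genOK, hg] at h1 h2
    have h := getElem?_append_range h1 h2 j (by omega)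
    unfold genLineOK at h
    split at h
    next s w t hs hw ht =>
      split at h
      next u hu =>
        simp only [decide_eq_true_eq] at h
        have es : s = line j := by
          rw [List.getElem?_eq_getElem (by rw [lineList_length]; exact j.is_lt), Option.some_inj] at hs
          exact hs.symm
        have htlt : getP p j < lineList.length := (List.getElem?_eq_some_iff.1 ht).1
        rw [lineList_length] at htlt
        have et : t = line ⟨_, htlt⟩ := by
          obtain ⟨hh, e⟩ := List.getElem?_eq_some_iff.1 ht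
          exact e.symm
        subst es et
        have hu' := List.mem_of_getElem? hu
        obtain ⟨-, er⟩ := refl_val (line_ok g).1 (line_ok j).1
        rw [h, (lmul_ok (units_check u hu').1 (line_ok _).1).2] at er
        obtain ⟨u', hu'', j', e, ej⟩ := image_line (isIso_refl g) j
        have e2 : (fun t => u.val * (line ⟨getP p j, htlt⟩).val t) = fun t => u'.val * (line j').val t :=
          er.trans e
        have : lineRefl ⟨getP p j, htlt⟩ = lineRefl j' := Equiv.ext fun x => Subtype.ext (by
          show qrefl (line _).val x.1 = qrefl (line j').val x.1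
          rw [← qrefl_unit hu' (line_ok _).1, e2, qrefl_unit hu'' (line_ok _).1])
        have ea : act ⟨lineRefl g, lineRefl_mem _⟩ j = j' :=
          lineRefl_injective ((act_spec ⟨lineRefl g, lineRefl_mem _⟩ j).symm.trans ej)
        rw [ea, ← lineRefl_injective this]
      next => exact absurd h Bool.false_ne_true
    next => exact absurd h Bool.false_ne_true
  fin_cases k
  · exact key 33 _ _ _ _ gen0_low gen0_high rfl
  · exact key 310 _ _ _ _ gen1_low gen1_high rfl
  · exact key 6 _ _ _ _ gen2_low gen2_high rfl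
  · exact key 240 _ _ _ _ gen3_low gen3_high rfl

end CfsgLib.J2
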