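import Cfsg.Agent.Lib.Spor.J2.CensData

/-! Powers of representatives that are not conjugate to them. -/

set_option autoImplicit false
set_option maxRecDepth 100000

namespace CfsgLib.J2

theorem cls9_apart : searchFrom cls9.y pow9 cls9.starts = [] := by decide +kernel

theorem cls10_apart : searchFrom cls10.y pow10 cls10.starts = [] := by decide +kernel

theorem cls11_apart : searchFrom cls11.y pow11 cls11.starts = [] := by decide +kernel

theorem cls13_apart : searchFrom cls13.y pow13 cls13.starts = [] := by decide +kernel

theorem cls9_pow : Nat.beq (foldP (List.replicate 3 cls9.y)) pow9 = true ∧ coverOK pow9 cls9.cyc cls9.starts = true := by decide +kernel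

theorem cls10_pow : Nat.beq (foldP (List.replicate 3 cls10.y)) pow10 = true ∧ coverOK pow10 cls10.cyc cls10.starts = true := by decide +kernel

theorem cls11_pow : Nat.beq (foldP (List.replicate 2 cls11.y)) pow11 = true ∧ coverOK pow11 cls11.cyc cls11.starts = true := by decide +kernel

theorem cls12_pow : Nat.beq (foldP (List.replicate 2 cls12.y)) pow12 = true ∧ coverOK pow12 cls12.cyc cls12.starts = true := by decide +kernel

theorem cls13_pow : Nat.beq (foldP (List.replicate 2 cls13.y)) pow13 = true ∧ coverOK pow13 cls13.cyc cls13.starts = true := by decide +kernel

end CfsgLib.J2
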