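import Cfsg.Agent.Lib.Spor.J2.CensData

/-! Orders, fixed points and cycle data of the representatives. -/

set_option autoImplicit false
set_option maxRecDepth 100000

namespace CfsgLib.J2

theorem cls0_base : cls0.baseOK = true := by decide +kernel

theorem cls1_base : cls1.baseOK = true := by decide +kernel

theorem cls2_base : cls2.baseOK = true := by decide +kernel

theorem cls3_base : cls3.baseOK = true := by decide +kernel

theorem cls4_base : cls4.baseOK = true := by decide +kernel

theorem cls5_base : cls5.baseOK = true := by decide +kernel

theorem cls6_base : cls6.baseOK = true := by decide +kernel

theorem cls7_base : cls7.baseOK = true := by decide +kernel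

theorem cls8_base : cls8.baseOK = true := by decide +kernel

theorem cls9_base : cls9.baseOK = true := by decide +kernel

theorem cls10_base : cls10.baseOK = true := by decide +kernel

theorem cls11_base : cls11.baseOK = true := by decide +kernel

theorem cls12_base : cls12.baseOK = true := by decide +kernel

theorem cls13_base : cls13.baseOK = true := by decide +kernel

theorem cls14_base : cls14.baseOK = true := by decide +kernel

end CfsgLib.J2
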