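import Cfsg.Agent.Lib.Spor.J2.CensData

/-! Upper bounds for centralisers. -/

set_option autoImplicit false
set_option maxRecDepth 100000

namespace CfsgLib.J2

theorem cls0_cent : cls0.centOK = true := by decide +kernel

theorem cls1_cent : cls1.centOK = true := by decide +kernel

theorem cls2_cent : cls2.centOK = true := by decide +kernel

theorem cls3_cent : cls3.centOK = true := by decide +kernel

theorem cls4_cent : cls4.centOK = true := by decide +kernel

theorem cls5_cent : cls5.centOK = true := by decide +kernel

theorem cls6_cent : cls6.centOK = true := by decide +kernel

theorem cls7_cent : cls7.centOK = true := by decide +kernel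

theorem cls8_cent : cls8.centOK = true := by decide +kernel

theorem cls9_cent : cls9.centOK = true := by decide +kernel

theorem cls10_cent : cls10.centOK = true := by decide +kernel

end CfsgLib.J2
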