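import Cfsg.Agent.Lib.Spor.J2.CensData

/-! Upper bounds for further centralisers. -/

set_option autoImplicit false
set_option maxRecDepth 100000

namespace CfsgLib.J2

theorem cls11_cent : cls11.centOK = true := by decide +kernel

theorem cls13_cent : cls13.centOK = true := by decide +kernel

theorem cls14_cent : cls14.centOK = true := by decide +kernel

end CfsgLib.J2
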