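import Cfsg.Agent.Lib.Spor.J2.CensData

/-! The centraliser of an element of order 5 with no fixed point, part 0. -/

set_option autoImplicit false
set_option maxRecDepth 100000

namespace CfsgLib.J2

theorem cls12_cent0 : (searchFrom cls12.y cls12.y (cls12.starts.take 21)).length ≤ 27 := by decide +kernel

theorem cls12_apart0 : searchFrom cls12.y pow12 (cls12.starts.take 21) = [] := by decide +kernel

end CfsgLib.J2
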