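import Cfsg.Agent.Lib.Spor.J2.CensData

/-! The centraliser of an element of order 5 with no fixed point, part 2. -/

set_option autoImplicit false
set_option maxRecDepth 100000

namespace CfsgLib.J2

theorem cls12_cent2 : (searchFrom cls12.y cls12.y (cls12.starts.drop 42)).length ≤ 9 := by decide +kernel

theorem cls12_apart2 : searchFrom cls12.y pow12 (cls12.starts.drop 42) = [] := by decide +kernel

end CfsgLib.J2
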