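import Cfsg.Agent.Lib.Spor.J2.ClassFacts
import Cfsg.Agent.Lib.Spor.J2.CensBase
import Cfsg.Agent.Lib.Spor.J2.CensCent0
import Cfsg.Agent.Lib.Spor.J2.CensCent1
import Cfsg.Agent.Lib.Spor.J2.CensFive0
import Cfsg.Agent.Lib.Spor.J2.CensFive1
import Cfsg.Agent.Lib.Spor.J2.CensFive2
import Cfsg.Agent.Lib.Spor.J2.CensApart

/-! The twenty-one conjugacy classes of the group of permutations of the lines. -/

set_option autoImplicit false
set_option maxRecDepth 100000

namespace CfsgLib.J2

attribute [local irreducible] searchFrom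

theorem starts_split {s : ℕ} (h : s ∈ cls12.starts) :
    s ∈ cls12.starts.take 21 ∨ s ∈ (cls12.starts.drop 21).take 21 ∨ s ∈ cls12.starts.drop 42 := by
  rw [← List.take_append_drop 21 cls12.starts, List.mem_append] at h
  rcases h with h | h
  · exact Or.inl h
  · rw [← List.take_append_drop 21 (cls12.starts.drop 21), List.mem_append, List.drop_drop] at h
    tauto

/-- representative 0 -/
noncomputable def rep0 : imgGen := cls0.elem cls0_base

theorem rep0_cent : Nat.card {g : imgGen // g * rep0 = rep0 * g} ≤ 8 :=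
  (cls0.card_cent_le cls0_base (ℓ := searchFrom cls0.y cls0.y cls0.starts) (m := 4)
    (Nat.le_of_ble_eq_true cls0_cent) fun _ hσ he h0 =>
      searchFrom_spec (cls0.elem_rep cls0_base) (cls0.elem_rep cls0_base) he hσ _ h0).trans (by decide)

/-- representative 1 -/
noncomputable def rep1 : imgGen := cls1.elem cls1_base

theorem rep1_cent : Nat.card {g : imgGen // g * rep1 = rep1 * g} ≤ 12 :=
  (cls1.card_cent_le cls1_base (ℓ := searchFrom cls1.y cls1.y cls1.starts) (m := 1)
    (Nat.le_of_ble_eq_true cls1_cent) fun _ hσ he h0 =>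
      searchFrom_spec (cls1.elem_rep cls1_base) (cls1.elem_rep cls1_base) he hσ _ h0).trans (by decide)

/-- representative 2 -/
noncomputable def rep2 : imgGen := cls2.elem cls2_base

theorem rep2_cent : Nat.card {g : imgGen // g * rep2 = rep2 * g} ≤ 24 :=
  (cls2.card_cent_le cls2_base (ℓ := searchFrom cls2.y cls2.y cls2.starts) (m := 12)
    (Nat.le_of_ble_eq_true cls2_cent) fun _ hσ he h0 =>
      searchFrom_spec (cls2.elem_rep cls2_base) (cls2.elem_rep cls2_base) he hσ _ h0).trans (by decide)

/-- representative 3 -/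
noncomputable def rep3 : imgGen := cls3.elem cls3_base

theorem rep3_cent : Nat.card {g : imgGen // g * rep3 = rep3 * g} ≤ 96 :=
  (cls3.card_cent_le cls3_base (ℓ := searchFrom cls3.y cls3.y cls3.starts) (m := 48)
    (Nat.le_of_ble_eq_true cls3_cent) fun _ hσ he h0 =>
      searchFrom_spec (cls3.elem_rep cls3_base) (cls3.elem_rep cls3_base) he hσ _ h0).trans (by decide)

/-- representative 4 -/
noncomputable def rep4 : imgGen := cls4.elem cls4_base

theorem rep4_cent : Nat.card {g : imgGen // g * rep4 = rep4 * g} ≤ 12 :=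
  (cls4.card_cent_le cls4_base (ℓ := searchFrom cls4.y cls4.y cls4.starts) (m := 2)
    (Nat.le_of_ble_eq_true cls4_cent) fun _ hσ he h0 =>
      searchFrom_spec (cls4.elem_rep cls4_base) (cls4.elem_rep cls4_base) he hσ _ h0).trans (by decide)

/-- representative 5 -/
noncomputable def rep5 : imgGen := cls5.elem cls5_base

theorem rep5_cent : Nat.card {g : imgGen // g * rep5 = rep5 * g} ≤ 36 :=
  (cls5.card_cent_le cls5_base (ℓ := searchFrom cls5.y cls5.y cls5.starts) (m := 12)
    (Nat.le_of_ble_eq_true cls5_cent) fun _ hσ he h0 =>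
      searchFrom_spec (cls5.elem_rep cls5_base) (cls5.elem_rep cls5_base) he hσ _ h0).trans (by decide)

/-- representative 6 -/
noncomputable def rep6 : imgGen := cls6.elem cls6_base

theorem rep6_cent : Nat.card {g : imgGen // g * rep6 = rep6 * g} ≤ 240 :=
  (cls6.card_cent_le cls6_base (ℓ := searchFrom cls6.y cls6.y cls6.starts) (m := 120)
    (Nat.le_of_ble_eq_true cls6_cent) fun _ hσ he h0 =>
      searchFrom_spec (cls6.elem_rep cls6_base) (cls6.elem_rep cls6_base) he hσ _ h0).trans (by decide)

/-- representative 7 -/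
noncomputable def rep7 : imgGen := cls7.elem cls7_base

theorem rep7_cent : Nat.card {g : imgGen // g * rep7 = rep7 * g} ≤ 1920 :=
  (cls7.card_cent_le cls7_base (ℓ := searchFrom cls7.y cls7.y cls7.starts) (m := 960)
    (Nat.le_of_ble_eq_true cls7_cent) fun _ hσ he h0 =>
      searchFrom_spec (cls7.elem_rep cls7_base) (cls7.elem_rep cls7_base) he hσ _ h0).trans (by decide)

/-- representative 8 -/
noncomputable def rep8 : imgGen := cls8.elem cls8_base

theorem rep8_cent : Nat.card {g : imgGen // g * rep8 = rep8 * g} ≤ 7 :=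
  (cls8.card_cent_le cls8_base (ℓ := searchFrom cls8.y cls8.y cls8.starts) (m := 1)
    (Nat.le_of_ble_eq_true cls8_cent) fun _ hσ he h0 =>
      searchFrom_spec (cls8.elem_rep cls8_base) (cls8.elem_rep cls8_base) he hσ _ h0).trans (by decide)

/-- representative 9 -/
noncomputable def rep9 : imgGen := cls9.elem cls9_base

theorem rep9_cent : Nat.card {g : imgGen // g * rep9 = rep9 * g} ≤ 10 :=
  (cls9.card_cent_le cls9_base (ℓ := searchFrom cls9.y cls9.y cls9.starts) (m := 2)
    (Nat.le_of_ble_eq_true cls9_cent) fun _ hσ he h0 =>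
      searchFrom_spec (cls9.elem_rep cls9_base) (cls9.elem_rep cls9_base) he hσ _ h0).trans (by decide)

/-- representative 10 -/
noncomputable def rep10 : imgGen := cls10.elem cls10_base

theorem rep10_cent : Nat.card {g : imgGen // g * rep10 = rep10 * g} ≤ 20 :=
  (cls10.card_cent_le cls10_base (ℓ := searchFrom cls10.y cls10.y cls10.starts) (m := 2)
    (Nat.le_of_ble_eq_true cls10_cent) fun _ hσ he h0 =>
      searchFrom_spec (cls10.elem_rep cls10_base) (cls10.elem_rep cls10_base) he hσ _ h0).trans (by decide)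

/-- representative 11 -/
noncomputable def rep11 : imgGen := cls11.elem cls11_base

theorem rep11_cent : Nat.card {g : imgGen // g * rep11 = rep11 * g} ≤ 50 :=
  (cls11.card_cent_le cls11_base (ℓ := searchFrom cls11.y cls11.y cls11.starts) (m := 10)
    (Nat.le_of_ble_eq_true cls11_cent) fun _ hσ he h0 =>
      searchFrom_spec (cls11.elem_rep cls11_base) (cls11.elem_rep cls11_base) he hσ _ h0).trans (by decide)

/-- representative 12 -/
noncomputable def rep12 : imgGen := cls12.elem cls12_base

theorem rep12_cent : Nat.card {g : imgGen // g * rep12 = rep12 * g} ≤ 300 := by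
  refine (cls12.card_cent_le cls12_base
    (ℓ := searchFrom cls12.y cls12.y (cls12.starts.take 21) ++
      searchFrom cls12.y cls12.y ((cls12.starts.drop 21).take 21) ++
      searchFrom cls12.y cls12.y (cls12.starts.drop 42)) (m := 60) ?_ fun σ hσ he h0 => ?_).trans (by decide)
  · simp only [List.length_append]
    have := cls12_cent0; have := cls12_cent1; have := cls12_cent2; omega
  · rcases starts_split h0 with h | h | h <;>
      obtain ⟨w, hw, hev⟩ := searchFrom_spec (cls12.elem_rep cls12_base) (cls12.elem_rep cls12_base) he hσ _ h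
    · exact ⟨w, List.mem_append.2 (Or.inl (List.mem_append.2 (Or.inl hw))), hev⟩
    · exact ⟨w, List.mem_append.2 (Or.inl (List.mem_append.2 (Or.inr hw))), hev⟩
    · exact ⟨w, List.mem_append.2 (Or.inr hw), hev⟩

/-- representative 13 -/
noncomputable def rep13 : imgGen := cls13.elem cls13_base

theorem rep13_cent : Nat.card {g : imgGen // g * rep13 = rep13 * g} ≤ 15 :=
  (cls13.card_cent_le cls13_base (ℓ := searchFrom cls13.y cls13.y cls13.starts) (m := 3)
    (Nat.le_of_ble_eq_true cls13_cent) fun _ hσ he h0 =>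
      searchFrom_spec (cls13.elem_rep cls13_base) (cls13.elem_rep cls13_base) he hσ _ h0).trans (by decide)

/-- representative 14 -/
noncomputable def rep14 : imgGen := cls14.elem cls14_base

theorem rep14_cent : Nat.card {g : imgGen // g * rep14 = rep14 * g} ≤ 1080 :=
  (cls14.card_cent_le cls14_base (ℓ := searchFrom cls14.y cls14.y cls14.starts) (m := 360)
    (Nat.le_of_ble_eq_true cls14_cent) fun _ hσ he h0 =>
      searchFrom_spec (cls14.elem_rep cls14_base) (cls14.elem_rep cls14_base) he hσ _ h0).trans (by decide)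

theorem rep9_pow_rep : Rep ((rep9 ^ 3 : imgGen) : Equiv.Perm (Fin 315)) pow9 := by
  rw [Subgroup.coe_pow, ← Nat.eq_of_beq_eq_true cls9_pow.1]
  exact rep_foldP_replicate (cls9.elem_rep cls9_base) 3

theorem rep9_apart : ¬IsConj rep9 (rep9 ^ 3) :=
  cls9.not_conj cls9_base rep9_pow_rep cls9_pow.2 fun _ hσ he h0 => by
    obtain ⟨w, hw, -⟩ := searchFrom_spec (cls9.elem_rep cls9_base) rep9_pow_rep he hσ _ h0
    rw [cls9_apart] at hw; simp at hw

theorem rep10_pow_rep : Rep ((rep10 ^ 3 : imgGen) : Equiv.Perm (Fin 315)) pow10 := by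
  rw [Subgroup.coe_pow, ← Nat.eq_of_beq_eq_true cls10_pow.1]
  exact rep_foldP_replicate (cls10.elem_rep cls10_base) 3

theorem rep10_apart : ¬IsConj rep10 (rep10 ^ 3) :=
  cls10.not_conj cls10_base rep10_pow_rep cls10_pow.2 fun _ hσ he h0 => by
    obtain ⟨w, hw, -⟩ := searchFrom_spec (cls10.elem_rep cls10_base) rep10_pow_rep he hσ _ h0
    rw [cls10_apart] at hw; simp at hw

theorem rep11_pow_rep : Rep ((rep11 ^ 2 : imgGen) : Equiv.Perm (Fin 315)) pow11 := by
  rw [Subgroup.coe_pow, ← Nat.eq_of_beq_eq_true cls11_pow.1]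
  exact rep_foldP_replicate (cls11.elem_rep cls11_base) 2

theorem rep11_apart : ¬IsConj rep11 (rep11 ^ 2) :=
  cls11.not_conj cls11_base rep11_pow_rep cls11_pow.2 fun _ hσ he h0 => by
    obtain ⟨w, hw, -⟩ := searchFrom_spec (cls11.elem_rep cls11_base) rep11_pow_rep he hσ _ h0
    rw [cls11_apart] at hw; simp at hw

theorem rep12_pow_rep : Rep ((rep12 ^ 2 : imgGen) : Equiv.Perm (Fin 315)) pow12 := by
  rw [Subgroup.coe_pow, ← Nat.eq_of_beq_eq_true cls12_pow.1]
  exact rep_foldP_replicate (cls12.elem_rep cls12_base) 2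

theorem rep12_apart : ¬IsConj rep12 (rep12 ^ 2) :=
  cls12.not_conj cls12_base rep12_pow_rep cls12_pow.2 fun _ hσ he h0 => by
    rcases starts_split h0 with h | h | h <;>
      obtain ⟨w, hw, -⟩ := searchFrom_spec (cls12.elem_rep cls12_base) rep12_pow_rep he hσ _ h <;>
      simp [cls12_apart0, cls12_apart1, cls12_apart2] at hw

theorem rep13_pow_rep : Rep ((rep13 ^ 2 : imgGen) : Equiv.Perm (Fin 315)) pow13 := by
  rw [Subgroup.coe_pow, ← Nat.eq_of_beq_eq_true cls13_pow.1]
  exact rep_foldP_replicate (cls13.elem_rep cls13_base) 2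

theorem rep13_apart : ¬IsConj rep13 (rep13 ^ 2) :=
  cls13.not_conj cls13_base rep13_pow_rep cls13_pow.2 fun _ hσ he h0 => by
    obtain ⟨w, hw, -⟩ := searchFrom_spec (cls13.elem_rep cls13_base) rep13_pow_rep he hσ _ h0
    rw [cls13_apart] at hw; simp at hw

/-- the twenty nontrivial representatives -/
noncomputable def clsRep : Fin 20 → imgGen :=
  ![rep0,
    rep1,
    rep2,
    rep3,
    rep4,
    rep5,
    rep6,
    rep7,
    rep8,
    rep9,
    rep10,
    rep11,
    rep12,
    rep13,
    rep14,
    rep9 ^ 3,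
    rep10 ^ 3,
    rep11 ^ 2,
    rep12 ^ 2,
    rep13 ^ 2]

/-- their centraliser orders -/
def centBound : Fin 20 → ℕ := ![8, 12, 24, 96, 12, 36, 240, 1920, 7, 10, 20, 50, 300, 15, 1080, 10, 20, 50, 300, 15]

/-- their orders -/
def clsOrd : Fin 20 → ℕ := ![8, 12, 6, 4, 6, 3, 2, 2, 7, 10, 10, 5, 5, 15, 3, 10, 10, 5, 5, 15]

/-- their numbers of fixed lines -/
def clsFix : Fin 20 → ℕ := ![1, 1, 5, 7, 0, 0, 15, 11, 0, 1, 0, 5, 0, 0, 45, 1, 0, 5, 0, 0]

theorem cent_pow {x : imgGen} {e d : ℕ} (h : x ^ (e * d) = x) :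
    Nat.card {g : imgGen // g * x ^ e = x ^ e * g} = Nat.card {g : imgGen // g * x = x * g} := by
  refine Nat.card_congr (Equiv.subtypeEquivRight fun g => ⟨fun hg => ?_, fun hg => ?_⟩)
  · have := (Commute.pow_right (hg : Commute g (x ^ e)) d).eq
    rwa [← pow_mul, h] at this
  · exact (Commute.pow_right (hg : Commute g x) e).eq

theorem pow_self {x : imgGen} {n e d : ℕ} (hn : orderOf x = n) (h : e * d % n = 1) : x ^ (e * d) = x := by
  rw [← pow_mod_orderOf, hn, h, pow_one]

theorem fixN_pow {x : imgGen} {e d : ℕ} (h : x ^ (e * d) = x) : fixN (x ^ e) = fixN x := by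
  refine Nat.card_congr (Equiv.subtypeEquivRight fun f => ⟨fun hf => ?_, fun hf => ?_⟩)
  · have e1 : ((x ^ (e * d) : imgGen) : Equiv.Perm (Fin 315)) f = f := by
      rw [pow_mul, Subgroup.coe_pow]; exact Equiv.Perm.pow_apply_eq_self_of_apply_eq_self hf d
    rwa [h] at e1
  · rw [Subgroup.coe_pow]; exact Equiv.Perm.pow_apply_eq_self_of_apply_eq_self hf e

theorem orderOf_clsRep (k : Fin 20) : orderOf (clsRep k) = clsOrd k := by
  fin_cases k
  · exact cls0.orderOf_elem cls0_base
  · exact cls1.orderOf_elem cls1_base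
  · exact cls2.orderOf_elem cls2_base
  · exact cls3.orderOf_elem cls3_base
  · exact cls4.orderOf_elem cls4_base
  · exact cls5.orderOf_elem cls5_base
  · exact cls6.orderOf_elem cls6_base
  · exact cls7.orderOf_elem cls7_base
  · exact cls8.orderOf_elem cls8_base
  · exact cls9.orderOf_elem cls9_base
  · exact cls10.orderOf_elem cls10_base
  · exact cls11.orderOf_elem cls11_base
  · exact cls12.orderOf_elem cls12_base
  · exact cls13.orderOf_elem cls13_base
  · exact cls14.orderOf_elem cls14_base
  · exact ((by decide : Nat.Coprime 10 3) |> fun h => (Nat.Coprime.orderOf_pow (show Nat.Coprime (orderOf (cls9.elem cls9_base)) _ by rw [cls9.orderOf_elem]; exact h)).trans (cls9.orderOf_elem cls9_base))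
  · exact ((by decide : Nat.Coprime 10 3) |> fun h => (Nat.Coprime.orderOf_pow (show Nat.Coprime (orderOf (cls10.elem cls10_base)) _ by rw [cls10.orderOf_elem]; exact h)).trans (cls10.orderOf_elem cls10_base))
  · exact ((by decide : Nat.Coprime 5 2) |> fun h => (Nat.Coprime.orderOf_pow (show Nat.Coprime (orderOf (cls11.elem cls11_base)) _ by rw [cls11.orderOf_elem]; exact h)).trans (cls11.orderOf_elem cls11_base))
  · exact ((by decide : Nat.Coprime 5 2) |> fun h => (Nat.Coprime.orderOf_pow (show Nat.Coprime (orderOf (cls12.elem cls12_base)) _ by rw [cls12.orderOf_elem]; exact h)).trans (cls12.orderOf_elem cls12_base))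
  · exact ((by decide : Nat.Coprime 15 2) |> fun h => (Nat.Coprime.orderOf_pow (show Nat.Coprime (orderOf (cls13.elem cls13_base)) _ by rw [cls13.orderOf_elem]; exact h)).trans (cls13.orderOf_elem cls13_base))

theorem fixN_clsRep (k : Fin 20) : fixN (clsRep k) = clsFix k := by
  fin_cases k
  · exact cls0.fixN_elem cls0_base
  · exact cls1.fixN_elem cls1_base
  · exact cls2.fixN_elem cls2_base
  · exact cls3.fixN_elem cls3_base
  · exact cls4.fixN_elem cls4_base
  · exact cls5.fixN_elem cls5_base
  · exact cls6.fixN_elem cls6_base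
  · exact cls7.fixN_elem cls7_base
  · exact cls8.fixN_elem cls8_base
  · exact cls9.fixN_elem cls9_base
  · exact cls10.fixN_elem cls10_base
  · exact cls11.fixN_elem cls11_base
  · exact cls12.fixN_elem cls12_base
  · exact cls13.fixN_elem cls13_base
  · exact cls14.fixN_elem cls14_base
  · exact (fixN_pow (pow_self (d := 7) (e := 3) (cls9.orderOf_elem cls9_base) (by decide))).trans (cls9.fixN_elem cls9_base)
  · exact (fixN_pow (pow_self (d := 7) (e := 3) (cls10.orderOf_elem cls10_base) (by decide))).trans (cls10.fixN_elem cls10_base)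
  · exact (fixN_pow (pow_self (d := 3) (e := 2) (cls11.orderOf_elem cls11_base) (by decide))).trans (cls11.fixN_elem cls11_base)
  · exact (fixN_pow (pow_self (d := 3) (e := 2) (cls12.orderOf_elem cls12_base) (by decide))).trans (cls12.fixN_elem cls12_base)
  · exact (fixN_pow (pow_self (d := 8) (e := 2) (cls13.orderOf_elem cls13_base) (by decide))).trans (cls13.fixN_elem cls13_base)

theorem card_cent_clsRep (k : Fin 20) : Nat.card {g : imgGen // g * clsRep k = clsRep k * g} ≤ centBound k := by
  fin_cases k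
  · exact rep0_cent
  · exact rep1_cent
  · exact rep2_cent
  · exact rep3_cent
  · exact rep4_cent
  · exact rep5_cent
  · exact rep6_cent
  · exact rep7_cent
  · exact rep8_cent
  · exact rep9_cent
  · exact rep10_cent
  · exact rep11_cent
  · exact rep12_cent
  · exact rep13_cent
  · exact rep14_cent
  · exact (cent_pow (pow_self (d := 7) (e := 3) (cls9.orderOf_elem cls9_base) (by decide))).le.trans rep9_cent
  · exact (cent_pow (pow_self (d := 7) (e := 3) (cls10.orderOf_elem cls10_base) (by decide))).le.trans rep10_cent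
  · exact (cent_pow (pow_self (d := 3) (e := 2) (cls11.orderOf_elem cls11_base) (by decide))).le.trans rep11_cent
  · exact (cent_pow (pow_self (d := 3) (e := 2) (cls12.orderOf_elem cls12_base) (by decide))).le.trans rep12_cent
  · exact (cent_pow (pow_self (d := 8) (e := 2) (cls13.orderOf_elem cls13_base) (by decide))).le.trans rep13_cent

theorem clsRep_apart {i j : Fin 20} (h : i ≠ j) : ¬IsConj (clsRep i) (clsRep j) := by
  intro hc
  have h1 : clsOrd i = clsOrd j := by
    rw [← orderOf_clsRep, ← orderOf_clsRep]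
    obtain ⟨g, hg⟩ := isConj_iff.1 hc
    rw [← hg]
    exact (MulEquiv.orderOf_eq (MulAut.conj g) (clsRep i)).symm
  have h2 : clsFix i = clsFix j := by rw [← fixN_clsRep, ← fixN_clsRep, fixN_conj hc]
  have key : ∀ i j : Fin 20, i ≠ j → clsOrd i = clsOrd j → clsFix i = clsFix j →
      (i = 9 ∧ j = 15) ∨ (i = 15 ∧ j = 9) ∨ (i = 10 ∧ j = 16) ∨ (i = 16 ∧ j = 10) ∨ (i = 11 ∧ j = 17) ∨ (i = 17 ∧ j = 11) ∨ (i = 12 ∧ j = 18) ∨ (i = 18 ∧ j = 12) ∨ (i = 13 ∧ j = 19) ∨ (i = 19 ∧ j = 13) := by
    decide +kernel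
  rcases key i j h h1 h2 with ⟨rfl, rfl⟩ | ⟨rfl, rfl⟩ | ⟨rfl, rfl⟩ | ⟨rfl, rfl⟩ | ⟨rfl, rfl⟩ | ⟨rfl, rfl⟩ | ⟨rfl, rfl⟩ | ⟨rfl, rfl⟩ | ⟨rfl, rfl⟩ | ⟨rfl, rfl⟩
  · exact rep9_apart hc
  · exact rep9_apart hc.symm
  · exact rep10_apart hc
  · exact rep10_apart hc.symm
  · exact rep11_apart hc
  · exact rep11_apart hc.symm
  · exact rep12_apart hc
  · exact rep12_apart hc.symm
  · exact rep13_apart hc
  · exact rep13_apart hc.symm

/-- every nontrivial element is conjugate to a representative -/
theorem census (σ : imgGen) (h : σ ≠ 1) : ∃ k, IsConj (clsRep k) σ := by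
  classical
  haveI : Fintype imgGen := Fintype.ofFinite _
  let C : Fin 20 → Finset imgGen := fun k => Finset.univ.filter fun y => IsConj (clsRep k) y
  have hG : Fintype.card imgGen = 604800 := by rw [← Nat.card_eq_fintype_card]; exact chain_facts.2.1
  have hsize : ∀ k, 604800 ≤ centBound k * (C k).card := by
    intro k
    set x := clsRep k with hx
    have him : Finset.univ.image (fun g : imgGen => g * x * g⁻¹) = C k := by
      ext y; simp [C, isConj_iff, hx]
    rw [← hG, ← Finset.card_univ, ← him]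
    refine Finset.card_le_mul_card_image _ _ fun y hy => ?_
    obtain ⟨g₀, -, rfl⟩ := Finset.mem_image.1 hy
    refine le_trans ?_ ((Nat.card_eq_fintype_card (α := {g : imgGen // g * x = x * g})).symm.le.trans (hx ▸ card_cent_clsRep k))
    rw [Fintype.card_subtype]
    refine Finset.card_le_card_of_injOn (fun g => g₀⁻¹ * g) (fun g hg => ?_) (fun a _ b _ e => mul_left_cancel e)
    simp only [Finset.coe_filter, Finset.mem_univ, true_and, Set.mem_setOf_eq] at hg ⊢
    calc g₀⁻¹ * g * x = g₀⁻¹ * (g * x * g⁻¹) * g := by group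
      _ = x * (g₀⁻¹ * g) := by rw [hg]; group
  have hdisj : ((Finset.univ : Finset (Fin 20)) : Set (Fin 20)).PairwiseDisjoint C := by
    intro i _ j _ hij
    simp only [Function.onFun, Finset.disjoint_left, C, Finset.mem_filter, Finset.mem_univ, true_and]
    exact fun y hi hj => clsRep_apart hij (hi.trans hj.symm)
  by_contra hn
  push_neg at hn
  have hsub : insert σ (insert 1 (Finset.univ.biUnion C)) ⊆ (Finset.univ : Finset imgGen) := Finset.subset_univ _
  have h1 : (1 : imgGen) ∉ Finset.univ.biUnion C := by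
    simp only [Finset.mem_biUnion, C, Finset.mem_filter, Finset.mem_univ, true_and, not_exists]
    intro k hk
    have := orderOf_clsRep k
    rw [isConj_one_left.1 hk, orderOf_one] at this
    have key : ∀ k, 1 ≠ clsOrd k := by decide
    exact key k this
  have h2 : σ ∉ insert 1 (Finset.univ.biUnion C) := by
    simp only [Finset.mem_insert, Finset.mem_biUnion, C, Finset.mem_filter, Finset.mem_univ, true_and, not_or,
      not_exists]
    exact ⟨h, hn⟩
  have := Finset.card_le_card hsub
  rw [Finset.card_insert_of_notMem h2, Finset.card_insert_of_notMem h1, Finset.card_biUnion hdisj,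
    Finset.card_univ, hG] at this
  have hsum : 604799 ≤ ∑ k, (C k).card := by
    refine le_trans ?_ (Finset.sum_le_sum fun k _ => show 604800 / centBound k ≤ (C k).card from
      Nat.div_le_of_le_mul (hsize k))
    decide +kernel
  omega

end CfsgLib.J2
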