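import Cfsg.Agent.Lib.Spor.J2.GenData
import Cfsg.Agent.Lib.Spor.J2.ChainData
import Cfsg.Agent.Lib.Spor.J2.SiftData
import Cfsg.Agent.Lib.Spor.J2.Perm315

/-! The five levels of the stabiliser chain. -/

set_option autoImplicit false

namespace CfsgLib.J2

/-- the base -/
def base5 : List ℕ := [0, 1, 2, 3, 4]

/-- level 0 -/
def lvl0 : Lvl := ⟨invS0, slp0, tIdx0, sIdx0, sift0⟩
/-- level 1 -/
def lvl1 : Lvl := ⟨invS1, slp1, tIdx1, sIdx1, sift1⟩
/-- level 2 -/
def lvl2 : Lvl := ⟨invS2, slp2, tIdx2, sIdx2, sift2⟩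
/-- level 3 -/
def lvl3 : Lvl := ⟨invS3, slp3, tIdx3, sIdx3, sift3⟩
/-- level 4 -/
def lvl4 : Lvl := ⟨invS4, slp4, tIdx4, sIdx4, sift4⟩

/-- generators of the whole group -/
def gens0 : List ℕ := [genPerm0, genPerm1, genPerm2, genPerm3]
/-- generators of the first stabiliser -/
def gens1 : List ℕ := lvl0.next gens0
/-- generators of the second stabiliser -/
def gens2 : List ℕ := lvl1.next gens1
/-- generators of the third stabiliser -/
def gens3 : List ℕ := lvl2.next gens2
/-- generators of the fourth stabiliser -/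
def gens4 : List ℕ := lvl3.next gens3

end CfsgLib.J2
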