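import Cfsg.Agent.Lib.Spor.J2.SearchSpec
import Cfsg.Agent.Lib.Spor.J2.CensData

/-! What the checks say about one representative. -/

set_option autoImplicit false
set_option maxRecDepth 100000

namespace CfsgLib.J2

/-- number of fixed lines -/
noncomputable def fixN (x : imgGen) : ℕ := Nat.card {f : Fin 315 // (x : Equiv.Perm (Fin 315)) f = f}

theorem fixN_conj {x y : imgGen} (h : IsConj x y) : fixN x = fixN y := by
  obtain ⟨g, rfl⟩ := isConj_iff.1 h
  refine Nat.card_congr ((g : Equiv.Perm (Fin 315)).subtypeEquiv fun f => ?_)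
  show _ ↔ ((g * x * g⁻¹ : imgGen) : Equiv.Perm (Fin 315)) _ = _
  rw [Subgroup.coe_mul, Subgroup.coe_mul, Equiv.Perm.mul_apply, Equiv.Perm.mul_apply, Subgroup.coe_inv]
  have e : (g : Equiv.Perm (Fin 315))⁻¹ ((g : Equiv.Perm (Fin 315)) f) = f :=
    (g : Equiv.Perm (Fin 315)).symm_apply_apply f
  rw [e, EmbeddingLike.apply_eq_iff_eq]

theorem fixN_rep {x : imgGen} {y : ℕ} (h : Rep (x : Equiv.Perm (Fin 315)) y) :
    fixN x = (pts.filter fun b => Nat.beq (getP y b) b).length := by
  classical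
  rw [fixN, Nat.card_eq_fintype_card, Fintype.card_subtype]
  have : pts.filter (fun b => Nat.beq (getP y b) b) =
      ((List.finRange 315).filter fun f => decide ((x : Equiv.Perm (Fin 315)) f = f)).map Fin.val := by
    rw [show pts = (List.finRange 315).map Fin.val by simp [pts], List.filter_map]
    congr 1
    refine List.filter_congr fun f _ => ?_
    rw [Function.comp, h f, Bool.eq_iff_iff]
    simp [Fin.ext_iff]
  rw [this, List.length_map, ← List.toFinset_card_of_nodup ((List.nodup_finRange 315).filter _)]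
  congr 1
  ext f
  simp

variable (c : Cls) (hc : c.baseOK = true)
include hc

theorem Cls.pick_length : Nat.beq (pick chainLists c.idx).length 5 = true := by
  simp only [Cls.baseOK, Bool.and_eq_true] at hc; tauto

theorem Cls.exists_elem : ∃ x : imgGen, Rep (x : Equiv.Perm (Fin 315)) c.y := by
  obtain ⟨σ, hσ, hr⟩ := rep_pick_chain (c.pick_length hc)
  simp only [Cls.baseOK, Bool.and_eq_true] at hc
  have e : foldP (pick chainLists c.idx) = c.y := Nat.eq_of_beq_eq_true (by tauto)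
  exact ⟨⟨σ, hσ⟩, e ▸ hr⟩

/-- the representative as a group element -/
noncomputable def Cls.elem : imgGen := (c.exists_elem hc).choose

theorem Cls.elem_rep : Rep (c.elem hc : Equiv.Perm (Fin 315)) c.y := (c.exists_elem hc).choose_spec

theorem Cls.cyc_facts : iterP c.y c.cyc 0 = 0 ∧ 0 < c.cyc ∧
    (orbitL c.y (c.cyc - 1) (getP c.y 0)).any (Nat.beq 0) = false ∧ coverOK c.y c.cyc c.starts = true := by
  simp only [Cls.baseOK, Bool.and_eq_true, Bool.not_eq_true', Nat.blt_eq] at hc
  have h : Nat.beq (iterP c.y c.cyc 0) 0 = true := by tauto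
  exact ⟨Nat.eq_of_beq_eq_true h, by tauto, by tauto, by tauto⟩

theorem Cls.orderOf_elem : orderOf (c.elem hc) = c.ord := by
  have hx := c.elem_rep hc
  simp only [Cls.baseOK, Bool.and_eq_true, Nat.blt_eq] at hc
  obtain ⟨⟨⟨⟨⟨-, h1⟩, h0⟩, h2⟩, -⟩, -⟩ := hc
  have key : ∀ m, ((c.elem ‹_›) ^ m = 1 ↔ ∀ f : Fin 315, (f : ℕ) < 5 → iterP c.y m f = f) := by
    intro m
    constructor
    · intro h f _
      rw [iterP_rep hx, ← Subgroup.coe_pow, h]; rfl
    · intro h
      refine Subtype.ext (imgGen_rigid (pow_mem (SetLike.coe_mem _) m) (one_mem _) fun f hf => Fin.ext ?_)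
      rw [Subgroup.coe_pow, ← iterP_rep hx, h f hf]; rfl
  rw [orderOf_eq_iff h0]
  refine ⟨(key _).2 fun f hf => ?_, fun m hm hm0 he => ?_⟩
  · exact Nat.eq_of_beq_eq_true (List.all_eq_true.1 h1 f (by simp [base5]; omega))
  · obtain ⟨f, hf, hne⟩ := List.any_eq_true.1 (List.all_eq_true.1 h2 m (List.mem_range'_1.2 ⟨hm0, by omega⟩))
    have hf5 : f < 5 := by simp [base5] at hf; omega
    have := (key m).1 he ⟨f, by omega⟩ hf5
    simp [this] at hne

theorem Cls.fixN_elem : fixN (c.elem hc) = c.fixd := by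
  rw [fixN_rep (c.elem_rep hc)]
  simp only [Cls.baseOK, Bool.and_eq_true] at hc
  exact Nat.eq_of_beq_eq_true (by tauto)

/-- the centraliser is bounded by the cycle length times the number of search results -/
theorem Cls.card_cent_le {ℓ : List (List ℕ)} {m : ℕ} (hlen : ℓ.length ≤ m)
    (hℓ : ∀ σ ∈ imgGen, σ * (c.elem hc : Equiv.Perm (Fin 315)) = (c.elem hc : Equiv.Perm (Fin 315)) * σ →
      (σ 0 : ℕ) ∈ c.starts → ∃ w ∈ ℓ, ∀ g : Fin 315, evalW w g = (σ g : ℕ)) :
    Nat.card {g : imgGen // g * c.elem hc = c.elem hc * g} ≤ c.cyc * m := by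
  classical
  obtain ⟨h1, h2, h3, h4⟩ := c.cyc_facts hc
  have hx := c.elem_rep hc
  set x := c.elem hc with hxdef
  have step : ∀ g : {g : imgGen // g * x = x * g}, ∃ p : Fin c.cyc × {w // w ∈ ℓ.toFinset},
      ∀ f : Fin 315, evalW p.2.1 f = (((x ^ (p.1 : ℕ) * g.1 : imgGen) : Equiv.Perm (Fin 315)) f : ℕ) := by
    rintro ⟨g, hg⟩
    have he : (g : Equiv.Perm (Fin 315)) * x = x * g := congrArg Subtype.val hg
    obtain ⟨j, hj, hB⟩ := cover_spec hx hx he h2 h1 h3 h4
    obtain ⟨w, hw, hev⟩ := hℓ _ (x ^ j * g).2 (by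
      rw [Subgroup.coe_mul, Subgroup.coe_pow, mul_assoc, he, ← mul_assoc, ← mul_assoc, ← pow_succ, ← pow_succ'])
      (by simpa using hB)
    exact ⟨(⟨j, hj⟩, ⟨w, List.mem_toFinset.2 hw⟩), hev⟩
  choose F hF using step
  have hinj : Function.Injective F := by
    intro g g' e
    have h := fun f => (hF g f).symm.trans ((by rw [e] : evalW (F g).2.1 f = evalW (F g').2.1 f).trans (hF g' f))
    have e' : (x ^ ((F g).1 : ℕ) * g.1 : imgGen) = x ^ ((F g').1 : ℕ) * g'.1 :=
      Subtype.ext (Equiv.ext fun f => Fin.ext (h f))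
    rw [e] at e'
    exact Subtype.ext (mul_left_cancel e')
  refine (Nat.card_le_card_of_injective F hinj).trans ?_
  rw [Nat.card_prod, Nat.card_fin, Nat.card_eq_fintype_card, Fintype.card_coe]
  exact Nat.mul_le_mul_left _ ((List.toFinset_card_le _).trans hlen)

/-- no element conjugates the representative to another permutation with an empty search -/
theorem Cls.not_conj {z : ℕ} {x' : imgGen} (hz : Rep (x' : Equiv.Perm (Fin 315)) z)
    (hcov : coverOK z c.cyc c.starts = true)
    (hno : ∀ σ ∈ imgGen, σ * (c.elem hc : Equiv.Perm (Fin 315)) = (x' : Equiv.Perm (Fin 315)) * σ →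
      (σ 0 : ℕ) ∈ c.starts → False) : ¬IsConj (c.elem hc) x' := by
  intro hcj
  obtain ⟨g, hg⟩ := isConj_iff.1 hcj
  obtain ⟨h1, h2, h3, -⟩ := c.cyc_facts hc
  have he0 : g * c.elem hc = x' * g := mul_inv_eq_iff_eq_mul.1 hg
  have he : (g : Equiv.Perm (Fin 315)) * c.elem hc = x' * g := congrArg Subtype.val he0
  obtain ⟨j, -, hB⟩ := cover_spec (c.elem_rep hc) hz he h2 h1 h3 hcov
  exact hno _ (mul_mem (pow_mem x'.2 j) g.2) (by
    rw [mul_assoc, he, ← mul_assoc, ← mul_assoc, ← pow_succ, ← pow_succ']) hB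

end CfsgLib.J2
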