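import Cfsg.Agent.Lib.Spor.J2.MinBasic

/-! Cached classes and norms of the short elements. -/

set_option autoImplicit false
set_option maxRecDepth 100000

namespace CfsgLib.J2

def ekChunk0 : List EK :=
  [⟨⟨0,0,0,0,0,0,0,0⟩,32,0,0⟩,
   ⟨⟨-4,0,0,0,0,0,0,0⟩,1056,0,0⟩,
   ⟨⟨-2,0,-2,0,-2,0,-2,0⟩,1056,0,0⟩,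
   ⟨⟨-2,0,-2,0,-2,0,0,0⟩,800,145,209⟩,
   ⟨⟨-2,0,-2,0,-2,0,2,0⟩,1056,0,0⟩,
   ⟨⟨-2,0,-2,0,0,0,-2,0⟩,800,145,129⟩,
   ⟨⟨-2,0,-2,0,0,0,0,0⟩,544,0,80⟩,
   ⟨⟨-2,0,-2,0,0,0,2,0⟩,800,145,129⟩,
   ⟨⟨-2,0,-2,0,2,0,-2,0⟩,1056,0,0⟩,
   ⟨⟨-2,0,-2,0,2,0,0,0⟩,800,145,209⟩,
   ⟨⟨-2,0,-2,0,2,0,2,0⟩,1056,0,0⟩,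
   ⟨⟨-2,0,-2,2,0,-2,0,0⟩,1056,0,96⟩,
   ⟨⟨-2,0,-2,2,0,0,0,-2⟩,1056,0,0⟩,
   ⟨⟨-2,0,-2,2,0,0,0,0⟩,796,26,154⟩,
   ⟨⟨-2,0,-2,2,0,0,0,2⟩,1056,0,0⟩,
   ⟨⟨-2,0,-2,2,0,2,0,0⟩,1056,0,96⟩,
   ⟨⟨-2,0,0,-2,-2,2,0,0⟩,1056,0,0⟩,
   ⟨⟨-2,0,0,-2,0,0,-2,2⟩,1056,0,48⟩,
   ⟨⟨-2,0,0,-2,0,0,0,0⟩,548,139,123⟩,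
   ⟨⟨-2,0,0,-2,0,0,2,-2⟩,1056,0,48⟩,
   ⟨⟨-2,0,0,-2,2,-2,0,0⟩,1056,0,0⟩,
   ⟨⟨-2,0,0,0,-2,0,-2,0⟩,800,145,225⟩,
   ⟨⟨-2,0,0,0,-2,0,0,0⟩,544,0,48⟩,
   ⟨⟨-2,0,0,0,-2,0,2,0⟩,800,145,225⟩,
   ⟨⟨-2,0,0,0,-2,2,0,-2⟩,1056,0,80⟩,
   ⟨⟨-2,0,0,0,-2,2,0,0⟩,796,26,202⟩,
   ⟨⟨-2,0,0,0,-2,2,0,2⟩,1056,0,80⟩,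
   ⟨⟨-2,0,0,0,0,-2,-2,2⟩,1056,0,0⟩,
   ⟨⟨-2,0,0,0,0,-2,0,0⟩,548,139,75⟩,
   ⟨⟨-2,0,0,0,0,-2,2,-2⟩,1056,0,0⟩,
   ⟨⟨-2,0,0,0,0,0,-2,0⟩,544,0,96⟩,
   ⟨⟨-2,0,0,0,0,0,-2,2⟩,796,26,250⟩,
   ⟨⟨-2,0,0,0,0,0,0,-2⟩,548,139,43⟩,
   ⟨⟨-2,0,0,0,0,0,0,0⟩,288,145,177⟩,
   ⟨⟨-2,0,0,0,0,0,0,2⟩,548,139,43⟩,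
   ⟨⟨-2,0,0,0,0,0,2,-2⟩,796,26,250⟩,
   ⟨⟨-2,0,0,0,0,0,2,0⟩,544,0,96⟩,
   ⟨⟨-2,0,0,0,0,2,-2,2⟩,1056,0,0⟩,
   ⟨⟨-2,0,0,0,0,2,0,0⟩,548,139,75⟩,
   ⟨⟨-2,0,0,0,0,2,2,-2⟩,1056,0,0⟩,
   ⟨⟨-2,0,0,0,2,-2,0,-2⟩,1056,0,80⟩,
   ⟨⟨-2,0,0,0,2,-2,0,0⟩,796,26,202⟩,
   ⟨⟨-2,0,0,0,2,-2,0,2⟩,1056,0,80⟩,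
   ⟨⟨-2,0,0,0,2,0,-2,0⟩,800,145,225⟩,
   ⟨⟨-2,0,0,0,2,0,0,0⟩,544,0,48⟩,
   ⟨⟨-2,0,0,0,2,0,2,0⟩,800,145,225⟩,
   ⟨⟨-2,0,0,2,-2,2,0,0⟩,1056,0,0⟩,
   ⟨⟨-2,0,0,2,0,0,-2,2⟩,1056,0,48⟩,
   ⟨⟨-2,0,0,2,0,0,0,0⟩,548,139,123⟩,
   ⟨⟨-2,0,0,2,0,0,2,-2⟩,1056,0,48⟩,
   ⟨⟨-2,0,0,2,2,-2,0,0⟩,1056,0,0⟩,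
   ⟨⟨-2,0,2,-2,0,-2,0,0⟩,1056,0,96⟩,
   ⟨⟨-2,0,2,-2,0,0,0,-2⟩,1056,0,0⟩,
   ⟨⟨-2,0,2,-2,0,0,0,0⟩,796,26,154⟩,
   ⟨⟨-2,0,2,-2,0,0,0,2⟩,1056,0,0⟩,
   ⟨⟨-2,0,2,-2,0,2,0,0⟩,1056,0,96⟩,
   ⟨⟨-2,0,2,0,-2,0,-2,0⟩,1056,0,0⟩,
   ⟨⟨-2,0,2,0,-2,0,0,0⟩,800,145,209⟩,
   ⟨⟨-2,0,2,0,-2,0,2,0⟩,1056,0,0⟩,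
   ⟨⟨-2,0,2,0,0,0,-2,0⟩,800,145,129⟩,
   ⟨⟨-2,0,2,0,0,0,0,0⟩,544,0,80⟩,
   ⟨⟨-2,0,2,0,0,0,2,0⟩,800,145,129⟩,
   ⟨⟨-2,0,2,0,2,0,-2,0⟩,1056,0,0⟩,
   ⟨⟨-2,0,2,0,2,0,0,0⟩,800,145,209⟩,
   ⟨⟨-2,0,2,0,2,0,2,0⟩,1056,0,0⟩,
   ⟨⟨-2,2,-2,0,0,-2,0,0⟩,1056,0,0⟩,
   ⟨⟨-2,2,-2,0,0,0,0,-2⟩,1056,0,96⟩,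
   ⟨⟨-2,2,-2,0,0,0,0,0⟩,796,26,250⟩,
   ⟨⟨-2,2,-2,0,0,0,0,2⟩,1056,0,96⟩,
   ⟨⟨-2,2,-2,0,0,2,0,0⟩,1056,0,0⟩,
   ⟨⟨-2,2,0,-2,-2,0,0,0⟩,1056,0,80⟩,
   ⟨⟨-2,2,0,-2,0,0,-2,0⟩,1056,0,0⟩,
   ⟨⟨-2,2,0,-2,0,0,0,0⟩,800,145,209⟩,
   ⟨⟨-2,2,0,-2,0,0,2,0⟩,1056,0,0⟩,
   ⟨⟨-2,2,0,-2,2,0,0,0⟩,1056,0,80⟩,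
   ⟨⟨-2,2,0,0,-2,0,0,-2⟩,1056,0,0⟩,
   ⟨⟨-2,2,0,0,-2,0,0,0⟩,796,26,154⟩,
   ⟨⟨-2,2,0,0,-2,0,0,2⟩,1056,0,0⟩,
   ⟨⟨-2,2,0,0,0,-2,-2,0⟩,1056,0,48⟩,
   ⟨⟨-2,2,0,0,0,-2,0,0⟩,800,145,225⟩,
   ⟨⟨-2,2,0,0,0,-2,2,0⟩,1056,0,48⟩,
   ⟨⟨-2,2,0,0,0,0,-2,0⟩,796,26,202⟩,
   ⟨⟨-2,2,0,0,0,0,0,-2⟩,800,145,129⟩,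
   ⟨⟨-2,2,0,0,0,0,0,0⟩,540,139,27⟩,
   ⟨⟨-2,2,0,0,0,0,0,2⟩,800,145,129⟩,
   ⟨⟨-2,2,0,0,0,0,2,0⟩,796,26,202⟩,
   ⟨⟨-2,2,0,0,0,2,-2,0⟩,1056,0,48⟩,
   ⟨⟨-2,2,0,0,0,2,0,0⟩,800,145,225⟩,
   ⟨⟨-2,2,0,0,0,2,2,0⟩,1056,0,48⟩,
   ⟨⟨-2,2,0,0,2,0,0,-2⟩,1056,0,0⟩,
   ⟨⟨-2,2,0,0,2,0,0,0⟩,796,26,154⟩,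
   ⟨⟨-2,2,0,0,2,0,0,2⟩,1056,0,0⟩,
   ⟨⟨-2,2,0,2,-2,0,0,0⟩,1056,0,80⟩,
   ⟨⟨-2,2,0,2,0,0,-2,0⟩,1056,0,0⟩,
   ⟨⟨-2,2,0,2,0,0,0,0⟩,800,145,209⟩,
   ⟨⟨-2,2,0,2,0,0,2,0⟩,1056,0,0⟩,
   ⟨⟨-2,2,0,2,2,0,0,0⟩,1056,0,80⟩,
   ⟨⟨-2,2,2,0,0,-2,0,0⟩,1056,0,0⟩,
   ⟨⟨-2,2,2,0,0,0,0,-2⟩,1056,0,96⟩,
   ⟨⟨-2,2,2,0,0,0,0,0⟩,796,26,250⟩,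
   ⟨⟨-2,2,2,0,0,0,0,2⟩,1056,0,96⟩,
   ⟨⟨-2,2,2,0,0,2,0,0⟩,1056,0,0⟩,
   ⟨⟨0,-2,-2,0,-2,2,0,0⟩,1056,0,48⟩,
   ⟨⟨0,-2,-2,0,0,0,-2,2⟩,1056,0,0⟩,
   ⟨⟨0,-2,-2,0,0,0,0,0⟩,548,139,75⟩,
   ⟨⟨0,-2,-2,0,0,0,2,-2⟩,1056,0,0⟩,
   ⟨⟨0,-2,-2,0,2,-2,0,0⟩,1056,0,48⟩,
   ⟨⟨0,-2,-2,2,-2,0,0,0⟩,1056,0,0⟩,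
   ⟨⟨0,-2,-2,2,0,0,-2,0⟩,1056,0,80⟩,
   ⟨⟨0,-2,-2,2,0,0,0,0⟩,800,145,129⟩,
   ⟨⟨0,-2,-2,2,0,0,2,0⟩,1056,0,80⟩,
   ⟨⟨0,-2,-2,2,2,0,0,0⟩,1056,0,0⟩,
   ⟨⟨0,-2,0,0,-2,0,-2,2⟩,1056,0,96⟩,
   ⟨⟨0,-2,0,0,-2,0,0,0⟩,548,139,43⟩,
   ⟨⟨0,-2,0,0,-2,0,2,-2⟩,1056,0,96⟩,
   ⟨⟨0,-2,0,0,-2,2,-2,0⟩,1056,0,0⟩,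
   ⟨⟨0,-2,0,0,-2,2,0,0⟩,800,145,209⟩,
   ⟨⟨0,-2,0,0,-2,2,2,0⟩,1056,0,0⟩,
   ⟨⟨0,-2,0,0,0,0,-2,0⟩,548,139,123⟩,
   ⟨⟨0,-2,0,0,0,0,-2,2⟩,800,145,225⟩,
   ⟨⟨0,-2,0,0,0,0,0,0⟩,292,26,170⟩,
   ⟨⟨0,-2,0,0,0,0,2,-2⟩,800,145,225⟩,
   ⟨⟨0,-2,0,0,0,0,2,0⟩,548,139,123⟩,
   ⟨⟨0,-2,0,0,2,-2,-2,0⟩,1056,0,0⟩,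
   ⟨⟨0,-2,0,0,2,-2,0,0⟩,800,145,209⟩,
   ⟨⟨0,-2,0,0,2,-2,2,0⟩,1056,0,0⟩,
   ⟨⟨0,-2,0,0,2,0,-2,2⟩,1056,0,96⟩,
   ⟨⟨0,-2,0,0,2,0,0,0⟩,548,139,43⟩,
   ⟨⟨0,-2,0,0,2,0,2,-2⟩,1056,0,96⟩,
   ⟨⟨0,-2,2,-2,-2,0,0,0⟩,1056,0,0⟩]

def ekChunk1 : List EK :=
  [⟨⟨0,-2,2,-2,0,0,-2,0⟩,1056,0,80⟩,
   ⟨⟨0,-2,2,-2,0,0,0,0⟩,800,145,129⟩,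
   ⟨⟨0,-2,2,-2,0,0,2,0⟩,1056,0,80⟩,
   ⟨⟨0,-2,2,-2,2,0,0,0⟩,1056,0,0⟩,
   ⟨⟨0,-2,2,0,-2,2,0,0⟩,1056,0,48⟩,
   ⟨⟨0,-2,2,0,0,0,-2,2⟩,1056,0,0⟩,
   ⟨⟨0,-2,2,0,0,0,0,0⟩,548,139,75⟩,
   ⟨⟨0,-2,2,0,0,0,2,-2⟩,1056,0,0⟩,
   ⟨⟨0,-2,2,0,2,-2,0,0⟩,1056,0,48⟩,
   ⟨⟨0,0,-4,0,0,0,0,0⟩,1056,0,0⟩,
   ⟨⟨0,0,-2,0,-2,0,-2,0⟩,800,145,177⟩,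
   ⟨⟨0,0,-2,0,-2,0,0,0⟩,544,0,96⟩,
   ⟨⟨0,0,-2,0,-2,0,2,0⟩,800,145,177⟩,
   ⟨⟨0,0,-2,0,-2,2,0,-2⟩,1056,0,0⟩,
   ⟨⟨0,0,-2,0,-2,2,0,0⟩,796,26,154⟩,
   ⟨⟨0,0,-2,0,-2,2,0,2⟩,1056,0,0⟩,
   ⟨⟨0,0,-2,0,0,-2,-2,2⟩,1056,0,80⟩,
   ⟨⟨0,0,-2,0,0,-2,0,0⟩,548,139,27⟩,
   ⟨⟨0,0,-2,0,0,-2,2,-2⟩,1056,0,80⟩,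
   ⟨⟨0,0,-2,0,0,0,-2,0⟩,544,0,48⟩,
   ⟨⟨0,0,-2,0,0,0,-2,2⟩,796,26,170⟩,
   ⟨⟨0,0,-2,0,0,0,0,-2⟩,548,139,123⟩,
   ⟨⟨0,0,-2,0,0,0,0,0⟩,288,145,225⟩,
   ⟨⟨0,0,-2,0,0,0,0,2⟩,548,139,123⟩,
   ⟨⟨0,0,-2,0,0,0,2,-2⟩,796,26,170⟩,
   ⟨⟨0,0,-2,0,0,0,2,0⟩,544,0,48⟩,
   ⟨⟨0,0,-2,0,0,2,-2,2⟩,1056,0,80⟩,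
   ⟨⟨0,0,-2,0,0,2,0,0⟩,548,139,27⟩,
   ⟨⟨0,0,-2,0,0,2,2,-2⟩,1056,0,80⟩,
   ⟨⟨0,0,-2,0,2,-2,0,-2⟩,1056,0,0⟩,
   ⟨⟨0,0,-2,0,2,-2,0,0⟩,796,26,154⟩,
   ⟨⟨0,0,-2,0,2,-2,0,2⟩,1056,0,0⟩,
   ⟨⟨0,0,-2,0,2,0,-2,0⟩,800,145,177⟩,
   ⟨⟨0,0,-2,0,2,0,0,0⟩,544,0,96⟩,
   ⟨⟨0,0,-2,0,2,0,2,0⟩,800,145,177⟩,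
   ⟨⟨0,0,-2,2,-2,0,0,-2⟩,1056,0,48⟩,
   ⟨⟨0,0,-2,2,-2,0,0,0⟩,796,26,170⟩,
   ⟨⟨0,0,-2,2,-2,0,0,2⟩,1056,0,48⟩,
   ⟨⟨0,0,-2,2,0,-2,-2,0⟩,1056,0,0⟩,
   ⟨⟨0,0,-2,2,0,-2,0,0⟩,800,145,209⟩,
   ⟨⟨0,0,-2,2,0,-2,2,0⟩,1056,0,0⟩,
   ⟨⟨0,0,-2,2,0,0,-2,0⟩,796,26,250⟩,
   ⟨⟨0,0,-2,2,0,0,0,-2⟩,800,145,177⟩,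
   ⟨⟨0,0,-2,2,0,0,0,0⟩,540,139,43⟩,
   ⟨⟨0,0,-2,2,0,0,0,2⟩,800,145,177⟩,
   ⟨⟨0,0,-2,2,0,0,2,0⟩,796,26,250⟩,
   ⟨⟨0,0,-2,2,0,2,-2,0⟩,1056,0,0⟩,
   ⟨⟨0,0,-2,2,0,2,0,0⟩,800,145,209⟩,
   ⟨⟨0,0,-2,2,0,2,2,0⟩,1056,0,0⟩,
   ⟨⟨0,0,-2,2,2,0,0,-2⟩,1056,0,48⟩,
   ⟨⟨0,0,-2,2,2,0,0,0⟩,796,26,170⟩,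
   ⟨⟨0,0,-2,2,2,0,0,2⟩,1056,0,48⟩,
   ⟨⟨0,0,0,-2,-2,0,-2,2⟩,1056,0,0⟩,
   ⟨⟨0,0,0,-2,-2,0,0,0⟩,548,139,75⟩,
   ⟨⟨0,0,0,-2,-2,0,2,-2⟩,1056,0,0⟩,
   ⟨⟨0,0,0,-2,-2,2,-2,0⟩,1056,0,96⟩,
   ⟨⟨0,0,0,-2,-2,2,0,0⟩,800,145,177⟩,
   ⟨⟨0,0,0,-2,-2,2,2,0⟩,1056,0,96⟩,
   ⟨⟨0,0,0,-2,0,0,-2,0⟩,548,139,27⟩,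
   ⟨⟨0,0,0,-2,0,0,-2,2⟩,800,145,129⟩,
   ⟨⟨0,0,0,-2,0,0,0,0⟩,292,26,202⟩,
   ⟨⟨0,0,0,-2,0,0,2,-2⟩,800,145,129⟩,
   ⟨⟨0,0,0,-2,0,0,2,0⟩,548,139,27⟩,
   ⟨⟨0,0,0,-2,2,-2,-2,0⟩,1056,0,96⟩,
   ⟨⟨0,0,0,-2,2,-2,0,0⟩,800,145,177⟩,
   ⟨⟨0,0,0,-2,2,-2,2,0⟩,1056,0,96⟩,
   ⟨⟨0,0,0,-2,2,0,-2,2⟩,1056,0,0⟩,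
   ⟨⟨0,0,0,-2,2,0,0,0⟩,548,139,75⟩,
   ⟨⟨0,0,0,-2,2,0,2,-2⟩,1056,0,0⟩,
   ⟨⟨0,0,0,0,-4,0,0,0⟩,1056,0,0⟩,
   ⟨⟨0,0,0,0,-2,0,-2,0⟩,544,0,80⟩,
   ⟨⟨0,0,0,0,-2,0,-2,2⟩,796,26,202⟩,
   ⟨⟨0,0,0,0,-2,0,0,-2⟩,548,139,27⟩,
   ⟨⟨0,0,0,0,-2,0,0,0⟩,288,145,129⟩,
   ⟨⟨0,0,0,0,-2,0,0,2⟩,548,139,27⟩,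
   ⟨⟨0,0,0,0,-2,0,2,-2⟩,796,26,202⟩,
   ⟨⟨0,0,0,0,-2,0,2,0⟩,544,0,80⟩,
   ⟨⟨0,0,0,0,-2,2,-2,0⟩,796,26,170⟩,
   ⟨⟨0,0,0,0,-2,2,0,-2⟩,800,145,225⟩,
   ⟨⟨0,0,0,0,-2,2,0,0⟩,540,139,123⟩,
   ⟨⟨0,0,0,0,-2,2,0,2⟩,800,145,225⟩,
   ⟨⟨0,0,0,0,-2,2,2,0⟩,796,26,170⟩,
   ⟨⟨0,0,0,0,0,-2,-2,0⟩,548,139,43⟩,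
   ⟨⟨0,0,0,0,0,-2,-2,2⟩,800,145,177⟩,
   ⟨⟨0,0,0,0,0,-2,0,0⟩,292,26,250⟩,
   ⟨⟨0,0,0,0,0,-2,2,-2⟩,800,145,177⟩,
   ⟨⟨0,0,0,0,0,-2,2,0⟩,548,139,43⟩,
   ⟨⟨0,0,0,0,0,0,-4,0⟩,1056,0,0⟩,
   ⟨⟨0,0,0,0,0,0,-2,0⟩,288,145,209⟩,
   ⟨⟨0,0,0,0,0,0,-2,2⟩,540,139,75⟩,
   ⟨⟨0,0,0,0,0,0,0,-2⟩,292,26,154⟩,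
   ⟨⟨0,0,0,0,0,0,0,2⟩,292,26,154⟩,
   ⟨⟨0,0,0,0,0,0,2,-2⟩,540,139,75⟩,
   ⟨⟨0,0,0,0,0,0,2,0⟩,288,145,209⟩,
   ⟨⟨0,0,0,0,0,0,4,0⟩,1056,0,0⟩,
   ⟨⟨0,0,0,0,0,2,-2,0⟩,548,139,43⟩,
   ⟨⟨0,0,0,0,0,2,-2,2⟩,800,145,177⟩,
   ⟨⟨0,0,0,0,0,2,0,0⟩,292,26,250⟩,
   ⟨⟨0,0,0,0,0,2,2,-2⟩,800,145,177⟩,
   ⟨⟨0,0,0,0,0,2,2,0⟩,548,139,43⟩,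
   ⟨⟨0,0,0,0,2,-2,-2,0⟩,796,26,170⟩,
   ⟨⟨0,0,0,0,2,-2,0,-2⟩,800,145,225⟩,
   ⟨⟨0,0,0,0,2,-2,0,0⟩,540,139,123⟩,
   ⟨⟨0,0,0,0,2,-2,0,2⟩,800,145,225⟩,
   ⟨⟨0,0,0,0,2,-2,2,0⟩,796,26,170⟩,
   ⟨⟨0,0,0,0,2,0,-2,0⟩,544,0,80⟩,
   ⟨⟨0,0,0,0,2,0,-2,2⟩,796,26,202⟩,
   ⟨⟨0,0,0,0,2,0,0,-2⟩,548,139,27⟩,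
   ⟨⟨0,0,0,0,2,0,0,0⟩,288,145,129⟩,
   ⟨⟨0,0,0,0,2,0,0,2⟩,548,139,27⟩,
   ⟨⟨0,0,0,0,2,0,2,-2⟩,796,26,202⟩,
   ⟨⟨0,0,0,0,2,0,2,0⟩,544,0,80⟩,
   ⟨⟨0,0,0,0,4,0,0,0⟩,1056,0,0⟩,
   ⟨⟨0,0,0,2,-2,0,-2,2⟩,1056,0,0⟩,
   ⟨⟨0,0,0,2,-2,0,0,0⟩,548,139,75⟩,
   ⟨⟨0,0,0,2,-2,0,2,-2⟩,1056,0,0⟩,
   ⟨⟨0,0,0,2,-2,2,-2,0⟩,1056,0,96⟩,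
   ⟨⟨0,0,0,2,-2,2,0,0⟩,800,145,177⟩,
   ⟨⟨0,0,0,2,-2,2,2,0⟩,1056,0,96⟩,
   ⟨⟨0,0,0,2,0,0,-2,0⟩,548,139,27⟩,
   ⟨⟨0,0,0,2,0,0,-2,2⟩,800,145,129⟩,
   ⟨⟨0,0,0,2,0,0,0,0⟩,292,26,202⟩,
   ⟨⟨0,0,0,2,0,0,2,-2⟩,800,145,129⟩,
   ⟨⟨0,0,0,2,0,0,2,0⟩,548,139,27⟩,
   ⟨⟨0,0,0,2,2,-2,-2,0⟩,1056,0,96⟩,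
   ⟨⟨0,0,0,2,2,-2,0,0⟩,800,145,177⟩,
   ⟨⟨0,0,0,2,2,-2,2,0⟩,1056,0,96⟩,
   ⟨⟨0,0,0,2,2,0,-2,2⟩,1056,0,0⟩,
   ⟨⟨0,0,0,2,2,0,0,0⟩,548,139,75⟩,
   ⟨⟨0,0,0,2,2,0,2,-2⟩,1056,0,0⟩]

def ekChunk2 : List EK :=
  [⟨⟨0,0,2,-2,-2,0,0,-2⟩,1056,0,48⟩,
   ⟨⟨0,0,2,-2,-2,0,0,0⟩,796,26,170⟩,
   ⟨⟨0,0,2,-2,-2,0,0,2⟩,1056,0,48⟩,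
   ⟨⟨0,0,2,-2,0,-2,-2,0⟩,1056,0,0⟩,
   ⟨⟨0,0,2,-2,0,-2,0,0⟩,800,145,209⟩,
   ⟨⟨0,0,2,-2,0,-2,2,0⟩,1056,0,0⟩,
   ⟨⟨0,0,2,-2,0,0,-2,0⟩,796,26,250⟩,
   ⟨⟨0,0,2,-2,0,0,0,-2⟩,800,145,177⟩,
   ⟨⟨0,0,2,-2,0,0,0,0⟩,540,139,43⟩,
   ⟨⟨0,0,2,-2,0,0,0,2⟩,800,145,177⟩,
   ⟨⟨0,0,2,-2,0,0,2,0⟩,796,26,250⟩,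
   ⟨⟨0,0,2,-2,0,2,-2,0⟩,1056,0,0⟩,
   ⟨⟨0,0,2,-2,0,2,0,0⟩,800,145,209⟩,
   ⟨⟨0,0,2,-2,0,2,2,0⟩,1056,0,0⟩,
   ⟨⟨0,0,2,-2,2,0,0,-2⟩,1056,0,48⟩,
   ⟨⟨0,0,2,-2,2,0,0,0⟩,796,26,170⟩,
   ⟨⟨0,0,2,-2,2,0,0,2⟩,1056,0,48⟩,
   ⟨⟨0,0,2,0,-2,0,-2,0⟩,800,145,177⟩,
   ⟨⟨0,0,2,0,-2,0,0,0⟩,544,0,96⟩,
   ⟨⟨0,0,2,0,-2,0,2,0⟩,800,145,177⟩,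
   ⟨⟨0,0,2,0,-2,2,0,-2⟩,1056,0,0⟩,
   ⟨⟨0,0,2,0,-2,2,0,0⟩,796,26,154⟩,
   ⟨⟨0,0,2,0,-2,2,0,2⟩,1056,0,0⟩,
   ⟨⟨0,0,2,0,0,-2,-2,2⟩,1056,0,80⟩,
   ⟨⟨0,0,2,0,0,-2,0,0⟩,548,139,27⟩,
   ⟨⟨0,0,2,0,0,-2,2,-2⟩,1056,0,80⟩,
   ⟨⟨0,0,2,0,0,0,-2,0⟩,544,0,48⟩,
   ⟨⟨0,0,2,0,0,0,-2,2⟩,796,26,170⟩,
   ⟨⟨0,0,2,0,0,0,0,-2⟩,548,139,123⟩,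
   ⟨⟨0,0,2,0,0,0,0,0⟩,288,145,225⟩,
   ⟨⟨0,0,2,0,0,0,0,2⟩,548,139,123⟩,
   ⟨⟨0,0,2,0,0,0,2,-2⟩,796,26,170⟩,
   ⟨⟨0,0,2,0,0,0,2,0⟩,544,0,48⟩,
   ⟨⟨0,0,2,0,0,2,-2,2⟩,1056,0,80⟩,
   ⟨⟨0,0,2,0,0,2,0,0⟩,548,139,27⟩,
   ⟨⟨0,0,2,0,0,2,2,-2⟩,1056,0,80⟩,
   ⟨⟨0,0,2,0,2,-2,0,-2⟩,1056,0,0⟩,
   ⟨⟨0,0,2,0,2,-2,0,0⟩,796,26,154⟩,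
   ⟨⟨0,0,2,0,2,-2,0,2⟩,1056,0,0⟩,
   ⟨⟨0,0,2,0,2,0,-2,0⟩,800,145,177⟩,
   ⟨⟨0,0,2,0,2,0,0,0⟩,544,0,96⟩,
   ⟨⟨0,0,2,0,2,0,2,0⟩,800,145,177⟩,
   ⟨⟨0,0,4,0,0,0,0,0⟩,1056,0,0⟩,
   ⟨⟨0,2,-2,0,-2,2,0,0⟩,1056,0,48⟩,
   ⟨⟨0,2,-2,0,0,0,-2,2⟩,1056,0,0⟩,
   ⟨⟨0,2,-2,0,0,0,0,0⟩,548,139,75⟩,
   ⟨⟨0,2,-2,0,0,0,2,-2⟩,1056,0,0⟩,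
   ⟨⟨0,2,-2,0,2,-2,0,0⟩,1056,0,48⟩,
   ⟨⟨0,2,-2,2,-2,0,0,0⟩,1056,0,0⟩,
   ⟨⟨0,2,-2,2,0,0,-2,0⟩,1056,0,80⟩,
   ⟨⟨0,2,-2,2,0,0,0,0⟩,800,145,129⟩,
   ⟨⟨0,2,-2,2,0,0,2,0⟩,1056,0,80⟩,
   ⟨⟨0,2,-2,2,2,0,0,0⟩,1056,0,0⟩,
   ⟨⟨0,2,0,0,-2,0,-2,2⟩,1056,0,96⟩,
   ⟨⟨0,2,0,0,-2,0,0,0⟩,548,139,43⟩,
   ⟨⟨0,2,0,0,-2,0,2,-2⟩,1056,0,96⟩,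
   ⟨⟨0,2,0,0,-2,2,-2,0⟩,1056,0,0⟩,
   ⟨⟨0,2,0,0,-2,2,0,0⟩,800,145,209⟩,
   ⟨⟨0,2,0,0,-2,2,2,0⟩,1056,0,0⟩,
   ⟨⟨0,2,0,0,0,0,-2,0⟩,548,139,123⟩,
   ⟨⟨0,2,0,0,0,0,-2,2⟩,800,145,225⟩,
   ⟨⟨0,2,0,0,0,0,0,0⟩,292,26,170⟩,
   ⟨⟨0,2,0,0,0,0,2,-2⟩,800,145,225⟩,
   ⟨⟨0,2,0,0,0,0,2,0⟩,548,139,123⟩,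
   ⟨⟨0,2,0,0,2,-2,-2,0⟩,1056,0,0⟩,
   ⟨⟨0,2,0,0,2,-2,0,0⟩,800,145,209⟩,
   ⟨⟨0,2,0,0,2,-2,2,0⟩,1056,0,0⟩,
   ⟨⟨0,2,0,0,2,0,-2,2⟩,1056,0,96⟩,
   ⟨⟨0,2,0,0,2,0,0,0⟩,548,139,43⟩,
   ⟨⟨0,2,0,0,2,0,2,-2⟩,1056,0,96⟩,
   ⟨⟨0,2,2,-2,-2,0,0,0⟩,1056,0,0⟩,
   ⟨⟨0,2,2,-2,0,0,-2,0⟩,1056,0,80⟩,
   ⟨⟨0,2,2,-2,0,0,0,0⟩,800,145,129⟩,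
   ⟨⟨0,2,2,-2,0,0,2,0⟩,1056,0,80⟩,
   ⟨⟨0,2,2,-2,2,0,0,0⟩,1056,0,0⟩,
   ⟨⟨0,2,2,0,-2,2,0,0⟩,1056,0,48⟩,
   ⟨⟨0,2,2,0,0,0,-2,2⟩,1056,0,0⟩,
   ⟨⟨0,2,2,0,0,0,0,0⟩,548,139,75⟩,
   ⟨⟨0,2,2,0,0,0,2,-2⟩,1056,0,0⟩,
   ⟨⟨0,2,2,0,2,-2,0,0⟩,1056,0,48⟩,
   ⟨⟨2,-2,-2,0,0,-2,0,0⟩,1056,0,0⟩,
   ⟨⟨2,-2,-2,0,0,0,0,-2⟩,1056,0,96⟩,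
   ⟨⟨2,-2,-2,0,0,0,0,0⟩,796,26,250⟩,
   ⟨⟨2,-2,-2,0,0,0,0,2⟩,1056,0,96⟩,
   ⟨⟨2,-2,-2,0,0,2,0,0⟩,1056,0,0⟩,
   ⟨⟨2,-2,0,-2,-2,0,0,0⟩,1056,0,80⟩,
   ⟨⟨2,-2,0,-2,0,0,-2,0⟩,1056,0,0⟩,
   ⟨⟨2,-2,0,-2,0,0,0,0⟩,800,145,209⟩,
   ⟨⟨2,-2,0,-2,0,0,2,0⟩,1056,0,0⟩,
   ⟨⟨2,-2,0,-2,2,0,0,0⟩,1056,0,80⟩,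
   ⟨⟨2,-2,0,0,-2,0,0,-2⟩,1056,0,0⟩,
   ⟨⟨2,-2,0,0,-2,0,0,0⟩,796,26,154⟩,
   ⟨⟨2,-2,0,0,-2,0,0,2⟩,1056,0,0⟩,
   ⟨⟨2,-2,0,0,0,-2,-2,0⟩,1056,0,48⟩,
   ⟨⟨2,-2,0,0,0,-2,0,0⟩,800,145,225⟩,
   ⟨⟨2,-2,0,0,0,-2,2,0⟩,1056,0,48⟩,
   ⟨⟨2,-2,0,0,0,0,-2,0⟩,796,26,202⟩,
   ⟨⟨2,-2,0,0,0,0,0,-2⟩,800,145,129⟩,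
   ⟨⟨2,-2,0,0,0,0,0,0⟩,540,139,27⟩,
   ⟨⟨2,-2,0,0,0,0,0,2⟩,800,145,129⟩,
   ⟨⟨2,-2,0,0,0,0,2,0⟩,796,26,202⟩,
   ⟨⟨2,-2,0,0,0,2,-2,0⟩,1056,0,48⟩,
   ⟨⟨2,-2,0,0,0,2,0,0⟩,800,145,225⟩,
   ⟨⟨2,-2,0,0,0,2,2,0⟩,1056,0,48⟩,
   ⟨⟨2,-2,0,0,2,0,0,-2⟩,1056,0,0⟩,
   ⟨⟨2,-2,0,0,2,0,0,0⟩,796,26,154⟩,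
   ⟨⟨2,-2,0,0,2,0,0,2⟩,1056,0,0⟩,
   ⟨⟨2,-2,0,2,-2,0,0,0⟩,1056,0,80⟩,
   ⟨⟨2,-2,0,2,0,0,-2,0⟩,1056,0,0⟩,
   ⟨⟨2,-2,0,2,0,0,0,0⟩,800,145,209⟩,
   ⟨⟨2,-2,0,2,0,0,2,0⟩,1056,0,0⟩,
   ⟨⟨2,-2,0,2,2,0,0,0⟩,1056,0,80⟩,
   ⟨⟨2,-2,2,0,0,-2,0,0⟩,1056,0,0⟩,
   ⟨⟨2,-2,2,0,0,0,0,-2⟩,1056,0,96⟩,
   ⟨⟨2,-2,2,0,0,0,0,0⟩,796,26,250⟩,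
   ⟨⟨2,-2,2,0,0,0,0,2⟩,1056,0,96⟩,
   ⟨⟨2,-2,2,0,0,2,0,0⟩,1056,0,0⟩,
   ⟨⟨2,0,-2,0,-2,0,-2,0⟩,1056,0,0⟩,
   ⟨⟨2,0,-2,0,-2,0,0,0⟩,800,145,209⟩,
   ⟨⟨2,0,-2,0,-2,0,2,0⟩,1056,0,0⟩,
   ⟨⟨2,0,-2,0,0,0,-2,0⟩,800,145,129⟩,
   ⟨⟨2,0,-2,0,0,0,0,0⟩,544,0,80⟩,
   ⟨⟨2,0,-2,0,0,0,2,0⟩,800,145,129⟩,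
   ⟨⟨2,0,-2,0,2,0,-2,0⟩,1056,0,0⟩,
   ⟨⟨2,0,-2,0,2,0,0,0⟩,800,145,209⟩,
   ⟨⟨2,0,-2,0,2,0,2,0⟩,1056,0,0⟩,
   ⟨⟨2,0,-2,2,0,-2,0,0⟩,1056,0,96⟩,
   ⟨⟨2,0,-2,2,0,0,0,-2⟩,1056,0,0⟩,
   ⟨⟨2,0,-2,2,0,0,0,0⟩,796,26,154⟩,
   ⟨⟨2,0,-2,2,0,0,0,2⟩,1056,0,0⟩]

def ekChunk3 : List EK :=
  [⟨⟨2,0,-2,2,0,2,0,0⟩,1056,0,96⟩,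
   ⟨⟨2,0,0,-2,-2,2,0,0⟩,1056,0,0⟩,
   ⟨⟨2,0,0,-2,0,0,-2,2⟩,1056,0,48⟩,
   ⟨⟨2,0,0,-2,0,0,0,0⟩,548,139,123⟩,
   ⟨⟨2,0,0,-2,0,0,2,-2⟩,1056,0,48⟩,
   ⟨⟨2,0,0,-2,2,-2,0,0⟩,1056,0,0⟩,
   ⟨⟨2,0,0,0,-2,0,-2,0⟩,800,145,225⟩,
   ⟨⟨2,0,0,0,-2,0,0,0⟩,544,0,48⟩,
   ⟨⟨2,0,0,0,-2,0,2,0⟩,800,145,225⟩,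
   ⟨⟨2,0,0,0,-2,2,0,-2⟩,1056,0,80⟩,
   ⟨⟨2,0,0,0,-2,2,0,0⟩,796,26,202⟩,
   ⟨⟨2,0,0,0,-2,2,0,2⟩,1056,0,80⟩,
   ⟨⟨2,0,0,0,0,-2,-2,2⟩,1056,0,0⟩,
   ⟨⟨2,0,0,0,0,-2,0,0⟩,548,139,75⟩,
   ⟨⟨2,0,0,0,0,-2,2,-2⟩,1056,0,0⟩,
   ⟨⟨2,0,0,0,0,0,-2,0⟩,544,0,96⟩,
   ⟨⟨2,0,0,0,0,0,-2,2⟩,796,26,250⟩,
   ⟨⟨2,0,0,0,0,0,0,-2⟩,548,139,43⟩,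
   ⟨⟨2,0,0,0,0,0,0,0⟩,288,145,177⟩,
   ⟨⟨2,0,0,0,0,0,0,2⟩,548,139,43⟩,
   ⟨⟨2,0,0,0,0,0,2,-2⟩,796,26,250⟩,
   ⟨⟨2,0,0,0,0,0,2,0⟩,544,0,96⟩,
   ⟨⟨2,0,0,0,0,2,-2,2⟩,1056,0,0⟩,
   ⟨⟨2,0,0,0,0,2,0,0⟩,548,139,75⟩,
   ⟨⟨2,0,0,0,0,2,2,-2⟩,1056,0,0⟩,
   ⟨⟨2,0,0,0,2,-2,0,-2⟩,1056,0,80⟩,
   ⟨⟨2,0,0,0,2,-2,0,0⟩,796,26,202⟩,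
   ⟨⟨2,0,0,0,2,-2,0,2⟩,1056,0,80⟩,
   ⟨⟨2,0,0,0,2,0,-2,0⟩,800,145,225⟩,
   ⟨⟨2,0,0,0,2,0,0,0⟩,544,0,48⟩,
   ⟨⟨2,0,0,0,2,0,2,0⟩,800,145,225⟩,
   ⟨⟨2,0,0,2,-2,2,0,0⟩,1056,0,0⟩,
   ⟨⟨2,0,0,2,0,0,-2,2⟩,1056,0,48⟩,
   ⟨⟨2,0,0,2,0,0,0,0⟩,548,139,123⟩,
   ⟨⟨2,0,0,2,0,0,2,-2⟩,1056,0,48⟩,
   ⟨⟨2,0,0,2,2,-2,0,0⟩,1056,0,0⟩,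
   ⟨⟨2,0,2,-2,0,-2,0,0⟩,1056,0,96⟩,
   ⟨⟨2,0,2,-2,0,0,0,-2⟩,1056,0,0⟩,
   ⟨⟨2,0,2,-2,0,0,0,0⟩,796,26,154⟩,
   ⟨⟨2,0,2,-2,0,0,0,2⟩,1056,0,0⟩,
   ⟨⟨2,0,2,-2,0,2,0,0⟩,1056,0,96⟩,
   ⟨⟨2,0,2,0,-2,0,-2,0⟩,1056,0,0⟩,
   ⟨⟨2,0,2,0,-2,0,0,0⟩,800,145,209⟩,
   ⟨⟨2,0,2,0,-2,0,2,0⟩,1056,0,0⟩,
   ⟨⟨2,0,2,0,0,0,-2,0⟩,800,145,129⟩,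
   ⟨⟨2,0,2,0,0,0,0,0⟩,544,0,80⟩,
   ⟨⟨2,0,2,0,0,0,2,0⟩,800,145,129⟩,
   ⟨⟨2,0,2,0,2,0,-2,0⟩,1056,0,0⟩,
   ⟨⟨2,0,2,0,2,0,0,0⟩,800,145,209⟩,
   ⟨⟨2,0,2,0,2,0,2,0⟩,1056,0,0⟩,
   ⟨⟨4,0,0,0,0,0,0,0⟩,1056,0,0⟩,
   ⟨⟨-2,-1,-3,1,-1,0,0,0⟩,1056,22,0⟩,
   ⟨⟨-2,-1,-3,1,1,0,0,0⟩,1056,135,129⟩,
   ⟨⟨-2,-1,-1,1,-1,0,-2,2⟩,1056,12,170⟩,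
   ⟨⟨-2,-1,-1,1,-1,0,0,0⟩,548,135,225⟩,
   ⟨⟨-2,-1,-1,1,-1,0,2,-2⟩,1056,12,170⟩,
   ⟨⟨-2,-1,-1,1,1,0,-2,2⟩,1056,157,43⟩,
   ⟨⟨-2,-1,-1,1,1,0,0,0⟩,548,22,96⟩,
   ⟨⟨-2,-1,-1,1,1,0,2,-2⟩,1056,157,43⟩,
   ⟨⟨-2,-1,1,-1,-1,0,-2,2⟩,1056,135,129⟩,
   ⟨⟨-2,-1,1,-1,-1,0,0,0⟩,548,12,202⟩,
   ⟨⟨-2,-1,1,-1,-1,0,2,-2⟩,1056,135,129⟩,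
   ⟨⟨-2,-1,1,-1,1,0,-2,2⟩,1056,22,0⟩,
   ⟨⟨-2,-1,1,-1,1,0,0,0⟩,548,157,75⟩,
   ⟨⟨-2,-1,1,-1,1,0,2,-2⟩,1056,22,0⟩,
   ⟨⟨-2,-1,3,-1,-1,0,0,0⟩,1056,157,43⟩,
   ⟨⟨-2,-1,3,-1,1,0,0,0⟩,1056,12,170⟩,
   ⟨⟨-2,1,-1,-1,-3,0,0,0⟩,1056,22,0⟩,
   ⟨⟨-2,1,-1,-1,-1,0,-2,0⟩,800,22,80⟩,
   ⟨⟨-2,1,-1,-1,-1,0,0,0⟩,544,135,129⟩,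
   ⟨⟨-2,1,-1,-1,-1,0,2,0⟩,800,22,80⟩,
   ⟨⟨-2,1,-1,-1,-1,2,-2,0⟩,1056,12,170⟩,
   ⟨⟨-2,1,-1,-1,-1,2,0,0⟩,800,157,123⟩,
   ⟨⟨-2,1,-1,-1,-1,2,2,0⟩,1056,12,170⟩,
   ⟨⟨-2,1,-1,-1,1,-2,-2,0⟩,1056,157,43⟩,
   ⟨⟨-2,1,-1,-1,1,-2,0,0⟩,800,12,250⟩,
   ⟨⟨-2,1,-1,-1,1,-2,2,0⟩,1056,157,43⟩,
   ⟨⟨-2,1,-1,-1,1,0,-2,0⟩,800,135,209⟩,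
   ⟨⟨-2,1,-1,-1,1,0,0,0⟩,544,22,0⟩,
   ⟨⟨-2,1,-1,-1,1,0,2,0⟩,800,135,209⟩,
   ⟨⟨-2,1,-1,-1,3,0,0,0⟩,1056,135,129⟩,
   ⟨⟨-2,1,-1,1,-1,0,-2,0⟩,796,12,154⟩,
   ⟨⟨-2,1,-1,1,-1,0,0,-2⟩,800,135,209⟩,
   ⟨⟨-2,1,-1,1,-1,0,0,0⟩,540,157,75⟩,
   ⟨⟨-2,1,-1,1,-1,0,0,2⟩,800,135,209⟩,
   ⟨⟨-2,1,-1,1,-1,0,2,0⟩,796,12,154⟩,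
   ⟨⟨-2,1,-1,1,-1,2,0,-2⟩,1056,157,43⟩,
   ⟨⟨-2,1,-1,1,-1,2,0,0⟩,796,135,177⟩,
   ⟨⟨-2,1,-1,1,-1,2,0,2⟩,1056,157,43⟩,
   ⟨⟨-2,1,-1,1,1,-2,0,-2⟩,1056,12,170⟩,
   ⟨⟨-2,1,-1,1,1,-2,0,0⟩,796,22,48⟩,
   ⟨⟨-2,1,-1,1,1,-2,0,2⟩,1056,12,170⟩,
   ⟨⟨-2,1,-1,1,1,0,-2,0⟩,796,157,27⟩,
   ⟨⟨-2,1,-1,1,1,0,0,-2⟩,800,22,80⟩,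
   ⟨⟨-2,1,-1,1,1,0,0,0⟩,540,12,202⟩,
   ⟨⟨-2,1,-1,1,1,0,0,2⟩,800,22,80⟩,
   ⟨⟨-2,1,-1,1,1,0,2,0⟩,796,157,27⟩,
   ⟨⟨-2,1,-1,3,-1,0,0,0⟩,1056,135,129⟩,
   ⟨⟨-2,1,-1,3,1,0,0,0⟩,1056,22,0⟩,
   ⟨⟨-2,1,1,-3,-1,0,0,0⟩,1056,12,170⟩,
   ⟨⟨-2,1,1,-3,1,0,0,0⟩,1056,157,43⟩,
   ⟨⟨-2,1,1,-1,-1,0,-2,0⟩,796,135,177⟩,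
   ⟨⟨-2,1,1,-1,-1,0,0,-2⟩,800,12,250⟩,
   ⟨⟨-2,1,1,-1,-1,0,0,0⟩,540,22,96⟩,
   ⟨⟨-2,1,1,-1,-1,0,0,2⟩,800,12,250⟩,
   ⟨⟨-2,1,1,-1,-1,0,2,0⟩,796,135,177⟩,
   ⟨⟨-2,1,1,-1,-1,2,0,-2⟩,1056,22,0⟩,
   ⟨⟨-2,1,1,-1,-1,2,0,0⟩,796,12,154⟩,
   ⟨⟨-2,1,1,-1,-1,2,0,2⟩,1056,22,0⟩,
   ⟨⟨-2,1,1,-1,1,-2,0,-2⟩,1056,135,129⟩,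
   ⟨⟨-2,1,1,-1,1,-2,0,0⟩,796,157,27⟩,
   ⟨⟨-2,1,1,-1,1,-2,0,2⟩,1056,135,129⟩,
   ⟨⟨-2,1,1,-1,1,0,-2,0⟩,796,22,48⟩,
   ⟨⟨-2,1,1,-1,1,0,0,-2⟩,800,157,123⟩,
   ⟨⟨-2,1,1,-1,1,0,0,0⟩,540,135,225⟩,
   ⟨⟨-2,1,1,-1,1,0,0,2⟩,800,157,123⟩,
   ⟨⟨-2,1,1,-1,1,0,2,0⟩,796,22,48⟩,
   ⟨⟨-2,1,1,1,-3,0,0,0⟩,1056,157,43⟩,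
   ⟨⟨-2,1,1,1,-1,0,-2,0⟩,800,157,123⟩,
   ⟨⟨-2,1,1,1,-1,0,0,0⟩,544,12,170⟩,
   ⟨⟨-2,1,1,1,-1,0,2,0⟩,800,157,123⟩,
   ⟨⟨-2,1,1,1,-1,2,-2,0⟩,1056,135,129⟩,
   ⟨⟨-2,1,1,1,-1,2,0,0⟩,800,22,80⟩,
   ⟨⟨-2,1,1,1,-1,2,2,0⟩,1056,135,129⟩,
   ⟨⟨-2,1,1,1,1,-2,-2,0⟩,1056,22,0⟩,
   ⟨⟨-2,1,1,1,1,-2,0,0⟩,800,135,209⟩,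
   ⟨⟨-2,1,1,1,1,-2,2,0⟩,1056,22,0⟩,
   ⟨⟨-2,1,1,1,1,0,-2,0⟩,800,12,250⟩,
   ⟨⟨-2,1,1,1,1,0,0,0⟩,544,157,43⟩,
   ⟨⟨-2,1,1,1,1,0,2,0⟩,800,12,250⟩]

def ekChunk4 : List EK :=
  [⟨⟨-2,1,1,1,3,0,0,0⟩,1056,12,170⟩,
   ⟨⟨-2,3,-1,-1,-1,0,0,0⟩,1056,157,43⟩,
   ⟨⟨-2,3,-1,-1,1,0,0,0⟩,1056,12,170⟩,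
   ⟨⟨-2,3,1,1,-1,0,0,0⟩,1056,22,0⟩,
   ⟨⟨-2,3,1,1,1,0,0,0⟩,1056,135,129⟩,
   ⟨⟨0,-1,-3,1,-1,0,0,-2⟩,1056,157,43⟩,
   ⟨⟨0,-1,-3,1,-1,0,0,0⟩,796,135,177⟩,
   ⟨⟨0,-1,-3,1,-1,0,0,2⟩,1056,157,43⟩,
   ⟨⟨0,-1,-3,1,1,0,0,-2⟩,1056,12,170⟩,
   ⟨⟨0,-1,-3,1,1,0,0,0⟩,796,22,48⟩,
   ⟨⟨0,-1,-3,1,1,0,0,2⟩,1056,12,170⟩,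
   ⟨⟨0,-1,-1,-1,-1,0,-2,0⟩,548,157,75⟩,
   ⟨⟨0,-1,-1,-1,-1,0,-2,2⟩,800,135,209⟩,
   ⟨⟨0,-1,-1,-1,-1,0,0,0⟩,292,12,154⟩,
   ⟨⟨0,-1,-1,-1,-1,0,2,-2⟩,800,135,209⟩,
   ⟨⟨0,-1,-1,-1,-1,0,2,0⟩,548,157,75⟩,
   ⟨⟨0,-1,-1,-1,-1,2,-2,2⟩,1056,157,43⟩,
   ⟨⟨0,-1,-1,-1,-1,2,0,0⟩,548,22,96⟩,
   ⟨⟨0,-1,-1,-1,-1,2,2,-2⟩,1056,157,43⟩,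
   ⟨⟨0,-1,-1,-1,1,-2,-2,2⟩,1056,12,170⟩,
   ⟨⟨0,-1,-1,-1,1,-2,0,0⟩,548,135,225⟩,
   ⟨⟨0,-1,-1,-1,1,-2,2,-2⟩,1056,12,170⟩,
   ⟨⟨0,-1,-1,-1,1,0,-2,0⟩,548,12,202⟩,
   ⟨⟨0,-1,-1,-1,1,0,-2,2⟩,800,22,80⟩,
   ⟨⟨0,-1,-1,-1,1,0,0,0⟩,292,157,27⟩,
   ⟨⟨0,-1,-1,-1,1,0,2,-2⟩,800,22,80⟩,
   ⟨⟨0,-1,-1,-1,1,0,2,0⟩,548,12,202⟩,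
   ⟨⟨0,-1,-1,1,-3,0,-2,0⟩,1056,22,0⟩,
   ⟨⟨0,-1,-1,1,-3,0,0,0⟩,800,135,209⟩,
   ⟨⟨0,-1,-1,1,-3,0,2,0⟩,1056,22,0⟩,
   ⟨⟨0,-1,-1,1,-1,0,-2,0⟩,544,135,129⟩,
   ⟨⟨0,-1,-1,1,-1,0,-2,2⟩,796,157,27⟩,
   ⟨⟨0,-1,-1,1,-1,0,0,-2⟩,548,12,202⟩,
   ⟨⟨0,-1,-1,1,-1,0,0,0⟩,288,22,80⟩,
   ⟨⟨0,-1,-1,1,-1,0,0,2⟩,548,12,202⟩,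
   ⟨⟨0,-1,-1,1,-1,0,2,-2⟩,796,157,27⟩,
   ⟨⟨0,-1,-1,1,-1,0,2,0⟩,544,135,129⟩,
   ⟨⟨0,-1,-1,1,-1,2,-2,0⟩,800,157,123⟩,
   ⟨⟨0,-1,-1,1,-1,2,0,0⟩,544,12,170⟩,
   ⟨⟨0,-1,-1,1,-1,2,2,0⟩,800,157,123⟩,
   ⟨⟨0,-1,-1,1,1,-2,-2,0⟩,800,12,250⟩,
   ⟨⟨0,-1,-1,1,1,-2,0,0⟩,544,157,43⟩,
   ⟨⟨0,-1,-1,1,1,-2,2,0⟩,800,12,250⟩,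
   ⟨⟨0,-1,-1,1,1,0,-2,0⟩,544,22,0⟩,
   ⟨⟨0,-1,-1,1,1,0,-2,2⟩,796,12,154⟩,
   ⟨⟨0,-1,-1,1,1,0,0,-2⟩,548,157,75⟩,
   ⟨⟨0,-1,-1,1,1,0,0,0⟩,288,135,209⟩,
   ⟨⟨0,-1,-1,1,1,0,0,2⟩,548,157,75⟩,
   ⟨⟨0,-1,-1,1,1,0,2,-2⟩,796,12,154⟩,
   ⟨⟨0,-1,-1,1,1,0,2,0⟩,544,22,0⟩,
   ⟨⟨0,-1,-1,1,3,0,-2,0⟩,1056,135,129⟩,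
   ⟨⟨0,-1,-1,1,3,0,0,0⟩,800,22,80⟩,
   ⟨⟨0,-1,-1,1,3,0,2,0⟩,1056,135,129⟩,
   ⟨⟨0,-1,1,-1,-3,0,-2,0⟩,1056,157,43⟩,
   ⟨⟨0,-1,1,-1,-3,0,0,0⟩,800,12,250⟩,
   ⟨⟨0,-1,1,-1,-3,0,2,0⟩,1056,157,43⟩,
   ⟨⟨0,-1,1,-1,-1,0,-2,0⟩,544,12,170⟩,
   ⟨⟨0,-1,1,-1,-1,0,-2,2⟩,796,22,48⟩,
   ⟨⟨0,-1,1,-1,-1,0,0,-2⟩,548,135,225⟩,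
   ⟨⟨0,-1,1,-1,-1,0,0,0⟩,288,157,123⟩,
   ⟨⟨0,-1,1,-1,-1,0,0,2⟩,548,135,225⟩,
   ⟨⟨0,-1,1,-1,-1,0,2,-2⟩,796,22,48⟩,
   ⟨⟨0,-1,1,-1,-1,0,2,0⟩,544,12,170⟩,
   ⟨⟨0,-1,1,-1,-1,2,-2,0⟩,800,22,80⟩,
   ⟨⟨0,-1,1,-1,-1,2,0,0⟩,544,135,129⟩,
   ⟨⟨0,-1,1,-1,-1,2,2,0⟩,800,22,80⟩,
   ⟨⟨0,-1,1,-1,1,-2,-2,0⟩,800,135,209⟩,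
   ⟨⟨0,-1,1,-1,1,-2,0,0⟩,544,22,0⟩,
   ⟨⟨0,-1,1,-1,1,-2,2,0⟩,800,135,209⟩,
   ⟨⟨0,-1,1,-1,1,0,-2,0⟩,544,157,43⟩,
   ⟨⟨0,-1,1,-1,1,0,-2,2⟩,796,135,177⟩,
   ⟨⟨0,-1,1,-1,1,0,0,-2⟩,548,22,96⟩,
   ⟨⟨0,-1,1,-1,1,0,0,0⟩,288,12,250⟩,
   ⟨⟨0,-1,1,-1,1,0,0,2⟩,548,22,96⟩,
   ⟨⟨0,-1,1,-1,1,0,2,-2⟩,796,135,177⟩,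
   ⟨⟨0,-1,1,-1,1,0,2,0⟩,544,157,43⟩,
   ⟨⟨0,-1,1,-1,3,0,-2,0⟩,1056,12,170⟩,
   ⟨⟨0,-1,1,-1,3,0,0,0⟩,800,157,123⟩,
   ⟨⟨0,-1,1,-1,3,0,2,0⟩,1056,12,170⟩,
   ⟨⟨0,-1,1,1,-1,0,-2,0⟩,548,22,96⟩,
   ⟨⟨0,-1,1,1,-1,0,-2,2⟩,800,12,250⟩,
   ⟨⟨0,-1,1,1,-1,0,0,0⟩,292,135,177⟩,
   ⟨⟨0,-1,1,1,-1,0,2,-2⟩,800,12,250⟩,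
   ⟨⟨0,-1,1,1,-1,0,2,0⟩,548,22,96⟩,
   ⟨⟨0,-1,1,1,-1,2,-2,2⟩,1056,22,0⟩,
   ⟨⟨0,-1,1,1,-1,2,0,0⟩,548,157,75⟩,
   ⟨⟨0,-1,1,1,-1,2,2,-2⟩,1056,22,0⟩,
   ⟨⟨0,-1,1,1,1,-2,-2,2⟩,1056,135,129⟩,
   ⟨⟨0,-1,1,1,1,-2,0,0⟩,548,12,202⟩,
   ⟨⟨0,-1,1,1,1,-2,2,-2⟩,1056,135,129⟩,
   ⟨⟨0,-1,1,1,1,0,-2,0⟩,548,135,225⟩,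
   ⟨⟨0,-1,1,1,1,0,-2,2⟩,800,157,123⟩,
   ⟨⟨0,-1,1,1,1,0,0,0⟩,292,22,48⟩,
   ⟨⟨0,-1,1,1,1,0,2,-2⟩,800,157,123⟩,
   ⟨⟨0,-1,1,1,1,0,2,0⟩,548,135,225⟩,
   ⟨⟨0,-1,3,-1,-1,0,0,-2⟩,1056,22,0⟩,
   ⟨⟨0,-1,3,-1,-1,0,0,0⟩,796,12,154⟩,
   ⟨⟨0,-1,3,-1,-1,0,0,2⟩,1056,22,0⟩,
   ⟨⟨0,-1,3,-1,1,0,0,-2⟩,1056,135,129⟩,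
   ⟨⟨0,-1,3,-1,1,0,0,0⟩,796,157,27⟩,
   ⟨⟨0,-1,3,-1,1,0,0,2⟩,1056,135,129⟩,
   ⟨⟨0,1,-3,1,-1,0,0,-2⟩,1056,135,129⟩,
   ⟨⟨0,1,-3,1,-1,0,0,0⟩,796,157,27⟩,
   ⟨⟨0,1,-3,1,-1,0,0,2⟩,1056,135,129⟩,
   ⟨⟨0,1,-3,1,1,0,0,-2⟩,1056,22,0⟩,
   ⟨⟨0,1,-3,1,1,0,0,0⟩,796,12,154⟩,
   ⟨⟨0,1,-3,1,1,0,0,2⟩,1056,22,0⟩,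
   ⟨⟨0,1,-1,-1,-1,0,-2,0⟩,548,135,225⟩,
   ⟨⟨0,1,-1,-1,-1,0,-2,2⟩,800,157,123⟩,
   ⟨⟨0,1,-1,-1,-1,0,0,0⟩,292,22,48⟩,
   ⟨⟨0,1,-1,-1,-1,0,2,-2⟩,800,157,123⟩,
   ⟨⟨0,1,-1,-1,-1,0,2,0⟩,548,135,225⟩,
   ⟨⟨0,1,-1,-1,-1,2,-2,2⟩,1056,135,129⟩,
   ⟨⟨0,1,-1,-1,-1,2,0,0⟩,548,12,202⟩,
   ⟨⟨0,1,-1,-1,-1,2,2,-2⟩,1056,135,129⟩,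
   ⟨⟨0,1,-1,-1,1,-2,-2,2⟩,1056,22,0⟩,
   ⟨⟨0,1,-1,-1,1,-2,0,0⟩,548,157,75⟩,
   ⟨⟨0,1,-1,-1,1,-2,2,-2⟩,1056,22,0⟩,
   ⟨⟨0,1,-1,-1,1,0,-2,0⟩,548,22,96⟩,
   ⟨⟨0,1,-1,-1,1,0,-2,2⟩,800,12,250⟩,
   ⟨⟨0,1,-1,-1,1,0,0,0⟩,292,135,177⟩,
   ⟨⟨0,1,-1,-1,1,0,2,-2⟩,800,12,250⟩,
   ⟨⟨0,1,-1,-1,1,0,2,0⟩,548,22,96⟩,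
   ⟨⟨0,1,-1,1,-3,0,-2,0⟩,1056,12,170⟩,
   ⟨⟨0,1,-1,1,-3,0,0,0⟩,800,157,123⟩,
   ⟨⟨0,1,-1,1,-3,0,2,0⟩,1056,12,170⟩,
   ⟨⟨0,1,-1,1,-1,0,-2,0⟩,544,157,43⟩,
   ⟨⟨0,1,-1,1,-1,0,-2,2⟩,796,135,177⟩,
   ⟨⟨0,1,-1,1,-1,0,0,-2⟩,548,22,96⟩,
   ⟨⟨0,1,-1,1,-1,0,0,0⟩,288,12,250⟩]

def ekChunk5 : List EK :=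
  [⟨⟨0,1,-1,1,-1,0,0,2⟩,548,22,96⟩,
   ⟨⟨0,1,-1,1,-1,0,2,-2⟩,796,135,177⟩,
   ⟨⟨0,1,-1,1,-1,0,2,0⟩,544,157,43⟩,
   ⟨⟨0,1,-1,1,-1,2,-2,0⟩,800,135,209⟩,
   ⟨⟨0,1,-1,1,-1,2,0,0⟩,544,22,0⟩,
   ⟨⟨0,1,-1,1,-1,2,2,0⟩,800,135,209⟩,
   ⟨⟨0,1,-1,1,1,-2,-2,0⟩,800,22,80⟩,
   ⟨⟨0,1,-1,1,1,-2,0,0⟩,544,135,129⟩,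
   ⟨⟨0,1,-1,1,1,-2,2,0⟩,800,22,80⟩,
   ⟨⟨0,1,-1,1,1,0,-2,0⟩,544,12,170⟩,
   ⟨⟨0,1,-1,1,1,0,-2,2⟩,796,22,48⟩,
   ⟨⟨0,1,-1,1,1,0,0,-2⟩,548,135,225⟩,
   ⟨⟨0,1,-1,1,1,0,0,0⟩,288,157,123⟩,
   ⟨⟨0,1,-1,1,1,0,0,2⟩,548,135,225⟩,
   ⟨⟨0,1,-1,1,1,0,2,-2⟩,796,22,48⟩,
   ⟨⟨0,1,-1,1,1,0,2,0⟩,544,12,170⟩,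
   ⟨⟨0,1,-1,1,3,0,-2,0⟩,1056,157,43⟩,
   ⟨⟨0,1,-1,1,3,0,0,0⟩,800,12,250⟩,
   ⟨⟨0,1,-1,1,3,0,2,0⟩,1056,157,43⟩,
   ⟨⟨0,1,1,-1,-3,0,-2,0⟩,1056,135,129⟩,
   ⟨⟨0,1,1,-1,-3,0,0,0⟩,800,22,80⟩,
   ⟨⟨0,1,1,-1,-3,0,2,0⟩,1056,135,129⟩,
   ⟨⟨0,1,1,-1,-1,0,-2,0⟩,544,22,0⟩,
   ⟨⟨0,1,1,-1,-1,0,-2,2⟩,796,12,154⟩,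
   ⟨⟨0,1,1,-1,-1,0,0,-2⟩,548,157,75⟩,
   ⟨⟨0,1,1,-1,-1,0,0,0⟩,288,135,209⟩,
   ⟨⟨0,1,1,-1,-1,0,0,2⟩,548,157,75⟩,
   ⟨⟨0,1,1,-1,-1,0,2,-2⟩,796,12,154⟩,
   ⟨⟨0,1,1,-1,-1,0,2,0⟩,544,22,0⟩,
   ⟨⟨0,1,1,-1,-1,2,-2,0⟩,800,12,250⟩,
   ⟨⟨0,1,1,-1,-1,2,0,0⟩,544,157,43⟩,
   ⟨⟨0,1,1,-1,-1,2,2,0⟩,800,12,250⟩,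
   ⟨⟨0,1,1,-1,1,-2,-2,0⟩,800,157,123⟩,
   ⟨⟨0,1,1,-1,1,-2,0,0⟩,544,12,170⟩,
   ⟨⟨0,1,1,-1,1,-2,2,0⟩,800,157,123⟩,
   ⟨⟨0,1,1,-1,1,0,-2,0⟩,544,135,129⟩,
   ⟨⟨0,1,1,-1,1,0,-2,2⟩,796,157,27⟩,
   ⟨⟨0,1,1,-1,1,0,0,-2⟩,548,12,202⟩,
   ⟨⟨0,1,1,-1,1,0,0,0⟩,288,22,80⟩,
   ⟨⟨0,1,1,-1,1,0,0,2⟩,548,12,202⟩,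
   ⟨⟨0,1,1,-1,1,0,2,-2⟩,796,157,27⟩,
   ⟨⟨0,1,1,-1,1,0,2,0⟩,544,135,129⟩,
   ⟨⟨0,1,1,-1,3,0,-2,0⟩,1056,22,0⟩,
   ⟨⟨0,1,1,-1,3,0,0,0⟩,800,135,209⟩,
   ⟨⟨0,1,1,-1,3,0,2,0⟩,1056,22,0⟩,
   ⟨⟨0,1,1,1,-1,0,-2,0⟩,548,12,202⟩,
   ⟨⟨0,1,1,1,-1,0,-2,2⟩,800,22,80⟩,
   ⟨⟨0,1,1,1,-1,0,0,0⟩,292,157,27⟩,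
   ⟨⟨0,1,1,1,-1,0,2,-2⟩,800,22,80⟩,
   ⟨⟨0,1,1,1,-1,0,2,0⟩,548,12,202⟩,
   ⟨⟨0,1,1,1,-1,2,-2,2⟩,1056,12,170⟩,
   ⟨⟨0,1,1,1,-1,2,0,0⟩,548,135,225⟩,
   ⟨⟨0,1,1,1,-1,2,2,-2⟩,1056,12,170⟩,
   ⟨⟨0,1,1,1,1,-2,-2,2⟩,1056,157,43⟩,
   ⟨⟨0,1,1,1,1,-2,0,0⟩,548,22,96⟩,
   ⟨⟨0,1,1,1,1,-2,2,-2⟩,1056,157,43⟩,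
   ⟨⟨0,1,1,1,1,0,-2,0⟩,548,157,75⟩,
   ⟨⟨0,1,1,1,1,0,-2,2⟩,800,135,209⟩,
   ⟨⟨0,1,1,1,1,0,0,0⟩,292,12,154⟩,
   ⟨⟨0,1,1,1,1,0,2,-2⟩,800,135,209⟩,
   ⟨⟨0,1,1,1,1,0,2,0⟩,548,157,75⟩,
   ⟨⟨0,1,3,-1,-1,0,0,-2⟩,1056,12,170⟩,
   ⟨⟨0,1,3,-1,-1,0,0,0⟩,796,22,48⟩,
   ⟨⟨0,1,3,-1,-1,0,0,2⟩,1056,12,170⟩,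
   ⟨⟨0,1,3,-1,1,0,0,-2⟩,1056,157,43⟩,
   ⟨⟨0,1,3,-1,1,0,0,0⟩,796,135,177⟩,
   ⟨⟨0,1,3,-1,1,0,0,2⟩,1056,157,43⟩,
   ⟨⟨2,-3,-1,-1,-1,0,0,0⟩,1056,135,129⟩,
   ⟨⟨2,-3,-1,-1,1,0,0,0⟩,1056,22,0⟩,
   ⟨⟨2,-3,1,1,-1,0,0,0⟩,1056,12,170⟩,
   ⟨⟨2,-3,1,1,1,0,0,0⟩,1056,157,43⟩,
   ⟨⟨2,-1,-1,-1,-3,0,0,0⟩,1056,12,170⟩,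
   ⟨⟨2,-1,-1,-1,-1,0,-2,0⟩,800,12,250⟩,
   ⟨⟨2,-1,-1,-1,-1,0,0,0⟩,544,157,43⟩,
   ⟨⟨2,-1,-1,-1,-1,0,2,0⟩,800,12,250⟩,
   ⟨⟨2,-1,-1,-1,-1,2,-2,0⟩,1056,22,0⟩,
   ⟨⟨2,-1,-1,-1,-1,2,0,0⟩,800,135,209⟩,
   ⟨⟨2,-1,-1,-1,-1,2,2,0⟩,1056,22,0⟩,
   ⟨⟨2,-1,-1,-1,1,-2,-2,0⟩,1056,135,129⟩,
   ⟨⟨2,-1,-1,-1,1,-2,0,0⟩,800,22,80⟩,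
   ⟨⟨2,-1,-1,-1,1,-2,2,0⟩,1056,135,129⟩,
   ⟨⟨2,-1,-1,-1,1,0,-2,0⟩,800,157,123⟩,
   ⟨⟨2,-1,-1,-1,1,0,0,0⟩,544,12,170⟩,
   ⟨⟨2,-1,-1,-1,1,0,2,0⟩,800,157,123⟩,
   ⟨⟨2,-1,-1,-1,3,0,0,0⟩,1056,157,43⟩,
   ⟨⟨2,-1,-1,1,-1,0,-2,0⟩,796,22,48⟩,
   ⟨⟨2,-1,-1,1,-1,0,0,-2⟩,800,157,123⟩,
   ⟨⟨2,-1,-1,1,-1,0,0,0⟩,540,135,225⟩,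
   ⟨⟨2,-1,-1,1,-1,0,0,2⟩,800,157,123⟩,
   ⟨⟨2,-1,-1,1,-1,0,2,0⟩,796,22,48⟩,
   ⟨⟨2,-1,-1,1,-1,2,0,-2⟩,1056,135,129⟩,
   ⟨⟨2,-1,-1,1,-1,2,0,0⟩,796,157,27⟩,
   ⟨⟨2,-1,-1,1,-1,2,0,2⟩,1056,135,129⟩,
   ⟨⟨2,-1,-1,1,1,-2,0,-2⟩,1056,22,0⟩,
   ⟨⟨2,-1,-1,1,1,-2,0,0⟩,796,12,154⟩,
   ⟨⟨2,-1,-1,1,1,-2,0,2⟩,1056,22,0⟩,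
   ⟨⟨2,-1,-1,1,1,0,-2,0⟩,796,135,177⟩,
   ⟨⟨2,-1,-1,1,1,0,0,-2⟩,800,12,250⟩,
   ⟨⟨2,-1,-1,1,1,0,0,0⟩,540,22,96⟩,
   ⟨⟨2,-1,-1,1,1,0,0,2⟩,800,12,250⟩,
   ⟨⟨2,-1,-1,1,1,0,2,0⟩,796,135,177⟩,
   ⟨⟨2,-1,-1,3,-1,0,0,0⟩,1056,157,43⟩,
   ⟨⟨2,-1,-1,3,1,0,0,0⟩,1056,12,170⟩,
   ⟨⟨2,-1,1,-3,-1,0,0,0⟩,1056,22,0⟩,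
   ⟨⟨2,-1,1,-3,1,0,0,0⟩,1056,135,129⟩,
   ⟨⟨2,-1,1,-1,-1,0,-2,0⟩,796,157,27⟩,
   ⟨⟨2,-1,1,-1,-1,0,0,-2⟩,800,22,80⟩,
   ⟨⟨2,-1,1,-1,-1,0,0,0⟩,540,12,202⟩,
   ⟨⟨2,-1,1,-1,-1,0,0,2⟩,800,22,80⟩,
   ⟨⟨2,-1,1,-1,-1,0,2,0⟩,796,157,27⟩,
   ⟨⟨2,-1,1,-1,-1,2,0,-2⟩,1056,12,170⟩,
   ⟨⟨2,-1,1,-1,-1,2,0,0⟩,796,22,48⟩,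
   ⟨⟨2,-1,1,-1,-1,2,0,2⟩,1056,12,170⟩,
   ⟨⟨2,-1,1,-1,1,-2,0,-2⟩,1056,157,43⟩,
   ⟨⟨2,-1,1,-1,1,-2,0,0⟩,796,135,177⟩,
   ⟨⟨2,-1,1,-1,1,-2,0,2⟩,1056,157,43⟩,
   ⟨⟨2,-1,1,-1,1,0,-2,0⟩,796,12,154⟩,
   ⟨⟨2,-1,1,-1,1,0,0,-2⟩,800,135,209⟩,
   ⟨⟨2,-1,1,-1,1,0,0,0⟩,540,157,75⟩,
   ⟨⟨2,-1,1,-1,1,0,0,2⟩,800,135,209⟩,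
   ⟨⟨2,-1,1,-1,1,0,2,0⟩,796,12,154⟩,
   ⟨⟨2,-1,1,1,-3,0,0,0⟩,1056,135,129⟩,
   ⟨⟨2,-1,1,1,-1,0,-2,0⟩,800,135,209⟩,
   ⟨⟨2,-1,1,1,-1,0,0,0⟩,544,22,0⟩,
   ⟨⟨2,-1,1,1,-1,0,2,0⟩,800,135,209⟩,
   ⟨⟨2,-1,1,1,-1,2,-2,0⟩,1056,157,43⟩,
   ⟨⟨2,-1,1,1,-1,2,0,0⟩,800,12,250⟩,
   ⟨⟨2,-1,1,1,-1,2,2,0⟩,1056,157,43⟩,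
   ⟨⟨2,-1,1,1,1,-2,-2,0⟩,1056,12,170⟩,
   ⟨⟨2,-1,1,1,1,-2,0,0⟩,800,157,123⟩]

def ekChunk6 : List EK :=
  [⟨⟨2,-1,1,1,1,-2,2,0⟩,1056,12,170⟩,
   ⟨⟨2,-1,1,1,1,0,-2,0⟩,800,22,80⟩,
   ⟨⟨2,-1,1,1,1,0,0,0⟩,544,135,129⟩,
   ⟨⟨2,-1,1,1,1,0,2,0⟩,800,22,80⟩,
   ⟨⟨2,-1,1,1,3,0,0,0⟩,1056,22,0⟩,
   ⟨⟨2,1,-3,1,-1,0,0,0⟩,1056,12,170⟩,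
   ⟨⟨2,1,-3,1,1,0,0,0⟩,1056,157,43⟩,
   ⟨⟨2,1,-1,1,-1,0,-2,2⟩,1056,22,0⟩,
   ⟨⟨2,1,-1,1,-1,0,0,0⟩,548,157,75⟩,
   ⟨⟨2,1,-1,1,-1,0,2,-2⟩,1056,22,0⟩,
   ⟨⟨2,1,-1,1,1,0,-2,2⟩,1056,135,129⟩,
   ⟨⟨2,1,-1,1,1,0,0,0⟩,548,12,202⟩,
   ⟨⟨2,1,-1,1,1,0,2,-2⟩,1056,135,129⟩,
   ⟨⟨2,1,1,-1,-1,0,-2,2⟩,1056,157,43⟩,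
   ⟨⟨2,1,1,-1,-1,0,0,0⟩,548,22,96⟩,
   ⟨⟨2,1,1,-1,-1,0,2,-2⟩,1056,157,43⟩,
   ⟨⟨2,1,1,-1,1,0,-2,2⟩,1056,12,170⟩,
   ⟨⟨2,1,1,-1,1,0,0,0⟩,548,135,225⟩,
   ⟨⟨2,1,1,-1,1,0,2,-2⟩,1056,12,170⟩,
   ⟨⟨2,1,3,-1,-1,0,0,0⟩,1056,135,129⟩,
   ⟨⟨2,1,3,-1,1,0,0,0⟩,1056,22,0⟩,
   ⟨⟨-3,1,-1,0,-2,-1,0,0⟩,1056,40,27⟩,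
   ⟨⟨-3,1,-1,0,0,-1,0,-2⟩,1056,163,0⟩,
   ⟨⟨-3,1,-1,0,0,-1,0,0⟩,796,185,154⟩,
   ⟨⟨-3,1,-1,0,0,-1,0,2⟩,1056,163,0⟩,
   ⟨⟨-3,1,-1,0,0,1,0,-2⟩,1056,185,250⟩,
   ⟨⟨-3,1,-1,0,0,1,0,0⟩,796,163,96⟩,
   ⟨⟨-3,1,-1,0,0,1,0,2⟩,1056,185,250⟩,
   ⟨⟨-3,1,-1,0,2,1,0,0⟩,1056,50,225⟩,
   ⟨⟨-3,1,1,0,-2,-1,0,0⟩,1056,185,250⟩,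
   ⟨⟨-3,1,1,0,0,-1,0,-2⟩,1056,50,225⟩,
   ⟨⟨-3,1,1,0,0,-1,0,0⟩,796,40,123⟩,
   ⟨⟨-3,1,1,0,0,-1,0,2⟩,1056,50,225⟩,
   ⟨⟨-3,1,1,0,0,1,0,-2⟩,1056,40,27⟩,
   ⟨⟨-3,1,1,0,0,1,0,0⟩,796,50,129⟩,
   ⟨⟨-3,1,1,0,0,1,0,2⟩,1056,40,27⟩,
   ⟨⟨-3,1,1,0,2,1,0,0⟩,1056,163,0⟩,
   ⟨⟨-1,-1,-3,0,-2,1,0,0⟩,1056,40,27⟩,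
   ⟨⟨-1,-1,-3,0,2,-1,0,0⟩,1056,50,225⟩,
   ⟨⟨-1,-1,-1,0,-2,1,-2,0⟩,800,40,43⟩,
   ⟨⟨-1,-1,-1,0,-2,1,0,0⟩,544,185,250⟩,
   ⟨⟨-1,-1,-1,0,-2,1,2,0⟩,800,40,43⟩,
   ⟨⟨-1,-1,-1,0,-2,3,0,0⟩,1056,163,0⟩,
   ⟨⟨-1,-1,-1,0,0,-1,-2,0⟩,548,163,80⟩,
   ⟨⟨-1,-1,-1,0,0,-1,-2,2⟩,800,185,202⟩,
   ⟨⟨-1,-1,-1,0,0,-1,0,0⟩,292,50,129⟩,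
   ⟨⟨-1,-1,-1,0,0,-1,2,-2⟩,800,185,202⟩,
   ⟨⟨-1,-1,-1,0,0,-1,2,0⟩,548,163,80⟩,
   ⟨⟨-1,-1,-1,0,0,1,-2,0⟩,548,185,170⟩,
   ⟨⟨-1,-1,-1,0,0,1,-2,2⟩,800,163,48⟩,
   ⟨⟨-1,-1,-1,0,0,1,0,0⟩,292,40,123⟩,
   ⟨⟨-1,-1,-1,0,0,1,2,-2⟩,800,163,48⟩,
   ⟨⟨-1,-1,-1,0,0,1,2,0⟩,548,185,170⟩,
   ⟨⟨-1,-1,-1,0,2,-3,0,0⟩,1056,185,250⟩,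
   ⟨⟨-1,-1,-1,0,2,-1,-2,0⟩,800,50,209⟩,
   ⟨⟨-1,-1,-1,0,2,-1,0,0⟩,544,163,0⟩,
   ⟨⟨-1,-1,-1,0,2,-1,2,0⟩,800,50,209⟩,
   ⟨⟨-1,-1,-1,2,-2,1,-2,0⟩,1056,50,225⟩,
   ⟨⟨-1,-1,-1,2,-2,1,0,0⟩,800,163,48⟩,
   ⟨⟨-1,-1,-1,2,-2,1,2,0⟩,1056,50,225⟩,
   ⟨⟨-1,-1,-1,2,0,-1,-2,2⟩,1056,163,0⟩,
   ⟨⟨-1,-1,-1,2,0,-1,0,0⟩,548,40,75⟩,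
   ⟨⟨-1,-1,-1,2,0,-1,2,-2⟩,1056,163,0⟩,
   ⟨⟨-1,-1,-1,2,0,1,-2,2⟩,1056,185,250⟩,
   ⟨⟨-1,-1,-1,2,0,1,0,0⟩,548,50,177⟩,
   ⟨⟨-1,-1,-1,2,0,1,2,-2⟩,1056,185,250⟩,
   ⟨⟨-1,-1,-1,2,2,-1,-2,0⟩,1056,40,27⟩,
   ⟨⟨-1,-1,-1,2,2,-1,0,0⟩,800,185,202⟩,
   ⟨⟨-1,-1,-1,2,2,-1,2,0⟩,1056,40,27⟩,
   ⟨⟨-1,-1,1,-2,-2,1,-2,0⟩,1056,163,0⟩,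
   ⟨⟨-1,-1,1,-2,-2,1,0,0⟩,800,50,209⟩,
   ⟨⟨-1,-1,1,-2,-2,1,2,0⟩,1056,163,0⟩,
   ⟨⟨-1,-1,1,-2,0,-1,-2,2⟩,1056,50,225⟩,
   ⟨⟨-1,-1,1,-2,0,-1,0,0⟩,548,185,170⟩,
   ⟨⟨-1,-1,1,-2,0,-1,2,-2⟩,1056,50,225⟩,
   ⟨⟨-1,-1,1,-2,0,1,-2,2⟩,1056,40,27⟩,
   ⟨⟨-1,-1,1,-2,0,1,0,0⟩,548,163,80⟩,
   ⟨⟨-1,-1,1,-2,0,1,2,-2⟩,1056,40,27⟩,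
   ⟨⟨-1,-1,1,-2,2,-1,-2,0⟩,1056,185,250⟩,
   ⟨⟨-1,-1,1,-2,2,-1,0,0⟩,800,40,43⟩,
   ⟨⟨-1,-1,1,-2,2,-1,2,0⟩,1056,185,250⟩,
   ⟨⟨-1,-1,1,0,-2,1,-2,0⟩,800,185,202⟩,
   ⟨⟨-1,-1,1,0,-2,1,0,0⟩,544,40,27⟩,
   ⟨⟨-1,-1,1,0,-2,1,2,0⟩,800,185,202⟩,
   ⟨⟨-1,-1,1,0,-2,3,0,0⟩,1056,50,225⟩,
   ⟨⟨-1,-1,1,0,0,-1,-2,0⟩,548,50,177⟩,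
   ⟨⟨-1,-1,1,0,0,-1,-2,2⟩,800,40,43⟩,
   ⟨⟨-1,-1,1,0,0,-1,0,0⟩,292,163,96⟩,
   ⟨⟨-1,-1,1,0,0,-1,2,-2⟩,800,40,43⟩,
   ⟨⟨-1,-1,1,0,0,-1,2,0⟩,548,50,177⟩,
   ⟨⟨-1,-1,1,0,0,1,-2,0⟩,548,40,75⟩,
   ⟨⟨-1,-1,1,0,0,1,-2,2⟩,800,50,209⟩,
   ⟨⟨-1,-1,1,0,0,1,0,0⟩,292,185,154⟩,
   ⟨⟨-1,-1,1,0,0,1,2,-2⟩,800,50,209⟩,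
   ⟨⟨-1,-1,1,0,0,1,2,0⟩,548,40,75⟩,
   ⟨⟨-1,-1,1,0,2,-3,0,0⟩,1056,40,27⟩,
   ⟨⟨-1,-1,1,0,2,-1,-2,0⟩,800,163,48⟩,
   ⟨⟨-1,-1,1,0,2,-1,0,0⟩,544,50,225⟩,
   ⟨⟨-1,-1,1,0,2,-1,2,0⟩,800,163,48⟩,
   ⟨⟨-1,-1,3,0,-2,1,0,0⟩,1056,185,250⟩,
   ⟨⟨-1,-1,3,0,2,-1,0,0⟩,1056,163,0⟩,
   ⟨⟨-1,1,-3,0,0,-1,-2,0⟩,1056,40,27⟩,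
   ⟨⟨-1,1,-3,0,0,-1,0,0⟩,800,185,202⟩,
   ⟨⟨-1,1,-3,0,0,-1,2,0⟩,1056,40,27⟩,
   ⟨⟨-1,1,-3,0,0,1,-2,0⟩,1056,50,225⟩,
   ⟨⟨-1,1,-3,0,0,1,0,0⟩,800,163,48⟩,
   ⟨⟨-1,1,-3,0,0,1,2,0⟩,1056,50,225⟩,
   ⟨⟨-1,1,-1,0,-2,-1,-2,2⟩,1056,50,225⟩,
   ⟨⟨-1,1,-1,0,-2,-1,0,0⟩,548,185,170⟩,
   ⟨⟨-1,1,-1,0,-2,-1,2,-2⟩,1056,50,225⟩,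
   ⟨⟨-1,1,-1,0,-2,1,-2,0⟩,796,50,129⟩,
   ⟨⟨-1,1,-1,0,-2,1,0,-2⟩,800,185,202⟩,
   ⟨⟨-1,1,-1,0,-2,1,0,0⟩,540,163,80⟩,
   ⟨⟨-1,1,-1,0,-2,1,0,2⟩,800,185,202⟩,
   ⟨⟨-1,1,-1,0,-2,1,2,0⟩,796,50,129⟩,
   ⟨⟨-1,1,-1,0,0,-1,-2,0⟩,544,185,250⟩,
   ⟨⟨-1,1,-1,0,0,-1,-2,2⟩,796,163,96⟩,
   ⟨⟨-1,1,-1,0,0,-1,0,-2⟩,548,50,177⟩,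
   ⟨⟨-1,1,-1,0,0,-1,0,0⟩,288,40,43⟩,
   ⟨⟨-1,1,-1,0,0,-1,0,2⟩,548,50,177⟩,
   ⟨⟨-1,1,-1,0,0,-1,2,-2⟩,796,163,96⟩,
   ⟨⟨-1,1,-1,0,0,-1,2,0⟩,544,185,250⟩,
   ⟨⟨-1,1,-1,0,0,1,-2,0⟩,544,163,0⟩,
   ⟨⟨-1,1,-1,0,0,1,-2,2⟩,796,185,154⟩,
   ⟨⟨-1,1,-1,0,0,1,0,-2⟩,548,40,75⟩,
   ⟨⟨-1,1,-1,0,0,1,0,0⟩,288,50,209⟩,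
   ⟨⟨-1,1,-1,0,0,1,0,2⟩,548,40,75⟩,
   ⟨⟨-1,1,-1,0,0,1,2,-2⟩,796,185,154⟩,
   ⟨⟨-1,1,-1,0,0,1,2,0⟩,544,163,0⟩,
   ⟨⟨-1,1,-1,0,2,-1,-2,0⟩,796,40,123⟩]

def ekChunk7 : List EK :=
  [⟨⟨-1,1,-1,0,2,-1,0,-2⟩,800,163,48⟩,
   ⟨⟨-1,1,-1,0,2,-1,0,0⟩,540,185,170⟩,
   ⟨⟨-1,1,-1,0,2,-1,0,2⟩,800,163,48⟩,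
   ⟨⟨-1,1,-1,0,2,-1,2,0⟩,796,40,123⟩,
   ⟨⟨-1,1,-1,0,2,1,-2,2⟩,1056,40,27⟩,
   ⟨⟨-1,1,-1,0,2,1,0,0⟩,548,163,80⟩,
   ⟨⟨-1,1,-1,0,2,1,2,-2⟩,1056,40,27⟩,
   ⟨⟨-1,1,-1,2,-2,1,0,-2⟩,1056,163,0⟩,
   ⟨⟨-1,1,-1,2,-2,1,0,0⟩,796,185,154⟩,
   ⟨⟨-1,1,-1,2,-2,1,0,2⟩,1056,163,0⟩,
   ⟨⟨-1,1,-1,2,0,-1,-2,0⟩,800,163,48⟩,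
   ⟨⟨-1,1,-1,2,0,-1,0,0⟩,544,50,225⟩,
   ⟨⟨-1,1,-1,2,0,-1,2,0⟩,800,163,48⟩,
   ⟨⟨-1,1,-1,2,0,1,-2,0⟩,800,185,202⟩,
   ⟨⟨-1,1,-1,2,0,1,0,0⟩,544,40,27⟩,
   ⟨⟨-1,1,-1,2,0,1,2,0⟩,800,185,202⟩,
   ⟨⟨-1,1,-1,2,2,-1,0,-2⟩,1056,185,250⟩,
   ⟨⟨-1,1,-1,2,2,-1,0,0⟩,796,163,96⟩,
   ⟨⟨-1,1,-1,2,2,-1,0,2⟩,1056,185,250⟩,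
   ⟨⟨-1,1,1,-2,-2,1,0,-2⟩,1056,50,225⟩,
   ⟨⟨-1,1,1,-2,-2,1,0,0⟩,796,40,123⟩,
   ⟨⟨-1,1,1,-2,-2,1,0,2⟩,1056,50,225⟩,
   ⟨⟨-1,1,1,-2,0,-1,-2,0⟩,800,50,209⟩,
   ⟨⟨-1,1,1,-2,0,-1,0,0⟩,544,163,0⟩,
   ⟨⟨-1,1,1,-2,0,-1,2,0⟩,800,50,209⟩,
   ⟨⟨-1,1,1,-2,0,1,-2,0⟩,800,40,43⟩,
   ⟨⟨-1,1,1,-2,0,1,0,0⟩,544,185,250⟩,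
   ⟨⟨-1,1,1,-2,0,1,2,0⟩,800,40,43⟩,
   ⟨⟨-1,1,1,-2,2,-1,0,-2⟩,1056,40,27⟩,
   ⟨⟨-1,1,1,-2,2,-1,0,0⟩,796,50,129⟩,
   ⟨⟨-1,1,1,-2,2,-1,0,2⟩,1056,40,27⟩,
   ⟨⟨-1,1,1,0,-2,-1,-2,2⟩,1056,163,0⟩,
   ⟨⟨-1,1,1,0,-2,-1,0,0⟩,548,40,75⟩,
   ⟨⟨-1,1,1,0,-2,-1,2,-2⟩,1056,163,0⟩,
   ⟨⟨-1,1,1,0,-2,1,-2,0⟩,796,163,96⟩,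
   ⟨⟨-1,1,1,0,-2,1,0,-2⟩,800,40,43⟩,
   ⟨⟨-1,1,1,0,-2,1,0,0⟩,540,50,177⟩,
   ⟨⟨-1,1,1,0,-2,1,0,2⟩,800,40,43⟩,
   ⟨⟨-1,1,1,0,-2,1,2,0⟩,796,163,96⟩,
   ⟨⟨-1,1,1,0,0,-1,-2,0⟩,544,40,27⟩,
   ⟨⟨-1,1,1,0,0,-1,-2,2⟩,796,50,129⟩,
   ⟨⟨-1,1,1,0,0,-1,0,-2⟩,548,163,80⟩,
   ⟨⟨-1,1,1,0,0,-1,0,0⟩,288,185,202⟩,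
   ⟨⟨-1,1,1,0,0,-1,0,2⟩,548,163,80⟩,
   ⟨⟨-1,1,1,0,0,-1,2,-2⟩,796,50,129⟩,
   ⟨⟨-1,1,1,0,0,-1,2,0⟩,544,40,27⟩,
   ⟨⟨-1,1,1,0,0,1,-2,0⟩,544,50,225⟩,
   ⟨⟨-1,1,1,0,0,1,-2,2⟩,796,40,123⟩,
   ⟨⟨-1,1,1,0,0,1,0,-2⟩,548,185,170⟩,
   ⟨⟨-1,1,1,0,0,1,0,0⟩,288,163,48⟩,
   ⟨⟨-1,1,1,0,0,1,0,2⟩,548,185,170⟩,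
   ⟨⟨-1,1,1,0,0,1,2,-2⟩,796,40,123⟩,
   ⟨⟨-1,1,1,0,0,1,2,0⟩,544,50,225⟩,
   ⟨⟨-1,1,1,0,2,-1,-2,0⟩,796,185,154⟩,
   ⟨⟨-1,1,1,0,2,-1,0,-2⟩,800,50,209⟩,
   ⟨⟨-1,1,1,0,2,-1,0,0⟩,540,40,75⟩,
   ⟨⟨-1,1,1,0,2,-1,0,2⟩,800,50,209⟩,
   ⟨⟨-1,1,1,0,2,-1,2,0⟩,796,185,154⟩,
   ⟨⟨-1,1,1,0,2,1,-2,2⟩,1056,185,250⟩,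
   ⟨⟨-1,1,1,0,2,1,0,0⟩,548,50,177⟩,
   ⟨⟨-1,1,1,0,2,1,2,-2⟩,1056,185,250⟩,
   ⟨⟨-1,1,3,0,0,-1,-2,0⟩,1056,185,250⟩,
   ⟨⟨-1,1,3,0,0,-1,0,0⟩,800,40,43⟩,
   ⟨⟨-1,1,3,0,0,-1,2,0⟩,1056,185,250⟩,
   ⟨⟨-1,1,3,0,0,1,-2,0⟩,1056,163,0⟩,
   ⟨⟨-1,1,3,0,0,1,0,0⟩,800,50,209⟩,
   ⟨⟨-1,1,3,0,0,1,2,0⟩,1056,163,0⟩,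
   ⟨⟨-1,3,-1,0,-2,1,0,0⟩,1056,185,250⟩,
   ⟨⟨-1,3,-1,0,2,-1,0,0⟩,1056,163,0⟩,
   ⟨⟨-1,3,1,0,-2,1,0,0⟩,1056,40,27⟩,
   ⟨⟨-1,3,1,0,2,-1,0,0⟩,1056,50,225⟩,
   ⟨⟨1,-3,-1,0,-2,1,0,0⟩,1056,50,225⟩,
   ⟨⟨1,-3,-1,0,2,-1,0,0⟩,1056,40,27⟩,
   ⟨⟨1,-3,1,0,-2,1,0,0⟩,1056,163,0⟩,
   ⟨⟨1,-3,1,0,2,-1,0,0⟩,1056,185,250⟩,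
   ⟨⟨1,-1,-3,0,0,-1,-2,0⟩,1056,163,0⟩,
   ⟨⟨1,-1,-3,0,0,-1,0,0⟩,800,50,209⟩,
   ⟨⟨1,-1,-3,0,0,-1,2,0⟩,1056,163,0⟩,
   ⟨⟨1,-1,-3,0,0,1,-2,0⟩,1056,185,250⟩,
   ⟨⟨1,-1,-3,0,0,1,0,0⟩,800,40,43⟩,
   ⟨⟨1,-1,-3,0,0,1,2,0⟩,1056,185,250⟩,
   ⟨⟨1,-1,-1,0,-2,-1,-2,2⟩,1056,185,250⟩,
   ⟨⟨1,-1,-1,0,-2,-1,0,0⟩,548,50,177⟩,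
   ⟨⟨1,-1,-1,0,-2,-1,2,-2⟩,1056,185,250⟩,
   ⟨⟨1,-1,-1,0,-2,1,-2,0⟩,796,185,154⟩,
   ⟨⟨1,-1,-1,0,-2,1,0,-2⟩,800,50,209⟩,
   ⟨⟨1,-1,-1,0,-2,1,0,0⟩,540,40,75⟩,
   ⟨⟨1,-1,-1,0,-2,1,0,2⟩,800,50,209⟩,
   ⟨⟨1,-1,-1,0,-2,1,2,0⟩,796,185,154⟩,
   ⟨⟨1,-1,-1,0,0,-1,-2,0⟩,544,50,225⟩,
   ⟨⟨1,-1,-1,0,0,-1,-2,2⟩,796,40,123⟩,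
   ⟨⟨1,-1,-1,0,0,-1,0,-2⟩,548,185,170⟩,
   ⟨⟨1,-1,-1,0,0,-1,0,0⟩,288,163,48⟩,
   ⟨⟨1,-1,-1,0,0,-1,0,2⟩,548,185,170⟩,
   ⟨⟨1,-1,-1,0,0,-1,2,-2⟩,796,40,123⟩,
   ⟨⟨1,-1,-1,0,0,-1,2,0⟩,544,50,225⟩,
   ⟨⟨1,-1,-1,0,0,1,-2,0⟩,544,40,27⟩,
   ⟨⟨1,-1,-1,0,0,1,-2,2⟩,796,50,129⟩,
   ⟨⟨1,-1,-1,0,0,1,0,-2⟩,548,163,80⟩,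
   ⟨⟨1,-1,-1,0,0,1,0,0⟩,288,185,202⟩,
   ⟨⟨1,-1,-1,0,0,1,0,2⟩,548,163,80⟩,
   ⟨⟨1,-1,-1,0,0,1,2,-2⟩,796,50,129⟩,
   ⟨⟨1,-1,-1,0,0,1,2,0⟩,544,40,27⟩,
   ⟨⟨1,-1,-1,0,2,-1,-2,0⟩,796,163,96⟩,
   ⟨⟨1,-1,-1,0,2,-1,0,-2⟩,800,40,43⟩,
   ⟨⟨1,-1,-1,0,2,-1,0,0⟩,540,50,177⟩,
   ⟨⟨1,-1,-1,0,2,-1,0,2⟩,800,40,43⟩,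
   ⟨⟨1,-1,-1,0,2,-1,2,0⟩,796,163,96⟩,
   ⟨⟨1,-1,-1,0,2,1,-2,2⟩,1056,163,0⟩,
   ⟨⟨1,-1,-1,0,2,1,0,0⟩,548,40,75⟩,
   ⟨⟨1,-1,-1,0,2,1,2,-2⟩,1056,163,0⟩,
   ⟨⟨1,-1,-1,2,-2,1,0,-2⟩,1056,40,27⟩,
   ⟨⟨1,-1,-1,2,-2,1,0,0⟩,796,50,129⟩,
   ⟨⟨1,-1,-1,2,-2,1,0,2⟩,1056,40,27⟩,
   ⟨⟨1,-1,-1,2,0,-1,-2,0⟩,800,40,43⟩,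
   ⟨⟨1,-1,-1,2,0,-1,0,0⟩,544,185,250⟩,
   ⟨⟨1,-1,-1,2,0,-1,2,0⟩,800,40,43⟩,
   ⟨⟨1,-1,-1,2,0,1,-2,0⟩,800,50,209⟩,
   ⟨⟨1,-1,-1,2,0,1,0,0⟩,544,163,0⟩,
   ⟨⟨1,-1,-1,2,0,1,2,0⟩,800,50,209⟩,
   ⟨⟨1,-1,-1,2,2,-1,0,-2⟩,1056,50,225⟩,
   ⟨⟨1,-1,-1,2,2,-1,0,0⟩,796,40,123⟩,
   ⟨⟨1,-1,-1,2,2,-1,0,2⟩,1056,50,225⟩,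
   ⟨⟨1,-1,1,-2,-2,1,0,-2⟩,1056,185,250⟩,
   ⟨⟨1,-1,1,-2,-2,1,0,0⟩,796,163,96⟩,
   ⟨⟨1,-1,1,-2,-2,1,0,2⟩,1056,185,250⟩,
   ⟨⟨1,-1,1,-2,0,-1,-2,0⟩,800,185,202⟩,
   ⟨⟨1,-1,1,-2,0,-1,0,0⟩,544,40,27⟩,
   ⟨⟨1,-1,1,-2,0,-1,2,0⟩,800,185,202⟩,
   ⟨⟨1,-1,1,-2,0,1,-2,0⟩,800,163,48⟩]

def ekChunk8 : List EK :=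
  [⟨⟨1,-1,1,-2,0,1,0,0⟩,544,50,225⟩,
   ⟨⟨1,-1,1,-2,0,1,2,0⟩,800,163,48⟩,
   ⟨⟨1,-1,1,-2,2,-1,0,-2⟩,1056,163,0⟩,
   ⟨⟨1,-1,1,-2,2,-1,0,0⟩,796,185,154⟩,
   ⟨⟨1,-1,1,-2,2,-1,0,2⟩,1056,163,0⟩,
   ⟨⟨1,-1,1,0,-2,-1,-2,2⟩,1056,40,27⟩,
   ⟨⟨1,-1,1,0,-2,-1,0,0⟩,548,163,80⟩,
   ⟨⟨1,-1,1,0,-2,-1,2,-2⟩,1056,40,27⟩,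
   ⟨⟨1,-1,1,0,-2,1,-2,0⟩,796,40,123⟩,
   ⟨⟨1,-1,1,0,-2,1,0,-2⟩,800,163,48⟩,
   ⟨⟨1,-1,1,0,-2,1,0,0⟩,540,185,170⟩,
   ⟨⟨1,-1,1,0,-2,1,0,2⟩,800,163,48⟩,
   ⟨⟨1,-1,1,0,-2,1,2,0⟩,796,40,123⟩,
   ⟨⟨1,-1,1,0,0,-1,-2,0⟩,544,163,0⟩,
   ⟨⟨1,-1,1,0,0,-1,-2,2⟩,796,185,154⟩,
   ⟨⟨1,-1,1,0,0,-1,0,-2⟩,548,40,75⟩,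
   ⟨⟨1,-1,1,0,0,-1,0,0⟩,288,50,209⟩,
   ⟨⟨1,-1,1,0,0,-1,0,2⟩,548,40,75⟩,
   ⟨⟨1,-1,1,0,0,-1,2,-2⟩,796,185,154⟩,
   ⟨⟨1,-1,1,0,0,-1,2,0⟩,544,163,0⟩,
   ⟨⟨1,-1,1,0,0,1,-2,0⟩,544,185,250⟩,
   ⟨⟨1,-1,1,0,0,1,-2,2⟩,796,163,96⟩,
   ⟨⟨1,-1,1,0,0,1,0,-2⟩,548,50,177⟩,
   ⟨⟨1,-1,1,0,0,1,0,0⟩,288,40,43⟩,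
   ⟨⟨1,-1,1,0,0,1,0,2⟩,548,50,177⟩,
   ⟨⟨1,-1,1,0,0,1,2,-2⟩,796,163,96⟩,
   ⟨⟨1,-1,1,0,0,1,2,0⟩,544,185,250⟩,
   ⟨⟨1,-1,1,0,2,-1,-2,0⟩,796,50,129⟩,
   ⟨⟨1,-1,1,0,2,-1,0,-2⟩,800,185,202⟩,
   ⟨⟨1,-1,1,0,2,-1,0,0⟩,540,163,80⟩,
   ⟨⟨1,-1,1,0,2,-1,0,2⟩,800,185,202⟩,
   ⟨⟨1,-1,1,0,2,-1,2,0⟩,796,50,129⟩,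
   ⟨⟨1,-1,1,0,2,1,-2,2⟩,1056,50,225⟩,
   ⟨⟨1,-1,1,0,2,1,0,0⟩,548,185,170⟩,
   ⟨⟨1,-1,1,0,2,1,2,-2⟩,1056,50,225⟩,
   ⟨⟨1,-1,3,0,0,-1,-2,0⟩,1056,50,225⟩,
   ⟨⟨1,-1,3,0,0,-1,0,0⟩,800,163,48⟩,
   ⟨⟨1,-1,3,0,0,-1,2,0⟩,1056,50,225⟩,
   ⟨⟨1,-1,3,0,0,1,-2,0⟩,1056,40,27⟩,
   ⟨⟨1,-1,3,0,0,1,0,0⟩,800,185,202⟩,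
   ⟨⟨1,-1,3,0,0,1,2,0⟩,1056,40,27⟩,
   ⟨⟨1,1,-3,0,-2,1,0,0⟩,1056,163,0⟩,
   ⟨⟨1,1,-3,0,2,-1,0,0⟩,1056,185,250⟩,
   ⟨⟨1,1,-1,0,-2,1,-2,0⟩,800,163,48⟩,
   ⟨⟨1,1,-1,0,-2,1,0,0⟩,544,50,225⟩,
   ⟨⟨1,1,-1,0,-2,1,2,0⟩,800,163,48⟩,
   ⟨⟨1,1,-1,0,-2,3,0,0⟩,1056,40,27⟩,
   ⟨⟨1,1,-1,0,0,-1,-2,0⟩,548,40,75⟩,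
   ⟨⟨1,1,-1,0,0,-1,-2,2⟩,800,50,209⟩,
   ⟨⟨1,1,-1,0,0,-1,0,0⟩,292,185,154⟩,
   ⟨⟨1,1,-1,0,0,-1,2,-2⟩,800,50,209⟩,
   ⟨⟨1,1,-1,0,0,-1,2,0⟩,548,40,75⟩,
   ⟨⟨1,1,-1,0,0,1,-2,0⟩,548,50,177⟩,
   ⟨⟨1,1,-1,0,0,1,-2,2⟩,800,40,43⟩,
   ⟨⟨1,1,-1,0,0,1,0,0⟩,292,163,96⟩,
   ⟨⟨1,1,-1,0,0,1,2,-2⟩,800,40,43⟩,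
   ⟨⟨1,1,-1,0,0,1,2,0⟩,548,50,177⟩,
   ⟨⟨1,1,-1,0,2,-3,0,0⟩,1056,50,225⟩,
   ⟨⟨1,1,-1,0,2,-1,-2,0⟩,800,185,202⟩,
   ⟨⟨1,1,-1,0,2,-1,0,0⟩,544,40,27⟩,
   ⟨⟨1,1,-1,0,2,-1,2,0⟩,800,185,202⟩,
   ⟨⟨1,1,-1,2,-2,1,-2,0⟩,1056,185,250⟩,
   ⟨⟨1,1,-1,2,-2,1,0,0⟩,800,40,43⟩,
   ⟨⟨1,1,-1,2,-2,1,2,0⟩,1056,185,250⟩,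
   ⟨⟨1,1,-1,2,0,-1,-2,2⟩,1056,40,27⟩,
   ⟨⟨1,1,-1,2,0,-1,0,0⟩,548,163,80⟩,
   ⟨⟨1,1,-1,2,0,-1,2,-2⟩,1056,40,27⟩,
   ⟨⟨1,1,-1,2,0,1,-2,2⟩,1056,50,225⟩,
   ⟨⟨1,1,-1,2,0,1,0,0⟩,548,185,170⟩,
   ⟨⟨1,1,-1,2,0,1,2,-2⟩,1056,50,225⟩,
   ⟨⟨1,1,-1,2,2,-1,-2,0⟩,1056,163,0⟩,
   ⟨⟨1,1,-1,2,2,-1,0,0⟩,800,50,209⟩,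
   ⟨⟨1,1,-1,2,2,-1,2,0⟩,1056,163,0⟩,
   ⟨⟨1,1,1,-2,-2,1,-2,0⟩,1056,40,27⟩,
   ⟨⟨1,1,1,-2,-2,1,0,0⟩,800,185,202⟩,
   ⟨⟨1,1,1,-2,-2,1,2,0⟩,1056,40,27⟩,
   ⟨⟨1,1,1,-2,0,-1,-2,2⟩,1056,185,250⟩,
   ⟨⟨1,1,1,-2,0,-1,0,0⟩,548,50,177⟩,
   ⟨⟨1,1,1,-2,0,-1,2,-2⟩,1056,185,250⟩,
   ⟨⟨1,1,1,-2,0,1,-2,2⟩,1056,163,0⟩,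
   ⟨⟨1,1,1,-2,0,1,0,0⟩,548,40,75⟩,
   ⟨⟨1,1,1,-2,0,1,2,-2⟩,1056,163,0⟩,
   ⟨⟨1,1,1,-2,2,-1,-2,0⟩,1056,50,225⟩,
   ⟨⟨1,1,1,-2,2,-1,0,0⟩,800,163,48⟩,
   ⟨⟨1,1,1,-2,2,-1,2,0⟩,1056,50,225⟩,
   ⟨⟨1,1,1,0,-2,1,-2,0⟩,800,50,209⟩,
   ⟨⟨1,1,1,0,-2,1,0,0⟩,544,163,0⟩,
   ⟨⟨1,1,1,0,-2,1,2,0⟩,800,50,209⟩,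
   ⟨⟨1,1,1,0,-2,3,0,0⟩,1056,185,250⟩,
   ⟨⟨1,1,1,0,0,-1,-2,0⟩,548,185,170⟩,
   ⟨⟨1,1,1,0,0,-1,-2,2⟩,800,163,48⟩,
   ⟨⟨1,1,1,0,0,-1,0,0⟩,292,40,123⟩,
   ⟨⟨1,1,1,0,0,-1,2,-2⟩,800,163,48⟩,
   ⟨⟨1,1,1,0,0,-1,2,0⟩,548,185,170⟩,
   ⟨⟨1,1,1,0,0,1,-2,0⟩,548,163,80⟩,
   ⟨⟨1,1,1,0,0,1,-2,2⟩,800,185,202⟩,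
   ⟨⟨1,1,1,0,0,1,0,0⟩,292,50,129⟩,
   ⟨⟨1,1,1,0,0,1,2,-2⟩,800,185,202⟩,
   ⟨⟨1,1,1,0,0,1,2,0⟩,548,163,80⟩,
   ⟨⟨1,1,1,0,2,-3,0,0⟩,1056,163,0⟩,
   ⟨⟨1,1,1,0,2,-1,-2,0⟩,800,40,43⟩,
   ⟨⟨1,1,1,0,2,-1,0,0⟩,544,185,250⟩,
   ⟨⟨1,1,1,0,2,-1,2,0⟩,800,40,43⟩,
   ⟨⟨1,1,3,0,-2,1,0,0⟩,1056,50,225⟩,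
   ⟨⟨1,1,3,0,2,-1,0,0⟩,1056,40,27⟩,
   ⟨⟨3,-1,-1,0,-2,-1,0,0⟩,1056,163,0⟩,
   ⟨⟨3,-1,-1,0,0,-1,0,-2⟩,1056,40,27⟩,
   ⟨⟨3,-1,-1,0,0,-1,0,0⟩,796,50,129⟩,
   ⟨⟨3,-1,-1,0,0,-1,0,2⟩,1056,40,27⟩,
   ⟨⟨3,-1,-1,0,0,1,0,-2⟩,1056,50,225⟩,
   ⟨⟨3,-1,-1,0,0,1,0,0⟩,796,40,123⟩,
   ⟨⟨3,-1,-1,0,0,1,0,2⟩,1056,50,225⟩,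
   ⟨⟨3,-1,-1,0,2,1,0,0⟩,1056,185,250⟩,
   ⟨⟨3,-1,1,0,-2,-1,0,0⟩,1056,50,225⟩,
   ⟨⟨3,-1,1,0,0,-1,0,-2⟩,1056,185,250⟩,
   ⟨⟨3,-1,1,0,0,-1,0,0⟩,796,163,96⟩,
   ⟨⟨3,-1,1,0,0,-1,0,2⟩,1056,185,250⟩,
   ⟨⟨3,-1,1,0,0,1,0,-2⟩,1056,163,0⟩,
   ⟨⟨3,-1,1,0,0,1,0,0⟩,796,185,154⟩,
   ⟨⟨3,-1,1,0,0,1,0,2⟩,1056,163,0⟩,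
   ⟨⟨3,-1,1,0,2,1,0,0⟩,1056,40,27⟩,
   ⟨⟨-3,0,-2,1,-1,-1,0,0⟩,1056,175,202⟩,
   ⟨⟨-3,0,-2,1,1,1,0,0⟩,1056,36,177⟩,
   ⟨⟨-3,0,0,-1,-1,1,-2,0⟩,1056,175,202⟩,
   ⟨⟨-3,0,0,-1,-1,1,0,0⟩,800,62,27⟩,
   ⟨⟨-3,0,0,-1,-1,1,2,0⟩,1056,175,202⟩,
   ⟨⟨-3,0,0,-1,1,-1,-2,0⟩,1056,36,177⟩,
   ⟨⟨-3,0,0,-1,1,-1,0,0⟩,800,181,96⟩,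
   ⟨⟨-3,0,0,-1,1,-1,2,0⟩,1056,36,177⟩,
   ⟨⟨-3,0,0,1,-1,1,-2,0⟩,1056,181,0⟩]

def ekChunk9 : List EK :=
  [⟨⟨-3,0,0,1,-1,1,0,0⟩,800,36,209⟩,
   ⟨⟨-3,0,0,1,-1,1,2,0⟩,1056,181,0⟩,
   ⟨⟨-3,0,0,1,1,-1,-2,0⟩,1056,62,123⟩,
   ⟨⟨-3,0,0,1,1,-1,0,0⟩,800,175,170⟩,
   ⟨⟨-3,0,0,1,1,-1,2,0⟩,1056,62,123⟩,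
   ⟨⟨-3,0,2,-1,-1,-1,0,0⟩,1056,181,0⟩,
   ⟨⟨-3,0,2,-1,1,1,0,0⟩,1056,62,123⟩,
   ⟨⟨-1,0,-2,-1,-3,1,0,0⟩,1056,175,202⟩,
   ⟨⟨-1,0,-2,-1,-1,1,-2,2⟩,1056,181,0⟩,
   ⟨⟨-1,0,-2,-1,-1,1,0,0⟩,548,62,75⟩,
   ⟨⟨-1,0,-2,-1,-1,1,2,-2⟩,1056,181,0⟩,
   ⟨⟨-1,0,-2,-1,1,-1,-2,2⟩,1056,62,123⟩,
   ⟨⟨-1,0,-2,-1,1,-1,0,0⟩,548,181,48⟩,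
   ⟨⟨-1,0,-2,-1,1,-1,2,-2⟩,1056,62,123⟩,
   ⟨⟨-1,0,-2,-1,3,-1,0,0⟩,1056,36,177⟩,
   ⟨⟨-1,0,-2,1,-1,-1,-2,0⟩,800,175,170⟩,
   ⟨⟨-1,0,-2,1,-1,-1,0,0⟩,544,62,123⟩,
   ⟨⟨-1,0,-2,1,-1,-1,2,0⟩,800,175,170⟩,
   ⟨⟨-1,0,-2,1,-1,1,-2,0⟩,796,181,80⟩,
   ⟨⟨-1,0,-2,1,-1,1,0,-2⟩,800,62,27⟩,
   ⟨⟨-1,0,-2,1,-1,1,0,0⟩,540,36,129⟩,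
   ⟨⟨-1,0,-2,1,-1,1,0,2⟩,800,62,27⟩,
   ⟨⟨-1,0,-2,1,-1,1,2,0⟩,796,181,80⟩,
   ⟨⟨-1,0,-2,1,-1,3,0,0⟩,1056,62,123⟩,
   ⟨⟨-1,0,-2,1,1,-3,0,0⟩,1056,181,0⟩,
   ⟨⟨-1,0,-2,1,1,-1,-2,0⟩,796,62,43⟩,
   ⟨⟨-1,0,-2,1,1,-1,0,-2⟩,800,181,96⟩,
   ⟨⟨-1,0,-2,1,1,-1,0,0⟩,540,175,250⟩,
   ⟨⟨-1,0,-2,1,1,-1,0,2⟩,800,181,96⟩,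
   ⟨⟨-1,0,-2,1,1,-1,2,0⟩,796,62,43⟩,
   ⟨⟨-1,0,-2,1,1,1,-2,0⟩,800,36,209⟩,
   ⟨⟨-1,0,-2,1,1,1,0,0⟩,544,181,0⟩,
   ⟨⟨-1,0,-2,1,1,1,2,0⟩,800,36,209⟩,
   ⟨⟨-1,0,-2,3,-1,-1,0,0⟩,1056,36,177⟩,
   ⟨⟨-1,0,-2,3,1,1,0,0⟩,1056,175,202⟩,
   ⟨⟨-1,0,0,-1,-3,1,0,-2⟩,1056,36,177⟩,
   ⟨⟨-1,0,0,-1,-3,1,0,0⟩,796,62,43⟩,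
   ⟨⟨-1,0,0,-1,-3,1,0,2⟩,1056,36,177⟩,
   ⟨⟨-1,0,0,-1,-1,-1,-2,0⟩,548,36,129⟩,
   ⟨⟨-1,0,0,-1,-1,-1,-2,2⟩,800,62,27⟩,
   ⟨⟨-1,0,0,-1,-1,-1,0,0⟩,292,181,80⟩,
   ⟨⟨-1,0,0,-1,-1,-1,2,-2⟩,800,62,27⟩,
   ⟨⟨-1,0,0,-1,-1,-1,2,0⟩,548,36,129⟩,
   ⟨⟨-1,0,0,-1,-1,1,-2,0⟩,544,62,123⟩,
   ⟨⟨-1,0,0,-1,-1,1,-2,2⟩,796,36,225⟩,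
   ⟨⟨-1,0,0,-1,-1,1,0,-2⟩,548,181,48⟩,
   ⟨⟨-1,0,0,-1,-1,1,0,0⟩,288,175,170⟩,
   ⟨⟨-1,0,0,-1,-1,1,0,2⟩,548,181,48⟩,
   ⟨⟨-1,0,0,-1,-1,1,2,-2⟩,796,36,225⟩,
   ⟨⟨-1,0,0,-1,-1,1,2,0⟩,544,62,123⟩,
   ⟨⟨-1,0,0,-1,1,-1,-2,0⟩,544,181,0⟩,
   ⟨⟨-1,0,0,-1,1,-1,-2,2⟩,796,175,154⟩,
   ⟨⟨-1,0,0,-1,1,-1,0,-2⟩,548,62,75⟩,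
   ⟨⟨-1,0,0,-1,1,-1,0,0⟩,288,36,209⟩,
   ⟨⟨-1,0,0,-1,1,-1,0,2⟩,548,62,75⟩,
   ⟨⟨-1,0,0,-1,1,-1,2,-2⟩,796,175,154⟩,
   ⟨⟨-1,0,0,-1,1,-1,2,0⟩,544,181,0⟩,
   ⟨⟨-1,0,0,-1,1,1,-2,0⟩,548,175,250⟩,
   ⟨⟨-1,0,0,-1,1,1,-2,2⟩,800,181,96⟩,
   ⟨⟨-1,0,0,-1,1,1,0,0⟩,292,62,43⟩,
   ⟨⟨-1,0,0,-1,1,1,2,-2⟩,800,181,96⟩,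
   ⟨⟨-1,0,0,-1,1,1,2,0⟩,548,175,250⟩,
   ⟨⟨-1,0,0,-1,3,-1,0,-2⟩,1056,175,202⟩,
   ⟨⟨-1,0,0,-1,3,-1,0,0⟩,796,181,80⟩,
   ⟨⟨-1,0,0,-1,3,-1,0,2⟩,1056,175,202⟩,
   ⟨⟨-1,0,0,1,-3,1,0,-2⟩,1056,62,123⟩,
   ⟨⟨-1,0,0,1,-3,1,0,0⟩,796,36,225⟩,
   ⟨⟨-1,0,0,1,-3,1,0,2⟩,1056,62,123⟩,
   ⟨⟨-1,0,0,1,-1,-1,-2,0⟩,548,62,75⟩,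
   ⟨⟨-1,0,0,1,-1,-1,-2,2⟩,800,36,209⟩,
   ⟨⟨-1,0,0,1,-1,-1,0,0⟩,292,175,154⟩,
   ⟨⟨-1,0,0,1,-1,-1,2,-2⟩,800,36,209⟩,
   ⟨⟨-1,0,0,1,-1,-1,2,0⟩,548,62,75⟩,
   ⟨⟨-1,0,0,1,-1,1,-2,0⟩,544,36,177⟩,
   ⟨⟨-1,0,0,1,-1,1,-2,2⟩,796,62,43⟩,
   ⟨⟨-1,0,0,1,-1,1,0,-2⟩,548,175,250⟩,
   ⟨⟨-1,0,0,1,-1,1,0,0⟩,288,181,96⟩,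
   ⟨⟨-1,0,0,1,-1,1,0,2⟩,548,175,250⟩,
   ⟨⟨-1,0,0,1,-1,1,2,-2⟩,796,62,43⟩,
   ⟨⟨-1,0,0,1,-1,1,2,0⟩,544,36,177⟩,
   ⟨⟨-1,0,0,1,1,-1,-2,0⟩,544,175,202⟩,
   ⟨⟨-1,0,0,1,1,-1,-2,2⟩,796,181,80⟩,
   ⟨⟨-1,0,0,1,1,-1,0,-2⟩,548,36,129⟩,
   ⟨⟨-1,0,0,1,1,-1,0,0⟩,288,62,27⟩,
   ⟨⟨-1,0,0,1,1,-1,0,2⟩,548,36,129⟩,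
   ⟨⟨-1,0,0,1,1,-1,2,-2⟩,796,181,80⟩,
   ⟨⟨-1,0,0,1,1,-1,2,0⟩,544,175,202⟩,
   ⟨⟨-1,0,0,1,1,1,-2,0⟩,548,181,48⟩,
   ⟨⟨-1,0,0,1,1,1,-2,2⟩,800,175,170⟩,
   ⟨⟨-1,0,0,1,1,1,0,0⟩,292,36,225⟩,
   ⟨⟨-1,0,0,1,1,1,2,-2⟩,800,175,170⟩,
   ⟨⟨-1,0,0,1,1,1,2,0⟩,548,181,48⟩,
   ⟨⟨-1,0,0,1,3,-1,0,-2⟩,1056,181,0⟩,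
   ⟨⟨-1,0,0,1,3,-1,0,0⟩,796,175,154⟩,
   ⟨⟨-1,0,0,1,3,-1,0,2⟩,1056,181,0⟩,
   ⟨⟨-1,0,2,-3,-1,-1,0,0⟩,1056,62,123⟩,
   ⟨⟨-1,0,2,-3,1,1,0,0⟩,1056,181,0⟩,
   ⟨⟨-1,0,2,-1,-1,-1,-2,0⟩,800,181,96⟩,
   ⟨⟨-1,0,2,-1,-1,-1,0,0⟩,544,36,177⟩,
   ⟨⟨-1,0,2,-1,-1,-1,2,0⟩,800,181,96⟩,
   ⟨⟨-1,0,2,-1,-1,1,-2,0⟩,796,175,154⟩,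
   ⟨⟨-1,0,2,-1,-1,1,0,-2⟩,800,36,209⟩,
   ⟨⟨-1,0,2,-1,-1,1,0,0⟩,540,62,75⟩,
   ⟨⟨-1,0,2,-1,-1,1,0,2⟩,800,36,209⟩,
   ⟨⟨-1,0,2,-1,-1,1,2,0⟩,796,175,154⟩,
   ⟨⟨-1,0,2,-1,-1,3,0,0⟩,1056,36,177⟩,
   ⟨⟨-1,0,2,-1,1,-3,0,0⟩,1056,175,202⟩,
   ⟨⟨-1,0,2,-1,1,-1,-2,0⟩,796,36,225⟩,
   ⟨⟨-1,0,2,-1,1,-1,0,-2⟩,800,175,170⟩,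
   ⟨⟨-1,0,2,-1,1,-1,0,0⟩,540,181,48⟩,
   ⟨⟨-1,0,2,-1,1,-1,0,2⟩,800,175,170⟩,
   ⟨⟨-1,0,2,-1,1,-1,2,0⟩,796,36,225⟩,
   ⟨⟨-1,0,2,-1,1,1,-2,0⟩,800,62,27⟩,
   ⟨⟨-1,0,2,-1,1,1,0,0⟩,544,175,202⟩,
   ⟨⟨-1,0,2,-1,1,1,2,0⟩,800,62,27⟩,
   ⟨⟨-1,0,2,1,-3,1,0,0⟩,1056,181,0⟩,
   ⟨⟨-1,0,2,1,-1,1,-2,2⟩,1056,175,202⟩,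
   ⟨⟨-1,0,2,1,-1,1,0,0⟩,548,36,129⟩,
   ⟨⟨-1,0,2,1,-1,1,2,-2⟩,1056,175,202⟩,
   ⟨⟨-1,0,2,1,1,-1,-2,2⟩,1056,36,177⟩,
   ⟨⟨-1,0,2,1,1,-1,0,0⟩,548,175,250⟩,
   ⟨⟨-1,0,2,1,1,-1,2,-2⟩,1056,36,177⟩,
   ⟨⟨-1,0,2,1,3,-1,0,0⟩,1056,62,123⟩,
   ⟨⟨-1,2,-2,1,-1,-1,-2,0⟩,1056,181,0⟩,
   ⟨⟨-1,2,-2,1,-1,-1,0,0⟩,800,36,209⟩,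
   ⟨⟨-1,2,-2,1,-1,-1,2,0⟩,1056,181,0⟩,
   ⟨⟨-1,2,-2,1,-1,1,0,-2⟩,1056,36,177⟩,
   ⟨⟨-1,2,-2,1,-1,1,0,0⟩,796,62,43⟩,
   ⟨⟨-1,2,-2,1,-1,1,0,2⟩,1056,36,177⟩,
   ⟨⟨-1,2,-2,1,1,-1,0,-2⟩,1056,175,202⟩]

def ekChunk10 : List EK :=
  [⟨⟨-1,2,-2,1,1,-1,0,0⟩,796,181,80⟩,
   ⟨⟨-1,2,-2,1,1,-1,0,2⟩,1056,175,202⟩,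
   ⟨⟨-1,2,-2,1,1,1,-2,0⟩,1056,62,123⟩,
   ⟨⟨-1,2,-2,1,1,1,0,0⟩,800,175,170⟩,
   ⟨⟨-1,2,-2,1,1,1,2,0⟩,1056,62,123⟩,
   ⟨⟨-1,2,0,-1,-1,-1,-2,2⟩,1056,36,177⟩,
   ⟨⟨-1,2,0,-1,-1,-1,0,0⟩,548,175,250⟩,
   ⟨⟨-1,2,0,-1,-1,-1,2,-2⟩,1056,36,177⟩,
   ⟨⟨-1,2,0,-1,-1,1,-2,0⟩,800,36,209⟩,
   ⟨⟨-1,2,0,-1,-1,1,0,0⟩,544,181,0⟩,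
   ⟨⟨-1,2,0,-1,-1,1,2,0⟩,800,36,209⟩,
   ⟨⟨-1,2,0,-1,1,-1,-2,0⟩,800,175,170⟩,
   ⟨⟨-1,2,0,-1,1,-1,0,0⟩,544,62,123⟩,
   ⟨⟨-1,2,0,-1,1,-1,2,0⟩,800,175,170⟩,
   ⟨⟨-1,2,0,-1,1,1,-2,2⟩,1056,175,202⟩,
   ⟨⟨-1,2,0,-1,1,1,0,0⟩,548,36,129⟩,
   ⟨⟨-1,2,0,-1,1,1,2,-2⟩,1056,175,202⟩,
   ⟨⟨-1,2,0,1,-1,-1,-2,2⟩,1056,62,123⟩,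
   ⟨⟨-1,2,0,1,-1,-1,0,0⟩,548,181,48⟩,
   ⟨⟨-1,2,0,1,-1,-1,2,-2⟩,1056,62,123⟩,
   ⟨⟨-1,2,0,1,-1,1,-2,0⟩,800,62,27⟩,
   ⟨⟨-1,2,0,1,-1,1,0,0⟩,544,175,202⟩,
   ⟨⟨-1,2,0,1,-1,1,2,0⟩,800,62,27⟩,
   ⟨⟨-1,2,0,1,1,-1,-2,0⟩,800,181,96⟩,
   ⟨⟨-1,2,0,1,1,-1,0,0⟩,544,36,177⟩,
   ⟨⟨-1,2,0,1,1,-1,2,0⟩,800,181,96⟩,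
   ⟨⟨-1,2,0,1,1,1,-2,2⟩,1056,181,0⟩,
   ⟨⟨-1,2,0,1,1,1,0,0⟩,548,62,75⟩,
   ⟨⟨-1,2,0,1,1,1,2,-2⟩,1056,181,0⟩,
   ⟨⟨-1,2,2,-1,-1,-1,-2,0⟩,1056,175,202⟩,
   ⟨⟨-1,2,2,-1,-1,-1,0,0⟩,800,62,27⟩,
   ⟨⟨-1,2,2,-1,-1,-1,2,0⟩,1056,175,202⟩,
   ⟨⟨-1,2,2,-1,-1,1,0,-2⟩,1056,62,123⟩,
   ⟨⟨-1,2,2,-1,-1,1,0,0⟩,796,36,225⟩,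
   ⟨⟨-1,2,2,-1,-1,1,0,2⟩,1056,62,123⟩,
   ⟨⟨-1,2,2,-1,1,-1,0,-2⟩,1056,181,0⟩,
   ⟨⟨-1,2,2,-1,1,-1,0,0⟩,796,175,154⟩,
   ⟨⟨-1,2,2,-1,1,-1,0,2⟩,1056,181,0⟩,
   ⟨⟨-1,2,2,-1,1,1,-2,0⟩,1056,36,177⟩,
   ⟨⟨-1,2,2,-1,1,1,0,0⟩,800,181,96⟩,
   ⟨⟨-1,2,2,-1,1,1,2,0⟩,1056,36,177⟩,
   ⟨⟨1,-2,-2,1,-1,-1,-2,0⟩,1056,36,177⟩,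
   ⟨⟨1,-2,-2,1,-1,-1,0,0⟩,800,181,96⟩,
   ⟨⟨1,-2,-2,1,-1,-1,2,0⟩,1056,36,177⟩,
   ⟨⟨1,-2,-2,1,-1,1,0,-2⟩,1056,181,0⟩,
   ⟨⟨1,-2,-2,1,-1,1,0,0⟩,796,175,154⟩,
   ⟨⟨1,-2,-2,1,-1,1,0,2⟩,1056,181,0⟩,
   ⟨⟨1,-2,-2,1,1,-1,0,-2⟩,1056,62,123⟩,
   ⟨⟨1,-2,-2,1,1,-1,0,0⟩,796,36,225⟩,
   ⟨⟨1,-2,-2,1,1,-1,0,2⟩,1056,62,123⟩,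
   ⟨⟨1,-2,-2,1,1,1,-2,0⟩,1056,175,202⟩,
   ⟨⟨1,-2,-2,1,1,1,0,0⟩,800,62,27⟩,
   ⟨⟨1,-2,-2,1,1,1,2,0⟩,1056,175,202⟩,
   ⟨⟨1,-2,0,-1,-1,-1,-2,2⟩,1056,181,0⟩,
   ⟨⟨1,-2,0,-1,-1,-1,0,0⟩,548,62,75⟩,
   ⟨⟨1,-2,0,-1,-1,-1,2,-2⟩,1056,181,0⟩,
   ⟨⟨1,-2,0,-1,-1,1,-2,0⟩,800,181,96⟩,
   ⟨⟨1,-2,0,-1,-1,1,0,0⟩,544,36,177⟩,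
   ⟨⟨1,-2,0,-1,-1,1,2,0⟩,800,181,96⟩,
   ⟨⟨1,-2,0,-1,1,-1,-2,0⟩,800,62,27⟩,
   ⟨⟨1,-2,0,-1,1,-1,0,0⟩,544,175,202⟩,
   ⟨⟨1,-2,0,-1,1,-1,2,0⟩,800,62,27⟩,
   ⟨⟨1,-2,0,-1,1,1,-2,2⟩,1056,62,123⟩,
   ⟨⟨1,-2,0,-1,1,1,0,0⟩,548,181,48⟩,
   ⟨⟨1,-2,0,-1,1,1,2,-2⟩,1056,62,123⟩,
   ⟨⟨1,-2,0,1,-1,-1,-2,2⟩,1056,175,202⟩,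
   ⟨⟨1,-2,0,1,-1,-1,0,0⟩,548,36,129⟩,
   ⟨⟨1,-2,0,1,-1,-1,2,-2⟩,1056,175,202⟩,
   ⟨⟨1,-2,0,1,-1,1,-2,0⟩,800,175,170⟩,
   ⟨⟨1,-2,0,1,-1,1,0,0⟩,544,62,123⟩,
   ⟨⟨1,-2,0,1,-1,1,2,0⟩,800,175,170⟩,
   ⟨⟨1,-2,0,1,1,-1,-2,0⟩,800,36,209⟩,
   ⟨⟨1,-2,0,1,1,-1,0,0⟩,544,181,0⟩,
   ⟨⟨1,-2,0,1,1,-1,2,0⟩,800,36,209⟩,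
   ⟨⟨1,-2,0,1,1,1,-2,2⟩,1056,36,177⟩,
   ⟨⟨1,-2,0,1,1,1,0,0⟩,548,175,250⟩,
   ⟨⟨1,-2,0,1,1,1,2,-2⟩,1056,36,177⟩,
   ⟨⟨1,-2,2,-1,-1,-1,-2,0⟩,1056,62,123⟩,
   ⟨⟨1,-2,2,-1,-1,-1,0,0⟩,800,175,170⟩,
   ⟨⟨1,-2,2,-1,-1,-1,2,0⟩,1056,62,123⟩,
   ⟨⟨1,-2,2,-1,-1,1,0,-2⟩,1056,175,202⟩,
   ⟨⟨1,-2,2,-1,-1,1,0,0⟩,796,181,80⟩,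
   ⟨⟨1,-2,2,-1,-1,1,0,2⟩,1056,175,202⟩,
   ⟨⟨1,-2,2,-1,1,-1,0,-2⟩,1056,36,177⟩,
   ⟨⟨1,-2,2,-1,1,-1,0,0⟩,796,62,43⟩,
   ⟨⟨1,-2,2,-1,1,-1,0,2⟩,1056,36,177⟩,
   ⟨⟨1,-2,2,-1,1,1,-2,0⟩,1056,181,0⟩,
   ⟨⟨1,-2,2,-1,1,1,0,0⟩,800,36,209⟩,
   ⟨⟨1,-2,2,-1,1,1,2,0⟩,1056,181,0⟩,
   ⟨⟨1,0,-2,-1,-3,1,0,0⟩,1056,62,123⟩,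
   ⟨⟨1,0,-2,-1,-1,1,-2,2⟩,1056,36,177⟩,
   ⟨⟨1,0,-2,-1,-1,1,0,0⟩,548,175,250⟩,
   ⟨⟨1,0,-2,-1,-1,1,2,-2⟩,1056,36,177⟩,
   ⟨⟨1,0,-2,-1,1,-1,-2,2⟩,1056,175,202⟩,
   ⟨⟨1,0,-2,-1,1,-1,0,0⟩,548,36,129⟩,
   ⟨⟨1,0,-2,-1,1,-1,2,-2⟩,1056,175,202⟩,
   ⟨⟨1,0,-2,-1,3,-1,0,0⟩,1056,181,0⟩,
   ⟨⟨1,0,-2,1,-1,-1,-2,0⟩,800,62,27⟩,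
   ⟨⟨1,0,-2,1,-1,-1,0,0⟩,544,175,202⟩,
   ⟨⟨1,0,-2,1,-1,-1,2,0⟩,800,62,27⟩,
   ⟨⟨1,0,-2,1,-1,1,-2,0⟩,796,36,225⟩,
   ⟨⟨1,0,-2,1,-1,1,0,-2⟩,800,175,170⟩,
   ⟨⟨1,0,-2,1,-1,1,0,0⟩,540,181,48⟩,
   ⟨⟨1,0,-2,1,-1,1,0,2⟩,800,175,170⟩,
   ⟨⟨1,0,-2,1,-1,1,2,0⟩,796,36,225⟩,
   ⟨⟨1,0,-2,1,-1,3,0,0⟩,1056,175,202⟩,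
   ⟨⟨1,0,-2,1,1,-3,0,0⟩,1056,36,177⟩,
   ⟨⟨1,0,-2,1,1,-1,-2,0⟩,796,175,154⟩,
   ⟨⟨1,0,-2,1,1,-1,0,-2⟩,800,36,209⟩,
   ⟨⟨1,0,-2,1,1,-1,0,0⟩,540,62,75⟩,
   ⟨⟨1,0,-2,1,1,-1,0,2⟩,800,36,209⟩,
   ⟨⟨1,0,-2,1,1,-1,2,0⟩,796,175,154⟩,
   ⟨⟨1,0,-2,1,1,1,-2,0⟩,800,181,96⟩,
   ⟨⟨1,0,-2,1,1,1,0,0⟩,544,36,177⟩,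
   ⟨⟨1,0,-2,1,1,1,2,0⟩,800,181,96⟩,
   ⟨⟨1,0,-2,3,-1,-1,0,0⟩,1056,181,0⟩,
   ⟨⟨1,0,-2,3,1,1,0,0⟩,1056,62,123⟩,
   ⟨⟨1,0,0,-1,-3,1,0,-2⟩,1056,181,0⟩,
   ⟨⟨1,0,0,-1,-3,1,0,0⟩,796,175,154⟩,
   ⟨⟨1,0,0,-1,-3,1,0,2⟩,1056,181,0⟩,
   ⟨⟨1,0,0,-1,-1,-1,-2,0⟩,548,181,48⟩,
   ⟨⟨1,0,0,-1,-1,-1,-2,2⟩,800,175,170⟩,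
   ⟨⟨1,0,0,-1,-1,-1,0,0⟩,292,36,225⟩,
   ⟨⟨1,0,0,-1,-1,-1,2,-2⟩,800,175,170⟩,
   ⟨⟨1,0,0,-1,-1,-1,2,0⟩,548,181,48⟩,
   ⟨⟨1,0,0,-1,-1,1,-2,0⟩,544,175,202⟩,
   ⟨⟨1,0,0,-1,-1,1,-2,2⟩,796,181,80⟩,
   ⟨⟨1,0,0,-1,-1,1,0,-2⟩,548,36,129⟩,
   ⟨⟨1,0,0,-1,-1,1,0,0⟩,288,62,27⟩,
   ⟨⟨1,0,0,-1,-1,1,0,2⟩,548,36,129⟩]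

def ekChunk11 : List EK :=
  [⟨⟨1,0,0,-1,-1,1,2,-2⟩,796,181,80⟩,
   ⟨⟨1,0,0,-1,-1,1,2,0⟩,544,175,202⟩,
   ⟨⟨1,0,0,-1,1,-1,-2,0⟩,544,36,177⟩,
   ⟨⟨1,0,0,-1,1,-1,-2,2⟩,796,62,43⟩,
   ⟨⟨1,0,0,-1,1,-1,0,-2⟩,548,175,250⟩,
   ⟨⟨1,0,0,-1,1,-1,0,0⟩,288,181,96⟩,
   ⟨⟨1,0,0,-1,1,-1,0,2⟩,548,175,250⟩,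
   ⟨⟨1,0,0,-1,1,-1,2,-2⟩,796,62,43⟩,
   ⟨⟨1,0,0,-1,1,-1,2,0⟩,544,36,177⟩,
   ⟨⟨1,0,0,-1,1,1,-2,0⟩,548,62,75⟩,
   ⟨⟨1,0,0,-1,1,1,-2,2⟩,800,36,209⟩,
   ⟨⟨1,0,0,-1,1,1,0,0⟩,292,175,154⟩,
   ⟨⟨1,0,0,-1,1,1,2,-2⟩,800,36,209⟩,
   ⟨⟨1,0,0,-1,1,1,2,0⟩,548,62,75⟩,
   ⟨⟨1,0,0,-1,3,-1,0,-2⟩,1056,62,123⟩,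
   ⟨⟨1,0,0,-1,3,-1,0,0⟩,796,36,225⟩,
   ⟨⟨1,0,0,-1,3,-1,0,2⟩,1056,62,123⟩,
   ⟨⟨1,0,0,1,-3,1,0,-2⟩,1056,175,202⟩,
   ⟨⟨1,0,0,1,-3,1,0,0⟩,796,181,80⟩,
   ⟨⟨1,0,0,1,-3,1,0,2⟩,1056,175,202⟩,
   ⟨⟨1,0,0,1,-1,-1,-2,0⟩,548,175,250⟩,
   ⟨⟨1,0,0,1,-1,-1,-2,2⟩,800,181,96⟩,
   ⟨⟨1,0,0,1,-1,-1,0,0⟩,292,62,43⟩,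
   ⟨⟨1,0,0,1,-1,-1,2,-2⟩,800,181,96⟩,
   ⟨⟨1,0,0,1,-1,-1,2,0⟩,548,175,250⟩,
   ⟨⟨1,0,0,1,-1,1,-2,0⟩,544,181,0⟩,
   ⟨⟨1,0,0,1,-1,1,-2,2⟩,796,175,154⟩,
   ⟨⟨1,0,0,1,-1,1,0,-2⟩,548,62,75⟩,
   ⟨⟨1,0,0,1,-1,1,0,0⟩,288,36,209⟩,
   ⟨⟨1,0,0,1,-1,1,0,2⟩,548,62,75⟩,
   ⟨⟨1,0,0,1,-1,1,2,-2⟩,796,175,154⟩,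
   ⟨⟨1,0,0,1,-1,1,2,0⟩,544,181,0⟩,
   ⟨⟨1,0,0,1,1,-1,-2,0⟩,544,62,123⟩,
   ⟨⟨1,0,0,1,1,-1,-2,2⟩,796,36,225⟩,
   ⟨⟨1,0,0,1,1,-1,0,-2⟩,548,181,48⟩,
   ⟨⟨1,0,0,1,1,-1,0,0⟩,288,175,170⟩,
   ⟨⟨1,0,0,1,1,-1,0,2⟩,548,181,48⟩,
   ⟨⟨1,0,0,1,1,-1,2,-2⟩,796,36,225⟩,
   ⟨⟨1,0,0,1,1,-1,2,0⟩,544,62,123⟩,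
   ⟨⟨1,0,0,1,1,1,-2,0⟩,548,36,129⟩,
   ⟨⟨1,0,0,1,1,1,-2,2⟩,800,62,27⟩,
   ⟨⟨1,0,0,1,1,1,0,0⟩,292,181,80⟩,
   ⟨⟨1,0,0,1,1,1,2,-2⟩,800,62,27⟩,
   ⟨⟨1,0,0,1,1,1,2,0⟩,548,36,129⟩,
   ⟨⟨1,0,0,1,3,-1,0,-2⟩,1056,36,177⟩,
   ⟨⟨1,0,0,1,3,-1,0,0⟩,796,62,43⟩,
   ⟨⟨1,0,0,1,3,-1,0,2⟩,1056,36,177⟩,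
   ⟨⟨1,0,2,-3,-1,-1,0,0⟩,1056,175,202⟩,
   ⟨⟨1,0,2,-3,1,1,0,0⟩,1056,36,177⟩,
   ⟨⟨1,0,2,-1,-1,-1,-2,0⟩,800,36,209⟩,
   ⟨⟨1,0,2,-1,-1,-1,0,0⟩,544,181,0⟩,
   ⟨⟨1,0,2,-1,-1,-1,2,0⟩,800,36,209⟩,
   ⟨⟨1,0,2,-1,-1,1,-2,0⟩,796,62,43⟩,
   ⟨⟨1,0,2,-1,-1,1,0,-2⟩,800,181,96⟩,
   ⟨⟨1,0,2,-1,-1,1,0,0⟩,540,175,250⟩,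
   ⟨⟨1,0,2,-1,-1,1,0,2⟩,800,181,96⟩,
   ⟨⟨1,0,2,-1,-1,1,2,0⟩,796,62,43⟩,
   ⟨⟨1,0,2,-1,-1,3,0,0⟩,1056,181,0⟩,
   ⟨⟨1,0,2,-1,1,-3,0,0⟩,1056,62,123⟩,
   ⟨⟨1,0,2,-1,1,-1,-2,0⟩,796,181,80⟩,
   ⟨⟨1,0,2,-1,1,-1,0,-2⟩,800,62,27⟩,
   ⟨⟨1,0,2,-1,1,-1,0,0⟩,540,36,129⟩,
   ⟨⟨1,0,2,-1,1,-1,0,2⟩,800,62,27⟩,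
   ⟨⟨1,0,2,-1,1,-1,2,0⟩,796,181,80⟩,
   ⟨⟨1,0,2,-1,1,1,-2,0⟩,800,175,170⟩,
   ⟨⟨1,0,2,-1,1,1,0,0⟩,544,62,123⟩,
   ⟨⟨1,0,2,-1,1,1,2,0⟩,800,175,170⟩,
   ⟨⟨1,0,2,1,-3,1,0,0⟩,1056,36,177⟩,
   ⟨⟨1,0,2,1,-1,1,-2,2⟩,1056,62,123⟩,
   ⟨⟨1,0,2,1,-1,1,0,0⟩,548,181,48⟩,
   ⟨⟨1,0,2,1,-1,1,2,-2⟩,1056,62,123⟩,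
   ⟨⟨1,0,2,1,1,-1,-2,2⟩,1056,181,0⟩,
   ⟨⟨1,0,2,1,1,-1,0,0⟩,548,62,75⟩,
   ⟨⟨1,0,2,1,1,-1,2,-2⟩,1056,181,0⟩,
   ⟨⟨1,0,2,1,3,-1,0,0⟩,1056,175,202⟩,
   ⟨⟨3,0,-2,1,-1,-1,0,0⟩,1056,62,123⟩,
   ⟨⟨3,0,-2,1,1,1,0,0⟩,1056,181,0⟩,
   ⟨⟨3,0,0,-1,-1,1,-2,0⟩,1056,62,123⟩,
   ⟨⟨3,0,0,-1,-1,1,0,0⟩,800,175,170⟩,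
   ⟨⟨3,0,0,-1,-1,1,2,0⟩,1056,62,123⟩,
   ⟨⟨3,0,0,-1,1,-1,-2,0⟩,1056,181,0⟩,
   ⟨⟨3,0,0,-1,1,-1,0,0⟩,800,36,209⟩,
   ⟨⟨3,0,0,-1,1,-1,2,0⟩,1056,181,0⟩,
   ⟨⟨3,0,0,1,-1,1,-2,0⟩,1056,36,177⟩,
   ⟨⟨3,0,0,1,-1,1,0,0⟩,800,181,96⟩,
   ⟨⟨3,0,0,1,-1,1,2,0⟩,1056,36,177⟩,
   ⟨⟨3,0,0,1,1,-1,-2,0⟩,1056,175,202⟩,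
   ⟨⟨3,0,0,1,1,-1,0,0⟩,800,62,27⟩,
   ⟨⟨3,0,0,1,1,-1,2,0⟩,1056,175,202⟩,
   ⟨⟨3,0,2,-1,-1,-1,0,0⟩,1056,36,177⟩,
   ⟨⟨3,0,2,-1,1,1,0,0⟩,1056,175,202⟩,
   ⟨⟨-3,1,-2,-1,0,0,-1,0⟩,1056,12,27⟩,
   ⟨⟨-3,1,-2,-1,0,0,1,0⟩,1056,157,202⟩,
   ⟨⟨-3,1,0,-1,0,-2,-1,0⟩,1056,135,0⟩,
   ⟨⟨-3,1,0,-1,0,-2,1,0⟩,1056,22,209⟩,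
   ⟨⟨-3,1,0,-1,0,0,-1,0⟩,796,157,250⟩,
   ⟨⟨-3,1,0,-1,0,0,1,0⟩,796,12,43⟩,
   ⟨⟨-3,1,0,-1,0,2,-1,0⟩,1056,135,0⟩,
   ⟨⟨-3,1,0,-1,0,2,1,0⟩,1056,22,209⟩,
   ⟨⟨-3,1,0,1,0,-2,-1,0⟩,1056,157,202⟩,
   ⟨⟨-3,1,0,1,0,-2,1,0⟩,1056,12,27⟩,
   ⟨⟨-3,1,0,1,0,0,-1,0⟩,796,135,48⟩,
   ⟨⟨-3,1,0,1,0,0,1,0⟩,796,22,225⟩,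
   ⟨⟨-3,1,0,1,0,2,-1,0⟩,1056,157,202⟩,
   ⟨⟨-3,1,0,1,0,2,1,0⟩,1056,12,27⟩,
   ⟨⟨-3,1,2,1,0,0,-1,0⟩,1056,22,209⟩,
   ⟨⟨-3,1,2,1,0,0,1,0⟩,1056,135,0⟩,
   ⟨⟨-1,-1,-2,1,-2,0,-1,0⟩,800,12,75⟩,
   ⟨⟨-1,-1,-2,1,-2,0,-1,2⟩,1056,22,209⟩,
   ⟨⟨-1,-1,-2,1,-2,0,1,-2⟩,1056,135,0⟩,
   ⟨⟨-1,-1,-2,1,-2,0,1,0⟩,800,157,154⟩,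
   ⟨⟨-1,-1,-2,1,0,0,-3,0⟩,1056,12,27⟩,
   ⟨⟨-1,-1,-2,1,0,0,-1,0⟩,544,157,202⟩,
   ⟨⟨-1,-1,-2,1,0,0,-1,2⟩,800,135,80⟩,
   ⟨⟨-1,-1,-2,1,0,0,1,-2⟩,800,22,129⟩,
   ⟨⟨-1,-1,-2,1,0,0,1,0⟩,544,12,27⟩,
   ⟨⟨-1,-1,-2,1,0,0,3,0⟩,1056,157,202⟩,
   ⟨⟨-1,-1,-2,1,2,0,-1,0⟩,800,12,75⟩,
   ⟨⟨-1,-1,-2,1,2,0,-1,2⟩,1056,22,209⟩,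
   ⟨⟨-1,-1,-2,1,2,0,1,-2⟩,1056,135,0⟩,
   ⟨⟨-1,-1,-2,1,2,0,1,0⟩,800,157,154⟩,
   ⟨⟨-1,-1,-2,3,0,0,-1,0⟩,1056,135,0⟩,
   ⟨⟨-1,-1,-2,3,0,0,1,0⟩,1056,22,209⟩,
   ⟨⟨-1,-1,0,-1,-2,0,-1,0⟩,548,135,96⟩,
   ⟨⟨-1,-1,0,-1,-2,0,1,0⟩,548,22,177⟩,
   ⟨⟨-1,-1,0,-1,-2,2,-1,0⟩,800,157,154⟩,
   ⟨⟨-1,-1,0,-1,-2,2,-1,2⟩,1056,135,0⟩,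
   ⟨⟨-1,-1,0,-1,-2,2,1,-2⟩,1056,22,209⟩,
   ⟨⟨-1,-1,0,-1,-2,2,1,0⟩,800,12,75⟩,
   ⟨⟨-1,-1,0,-1,0,0,-1,0⟩,292,22,225⟩]

def ekChunk12 : List EK :=
  [⟨⟨-1,-1,0,-1,0,0,-1,2⟩,548,12,123⟩,
   ⟨⟨-1,-1,0,-1,0,0,1,-2⟩,548,157,170⟩,
   ⟨⟨-1,-1,0,-1,0,0,1,0⟩,292,135,48⟩,
   ⟨⟨-1,-1,0,-1,2,-2,-1,0⟩,800,157,154⟩,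
   ⟨⟨-1,-1,0,-1,2,-2,-1,2⟩,1056,135,0⟩,
   ⟨⟨-1,-1,0,-1,2,-2,1,-2⟩,1056,22,209⟩,
   ⟨⟨-1,-1,0,-1,2,-2,1,0⟩,800,12,75⟩,
   ⟨⟨-1,-1,0,-1,2,0,-1,0⟩,548,135,96⟩,
   ⟨⟨-1,-1,0,-1,2,0,1,0⟩,548,22,177⟩,
   ⟨⟨-1,-1,0,1,-2,0,-1,0⟩,548,157,170⟩,
   ⟨⟨-1,-1,0,1,-2,0,1,0⟩,548,12,123⟩,
   ⟨⟨-1,-1,0,1,-2,2,-1,0⟩,800,135,80⟩,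
   ⟨⟨-1,-1,0,1,-2,2,-1,2⟩,1056,157,202⟩,
   ⟨⟨-1,-1,0,1,-2,2,1,-2⟩,1056,12,27⟩,
   ⟨⟨-1,-1,0,1,-2,2,1,0⟩,800,22,129⟩,
   ⟨⟨-1,-1,0,1,0,0,-1,0⟩,292,12,43⟩,
   ⟨⟨-1,-1,0,1,0,0,-1,2⟩,548,22,177⟩,
   ⟨⟨-1,-1,0,1,0,0,1,-2⟩,548,135,96⟩,
   ⟨⟨-1,-1,0,1,0,0,1,0⟩,292,157,250⟩,
   ⟨⟨-1,-1,0,1,2,-2,-1,0⟩,800,135,80⟩,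
   ⟨⟨-1,-1,0,1,2,-2,-1,2⟩,1056,157,202⟩,
   ⟨⟨-1,-1,0,1,2,-2,1,-2⟩,1056,12,27⟩,
   ⟨⟨-1,-1,0,1,2,-2,1,0⟩,800,22,129⟩,
   ⟨⟨-1,-1,0,1,2,0,-1,0⟩,548,157,170⟩,
   ⟨⟨-1,-1,0,1,2,0,1,0⟩,548,12,123⟩,
   ⟨⟨-1,-1,2,-3,0,0,-1,0⟩,1056,157,202⟩,
   ⟨⟨-1,-1,2,-3,0,0,1,0⟩,1056,12,27⟩,
   ⟨⟨-1,-1,2,-1,-2,0,-1,0⟩,800,22,129⟩,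
   ⟨⟨-1,-1,2,-1,-2,0,-1,2⟩,1056,12,27⟩,
   ⟨⟨-1,-1,2,-1,-2,0,1,-2⟩,1056,157,202⟩,
   ⟨⟨-1,-1,2,-1,-2,0,1,0⟩,800,135,80⟩,
   ⟨⟨-1,-1,2,-1,0,0,-3,0⟩,1056,22,209⟩,
   ⟨⟨-1,-1,2,-1,0,0,-1,0⟩,544,135,0⟩,
   ⟨⟨-1,-1,2,-1,0,0,-1,2⟩,800,157,154⟩,
   ⟨⟨-1,-1,2,-1,0,0,1,-2⟩,800,12,75⟩,
   ⟨⟨-1,-1,2,-1,0,0,1,0⟩,544,22,209⟩,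
   ⟨⟨-1,-1,2,-1,0,0,3,0⟩,1056,135,0⟩,
   ⟨⟨-1,-1,2,-1,2,0,-1,0⟩,800,22,129⟩,
   ⟨⟨-1,-1,2,-1,2,0,-1,2⟩,1056,12,27⟩,
   ⟨⟨-1,-1,2,-1,2,0,1,-2⟩,1056,157,202⟩,
   ⟨⟨-1,-1,2,-1,2,0,1,0⟩,800,135,80⟩,
   ⟨⟨-1,1,-2,-1,-2,2,-1,0⟩,1056,22,209⟩,
   ⟨⟨-1,1,-2,-1,-2,2,1,0⟩,1056,135,0⟩,
   ⟨⟨-1,1,-2,-1,0,0,-1,0⟩,548,157,170⟩,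
   ⟨⟨-1,1,-2,-1,0,0,1,0⟩,548,12,123⟩,
   ⟨⟨-1,1,-2,-1,2,-2,-1,0⟩,1056,22,209⟩,
   ⟨⟨-1,1,-2,-1,2,-2,1,0⟩,1056,135,0⟩,
   ⟨⟨-1,1,-2,1,-2,0,-1,0⟩,796,22,225⟩,
   ⟨⟨-1,1,-2,1,-2,0,1,0⟩,796,135,48⟩,
   ⟨⟨-1,1,-2,1,0,-2,-1,0⟩,800,157,154⟩,
   ⟨⟨-1,1,-2,1,0,-2,-1,2⟩,1056,135,0⟩,
   ⟨⟨-1,1,-2,1,0,-2,1,-2⟩,1056,22,209⟩,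
   ⟨⟨-1,1,-2,1,0,-2,1,0⟩,800,12,75⟩,
   ⟨⟨-1,1,-2,1,0,0,-1,0⟩,540,135,96⟩,
   ⟨⟨-1,1,-2,1,0,0,-1,2⟩,796,157,250⟩,
   ⟨⟨-1,1,-2,1,0,0,1,-2⟩,796,12,43⟩,
   ⟨⟨-1,1,-2,1,0,0,1,0⟩,540,22,177⟩,
   ⟨⟨-1,1,-2,1,0,2,-1,0⟩,800,157,154⟩,
   ⟨⟨-1,1,-2,1,0,2,-1,2⟩,1056,135,0⟩,
   ⟨⟨-1,1,-2,1,0,2,1,-2⟩,1056,22,209⟩,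
   ⟨⟨-1,1,-2,1,0,2,1,0⟩,800,12,75⟩,
   ⟨⟨-1,1,-2,1,2,0,-1,0⟩,796,22,225⟩,
   ⟨⟨-1,1,-2,1,2,0,1,0⟩,796,135,48⟩,
   ⟨⟨-1,1,0,-1,-2,0,-3,0⟩,1056,12,27⟩,
   ⟨⟨-1,1,0,-1,-2,0,-1,0⟩,544,157,202⟩,
   ⟨⟨-1,1,0,-1,-2,0,-1,2⟩,800,135,80⟩,
   ⟨⟨-1,1,0,-1,-2,0,1,-2⟩,800,22,129⟩,
   ⟨⟨-1,1,0,-1,-2,0,1,0⟩,544,12,27⟩,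
   ⟨⟨-1,1,0,-1,-2,0,3,0⟩,1056,157,202⟩,
   ⟨⟨-1,1,0,-1,-2,2,-1,0⟩,796,135,48⟩,
   ⟨⟨-1,1,0,-1,-2,2,1,0⟩,796,22,225⟩,
   ⟨⟨-1,1,0,-1,0,-2,-1,0⟩,548,22,177⟩,
   ⟨⟨-1,1,0,-1,0,-2,1,0⟩,548,135,96⟩,
   ⟨⟨-1,1,0,-1,0,0,-3,0⟩,800,157,154⟩,
   ⟨⟨-1,1,0,-1,0,0,-1,0⟩,288,12,75⟩,
   ⟨⟨-1,1,0,-1,0,0,-1,2⟩,544,22,209⟩,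
   ⟨⟨-1,1,0,-1,0,0,1,-2⟩,544,135,0⟩,
   ⟨⟨-1,1,0,-1,0,0,1,0⟩,288,157,154⟩,
   ⟨⟨-1,1,0,-1,0,0,3,0⟩,800,12,75⟩,
   ⟨⟨-1,1,0,-1,0,2,-1,0⟩,548,22,177⟩,
   ⟨⟨-1,1,0,-1,0,2,1,0⟩,548,135,96⟩,
   ⟨⟨-1,1,0,-1,2,-2,-1,0⟩,796,135,48⟩,
   ⟨⟨-1,1,0,-1,2,-2,1,0⟩,796,22,225⟩,
   ⟨⟨-1,1,0,-1,2,0,-3,0⟩,1056,12,27⟩,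
   ⟨⟨-1,1,0,-1,2,0,-1,0⟩,544,157,202⟩,
   ⟨⟨-1,1,0,-1,2,0,-1,2⟩,800,135,80⟩,
   ⟨⟨-1,1,0,-1,2,0,1,-2⟩,800,22,129⟩,
   ⟨⟨-1,1,0,-1,2,0,1,0⟩,544,12,27⟩,
   ⟨⟨-1,1,0,-1,2,0,3,0⟩,1056,157,202⟩,
   ⟨⟨-1,1,0,1,-2,0,-3,0⟩,1056,22,209⟩,
   ⟨⟨-1,1,0,1,-2,0,-1,0⟩,544,135,0⟩,
   ⟨⟨-1,1,0,1,-2,0,-1,2⟩,800,157,154⟩,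
   ⟨⟨-1,1,0,1,-2,0,1,-2⟩,800,12,75⟩,
   ⟨⟨-1,1,0,1,-2,0,1,0⟩,544,22,209⟩,
   ⟨⟨-1,1,0,1,-2,0,3,0⟩,1056,135,0⟩,
   ⟨⟨-1,1,0,1,-2,2,-1,0⟩,796,157,250⟩,
   ⟨⟨-1,1,0,1,-2,2,1,0⟩,796,12,43⟩,
   ⟨⟨-1,1,0,1,0,-2,-1,0⟩,548,12,123⟩,
   ⟨⟨-1,1,0,1,0,-2,1,0⟩,548,157,170⟩,
   ⟨⟨-1,1,0,1,0,0,-3,0⟩,800,135,80⟩,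
   ⟨⟨-1,1,0,1,0,0,-1,0⟩,288,22,129⟩,
   ⟨⟨-1,1,0,1,0,0,-1,2⟩,544,12,27⟩,
   ⟨⟨-1,1,0,1,0,0,1,-2⟩,544,157,202⟩,
   ⟨⟨-1,1,0,1,0,0,1,0⟩,288,135,80⟩,
   ⟨⟨-1,1,0,1,0,0,3,0⟩,800,22,129⟩,
   ⟨⟨-1,1,0,1,0,2,-1,0⟩,548,12,123⟩,
   ⟨⟨-1,1,0,1,0,2,1,0⟩,548,157,170⟩,
   ⟨⟨-1,1,0,1,2,-2,-1,0⟩,796,157,250⟩,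
   ⟨⟨-1,1,0,1,2,-2,1,0⟩,796,12,43⟩,
   ⟨⟨-1,1,0,1,2,0,-3,0⟩,1056,22,209⟩,
   ⟨⟨-1,1,0,1,2,0,-1,0⟩,544,135,0⟩,
   ⟨⟨-1,1,0,1,2,0,-1,2⟩,800,157,154⟩,
   ⟨⟨-1,1,0,1,2,0,1,-2⟩,800,12,75⟩,
   ⟨⟨-1,1,0,1,2,0,1,0⟩,544,22,209⟩,
   ⟨⟨-1,1,0,1,2,0,3,0⟩,1056,135,0⟩,
   ⟨⟨-1,1,2,-1,-2,0,-1,0⟩,796,12,43⟩,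
   ⟨⟨-1,1,2,-1,-2,0,1,0⟩,796,157,250⟩,
   ⟨⟨-1,1,2,-1,0,-2,-1,0⟩,800,135,80⟩,
   ⟨⟨-1,1,2,-1,0,-2,-1,2⟩,1056,157,202⟩,
   ⟨⟨-1,1,2,-1,0,-2,1,-2⟩,1056,12,27⟩,
   ⟨⟨-1,1,2,-1,0,-2,1,0⟩,800,22,129⟩,
   ⟨⟨-1,1,2,-1,0,0,-1,0⟩,540,157,170⟩,
   ⟨⟨-1,1,2,-1,0,0,-1,2⟩,796,135,48⟩,
   ⟨⟨-1,1,2,-1,0,0,1,-2⟩,796,22,225⟩,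
   ⟨⟨-1,1,2,-1,0,0,1,0⟩,540,12,123⟩,
   ⟨⟨-1,1,2,-1,0,2,-1,0⟩,800,135,80⟩,
   ⟨⟨-1,1,2,-1,0,2,-1,2⟩,1056,157,202⟩,
   ⟨⟨-1,1,2,-1,0,2,1,-2⟩,1056,12,27⟩,
   ⟨⟨-1,1,2,-1,0,2,1,0⟩,800,22,129⟩,
   ⟨⟨-1,1,2,-1,2,0,-1,0⟩,796,12,43⟩]

def ekChunk13 : List EK :=
  [⟨⟨-1,1,2,-1,2,0,1,0⟩,796,157,250⟩,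
   ⟨⟨-1,1,2,1,-2,2,-1,0⟩,1056,12,27⟩,
   ⟨⟨-1,1,2,1,-2,2,1,0⟩,1056,157,202⟩,
   ⟨⟨-1,1,2,1,0,0,-1,0⟩,548,135,96⟩,
   ⟨⟨-1,1,2,1,0,0,1,0⟩,548,22,177⟩,
   ⟨⟨-1,1,2,1,2,-2,-1,0⟩,1056,12,27⟩,
   ⟨⟨-1,1,2,1,2,-2,1,0⟩,1056,157,202⟩,
   ⟨⟨-1,3,-2,1,0,0,-1,0⟩,1056,157,202⟩,
   ⟨⟨-1,3,-2,1,0,0,1,0⟩,1056,12,27⟩,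
   ⟨⟨-1,3,2,-1,0,0,-1,0⟩,1056,135,0⟩,
   ⟨⟨-1,3,2,-1,0,0,1,0⟩,1056,22,209⟩,
   ⟨⟨1,-3,-2,1,0,0,-1,0⟩,1056,22,209⟩,
   ⟨⟨1,-3,-2,1,0,0,1,0⟩,1056,135,0⟩,
   ⟨⟨1,-3,2,-1,0,0,-1,0⟩,1056,12,27⟩,
   ⟨⟨1,-3,2,-1,0,0,1,0⟩,1056,157,202⟩,
   ⟨⟨1,-1,-2,-1,-2,2,-1,0⟩,1056,157,202⟩,
   ⟨⟨1,-1,-2,-1,-2,2,1,0⟩,1056,12,27⟩,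
   ⟨⟨1,-1,-2,-1,0,0,-1,0⟩,548,22,177⟩,
   ⟨⟨1,-1,-2,-1,0,0,1,0⟩,548,135,96⟩,
   ⟨⟨1,-1,-2,-1,2,-2,-1,0⟩,1056,157,202⟩,
   ⟨⟨1,-1,-2,-1,2,-2,1,0⟩,1056,12,27⟩,
   ⟨⟨1,-1,-2,1,-2,0,-1,0⟩,796,157,250⟩,
   ⟨⟨1,-1,-2,1,-2,0,1,0⟩,796,12,43⟩,
   ⟨⟨1,-1,-2,1,0,-2,-1,0⟩,800,22,129⟩,
   ⟨⟨1,-1,-2,1,0,-2,-1,2⟩,1056,12,27⟩,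
   ⟨⟨1,-1,-2,1,0,-2,1,-2⟩,1056,157,202⟩,
   ⟨⟨1,-1,-2,1,0,-2,1,0⟩,800,135,80⟩,
   ⟨⟨1,-1,-2,1,0,0,-1,0⟩,540,12,123⟩,
   ⟨⟨1,-1,-2,1,0,0,-1,2⟩,796,22,225⟩,
   ⟨⟨1,-1,-2,1,0,0,1,-2⟩,796,135,48⟩,
   ⟨⟨1,-1,-2,1,0,0,1,0⟩,540,157,170⟩,
   ⟨⟨1,-1,-2,1,0,2,-1,0⟩,800,22,129⟩,
   ⟨⟨1,-1,-2,1,0,2,-1,2⟩,1056,12,27⟩,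
   ⟨⟨1,-1,-2,1,0,2,1,-2⟩,1056,157,202⟩,
   ⟨⟨1,-1,-2,1,0,2,1,0⟩,800,135,80⟩,
   ⟨⟨1,-1,-2,1,2,0,-1,0⟩,796,157,250⟩,
   ⟨⟨1,-1,-2,1,2,0,1,0⟩,796,12,43⟩,
   ⟨⟨1,-1,0,-1,-2,0,-3,0⟩,1056,135,0⟩,
   ⟨⟨1,-1,0,-1,-2,0,-1,0⟩,544,22,209⟩,
   ⟨⟨1,-1,0,-1,-2,0,-1,2⟩,800,12,75⟩,
   ⟨⟨1,-1,0,-1,-2,0,1,-2⟩,800,157,154⟩,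
   ⟨⟨1,-1,0,-1,-2,0,1,0⟩,544,135,0⟩,
   ⟨⟨1,-1,0,-1,-2,0,3,0⟩,1056,22,209⟩,
   ⟨⟨1,-1,0,-1,-2,2,-1,0⟩,796,12,43⟩,
   ⟨⟨1,-1,0,-1,-2,2,1,0⟩,796,157,250⟩,
   ⟨⟨1,-1,0,-1,0,-2,-1,0⟩,548,157,170⟩,
   ⟨⟨1,-1,0,-1,0,-2,1,0⟩,548,12,123⟩,
   ⟨⟨1,-1,0,-1,0,0,-3,0⟩,800,22,129⟩,
   ⟨⟨1,-1,0,-1,0,0,-1,0⟩,288,135,80⟩,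
   ⟨⟨1,-1,0,-1,0,0,-1,2⟩,544,157,202⟩,
   ⟨⟨1,-1,0,-1,0,0,1,-2⟩,544,12,27⟩,
   ⟨⟨1,-1,0,-1,0,0,1,0⟩,288,22,129⟩,
   ⟨⟨1,-1,0,-1,0,0,3,0⟩,800,135,80⟩,
   ⟨⟨1,-1,0,-1,0,2,-1,0⟩,548,157,170⟩,
   ⟨⟨1,-1,0,-1,0,2,1,0⟩,548,12,123⟩,
   ⟨⟨1,-1,0,-1,2,-2,-1,0⟩,796,12,43⟩,
   ⟨⟨1,-1,0,-1,2,-2,1,0⟩,796,157,250⟩,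
   ⟨⟨1,-1,0,-1,2,0,-3,0⟩,1056,135,0⟩,
   ⟨⟨1,-1,0,-1,2,0,-1,0⟩,544,22,209⟩,
   ⟨⟨1,-1,0,-1,2,0,-1,2⟩,800,12,75⟩,
   ⟨⟨1,-1,0,-1,2,0,1,-2⟩,800,157,154⟩,
   ⟨⟨1,-1,0,-1,2,0,1,0⟩,544,135,0⟩,
   ⟨⟨1,-1,0,-1,2,0,3,0⟩,1056,22,209⟩,
   ⟨⟨1,-1,0,1,-2,0,-3,0⟩,1056,157,202⟩,
   ⟨⟨1,-1,0,1,-2,0,-1,0⟩,544,12,27⟩,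
   ⟨⟨1,-1,0,1,-2,0,-1,2⟩,800,22,129⟩,
   ⟨⟨1,-1,0,1,-2,0,1,-2⟩,800,135,80⟩,
   ⟨⟨1,-1,0,1,-2,0,1,0⟩,544,157,202⟩,
   ⟨⟨1,-1,0,1,-2,0,3,0⟩,1056,12,27⟩,
   ⟨⟨1,-1,0,1,-2,2,-1,0⟩,796,22,225⟩,
   ⟨⟨1,-1,0,1,-2,2,1,0⟩,796,135,48⟩,
   ⟨⟨1,-1,0,1,0,-2,-1,0⟩,548,135,96⟩,
   ⟨⟨1,-1,0,1,0,-2,1,0⟩,548,22,177⟩,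
   ⟨⟨1,-1,0,1,0,0,-3,0⟩,800,12,75⟩,
   ⟨⟨1,-1,0,1,0,0,-1,0⟩,288,157,154⟩,
   ⟨⟨1,-1,0,1,0,0,-1,2⟩,544,135,0⟩,
   ⟨⟨1,-1,0,1,0,0,1,-2⟩,544,22,209⟩,
   ⟨⟨1,-1,0,1,0,0,1,0⟩,288,12,75⟩,
   ⟨⟨1,-1,0,1,0,0,3,0⟩,800,157,154⟩,
   ⟨⟨1,-1,0,1,0,2,-1,0⟩,548,135,96⟩,
   ⟨⟨1,-1,0,1,0,2,1,0⟩,548,22,177⟩,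
   ⟨⟨1,-1,0,1,2,-2,-1,0⟩,796,22,225⟩,
   ⟨⟨1,-1,0,1,2,-2,1,0⟩,796,135,48⟩,
   ⟨⟨1,-1,0,1,2,0,-3,0⟩,1056,157,202⟩,
   ⟨⟨1,-1,0,1,2,0,-1,0⟩,544,12,27⟩,
   ⟨⟨1,-1,0,1,2,0,-1,2⟩,800,22,129⟩,
   ⟨⟨1,-1,0,1,2,0,1,-2⟩,800,135,80⟩,
   ⟨⟨1,-1,0,1,2,0,1,0⟩,544,157,202⟩,
   ⟨⟨1,-1,0,1,2,0,3,0⟩,1056,12,27⟩,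
   ⟨⟨1,-1,2,-1,-2,0,-1,0⟩,796,135,48⟩,
   ⟨⟨1,-1,2,-1,-2,0,1,0⟩,796,22,225⟩,
   ⟨⟨1,-1,2,-1,0,-2,-1,0⟩,800,12,75⟩,
   ⟨⟨1,-1,2,-1,0,-2,-1,2⟩,1056,22,209⟩,
   ⟨⟨1,-1,2,-1,0,-2,1,-2⟩,1056,135,0⟩,
   ⟨⟨1,-1,2,-1,0,-2,1,0⟩,800,157,154⟩,
   ⟨⟨1,-1,2,-1,0,0,-1,0⟩,540,22,177⟩,
   ⟨⟨1,-1,2,-1,0,0,-1,2⟩,796,12,43⟩,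
   ⟨⟨1,-1,2,-1,0,0,1,-2⟩,796,157,250⟩,
   ⟨⟨1,-1,2,-1,0,0,1,0⟩,540,135,96⟩,
   ⟨⟨1,-1,2,-1,0,2,-1,0⟩,800,12,75⟩,
   ⟨⟨1,-1,2,-1,0,2,-1,2⟩,1056,22,209⟩,
   ⟨⟨1,-1,2,-1,0,2,1,-2⟩,1056,135,0⟩,
   ⟨⟨1,-1,2,-1,0,2,1,0⟩,800,157,154⟩,
   ⟨⟨1,-1,2,-1,2,0,-1,0⟩,796,135,48⟩,
   ⟨⟨1,-1,2,-1,2,0,1,0⟩,796,22,225⟩,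
   ⟨⟨1,-1,2,1,-2,2,-1,0⟩,1056,135,0⟩,
   ⟨⟨1,-1,2,1,-2,2,1,0⟩,1056,22,209⟩,
   ⟨⟨1,-1,2,1,0,0,-1,0⟩,548,12,123⟩,
   ⟨⟨1,-1,2,1,0,0,1,0⟩,548,157,170⟩,
   ⟨⟨1,-1,2,1,2,-2,-1,0⟩,1056,135,0⟩,
   ⟨⟨1,-1,2,1,2,-2,1,0⟩,1056,22,209⟩,
   ⟨⟨1,1,-2,1,-2,0,-1,0⟩,800,135,80⟩,
   ⟨⟨1,1,-2,1,-2,0,-1,2⟩,1056,157,202⟩,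
   ⟨⟨1,1,-2,1,-2,0,1,-2⟩,1056,12,27⟩,
   ⟨⟨1,1,-2,1,-2,0,1,0⟩,800,22,129⟩,
   ⟨⟨1,1,-2,1,0,0,-3,0⟩,1056,135,0⟩,
   ⟨⟨1,1,-2,1,0,0,-1,0⟩,544,22,209⟩,
   ⟨⟨1,1,-2,1,0,0,-1,2⟩,800,12,75⟩,
   ⟨⟨1,1,-2,1,0,0,1,-2⟩,800,157,154⟩,
   ⟨⟨1,1,-2,1,0,0,1,0⟩,544,135,0⟩,
   ⟨⟨1,1,-2,1,0,0,3,0⟩,1056,22,209⟩,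
   ⟨⟨1,1,-2,1,2,0,-1,0⟩,800,135,80⟩,
   ⟨⟨1,1,-2,1,2,0,-1,2⟩,1056,157,202⟩,
   ⟨⟨1,1,-2,1,2,0,1,-2⟩,1056,12,27⟩,
   ⟨⟨1,1,-2,1,2,0,1,0⟩,800,22,129⟩,
   ⟨⟨1,1,-2,3,0,0,-1,0⟩,1056,12,27⟩,
   ⟨⟨1,1,-2,3,0,0,1,0⟩,1056,157,202⟩,
   ⟨⟨1,1,0,-1,-2,0,-1,0⟩,548,12,123⟩,
   ⟨⟨1,1,0,-1,-2,0,1,0⟩,548,157,170⟩,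
   ⟨⟨1,1,0,-1,-2,2,-1,0⟩,800,22,129⟩]

def ekChunk14 : List EK :=
  [⟨⟨1,1,0,-1,-2,2,-1,2⟩,1056,12,27⟩,
   ⟨⟨1,1,0,-1,-2,2,1,-2⟩,1056,157,202⟩,
   ⟨⟨1,1,0,-1,-2,2,1,0⟩,800,135,80⟩,
   ⟨⟨1,1,0,-1,0,0,-1,0⟩,292,157,250⟩,
   ⟨⟨1,1,0,-1,0,0,-1,2⟩,548,135,96⟩,
   ⟨⟨1,1,0,-1,0,0,1,-2⟩,548,22,177⟩,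
   ⟨⟨1,1,0,-1,0,0,1,0⟩,292,12,43⟩,
   ⟨⟨1,1,0,-1,2,-2,-1,0⟩,800,22,129⟩,
   ⟨⟨1,1,0,-1,2,-2,-1,2⟩,1056,12,27⟩,
   ⟨⟨1,1,0,-1,2,-2,1,-2⟩,1056,157,202⟩,
   ⟨⟨1,1,0,-1,2,-2,1,0⟩,800,135,80⟩,
   ⟨⟨1,1,0,-1,2,0,-1,0⟩,548,12,123⟩,
   ⟨⟨1,1,0,-1,2,0,1,0⟩,548,157,170⟩,
   ⟨⟨1,1,0,1,-2,0,-1,0⟩,548,22,177⟩,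
   ⟨⟨1,1,0,1,-2,0,1,0⟩,548,135,96⟩,
   ⟨⟨1,1,0,1,-2,2,-1,0⟩,800,12,75⟩,
   ⟨⟨1,1,0,1,-2,2,-1,2⟩,1056,22,209⟩,
   ⟨⟨1,1,0,1,-2,2,1,-2⟩,1056,135,0⟩,
   ⟨⟨1,1,0,1,-2,2,1,0⟩,800,157,154⟩,
   ⟨⟨1,1,0,1,0,0,-1,0⟩,292,135,48⟩,
   ⟨⟨1,1,0,1,0,0,-1,2⟩,548,157,170⟩,
   ⟨⟨1,1,0,1,0,0,1,-2⟩,548,12,123⟩,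
   ⟨⟨1,1,0,1,0,0,1,0⟩,292,22,225⟩,
   ⟨⟨1,1,0,1,2,-2,-1,0⟩,800,12,75⟩,
   ⟨⟨1,1,0,1,2,-2,-1,2⟩,1056,22,209⟩,
   ⟨⟨1,1,0,1,2,-2,1,-2⟩,1056,135,0⟩,
   ⟨⟨1,1,0,1,2,-2,1,0⟩,800,157,154⟩,
   ⟨⟨1,1,0,1,2,0,-1,0⟩,548,22,177⟩,
   ⟨⟨1,1,0,1,2,0,1,0⟩,548,135,96⟩,
   ⟨⟨1,1,2,-3,0,0,-1,0⟩,1056,22,209⟩,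
   ⟨⟨1,1,2,-3,0,0,1,0⟩,1056,135,0⟩,
   ⟨⟨1,1,2,-1,-2,0,-1,0⟩,800,157,154⟩,
   ⟨⟨1,1,2,-1,-2,0,-1,2⟩,1056,135,0⟩,
   ⟨⟨1,1,2,-1,-2,0,1,-2⟩,1056,22,209⟩,
   ⟨⟨1,1,2,-1,-2,0,1,0⟩,800,12,75⟩,
   ⟨⟨1,1,2,-1,0,0,-3,0⟩,1056,157,202⟩,
   ⟨⟨1,1,2,-1,0,0,-1,0⟩,544,12,27⟩,
   ⟨⟨1,1,2,-1,0,0,-1,2⟩,800,22,129⟩,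
   ⟨⟨1,1,2,-1,0,0,1,-2⟩,800,135,80⟩,
   ⟨⟨1,1,2,-1,0,0,1,0⟩,544,157,202⟩,
   ⟨⟨1,1,2,-1,0,0,3,0⟩,1056,12,27⟩,
   ⟨⟨1,1,2,-1,2,0,-1,0⟩,800,157,154⟩,
   ⟨⟨1,1,2,-1,2,0,-1,2⟩,1056,135,0⟩,
   ⟨⟨1,1,2,-1,2,0,1,-2⟩,1056,22,209⟩,
   ⟨⟨1,1,2,-1,2,0,1,0⟩,800,12,75⟩,
   ⟨⟨3,-1,-2,-1,0,0,-1,0⟩,1056,135,0⟩,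
   ⟨⟨3,-1,-2,-1,0,0,1,0⟩,1056,22,209⟩,
   ⟨⟨3,-1,0,-1,0,-2,-1,0⟩,1056,12,27⟩,
   ⟨⟨3,-1,0,-1,0,-2,1,0⟩,1056,157,202⟩,
   ⟨⟨3,-1,0,-1,0,0,-1,0⟩,796,22,225⟩,
   ⟨⟨3,-1,0,-1,0,0,1,0⟩,796,135,48⟩,
   ⟨⟨3,-1,0,-1,0,2,-1,0⟩,1056,12,27⟩,
   ⟨⟨3,-1,0,-1,0,2,1,0⟩,1056,157,202⟩,
   ⟨⟨3,-1,0,1,0,-2,-1,0⟩,1056,22,209⟩,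
   ⟨⟨3,-1,0,1,0,-2,1,0⟩,1056,135,0⟩,
   ⟨⟨3,-1,0,1,0,0,-1,0⟩,796,12,43⟩,
   ⟨⟨3,-1,0,1,0,0,1,0⟩,796,157,250⟩,
   ⟨⟨3,-1,0,1,0,2,-1,0⟩,1056,22,209⟩,
   ⟨⟨3,-1,0,1,0,2,1,0⟩,1056,135,0⟩,
   ⟨⟨3,-1,2,1,0,0,-1,0⟩,1056,157,202⟩,
   ⟨⟨3,-1,2,1,0,0,1,0⟩,1056,12,27⟩,
   ⟨⟨-3,0,-1,0,-1,0,-1,0⟩,800,139,170⟩,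
   ⟨⟨-3,0,-1,0,-1,0,-1,2⟩,1056,145,48⟩,
   ⟨⟨-3,0,-1,0,-1,0,1,-2⟩,1056,0,225⟩,
   ⟨⟨-3,0,-1,0,-1,0,1,0⟩,800,26,123⟩,
   ⟨⟨-3,0,-1,0,-1,2,-1,0⟩,1056,145,80⟩,
   ⟨⟨-3,0,-1,0,-1,2,1,0⟩,1056,0,129⟩,
   ⟨⟨-3,0,-1,0,1,-2,-1,0⟩,1056,0,209⟩,
   ⟨⟨-3,0,-1,0,1,-2,1,0⟩,1056,145,0⟩,
   ⟨⟨-3,0,-1,0,1,0,-1,0⟩,800,26,43⟩,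
   ⟨⟨-3,0,-1,0,1,0,-1,2⟩,1056,0,177⟩,
   ⟨⟨-3,0,-1,0,1,0,1,-2⟩,1056,145,96⟩,
   ⟨⟨-3,0,-1,0,1,0,1,0⟩,800,139,250⟩,
   ⟨⟨-3,0,-1,2,-1,0,-1,0⟩,1056,145,96⟩,
   ⟨⟨-3,0,-1,2,-1,0,1,0⟩,1056,0,177⟩,
   ⟨⟨-3,0,-1,2,1,0,-1,0⟩,1056,0,225⟩,
   ⟨⟨-3,0,-1,2,1,0,1,0⟩,1056,145,48⟩,
   ⟨⟨-3,0,1,-2,-1,0,-1,0⟩,1056,0,129⟩,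
   ⟨⟨-3,0,1,-2,-1,0,1,0⟩,1056,145,80⟩,
   ⟨⟨-3,0,1,-2,1,0,-1,0⟩,1056,145,0⟩,
   ⟨⟨-3,0,1,-2,1,0,1,0⟩,1056,0,209⟩,
   ⟨⟨-3,0,1,0,-1,0,-1,0⟩,800,26,75⟩,
   ⟨⟨-3,0,1,0,-1,0,-1,2⟩,1056,0,209⟩,
   ⟨⟨-3,0,1,0,-1,0,1,-2⟩,1056,145,0⟩,
   ⟨⟨-3,0,1,0,-1,0,1,0⟩,800,139,154⟩,
   ⟨⟨-3,0,1,0,-1,2,-1,0⟩,1056,0,177⟩,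
   ⟨⟨-3,0,1,0,-1,2,1,0⟩,1056,145,96⟩,
   ⟨⟨-3,0,1,0,1,-2,-1,0⟩,1056,145,48⟩,
   ⟨⟨-3,0,1,0,1,-2,1,0⟩,1056,0,225⟩,
   ⟨⟨-3,0,1,0,1,0,-1,0⟩,800,139,202⟩,
   ⟨⟨-3,0,1,0,1,0,-1,2⟩,1056,145,80⟩,
   ⟨⟨-3,0,1,0,1,0,1,-2⟩,1056,0,129⟩,
   ⟨⟨-3,0,1,0,1,0,1,0⟩,800,26,27⟩,
   ⟨⟨-1,0,-3,0,-1,0,-1,0⟩,800,139,250⟩,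
   ⟨⟨-1,0,-3,0,-1,0,-1,2⟩,1056,145,96⟩,
   ⟨⟨-1,0,-3,0,-1,0,1,-2⟩,1056,0,177⟩,
   ⟨⟨-1,0,-3,0,-1,0,1,0⟩,800,26,43⟩,
   ⟨⟨-1,0,-3,0,-1,2,-1,0⟩,1056,145,0⟩,
   ⟨⟨-1,0,-3,0,-1,2,1,0⟩,1056,0,209⟩,
   ⟨⟨-1,0,-3,0,1,-2,-1,0⟩,1056,0,129⟩,
   ⟨⟨-1,0,-3,0,1,-2,1,0⟩,1056,145,80⟩,
   ⟨⟨-1,0,-3,0,1,0,-1,0⟩,800,26,123⟩,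
   ⟨⟨-1,0,-3,0,1,0,-1,2⟩,1056,0,225⟩,
   ⟨⟨-1,0,-3,0,1,0,1,-2⟩,1056,145,48⟩,
   ⟨⟨-1,0,-3,0,1,0,1,0⟩,800,139,170⟩,
   ⟨⟨-1,0,-1,0,-3,0,-1,0⟩,800,139,154⟩,
   ⟨⟨-1,0,-1,0,-3,0,-1,2⟩,1056,145,0⟩,
   ⟨⟨-1,0,-1,0,-3,0,1,-2⟩,1056,0,209⟩,
   ⟨⟨-1,0,-1,0,-3,0,1,0⟩,800,26,75⟩,
   ⟨⟨-1,0,-1,0,-1,0,-3,0⟩,800,139,202⟩,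
   ⟨⟨-1,0,-1,0,-1,0,-1,0⟩,288,26,27⟩,
   ⟨⟨-1,0,-1,0,-1,0,-1,2⟩,544,0,129⟩,
   ⟨⟨-1,0,-1,0,-1,0,1,-2⟩,544,145,80⟩,
   ⟨⟨-1,0,-1,0,-1,0,1,0⟩,288,139,202⟩,
   ⟨⟨-1,0,-1,0,-1,0,3,0⟩,800,26,27⟩,
   ⟨⟨-1,0,-1,0,-1,2,-3,0⟩,1056,145,48⟩,
   ⟨⟨-1,0,-1,0,-1,2,-1,0⟩,544,0,225⟩,
   ⟨⟨-1,0,-1,0,-1,2,-1,2⟩,800,26,123⟩,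
   ⟨⟨-1,0,-1,0,-1,2,1,-2⟩,800,139,170⟩,
   ⟨⟨-1,0,-1,0,-1,2,1,0⟩,544,145,48⟩,
   ⟨⟨-1,0,-1,0,-1,2,3,0⟩,1056,0,225⟩,
   ⟨⟨-1,0,-1,0,1,-2,-3,0⟩,1056,0,177⟩,
   ⟨⟨-1,0,-1,0,1,-2,-1,0⟩,544,145,96⟩,
   ⟨⟨-1,0,-1,0,1,-2,-1,2⟩,800,139,250⟩,
   ⟨⟨-1,0,-1,0,1,-2,1,-2⟩,800,26,43⟩,
   ⟨⟨-1,0,-1,0,1,-2,1,0⟩,544,0,177⟩,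
   ⟨⟨-1,0,-1,0,1,-2,3,0⟩,1056,145,96⟩,
   ⟨⟨-1,0,-1,0,1,0,-3,0⟩,800,26,75⟩,
   ⟨⟨-1,0,-1,0,1,0,-1,0⟩,288,139,154⟩,
   ⟨⟨-1,0,-1,0,1,0,-1,2⟩,544,145,0⟩]

def ekChunk15 : List EK :=
  [⟨⟨-1,0,-1,0,1,0,1,-2⟩,544,0,209⟩,
   ⟨⟨-1,0,-1,0,1,0,1,0⟩,288,26,75⟩,
   ⟨⟨-1,0,-1,0,1,0,3,0⟩,800,139,154⟩,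
   ⟨⟨-1,0,-1,0,3,0,-1,0⟩,800,26,27⟩,
   ⟨⟨-1,0,-1,0,3,0,-1,2⟩,1056,0,129⟩,
   ⟨⟨-1,0,-1,0,3,0,1,-2⟩,1056,145,80⟩,
   ⟨⟨-1,0,-1,0,3,0,1,0⟩,800,139,202⟩,
   ⟨⟨-1,0,-1,2,-3,0,-1,0⟩,1056,145,80⟩,
   ⟨⟨-1,0,-1,2,-3,0,1,0⟩,1056,0,129⟩,
   ⟨⟨-1,0,-1,2,-1,0,-3,0⟩,1056,145,0⟩,
   ⟨⟨-1,0,-1,2,-1,0,-1,0⟩,544,0,209⟩,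
   ⟨⟨-1,0,-1,2,-1,0,-1,2⟩,800,26,75⟩,
   ⟨⟨-1,0,-1,2,-1,0,1,-2⟩,800,139,154⟩,
   ⟨⟨-1,0,-1,2,-1,0,1,0⟩,544,145,0⟩,
   ⟨⟨-1,0,-1,2,-1,0,3,0⟩,1056,0,209⟩,
   ⟨⟨-1,0,-1,2,-1,2,-1,0⟩,800,26,43⟩,
   ⟨⟨-1,0,-1,2,-1,2,-1,2⟩,1056,0,177⟩,
   ⟨⟨-1,0,-1,2,-1,2,1,-2⟩,1056,145,96⟩,
   ⟨⟨-1,0,-1,2,-1,2,1,0⟩,800,139,250⟩,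
   ⟨⟨-1,0,-1,2,1,-2,-1,0⟩,800,139,170⟩,
   ⟨⟨-1,0,-1,2,1,-2,-1,2⟩,1056,145,48⟩,
   ⟨⟨-1,0,-1,2,1,-2,1,-2⟩,1056,0,225⟩,
   ⟨⟨-1,0,-1,2,1,-2,1,0⟩,800,26,123⟩,
   ⟨⟨-1,0,-1,2,1,0,-3,0⟩,1056,0,129⟩,
   ⟨⟨-1,0,-1,2,1,0,-1,0⟩,544,145,80⟩,
   ⟨⟨-1,0,-1,2,1,0,-1,2⟩,800,139,202⟩,
   ⟨⟨-1,0,-1,2,1,0,1,-2⟩,800,26,27⟩,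
   ⟨⟨-1,0,-1,2,1,0,1,0⟩,544,0,129⟩,
   ⟨⟨-1,0,-1,2,1,0,3,0⟩,1056,145,80⟩,
   ⟨⟨-1,0,-1,2,3,0,-1,0⟩,1056,0,209⟩,
   ⟨⟨-1,0,-1,2,3,0,1,0⟩,1056,145,0⟩,
   ⟨⟨-1,0,1,-2,-3,0,-1,0⟩,1056,0,177⟩,
   ⟨⟨-1,0,1,-2,-3,0,1,0⟩,1056,145,96⟩,
   ⟨⟨-1,0,1,-2,-1,0,-3,0⟩,1056,0,225⟩,
   ⟨⟨-1,0,1,-2,-1,0,-1,0⟩,544,145,48⟩,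
   ⟨⟨-1,0,1,-2,-1,0,-1,2⟩,800,139,170⟩,
   ⟨⟨-1,0,1,-2,-1,0,1,-2⟩,800,26,123⟩,
   ⟨⟨-1,0,1,-2,-1,0,1,0⟩,544,0,225⟩,
   ⟨⟨-1,0,1,-2,-1,0,3,0⟩,1056,145,48⟩,
   ⟨⟨-1,0,1,-2,-1,2,-1,0⟩,800,139,202⟩,
   ⟨⟨-1,0,1,-2,-1,2,-1,2⟩,1056,145,80⟩,
   ⟨⟨-1,0,1,-2,-1,2,1,-2⟩,1056,0,129⟩,
   ⟨⟨-1,0,1,-2,-1,2,1,0⟩,800,26,27⟩,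
   ⟨⟨-1,0,1,-2,1,-2,-1,0⟩,800,26,75⟩,
   ⟨⟨-1,0,1,-2,1,-2,-1,2⟩,1056,0,209⟩,
   ⟨⟨-1,0,1,-2,1,-2,1,-2⟩,1056,145,0⟩,
   ⟨⟨-1,0,1,-2,1,-2,1,0⟩,800,139,154⟩,
   ⟨⟨-1,0,1,-2,1,0,-3,0⟩,1056,145,96⟩,
   ⟨⟨-1,0,1,-2,1,0,-1,0⟩,544,0,177⟩,
   ⟨⟨-1,0,1,-2,1,0,-1,2⟩,800,26,43⟩,
   ⟨⟨-1,0,1,-2,1,0,1,-2⟩,800,139,250⟩,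
   ⟨⟨-1,0,1,-2,1,0,1,0⟩,544,145,96⟩,
   ⟨⟨-1,0,1,-2,1,0,3,0⟩,1056,0,177⟩,
   ⟨⟨-1,0,1,-2,3,0,-1,0⟩,1056,145,48⟩,
   ⟨⟨-1,0,1,-2,3,0,1,0⟩,1056,0,225⟩,
   ⟨⟨-1,0,1,0,-3,0,-1,0⟩,800,26,123⟩,
   ⟨⟨-1,0,1,0,-3,0,-1,2⟩,1056,0,225⟩,
   ⟨⟨-1,0,1,0,-3,0,1,-2⟩,1056,145,48⟩,
   ⟨⟨-1,0,1,0,-3,0,1,0⟩,800,139,170⟩,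
   ⟨⟨-1,0,1,0,-1,0,-3,0⟩,800,26,43⟩,
   ⟨⟨-1,0,1,0,-1,0,-1,0⟩,288,139,250⟩,
   ⟨⟨-1,0,1,0,-1,0,-1,2⟩,544,145,96⟩,
   ⟨⟨-1,0,1,0,-1,0,1,-2⟩,544,0,177⟩,
   ⟨⟨-1,0,1,0,-1,0,1,0⟩,288,26,43⟩,
   ⟨⟨-1,0,1,0,-1,0,3,0⟩,800,139,250⟩,
   ⟨⟨-1,0,1,0,-1,2,-3,0⟩,1056,0,209⟩,
   ⟨⟨-1,0,1,0,-1,2,-1,0⟩,544,145,0⟩,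
   ⟨⟨-1,0,1,0,-1,2,-1,2⟩,800,139,154⟩,
   ⟨⟨-1,0,1,0,-1,2,1,-2⟩,800,26,75⟩,
   ⟨⟨-1,0,1,0,-1,2,1,0⟩,544,0,209⟩,
   ⟨⟨-1,0,1,0,-1,2,3,0⟩,1056,145,0⟩,
   ⟨⟨-1,0,1,0,1,-2,-3,0⟩,1056,145,80⟩,
   ⟨⟨-1,0,1,0,1,-2,-1,0⟩,544,0,129⟩,
   ⟨⟨-1,0,1,0,1,-2,-1,2⟩,800,26,27⟩,
   ⟨⟨-1,0,1,0,1,-2,1,-2⟩,800,139,202⟩,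
   ⟨⟨-1,0,1,0,1,-2,1,0⟩,544,145,80⟩,
   ⟨⟨-1,0,1,0,1,-2,3,0⟩,1056,0,129⟩,
   ⟨⟨-1,0,1,0,1,0,-3,0⟩,800,139,170⟩,
   ⟨⟨-1,0,1,0,1,0,-1,0⟩,288,26,123⟩,
   ⟨⟨-1,0,1,0,1,0,-1,2⟩,544,0,225⟩,
   ⟨⟨-1,0,1,0,1,0,1,-2⟩,544,145,48⟩,
   ⟨⟨-1,0,1,0,1,0,1,0⟩,288,139,170⟩,
   ⟨⟨-1,0,1,0,1,0,3,0⟩,800,26,123⟩,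
   ⟨⟨-1,0,1,0,3,0,-1,0⟩,800,139,250⟩,
   ⟨⟨-1,0,1,0,3,0,-1,2⟩,1056,145,96⟩,
   ⟨⟨-1,0,1,0,3,0,1,-2⟩,1056,0,177⟩,
   ⟨⟨-1,0,1,0,3,0,1,0⟩,800,26,43⟩,
   ⟨⟨-1,0,3,0,-1,0,-1,0⟩,800,26,27⟩,
   ⟨⟨-1,0,3,0,-1,0,-1,2⟩,1056,0,129⟩,
   ⟨⟨-1,0,3,0,-1,0,1,-2⟩,1056,145,80⟩,
   ⟨⟨-1,0,3,0,-1,0,1,0⟩,800,139,202⟩,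
   ⟨⟨-1,0,3,0,-1,2,-1,0⟩,1056,0,225⟩,
   ⟨⟨-1,0,3,0,-1,2,1,0⟩,1056,145,48⟩,
   ⟨⟨-1,0,3,0,1,-2,-1,0⟩,1056,145,96⟩,
   ⟨⟨-1,0,3,0,1,-2,1,0⟩,1056,0,177⟩,
   ⟨⟨-1,0,3,0,1,0,-1,0⟩,800,139,154⟩,
   ⟨⟨-1,0,3,0,1,0,-1,2⟩,1056,145,0⟩,
   ⟨⟨-1,0,3,0,1,0,1,-2⟩,1056,0,209⟩,
   ⟨⟨-1,0,3,0,1,0,1,0⟩,800,26,75⟩,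
   ⟨⟨-1,2,-3,0,-1,0,-1,0⟩,1056,145,80⟩,
   ⟨⟨-1,2,-3,0,-1,0,1,0⟩,1056,0,129⟩,
   ⟨⟨-1,2,-3,0,1,0,-1,0⟩,1056,0,209⟩,
   ⟨⟨-1,2,-3,0,1,0,1,0⟩,1056,145,0⟩,
   ⟨⟨-1,2,-1,0,-3,0,-1,0⟩,1056,145,48⟩,
   ⟨⟨-1,2,-1,0,-3,0,1,0⟩,1056,0,225⟩,
   ⟨⟨-1,2,-1,0,-1,0,-3,0⟩,1056,145,96⟩,
   ⟨⟨-1,2,-1,0,-1,0,-1,0⟩,544,0,177⟩,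
   ⟨⟨-1,2,-1,0,-1,0,-1,2⟩,800,26,43⟩,
   ⟨⟨-1,2,-1,0,-1,0,1,-2⟩,800,139,250⟩,
   ⟨⟨-1,2,-1,0,-1,0,1,0⟩,544,145,96⟩,
   ⟨⟨-1,2,-1,0,-1,0,3,0⟩,1056,0,177⟩,
   ⟨⟨-1,2,-1,0,-1,2,-1,0⟩,800,26,75⟩,
   ⟨⟨-1,2,-1,0,-1,2,-1,2⟩,1056,0,209⟩,
   ⟨⟨-1,2,-1,0,-1,2,1,-2⟩,1056,145,0⟩,
   ⟨⟨-1,2,-1,0,-1,2,1,0⟩,800,139,154⟩,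
   ⟨⟨-1,2,-1,0,1,-2,-1,0⟩,800,139,202⟩,
   ⟨⟨-1,2,-1,0,1,-2,-1,2⟩,1056,145,80⟩,
   ⟨⟨-1,2,-1,0,1,-2,1,-2⟩,1056,0,129⟩,
   ⟨⟨-1,2,-1,0,1,-2,1,0⟩,800,26,27⟩,
   ⟨⟨-1,2,-1,0,1,0,-3,0⟩,1056,0,225⟩,
   ⟨⟨-1,2,-1,0,1,0,-1,0⟩,544,145,48⟩,
   ⟨⟨-1,2,-1,0,1,0,-1,2⟩,800,139,170⟩,
   ⟨⟨-1,2,-1,0,1,0,1,-2⟩,800,26,123⟩,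
   ⟨⟨-1,2,-1,0,1,0,1,0⟩,544,0,225⟩,
   ⟨⟨-1,2,-1,0,1,0,3,0⟩,1056,145,48⟩,
   ⟨⟨-1,2,-1,0,3,0,-1,0⟩,1056,0,177⟩,
   ⟨⟨-1,2,-1,0,3,0,1,0⟩,1056,145,96⟩,
   ⟨⟨-1,2,-1,2,-1,0,-1,0⟩,800,26,123⟩,
   ⟨⟨-1,2,-1,2,-1,0,-1,2⟩,1056,0,225⟩,
   ⟨⟨-1,2,-1,2,-1,0,1,-2⟩,1056,145,48⟩]

def ekChunk16 : List EK :=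
  [⟨⟨-1,2,-1,2,-1,0,1,0⟩,800,139,170⟩,
   ⟨⟨-1,2,-1,2,-1,2,-1,0⟩,1056,0,129⟩,
   ⟨⟨-1,2,-1,2,-1,2,1,0⟩,1056,145,80⟩,
   ⟨⟨-1,2,-1,2,1,-2,-1,0⟩,1056,145,0⟩,
   ⟨⟨-1,2,-1,2,1,-2,1,0⟩,1056,0,209⟩,
   ⟨⟨-1,2,-1,2,1,0,-1,0⟩,800,139,250⟩,
   ⟨⟨-1,2,-1,2,1,0,-1,2⟩,1056,145,96⟩,
   ⟨⟨-1,2,-1,2,1,0,1,-2⟩,1056,0,177⟩,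
   ⟨⟨-1,2,-1,2,1,0,1,0⟩,800,26,43⟩,
   ⟨⟨-1,2,1,-2,-1,0,-1,0⟩,800,139,154⟩,
   ⟨⟨-1,2,1,-2,-1,0,-1,2⟩,1056,145,0⟩,
   ⟨⟨-1,2,1,-2,-1,0,1,-2⟩,1056,0,209⟩,
   ⟨⟨-1,2,1,-2,-1,0,1,0⟩,800,26,75⟩,
   ⟨⟨-1,2,1,-2,-1,2,-1,0⟩,1056,145,96⟩,
   ⟨⟨-1,2,1,-2,-1,2,1,0⟩,1056,0,177⟩,
   ⟨⟨-1,2,1,-2,1,-2,-1,0⟩,1056,0,225⟩,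
   ⟨⟨-1,2,1,-2,1,-2,1,0⟩,1056,145,48⟩,
   ⟨⟨-1,2,1,-2,1,0,-1,0⟩,800,26,27⟩,
   ⟨⟨-1,2,1,-2,1,0,-1,2⟩,1056,0,129⟩,
   ⟨⟨-1,2,1,-2,1,0,1,-2⟩,1056,145,80⟩,
   ⟨⟨-1,2,1,-2,1,0,1,0⟩,800,139,202⟩,
   ⟨⟨-1,2,1,0,-3,0,-1,0⟩,1056,0,209⟩,
   ⟨⟨-1,2,1,0,-3,0,1,0⟩,1056,145,0⟩,
   ⟨⟨-1,2,1,0,-1,0,-3,0⟩,1056,0,129⟩,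
   ⟨⟨-1,2,1,0,-1,0,-1,0⟩,544,145,80⟩,
   ⟨⟨-1,2,1,0,-1,0,-1,2⟩,800,139,202⟩,
   ⟨⟨-1,2,1,0,-1,0,1,-2⟩,800,26,27⟩,
   ⟨⟨-1,2,1,0,-1,0,1,0⟩,544,0,129⟩,
   ⟨⟨-1,2,1,0,-1,0,3,0⟩,1056,145,80⟩,
   ⟨⟨-1,2,1,0,-1,2,-1,0⟩,800,139,170⟩,
   ⟨⟨-1,2,1,0,-1,2,-1,2⟩,1056,145,48⟩,
   ⟨⟨-1,2,1,0,-1,2,1,-2⟩,1056,0,225⟩,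
   ⟨⟨-1,2,1,0,-1,2,1,0⟩,800,26,123⟩,
   ⟨⟨-1,2,1,0,1,-2,-1,0⟩,800,26,43⟩,
   ⟨⟨-1,2,1,0,1,-2,-1,2⟩,1056,0,177⟩,
   ⟨⟨-1,2,1,0,1,-2,1,-2⟩,1056,145,96⟩,
   ⟨⟨-1,2,1,0,1,-2,1,0⟩,800,139,250⟩,
   ⟨⟨-1,2,1,0,1,0,-3,0⟩,1056,145,0⟩,
   ⟨⟨-1,2,1,0,1,0,-1,0⟩,544,0,209⟩,
   ⟨⟨-1,2,1,0,1,0,-1,2⟩,800,26,75⟩,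
   ⟨⟨-1,2,1,0,1,0,1,-2⟩,800,139,154⟩,
   ⟨⟨-1,2,1,0,1,0,1,0⟩,544,145,0⟩,
   ⟨⟨-1,2,1,0,1,0,3,0⟩,1056,0,209⟩,
   ⟨⟨-1,2,1,0,3,0,-1,0⟩,1056,145,80⟩,
   ⟨⟨-1,2,1,0,3,0,1,0⟩,1056,0,129⟩,
   ⟨⟨-1,2,3,0,-1,0,-1,0⟩,1056,0,177⟩,
   ⟨⟨-1,2,3,0,-1,0,1,0⟩,1056,145,96⟩,
   ⟨⟨-1,2,3,0,1,0,-1,0⟩,1056,145,48⟩,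
   ⟨⟨-1,2,3,0,1,0,1,0⟩,1056,0,225⟩,
   ⟨⟨1,-2,-3,0,-1,0,-1,0⟩,1056,0,225⟩,
   ⟨⟨1,-2,-3,0,-1,0,1,0⟩,1056,145,48⟩,
   ⟨⟨1,-2,-3,0,1,0,-1,0⟩,1056,145,96⟩,
   ⟨⟨1,-2,-3,0,1,0,1,0⟩,1056,0,177⟩,
   ⟨⟨1,-2,-1,0,-3,0,-1,0⟩,1056,0,129⟩,
   ⟨⟨1,-2,-1,0,-3,0,1,0⟩,1056,145,80⟩,
   ⟨⟨1,-2,-1,0,-1,0,-3,0⟩,1056,0,209⟩,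
   ⟨⟨1,-2,-1,0,-1,0,-1,0⟩,544,145,0⟩,
   ⟨⟨1,-2,-1,0,-1,0,-1,2⟩,800,139,154⟩,
   ⟨⟨1,-2,-1,0,-1,0,1,-2⟩,800,26,75⟩,
   ⟨⟨1,-2,-1,0,-1,0,1,0⟩,544,0,209⟩,
   ⟨⟨1,-2,-1,0,-1,0,3,0⟩,1056,145,0⟩,
   ⟨⟨1,-2,-1,0,-1,2,-1,0⟩,800,139,250⟩,
   ⟨⟨1,-2,-1,0,-1,2,-1,2⟩,1056,145,96⟩,
   ⟨⟨1,-2,-1,0,-1,2,1,-2⟩,1056,0,177⟩,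
   ⟨⟨1,-2,-1,0,-1,2,1,0⟩,800,26,43⟩,
   ⟨⟨1,-2,-1,0,1,-2,-1,0⟩,800,26,123⟩,
   ⟨⟨1,-2,-1,0,1,-2,-1,2⟩,1056,0,225⟩,
   ⟨⟨1,-2,-1,0,1,-2,1,-2⟩,1056,145,48⟩,
   ⟨⟨1,-2,-1,0,1,-2,1,0⟩,800,139,170⟩,
   ⟨⟨1,-2,-1,0,1,0,-3,0⟩,1056,145,80⟩,
   ⟨⟨1,-2,-1,0,1,0,-1,0⟩,544,0,129⟩,
   ⟨⟨1,-2,-1,0,1,0,-1,2⟩,800,26,27⟩,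
   ⟨⟨1,-2,-1,0,1,0,1,-2⟩,800,139,202⟩,
   ⟨⟨1,-2,-1,0,1,0,1,0⟩,544,145,80⟩,
   ⟨⟨1,-2,-1,0,1,0,3,0⟩,1056,0,129⟩,
   ⟨⟨1,-2,-1,0,3,0,-1,0⟩,1056,145,0⟩,
   ⟨⟨1,-2,-1,0,3,0,1,0⟩,1056,0,209⟩,
   ⟨⟨1,-2,-1,2,-1,0,-1,0⟩,800,139,202⟩,
   ⟨⟨1,-2,-1,2,-1,0,-1,2⟩,1056,145,80⟩,
   ⟨⟨1,-2,-1,2,-1,0,1,-2⟩,1056,0,129⟩,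
   ⟨⟨1,-2,-1,2,-1,0,1,0⟩,800,26,27⟩,
   ⟨⟨1,-2,-1,2,-1,2,-1,0⟩,1056,145,48⟩,
   ⟨⟨1,-2,-1,2,-1,2,1,0⟩,1056,0,225⟩,
   ⟨⟨1,-2,-1,2,1,-2,-1,0⟩,1056,0,177⟩,
   ⟨⟨1,-2,-1,2,1,-2,1,0⟩,1056,145,96⟩,
   ⟨⟨1,-2,-1,2,1,0,-1,0⟩,800,26,75⟩,
   ⟨⟨1,-2,-1,2,1,0,-1,2⟩,1056,0,209⟩,
   ⟨⟨1,-2,-1,2,1,0,1,-2⟩,1056,145,0⟩,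
   ⟨⟨1,-2,-1,2,1,0,1,0⟩,800,139,154⟩,
   ⟨⟨1,-2,1,-2,-1,0,-1,0⟩,800,26,43⟩,
   ⟨⟨1,-2,1,-2,-1,0,-1,2⟩,1056,0,177⟩,
   ⟨⟨1,-2,1,-2,-1,0,1,-2⟩,1056,145,96⟩,
   ⟨⟨1,-2,1,-2,-1,0,1,0⟩,800,139,250⟩,
   ⟨⟨1,-2,1,-2,-1,2,-1,0⟩,1056,0,209⟩,
   ⟨⟨1,-2,1,-2,-1,2,1,0⟩,1056,145,0⟩,
   ⟨⟨1,-2,1,-2,1,-2,-1,0⟩,1056,145,80⟩,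
   ⟨⟨1,-2,1,-2,1,-2,1,0⟩,1056,0,129⟩,
   ⟨⟨1,-2,1,-2,1,0,-1,0⟩,800,139,170⟩,
   ⟨⟨1,-2,1,-2,1,0,-1,2⟩,1056,145,48⟩,
   ⟨⟨1,-2,1,-2,1,0,1,-2⟩,1056,0,225⟩,
   ⟨⟨1,-2,1,-2,1,0,1,0⟩,800,26,123⟩,
   ⟨⟨1,-2,1,0,-3,0,-1,0⟩,1056,145,96⟩,
   ⟨⟨1,-2,1,0,-3,0,1,0⟩,1056,0,177⟩,
   ⟨⟨1,-2,1,0,-1,0,-3,0⟩,1056,145,48⟩,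
   ⟨⟨1,-2,1,0,-1,0,-1,0⟩,544,0,225⟩,
   ⟨⟨1,-2,1,0,-1,0,-1,2⟩,800,26,123⟩,
   ⟨⟨1,-2,1,0,-1,0,1,-2⟩,800,139,170⟩,
   ⟨⟨1,-2,1,0,-1,0,1,0⟩,544,145,48⟩,
   ⟨⟨1,-2,1,0,-1,0,3,0⟩,1056,0,225⟩,
   ⟨⟨1,-2,1,0,-1,2,-1,0⟩,800,26,27⟩,
   ⟨⟨1,-2,1,0,-1,2,-1,2⟩,1056,0,129⟩,
   ⟨⟨1,-2,1,0,-1,2,1,-2⟩,1056,145,80⟩,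
   ⟨⟨1,-2,1,0,-1,2,1,0⟩,800,139,202⟩,
   ⟨⟨1,-2,1,0,1,-2,-1,0⟩,800,139,154⟩,
   ⟨⟨1,-2,1,0,1,-2,-1,2⟩,1056,145,0⟩,
   ⟨⟨1,-2,1,0,1,-2,1,-2⟩,1056,0,209⟩,
   ⟨⟨1,-2,1,0,1,-2,1,0⟩,800,26,75⟩,
   ⟨⟨1,-2,1,0,1,0,-3,0⟩,1056,0,177⟩,
   ⟨⟨1,-2,1,0,1,0,-1,0⟩,544,145,96⟩,
   ⟨⟨1,-2,1,0,1,0,-1,2⟩,800,139,250⟩,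
   ⟨⟨1,-2,1,0,1,0,1,-2⟩,800,26,43⟩,
   ⟨⟨1,-2,1,0,1,0,1,0⟩,544,0,177⟩,
   ⟨⟨1,-2,1,0,1,0,3,0⟩,1056,145,96⟩,
   ⟨⟨1,-2,1,0,3,0,-1,0⟩,1056,0,225⟩,
   ⟨⟨1,-2,1,0,3,0,1,0⟩,1056,145,48⟩,
   ⟨⟨1,-2,3,0,-1,0,-1,0⟩,1056,145,0⟩,
   ⟨⟨1,-2,3,0,-1,0,1,0⟩,1056,0,209⟩,
   ⟨⟨1,-2,3,0,1,0,-1,0⟩,1056,0,129⟩,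
   ⟨⟨1,-2,3,0,1,0,1,0⟩,1056,145,80⟩,
   ⟨⟨1,0,-3,0,-1,0,-1,0⟩,800,26,75⟩]

def ekChunk17 : List EK :=
  [⟨⟨1,0,-3,0,-1,0,-1,2⟩,1056,0,209⟩,
   ⟨⟨1,0,-3,0,-1,0,1,-2⟩,1056,145,0⟩,
   ⟨⟨1,0,-3,0,-1,0,1,0⟩,800,139,154⟩,
   ⟨⟨1,0,-3,0,-1,2,-1,0⟩,1056,0,177⟩,
   ⟨⟨1,0,-3,0,-1,2,1,0⟩,1056,145,96⟩,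
   ⟨⟨1,0,-3,0,1,-2,-1,0⟩,1056,145,48⟩,
   ⟨⟨1,0,-3,0,1,-2,1,0⟩,1056,0,225⟩,
   ⟨⟨1,0,-3,0,1,0,-1,0⟩,800,139,202⟩,
   ⟨⟨1,0,-3,0,1,0,-1,2⟩,1056,145,80⟩,
   ⟨⟨1,0,-3,0,1,0,1,-2⟩,1056,0,129⟩,
   ⟨⟨1,0,-3,0,1,0,1,0⟩,800,26,27⟩,
   ⟨⟨1,0,-1,0,-3,0,-1,0⟩,800,26,43⟩,
   ⟨⟨1,0,-1,0,-3,0,-1,2⟩,1056,0,177⟩,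
   ⟨⟨1,0,-1,0,-3,0,1,-2⟩,1056,145,96⟩,
   ⟨⟨1,0,-1,0,-3,0,1,0⟩,800,139,250⟩,
   ⟨⟨1,0,-1,0,-1,0,-3,0⟩,800,26,123⟩,
   ⟨⟨1,0,-1,0,-1,0,-1,0⟩,288,139,170⟩,
   ⟨⟨1,0,-1,0,-1,0,-1,2⟩,544,145,48⟩,
   ⟨⟨1,0,-1,0,-1,0,1,-2⟩,544,0,225⟩,
   ⟨⟨1,0,-1,0,-1,0,1,0⟩,288,26,123⟩,
   ⟨⟨1,0,-1,0,-1,0,3,0⟩,800,139,170⟩,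
   ⟨⟨1,0,-1,0,-1,2,-3,0⟩,1056,0,129⟩,
   ⟨⟨1,0,-1,0,-1,2,-1,0⟩,544,145,80⟩,
   ⟨⟨1,0,-1,0,-1,2,-1,2⟩,800,139,202⟩,
   ⟨⟨1,0,-1,0,-1,2,1,-2⟩,800,26,27⟩,
   ⟨⟨1,0,-1,0,-1,2,1,0⟩,544,0,129⟩,
   ⟨⟨1,0,-1,0,-1,2,3,0⟩,1056,145,80⟩,
   ⟨⟨1,0,-1,0,1,-2,-3,0⟩,1056,145,0⟩,
   ⟨⟨1,0,-1,0,1,-2,-1,0⟩,544,0,209⟩,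
   ⟨⟨1,0,-1,0,1,-2,-1,2⟩,800,26,75⟩,
   ⟨⟨1,0,-1,0,1,-2,1,-2⟩,800,139,154⟩,
   ⟨⟨1,0,-1,0,1,-2,1,0⟩,544,145,0⟩,
   ⟨⟨1,0,-1,0,1,-2,3,0⟩,1056,0,209⟩,
   ⟨⟨1,0,-1,0,1,0,-3,0⟩,800,139,250⟩,
   ⟨⟨1,0,-1,0,1,0,-1,0⟩,288,26,43⟩,
   ⟨⟨1,0,-1,0,1,0,-1,2⟩,544,0,177⟩,
   ⟨⟨1,0,-1,0,1,0,1,-2⟩,544,145,96⟩,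
   ⟨⟨1,0,-1,0,1,0,1,0⟩,288,139,250⟩,
   ⟨⟨1,0,-1,0,1,0,3,0⟩,800,26,43⟩,
   ⟨⟨1,0,-1,0,3,0,-1,0⟩,800,139,170⟩,
   ⟨⟨1,0,-1,0,3,0,-1,2⟩,1056,145,48⟩,
   ⟨⟨1,0,-1,0,3,0,1,-2⟩,1056,0,225⟩,
   ⟨⟨1,0,-1,0,3,0,1,0⟩,800,26,123⟩,
   ⟨⟨1,0,-1,2,-3,0,-1,0⟩,1056,0,225⟩,
   ⟨⟨1,0,-1,2,-3,0,1,0⟩,1056,145,48⟩,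
   ⟨⟨1,0,-1,2,-1,0,-3,0⟩,1056,0,177⟩,
   ⟨⟨1,0,-1,2,-1,0,-1,0⟩,544,145,96⟩,
   ⟨⟨1,0,-1,2,-1,0,-1,2⟩,800,139,250⟩,
   ⟨⟨1,0,-1,2,-1,0,1,-2⟩,800,26,43⟩,
   ⟨⟨1,0,-1,2,-1,0,1,0⟩,544,0,177⟩,
   ⟨⟨1,0,-1,2,-1,0,3,0⟩,1056,145,96⟩,
   ⟨⟨1,0,-1,2,-1,2,-1,0⟩,800,139,154⟩,
   ⟨⟨1,0,-1,2,-1,2,-1,2⟩,1056,145,0⟩,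
   ⟨⟨1,0,-1,2,-1,2,1,-2⟩,1056,0,209⟩,
   ⟨⟨1,0,-1,2,-1,2,1,0⟩,800,26,75⟩,
   ⟨⟨1,0,-1,2,1,-2,-1,0⟩,800,26,27⟩,
   ⟨⟨1,0,-1,2,1,-2,-1,2⟩,1056,0,129⟩,
   ⟨⟨1,0,-1,2,1,-2,1,-2⟩,1056,145,80⟩,
   ⟨⟨1,0,-1,2,1,-2,1,0⟩,800,139,202⟩,
   ⟨⟨1,0,-1,2,1,0,-3,0⟩,1056,145,48⟩,
   ⟨⟨1,0,-1,2,1,0,-1,0⟩,544,0,225⟩,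
   ⟨⟨1,0,-1,2,1,0,-1,2⟩,800,26,123⟩,
   ⟨⟨1,0,-1,2,1,0,1,-2⟩,800,139,170⟩,
   ⟨⟨1,0,-1,2,1,0,1,0⟩,544,145,48⟩,
   ⟨⟨1,0,-1,2,1,0,3,0⟩,1056,0,225⟩,
   ⟨⟨1,0,-1,2,3,0,-1,0⟩,1056,145,96⟩,
   ⟨⟨1,0,-1,2,3,0,1,0⟩,1056,0,177⟩,
   ⟨⟨1,0,1,-2,-3,0,-1,0⟩,1056,145,0⟩,
   ⟨⟨1,0,1,-2,-3,0,1,0⟩,1056,0,209⟩,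
   ⟨⟨1,0,1,-2,-1,0,-3,0⟩,1056,145,80⟩,
   ⟨⟨1,0,1,-2,-1,0,-1,0⟩,544,0,129⟩,
   ⟨⟨1,0,1,-2,-1,0,-1,2⟩,800,26,27⟩,
   ⟨⟨1,0,1,-2,-1,0,1,-2⟩,800,139,202⟩,
   ⟨⟨1,0,1,-2,-1,0,1,0⟩,544,145,80⟩,
   ⟨⟨1,0,1,-2,-1,0,3,0⟩,1056,0,129⟩,
   ⟨⟨1,0,1,-2,-1,2,-1,0⟩,800,26,123⟩,
   ⟨⟨1,0,1,-2,-1,2,-1,2⟩,1056,0,225⟩,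
   ⟨⟨1,0,1,-2,-1,2,1,-2⟩,1056,145,48⟩,
   ⟨⟨1,0,1,-2,-1,2,1,0⟩,800,139,170⟩,
   ⟨⟨1,0,1,-2,1,-2,-1,0⟩,800,139,250⟩,
   ⟨⟨1,0,1,-2,1,-2,-1,2⟩,1056,145,96⟩,
   ⟨⟨1,0,1,-2,1,-2,1,-2⟩,1056,0,177⟩,
   ⟨⟨1,0,1,-2,1,-2,1,0⟩,800,26,43⟩,
   ⟨⟨1,0,1,-2,1,0,-3,0⟩,1056,0,209⟩,
   ⟨⟨1,0,1,-2,1,0,-1,0⟩,544,145,0⟩,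
   ⟨⟨1,0,1,-2,1,0,-1,2⟩,800,139,154⟩,
   ⟨⟨1,0,1,-2,1,0,1,-2⟩,800,26,75⟩,
   ⟨⟨1,0,1,-2,1,0,1,0⟩,544,0,209⟩,
   ⟨⟨1,0,1,-2,1,0,3,0⟩,1056,145,0⟩,
   ⟨⟨1,0,1,-2,3,0,-1,0⟩,1056,0,129⟩,
   ⟨⟨1,0,1,-2,3,0,1,0⟩,1056,145,80⟩,
   ⟨⟨1,0,1,0,-3,0,-1,0⟩,800,139,202⟩,
   ⟨⟨1,0,1,0,-3,0,-1,2⟩,1056,145,80⟩,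
   ⟨⟨1,0,1,0,-3,0,1,-2⟩,1056,0,129⟩,
   ⟨⟨1,0,1,0,-3,0,1,0⟩,800,26,27⟩,
   ⟨⟨1,0,1,0,-1,0,-3,0⟩,800,139,154⟩,
   ⟨⟨1,0,1,0,-1,0,-1,0⟩,288,26,75⟩,
   ⟨⟨1,0,1,0,-1,0,-1,2⟩,544,0,209⟩,
   ⟨⟨1,0,1,0,-1,0,1,-2⟩,544,145,0⟩,
   ⟨⟨1,0,1,0,-1,0,1,0⟩,288,139,154⟩,
   ⟨⟨1,0,1,0,-1,0,3,0⟩,800,26,75⟩,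
   ⟨⟨1,0,1,0,-1,2,-3,0⟩,1056,145,96⟩,
   ⟨⟨1,0,1,0,-1,2,-1,0⟩,544,0,177⟩,
   ⟨⟨1,0,1,0,-1,2,-1,2⟩,800,26,43⟩,
   ⟨⟨1,0,1,0,-1,2,1,-2⟩,800,139,250⟩,
   ⟨⟨1,0,1,0,-1,2,1,0⟩,544,145,96⟩,
   ⟨⟨1,0,1,0,-1,2,3,0⟩,1056,0,177⟩,
   ⟨⟨1,0,1,0,1,-2,-3,0⟩,1056,0,225⟩,
   ⟨⟨1,0,1,0,1,-2,-1,0⟩,544,145,48⟩,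
   ⟨⟨1,0,1,0,1,-2,-1,2⟩,800,139,170⟩,
   ⟨⟨1,0,1,0,1,-2,1,-2⟩,800,26,123⟩,
   ⟨⟨1,0,1,0,1,-2,1,0⟩,544,0,225⟩,
   ⟨⟨1,0,1,0,1,-2,3,0⟩,1056,145,48⟩,
   ⟨⟨1,0,1,0,1,0,-3,0⟩,800,26,27⟩,
   ⟨⟨1,0,1,0,1,0,-1,0⟩,288,139,202⟩,
   ⟨⟨1,0,1,0,1,0,-1,2⟩,544,145,80⟩,
   ⟨⟨1,0,1,0,1,0,1,-2⟩,544,0,129⟩,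
   ⟨⟨1,0,1,0,1,0,1,0⟩,288,26,27⟩,
   ⟨⟨1,0,1,0,1,0,3,0⟩,800,139,202⟩,
   ⟨⟨1,0,1,0,3,0,-1,0⟩,800,26,75⟩,
   ⟨⟨1,0,1,0,3,0,-1,2⟩,1056,0,209⟩,
   ⟨⟨1,0,1,0,3,0,1,-2⟩,1056,145,0⟩,
   ⟨⟨1,0,1,0,3,0,1,0⟩,800,139,154⟩,
   ⟨⟨1,0,3,0,-1,0,-1,0⟩,800,139,170⟩,
   ⟨⟨1,0,3,0,-1,0,-1,2⟩,1056,145,48⟩,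
   ⟨⟨1,0,3,0,-1,0,1,-2⟩,1056,0,225⟩,
   ⟨⟨1,0,3,0,-1,0,1,0⟩,800,26,123⟩,
   ⟨⟨1,0,3,0,-1,2,-1,0⟩,1056,145,80⟩,
   ⟨⟨1,0,3,0,-1,2,1,0⟩,1056,0,129⟩,
   ⟨⟨1,0,3,0,1,-2,-1,0⟩,1056,0,209⟩]

def ekChunk18 : List EK :=
  [⟨⟨1,0,3,0,1,-2,1,0⟩,1056,145,0⟩,
   ⟨⟨1,0,3,0,1,0,-1,0⟩,800,26,43⟩,
   ⟨⟨1,0,3,0,1,0,-1,2⟩,1056,0,177⟩,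
   ⟨⟨1,0,3,0,1,0,1,-2⟩,1056,145,96⟩,
   ⟨⟨1,0,3,0,1,0,1,0⟩,800,139,250⟩,
   ⟨⟨3,0,-1,0,-1,0,-1,0⟩,800,26,27⟩,
   ⟨⟨3,0,-1,0,-1,0,-1,2⟩,1056,0,129⟩,
   ⟨⟨3,0,-1,0,-1,0,1,-2⟩,1056,145,80⟩,
   ⟨⟨3,0,-1,0,-1,0,1,0⟩,800,139,202⟩,
   ⟨⟨3,0,-1,0,-1,2,-1,0⟩,1056,0,225⟩,
   ⟨⟨3,0,-1,0,-1,2,1,0⟩,1056,145,48⟩,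
   ⟨⟨3,0,-1,0,1,-2,-1,0⟩,1056,145,96⟩,
   ⟨⟨3,0,-1,0,1,-2,1,0⟩,1056,0,177⟩,
   ⟨⟨3,0,-1,0,1,0,-1,0⟩,800,139,154⟩,
   ⟨⟨3,0,-1,0,1,0,-1,2⟩,1056,145,0⟩,
   ⟨⟨3,0,-1,0,1,0,1,-2⟩,1056,0,209⟩,
   ⟨⟨3,0,-1,0,1,0,1,0⟩,800,26,75⟩,
   ⟨⟨3,0,-1,2,-1,0,-1,0⟩,1056,0,209⟩,
   ⟨⟨3,0,-1,2,-1,0,1,0⟩,1056,145,0⟩,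
   ⟨⟨3,0,-1,2,1,0,-1,0⟩,1056,145,80⟩,
   ⟨⟨3,0,-1,2,1,0,1,0⟩,1056,0,129⟩,
   ⟨⟨3,0,1,-2,-1,0,-1,0⟩,1056,145,48⟩,
   ⟨⟨3,0,1,-2,-1,0,1,0⟩,1056,0,225⟩,
   ⟨⟨3,0,1,-2,1,0,-1,0⟩,1056,0,177⟩,
   ⟨⟨3,0,1,-2,1,0,1,0⟩,1056,145,96⟩,
   ⟨⟨3,0,1,0,-1,0,-1,0⟩,800,139,250⟩,
   ⟨⟨3,0,1,0,-1,0,-1,2⟩,1056,145,96⟩,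
   ⟨⟨3,0,1,0,-1,0,1,-2⟩,1056,0,177⟩,
   ⟨⟨3,0,1,0,-1,0,1,0⟩,800,26,43⟩,
   ⟨⟨3,0,1,0,-1,2,-1,0⟩,1056,145,0⟩,
   ⟨⟨3,0,1,0,-1,2,1,0⟩,1056,0,209⟩,
   ⟨⟨3,0,1,0,1,-2,-1,0⟩,1056,0,129⟩,
   ⟨⟨3,0,1,0,1,-2,1,0⟩,1056,145,80⟩,
   ⟨⟨3,0,1,0,1,0,-1,0⟩,800,26,123⟩,
   ⟨⟨3,0,1,0,1,0,-1,2⟩,1056,0,225⟩,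
   ⟨⟨3,0,1,0,1,0,1,-2⟩,1056,145,48⟩,
   ⟨⟨3,0,1,0,1,0,1,0⟩,800,139,170⟩,
   ⟨⟨-2,0,-1,-1,-2,1,-1,0⟩,800,181,177⟩,
   ⟨⟨-2,0,-1,-1,-2,1,-1,2⟩,1056,175,43⟩,
   ⟨⟨-2,0,-1,-1,-2,1,1,-2⟩,1056,62,250⟩,
   ⟨⟨-2,0,-1,-1,-2,1,1,0⟩,800,36,96⟩,
   ⟨⟨-2,0,-1,-1,0,-1,-1,0⟩,548,62,202⟩,
   ⟨⟨-2,0,-1,-1,0,-1,1,0⟩,548,175,27⟩,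
   ⟨⟨-2,0,-1,-1,0,1,-1,0⟩,548,36,48⟩,
   ⟨⟨-2,0,-1,-1,0,1,1,0⟩,548,181,225⟩,
   ⟨⟨-2,0,-1,-1,2,-1,-1,0⟩,800,175,75⟩,
   ⟨⟨-2,0,-1,-1,2,-1,-1,2⟩,1056,181,209⟩,
   ⟨⟨-2,0,-1,-1,2,-1,1,-2⟩,1056,36,0⟩,
   ⟨⟨-2,0,-1,-1,2,-1,1,0⟩,800,62,154⟩,
   ⟨⟨-2,0,-1,1,-2,1,-1,0⟩,796,175,123⟩,
   ⟨⟨-2,0,-1,1,-2,1,1,0⟩,796,62,170⟩,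
   ⟨⟨-2,0,-1,1,0,-1,-3,0⟩,1056,181,209⟩,
   ⟨⟨-2,0,-1,1,0,-1,-1,0⟩,544,36,0⟩,
   ⟨⟨-2,0,-1,1,0,-1,-1,2⟩,800,62,154⟩,
   ⟨⟨-2,0,-1,1,0,-1,1,-2⟩,800,175,75⟩,
   ⟨⟨-2,0,-1,1,0,-1,1,0⟩,544,181,209⟩,
   ⟨⟨-2,0,-1,1,0,-1,3,0⟩,1056,36,0⟩,
   ⟨⟨-2,0,-1,1,0,1,-3,0⟩,1056,175,43⟩,
   ⟨⟨-2,0,-1,1,0,1,-1,0⟩,544,62,250⟩,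
   ⟨⟨-2,0,-1,1,0,1,-1,2⟩,800,36,96⟩,
   ⟨⟨-2,0,-1,1,0,1,1,-2⟩,800,181,177⟩,
   ⟨⟨-2,0,-1,1,0,1,1,0⟩,544,175,43⟩,
   ⟨⟨-2,0,-1,1,0,1,3,0⟩,1056,62,250⟩,
   ⟨⟨-2,0,-1,1,2,-1,-1,0⟩,796,181,129⟩,
   ⟨⟨-2,0,-1,1,2,-1,1,0⟩,796,36,80⟩,
   ⟨⟨-2,0,1,-1,-2,1,-1,0⟩,796,36,80⟩,
   ⟨⟨-2,0,1,-1,-2,1,1,0⟩,796,181,129⟩,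
   ⟨⟨-2,0,1,-1,0,-1,-3,0⟩,1056,62,250⟩,
   ⟨⟨-2,0,1,-1,0,-1,-1,0⟩,544,175,43⟩,
   ⟨⟨-2,0,1,-1,0,-1,-1,2⟩,800,181,177⟩,
   ⟨⟨-2,0,1,-1,0,-1,1,-2⟩,800,36,96⟩,
   ⟨⟨-2,0,1,-1,0,-1,1,0⟩,544,62,250⟩,
   ⟨⟨-2,0,1,-1,0,-1,3,0⟩,1056,175,43⟩,
   ⟨⟨-2,0,1,-1,0,1,-3,0⟩,1056,36,0⟩,
   ⟨⟨-2,0,1,-1,0,1,-1,0⟩,544,181,209⟩,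
   ⟨⟨-2,0,1,-1,0,1,-1,2⟩,800,175,75⟩,
   ⟨⟨-2,0,1,-1,0,1,1,-2⟩,800,62,154⟩,
   ⟨⟨-2,0,1,-1,0,1,1,0⟩,544,36,0⟩,
   ⟨⟨-2,0,1,-1,0,1,3,0⟩,1056,181,209⟩,
   ⟨⟨-2,0,1,-1,2,-1,-1,0⟩,796,62,170⟩,
   ⟨⟨-2,0,1,-1,2,-1,1,0⟩,796,175,123⟩,
   ⟨⟨-2,0,1,1,-2,1,-1,0⟩,800,62,154⟩,
   ⟨⟨-2,0,1,1,-2,1,-1,2⟩,1056,36,0⟩,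
   ⟨⟨-2,0,1,1,-2,1,1,-2⟩,1056,181,209⟩,
   ⟨⟨-2,0,1,1,-2,1,1,0⟩,800,175,75⟩,
   ⟨⟨-2,0,1,1,0,-1,-1,0⟩,548,181,225⟩,
   ⟨⟨-2,0,1,1,0,-1,1,0⟩,548,36,48⟩,
   ⟨⟨-2,0,1,1,0,1,-1,0⟩,548,175,27⟩,
   ⟨⟨-2,0,1,1,0,1,1,0⟩,548,62,202⟩,
   ⟨⟨-2,0,1,1,2,-1,-1,0⟩,800,36,96⟩,
   ⟨⟨-2,0,1,1,2,-1,-1,2⟩,1056,62,250⟩,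
   ⟨⟨-2,0,1,1,2,-1,1,-2⟩,1056,175,43⟩,
   ⟨⟨-2,0,1,1,2,-1,1,0⟩,800,181,177⟩,
   ⟨⟨-2,2,-1,-1,0,-1,-1,0⟩,800,36,96⟩,
   ⟨⟨-2,2,-1,-1,0,-1,-1,2⟩,1056,62,250⟩,
   ⟨⟨-2,2,-1,-1,0,-1,1,-2⟩,1056,175,43⟩,
   ⟨⟨-2,2,-1,-1,0,-1,1,0⟩,800,181,177⟩,
   ⟨⟨-2,2,-1,-1,0,1,-1,0⟩,800,62,154⟩,
   ⟨⟨-2,2,-1,-1,0,1,-1,2⟩,1056,36,0⟩,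
   ⟨⟨-2,2,-1,-1,0,1,1,-2⟩,1056,181,209⟩,
   ⟨⟨-2,2,-1,-1,0,1,1,0⟩,800,175,75⟩,
   ⟨⟨-2,2,-1,1,-2,-1,-1,0⟩,1056,175,43⟩,
   ⟨⟨-2,2,-1,1,-2,-1,1,0⟩,1056,62,250⟩,
   ⟨⟨-2,2,-1,1,0,-1,-1,0⟩,796,62,170⟩,
   ⟨⟨-2,2,-1,1,0,-1,1,0⟩,796,175,123⟩,
   ⟨⟨-2,2,-1,1,0,1,-1,0⟩,796,36,80⟩,
   ⟨⟨-2,2,-1,1,0,1,1,0⟩,796,181,129⟩,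
   ⟨⟨-2,2,-1,1,2,1,-1,0⟩,1056,181,209⟩,
   ⟨⟨-2,2,-1,1,2,1,1,0⟩,1056,36,0⟩,
   ⟨⟨-2,2,1,-1,-2,-1,-1,0⟩,1056,36,0⟩,
   ⟨⟨-2,2,1,-1,-2,-1,1,0⟩,1056,181,209⟩,
   ⟨⟨-2,2,1,-1,0,-1,-1,0⟩,796,181,129⟩,
   ⟨⟨-2,2,1,-1,0,-1,1,0⟩,796,36,80⟩,
   ⟨⟨-2,2,1,-1,0,1,-1,0⟩,796,175,123⟩,
   ⟨⟨-2,2,1,-1,0,1,1,0⟩,796,62,170⟩,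
   ⟨⟨-2,2,1,-1,2,1,-1,0⟩,1056,62,250⟩,
   ⟨⟨-2,2,1,-1,2,1,1,0⟩,1056,175,43⟩,
   ⟨⟨-2,2,1,1,0,-1,-1,0⟩,800,175,75⟩,
   ⟨⟨-2,2,1,1,0,-1,-1,2⟩,1056,181,209⟩,
   ⟨⟨-2,2,1,1,0,-1,1,-2⟩,1056,36,0⟩,
   ⟨⟨-2,2,1,1,0,-1,1,0⟩,800,62,154⟩,
   ⟨⟨-2,2,1,1,0,1,-1,0⟩,800,181,177⟩,
   ⟨⟨-2,2,1,1,0,1,-1,2⟩,1056,175,43⟩,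
   ⟨⟨-2,2,1,1,0,1,1,-2⟩,1056,62,250⟩,
   ⟨⟨-2,2,1,1,0,1,1,0⟩,800,36,96⟩,
   ⟨⟨0,-2,-3,1,0,-1,-1,0⟩,1056,62,250⟩,
   ⟨⟨0,-2,-3,1,0,-1,1,0⟩,1056,175,43⟩,
   ⟨⟨0,-2,-3,1,0,1,-1,0⟩,1056,36,0⟩,
   ⟨⟨0,-2,-3,1,0,1,1,0⟩,1056,181,209⟩,
   ⟨⟨0,-2,-1,1,-2,1,-1,0⟩,800,36,96⟩]

def ekChunk19 : List EK :=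
  [⟨⟨0,-2,-1,1,-2,1,-1,2⟩,1056,62,250⟩,
   ⟨⟨0,-2,-1,1,-2,1,1,-2⟩,1056,175,43⟩,
   ⟨⟨0,-2,-1,1,-2,1,1,0⟩,800,181,177⟩,
   ⟨⟨0,-2,-1,1,0,-1,-1,0⟩,548,175,27⟩,
   ⟨⟨0,-2,-1,1,0,-1,1,0⟩,548,62,202⟩,
   ⟨⟨0,-2,-1,1,0,1,-1,0⟩,548,181,225⟩,
   ⟨⟨0,-2,-1,1,0,1,1,0⟩,548,36,48⟩,
   ⟨⟨0,-2,-1,1,2,-1,-1,0⟩,800,62,154⟩,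
   ⟨⟨0,-2,-1,1,2,-1,-1,2⟩,1056,36,0⟩,
   ⟨⟨0,-2,-1,1,2,-1,1,-2⟩,1056,181,209⟩,
   ⟨⟨0,-2,-1,1,2,-1,1,0⟩,800,175,75⟩,
   ⟨⟨0,-2,1,-1,-2,1,-1,0⟩,800,175,75⟩,
   ⟨⟨0,-2,1,-1,-2,1,-1,2⟩,1056,181,209⟩,
   ⟨⟨0,-2,1,-1,-2,1,1,-2⟩,1056,36,0⟩,
   ⟨⟨0,-2,1,-1,-2,1,1,0⟩,800,62,154⟩,
   ⟨⟨0,-2,1,-1,0,-1,-1,0⟩,548,36,48⟩,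
   ⟨⟨0,-2,1,-1,0,-1,1,0⟩,548,181,225⟩,
   ⟨⟨0,-2,1,-1,0,1,-1,0⟩,548,62,202⟩,
   ⟨⟨0,-2,1,-1,0,1,1,0⟩,548,175,27⟩,
   ⟨⟨0,-2,1,-1,2,-1,-1,0⟩,800,181,177⟩,
   ⟨⟨0,-2,1,-1,2,-1,-1,2⟩,1056,175,43⟩,
   ⟨⟨0,-2,1,-1,2,-1,1,-2⟩,1056,62,250⟩,
   ⟨⟨0,-2,1,-1,2,-1,1,0⟩,800,36,96⟩,
   ⟨⟨0,-2,3,-1,0,-1,-1,0⟩,1056,181,209⟩,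
   ⟨⟨0,-2,3,-1,0,-1,1,0⟩,1056,36,0⟩,
   ⟨⟨0,-2,3,-1,0,1,-1,0⟩,1056,175,43⟩,
   ⟨⟨0,-2,3,-1,0,1,1,0⟩,1056,62,250⟩,
   ⟨⟨0,0,-3,1,-2,-1,-1,0⟩,1056,181,209⟩,
   ⟨⟨0,0,-3,1,-2,-1,1,0⟩,1056,36,0⟩,
   ⟨⟨0,0,-3,1,0,-1,-1,0⟩,796,36,80⟩,
   ⟨⟨0,0,-3,1,0,-1,1,0⟩,796,181,129⟩,
   ⟨⟨0,0,-3,1,0,1,-1,0⟩,796,62,170⟩,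
   ⟨⟨0,0,-3,1,0,1,1,0⟩,796,175,123⟩,
   ⟨⟨0,0,-3,1,2,1,-1,0⟩,1056,175,43⟩,
   ⟨⟨0,0,-3,1,2,1,1,0⟩,1056,62,250⟩,
   ⟨⟨0,0,-1,-1,-2,1,-3,0⟩,1056,181,209⟩,
   ⟨⟨0,0,-1,-1,-2,1,-1,0⟩,544,36,0⟩,
   ⟨⟨0,0,-1,-1,-2,1,-1,2⟩,800,62,154⟩,
   ⟨⟨0,0,-1,-1,-2,1,1,-2⟩,800,175,75⟩,
   ⟨⟨0,0,-1,-1,-2,1,1,0⟩,544,181,209⟩,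
   ⟨⟨0,0,-1,-1,-2,1,3,0⟩,1056,36,0⟩,
   ⟨⟨0,0,-1,-1,-2,3,-1,0⟩,1056,62,250⟩,
   ⟨⟨0,0,-1,-1,-2,3,1,0⟩,1056,175,43⟩,
   ⟨⟨0,0,-1,-1,0,-1,-1,0⟩,292,175,123⟩,
   ⟨⟨0,0,-1,-1,0,-1,-1,2⟩,548,181,225⟩,
   ⟨⟨0,0,-1,-1,0,-1,1,-2⟩,548,36,48⟩,
   ⟨⟨0,0,-1,-1,0,-1,1,0⟩,292,62,170⟩,
   ⟨⟨0,0,-1,-1,0,1,-1,0⟩,292,181,129⟩,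
   ⟨⟨0,0,-1,-1,0,1,-1,2⟩,548,175,27⟩,
   ⟨⟨0,0,-1,-1,0,1,1,-2⟩,548,62,202⟩,
   ⟨⟨0,0,-1,-1,0,1,1,0⟩,292,36,80⟩,
   ⟨⟨0,0,-1,-1,2,-3,-1,0⟩,1056,36,0⟩,
   ⟨⟨0,0,-1,-1,2,-3,1,0⟩,1056,181,209⟩,
   ⟨⟨0,0,-1,-1,2,-1,-3,0⟩,1056,175,43⟩,
   ⟨⟨0,0,-1,-1,2,-1,-1,0⟩,544,62,250⟩,
   ⟨⟨0,0,-1,-1,2,-1,-1,2⟩,800,36,96⟩,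
   ⟨⟨0,0,-1,-1,2,-1,1,-2⟩,800,181,177⟩,
   ⟨⟨0,0,-1,-1,2,-1,1,0⟩,544,175,43⟩,
   ⟨⟨0,0,-1,-1,2,-1,3,0⟩,1056,62,250⟩,
   ⟨⟨0,0,-1,1,-2,-1,-1,0⟩,548,36,48⟩,
   ⟨⟨0,0,-1,1,-2,-1,1,0⟩,548,181,225⟩,
   ⟨⟨0,0,-1,1,-2,1,-1,0⟩,540,62,202⟩,
   ⟨⟨0,0,-1,1,-2,1,-1,2⟩,796,36,80⟩,
   ⟨⟨0,0,-1,1,-2,1,1,-2⟩,796,181,129⟩,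
   ⟨⟨0,0,-1,1,-2,1,1,0⟩,540,175,27⟩,
   ⟨⟨0,0,-1,1,0,-1,-3,0⟩,800,36,96⟩,
   ⟨⟨0,0,-1,1,0,-1,-1,0⟩,288,181,177⟩,
   ⟨⟨0,0,-1,1,0,-1,-1,2⟩,544,175,43⟩,
   ⟨⟨0,0,-1,1,0,-1,1,-2⟩,544,62,250⟩,
   ⟨⟨0,0,-1,1,0,-1,1,0⟩,288,36,96⟩,
   ⟨⟨0,0,-1,1,0,-1,3,0⟩,800,181,177⟩,
   ⟨⟨0,0,-1,1,0,1,-3,0⟩,800,62,154⟩,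
   ⟨⟨0,0,-1,1,0,1,-1,0⟩,288,175,75⟩,
   ⟨⟨0,0,-1,1,0,1,-1,2⟩,544,181,209⟩,
   ⟨⟨0,0,-1,1,0,1,1,-2⟩,544,36,0⟩,
   ⟨⟨0,0,-1,1,0,1,1,0⟩,288,62,154⟩,
   ⟨⟨0,0,-1,1,0,1,3,0⟩,800,175,75⟩,
   ⟨⟨0,0,-1,1,2,-1,-1,0⟩,540,36,48⟩,
   ⟨⟨0,0,-1,1,2,-1,-1,2⟩,796,62,170⟩,
   ⟨⟨0,0,-1,1,2,-1,1,-2⟩,796,175,123⟩,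
   ⟨⟨0,0,-1,1,2,-1,1,0⟩,540,181,225⟩,
   ⟨⟨0,0,-1,1,2,1,-1,0⟩,548,62,202⟩,
   ⟨⟨0,0,-1,1,2,1,1,0⟩,548,175,27⟩,
   ⟨⟨0,0,-1,3,-2,1,-1,0⟩,1056,36,0⟩,
   ⟨⟨0,0,-1,3,-2,1,1,0⟩,1056,181,209⟩,
   ⟨⟨0,0,-1,3,2,-1,-1,0⟩,1056,62,250⟩,
   ⟨⟨0,0,-1,3,2,-1,1,0⟩,1056,175,43⟩,
   ⟨⟨0,0,1,-3,-2,1,-1,0⟩,1056,175,43⟩,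
   ⟨⟨0,0,1,-3,-2,1,1,0⟩,1056,62,250⟩,
   ⟨⟨0,0,1,-3,2,-1,-1,0⟩,1056,181,209⟩,
   ⟨⟨0,0,1,-3,2,-1,1,0⟩,1056,36,0⟩,
   ⟨⟨0,0,1,-1,-2,-1,-1,0⟩,548,175,27⟩,
   ⟨⟨0,0,1,-1,-2,-1,1,0⟩,548,62,202⟩,
   ⟨⟨0,0,1,-1,-2,1,-1,0⟩,540,181,225⟩,
   ⟨⟨0,0,1,-1,-2,1,-1,2⟩,796,175,123⟩,
   ⟨⟨0,0,1,-1,-2,1,1,-2⟩,796,62,170⟩,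
   ⟨⟨0,0,1,-1,-2,1,1,0⟩,540,36,48⟩,
   ⟨⟨0,0,1,-1,0,-1,-3,0⟩,800,175,75⟩,
   ⟨⟨0,0,1,-1,0,-1,-1,0⟩,288,62,154⟩,
   ⟨⟨0,0,1,-1,0,-1,-1,2⟩,544,36,0⟩,
   ⟨⟨0,0,1,-1,0,-1,1,-2⟩,544,181,209⟩,
   ⟨⟨0,0,1,-1,0,-1,1,0⟩,288,175,75⟩,
   ⟨⟨0,0,1,-1,0,-1,3,0⟩,800,62,154⟩,
   ⟨⟨0,0,1,-1,0,1,-3,0⟩,800,181,177⟩,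
   ⟨⟨0,0,1,-1,0,1,-1,0⟩,288,36,96⟩,
   ⟨⟨0,0,1,-1,0,1,-1,2⟩,544,62,250⟩,
   ⟨⟨0,0,1,-1,0,1,1,-2⟩,544,175,43⟩,
   ⟨⟨0,0,1,-1,0,1,1,0⟩,288,181,177⟩,
   ⟨⟨0,0,1,-1,0,1,3,0⟩,800,36,96⟩,
   ⟨⟨0,0,1,-1,2,-1,-1,0⟩,540,175,27⟩,
   ⟨⟨0,0,1,-1,2,-1,-1,2⟩,796,181,129⟩,
   ⟨⟨0,0,1,-1,2,-1,1,-2⟩,796,36,80⟩,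
   ⟨⟨0,0,1,-1,2,-1,1,0⟩,540,62,202⟩,
   ⟨⟨0,0,1,-1,2,1,-1,0⟩,548,181,225⟩,
   ⟨⟨0,0,1,-1,2,1,1,0⟩,548,36,48⟩,
   ⟨⟨0,0,1,1,-2,1,-3,0⟩,1056,62,250⟩,
   ⟨⟨0,0,1,1,-2,1,-1,0⟩,544,175,43⟩,
   ⟨⟨0,0,1,1,-2,1,-1,2⟩,800,181,177⟩,
   ⟨⟨0,0,1,1,-2,1,1,-2⟩,800,36,96⟩,
   ⟨⟨0,0,1,1,-2,1,1,0⟩,544,62,250⟩,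
   ⟨⟨0,0,1,1,-2,1,3,0⟩,1056,175,43⟩,
   ⟨⟨0,0,1,1,-2,3,-1,0⟩,1056,181,209⟩,
   ⟨⟨0,0,1,1,-2,3,1,0⟩,1056,36,0⟩,
   ⟨⟨0,0,1,1,0,-1,-1,0⟩,292,36,80⟩,
   ⟨⟨0,0,1,1,0,-1,-1,2⟩,548,62,202⟩,
   ⟨⟨0,0,1,1,0,-1,1,-2⟩,548,175,27⟩,
   ⟨⟨0,0,1,1,0,-1,1,0⟩,292,181,129⟩,
   ⟨⟨0,0,1,1,0,1,-1,0⟩,292,62,170⟩,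
   ⟨⟨0,0,1,1,0,1,-1,2⟩,548,36,48⟩,
   ⟨⟨0,0,1,1,0,1,1,-2⟩,548,181,225⟩]

def ekChunk20 : List EK :=
  [⟨⟨0,0,1,1,0,1,1,0⟩,292,175,123⟩,
   ⟨⟨0,0,1,1,2,-3,-1,0⟩,1056,175,43⟩,
   ⟨⟨0,0,1,1,2,-3,1,0⟩,1056,62,250⟩,
   ⟨⟨0,0,1,1,2,-1,-3,0⟩,1056,36,0⟩,
   ⟨⟨0,0,1,1,2,-1,-1,0⟩,544,181,209⟩,
   ⟨⟨0,0,1,1,2,-1,-1,2⟩,800,175,75⟩,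
   ⟨⟨0,0,1,1,2,-1,1,-2⟩,800,62,154⟩,
   ⟨⟨0,0,1,1,2,-1,1,0⟩,544,36,0⟩,
   ⟨⟨0,0,1,1,2,-1,3,0⟩,1056,181,209⟩,
   ⟨⟨0,0,3,-1,-2,-1,-1,0⟩,1056,62,250⟩,
   ⟨⟨0,0,3,-1,-2,-1,1,0⟩,1056,175,43⟩,
   ⟨⟨0,0,3,-1,0,-1,-1,0⟩,796,175,123⟩,
   ⟨⟨0,0,3,-1,0,-1,1,0⟩,796,62,170⟩,
   ⟨⟨0,0,3,-1,0,1,-1,0⟩,796,181,129⟩,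
   ⟨⟨0,0,3,-1,0,1,1,0⟩,796,36,80⟩,
   ⟨⟨0,0,3,-1,2,1,-1,0⟩,1056,36,0⟩,
   ⟨⟨0,0,3,-1,2,1,1,0⟩,1056,181,209⟩,
   ⟨⟨0,2,-3,1,0,-1,-1,0⟩,1056,62,250⟩,
   ⟨⟨0,2,-3,1,0,-1,1,0⟩,1056,175,43⟩,
   ⟨⟨0,2,-3,1,0,1,-1,0⟩,1056,36,0⟩,
   ⟨⟨0,2,-3,1,0,1,1,0⟩,1056,181,209⟩,
   ⟨⟨0,2,-1,1,-2,1,-1,0⟩,800,36,96⟩,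
   ⟨⟨0,2,-1,1,-2,1,-1,2⟩,1056,62,250⟩,
   ⟨⟨0,2,-1,1,-2,1,1,-2⟩,1056,175,43⟩,
   ⟨⟨0,2,-1,1,-2,1,1,0⟩,800,181,177⟩,
   ⟨⟨0,2,-1,1,0,-1,-1,0⟩,548,175,27⟩,
   ⟨⟨0,2,-1,1,0,-1,1,0⟩,548,62,202⟩,
   ⟨⟨0,2,-1,1,0,1,-1,0⟩,548,181,225⟩,
   ⟨⟨0,2,-1,1,0,1,1,0⟩,548,36,48⟩,
   ⟨⟨0,2,-1,1,2,-1,-1,0⟩,800,62,154⟩,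
   ⟨⟨0,2,-1,1,2,-1,-1,2⟩,1056,36,0⟩,
   ⟨⟨0,2,-1,1,2,-1,1,-2⟩,1056,181,209⟩,
   ⟨⟨0,2,-1,1,2,-1,1,0⟩,800,175,75⟩,
   ⟨⟨0,2,1,-1,-2,1,-1,0⟩,800,175,75⟩,
   ⟨⟨0,2,1,-1,-2,1,-1,2⟩,1056,181,209⟩,
   ⟨⟨0,2,1,-1,-2,1,1,-2⟩,1056,36,0⟩,
   ⟨⟨0,2,1,-1,-2,1,1,0⟩,800,62,154⟩,
   ⟨⟨0,2,1,-1,0,-1,-1,0⟩,548,36,48⟩,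
   ⟨⟨0,2,1,-1,0,-1,1,0⟩,548,181,225⟩,
   ⟨⟨0,2,1,-1,0,1,-1,0⟩,548,62,202⟩,
   ⟨⟨0,2,1,-1,0,1,1,0⟩,548,175,27⟩,
   ⟨⟨0,2,1,-1,2,-1,-1,0⟩,800,181,177⟩,
   ⟨⟨0,2,1,-1,2,-1,-1,2⟩,1056,175,43⟩,
   ⟨⟨0,2,1,-1,2,-1,1,-2⟩,1056,62,250⟩,
   ⟨⟨0,2,1,-1,2,-1,1,0⟩,800,36,96⟩,
   ⟨⟨0,2,3,-1,0,-1,-1,0⟩,1056,181,209⟩,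
   ⟨⟨0,2,3,-1,0,-1,1,0⟩,1056,36,0⟩,
   ⟨⟨0,2,3,-1,0,1,-1,0⟩,1056,175,43⟩,
   ⟨⟨0,2,3,-1,0,1,1,0⟩,1056,62,250⟩,
   ⟨⟨2,-2,-1,-1,0,-1,-1,0⟩,800,36,96⟩,
   ⟨⟨2,-2,-1,-1,0,-1,-1,2⟩,1056,62,250⟩,
   ⟨⟨2,-2,-1,-1,0,-1,1,-2⟩,1056,175,43⟩,
   ⟨⟨2,-2,-1,-1,0,-1,1,0⟩,800,181,177⟩,
   ⟨⟨2,-2,-1,-1,0,1,-1,0⟩,800,62,154⟩,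
   ⟨⟨2,-2,-1,-1,0,1,-1,2⟩,1056,36,0⟩,
   ⟨⟨2,-2,-1,-1,0,1,1,-2⟩,1056,181,209⟩,
   ⟨⟨2,-2,-1,-1,0,1,1,0⟩,800,175,75⟩,
   ⟨⟨2,-2,-1,1,-2,-1,-1,0⟩,1056,175,43⟩,
   ⟨⟨2,-2,-1,1,-2,-1,1,0⟩,1056,62,250⟩,
   ⟨⟨2,-2,-1,1,0,-1,-1,0⟩,796,62,170⟩,
   ⟨⟨2,-2,-1,1,0,-1,1,0⟩,796,175,123⟩,
   ⟨⟨2,-2,-1,1,0,1,-1,0⟩,796,36,80⟩,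
   ⟨⟨2,-2,-1,1,0,1,1,0⟩,796,181,129⟩,
   ⟨⟨2,-2,-1,1,2,1,-1,0⟩,1056,181,209⟩,
   ⟨⟨2,-2,-1,1,2,1,1,0⟩,1056,36,0⟩,
   ⟨⟨2,-2,1,-1,-2,-1,-1,0⟩,1056,36,0⟩,
   ⟨⟨2,-2,1,-1,-2,-1,1,0⟩,1056,181,209⟩,
   ⟨⟨2,-2,1,-1,0,-1,-1,0⟩,796,181,129⟩,
   ⟨⟨2,-2,1,-1,0,-1,1,0⟩,796,36,80⟩,
   ⟨⟨2,-2,1,-1,0,1,-1,0⟩,796,175,123⟩,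
   ⟨⟨2,-2,1,-1,0,1,1,0⟩,796,62,170⟩,
   ⟨⟨2,-2,1,-1,2,1,-1,0⟩,1056,62,250⟩,
   ⟨⟨2,-2,1,-1,2,1,1,0⟩,1056,175,43⟩,
   ⟨⟨2,-2,1,1,0,-1,-1,0⟩,800,175,75⟩,
   ⟨⟨2,-2,1,1,0,-1,-1,2⟩,1056,181,209⟩,
   ⟨⟨2,-2,1,1,0,-1,1,-2⟩,1056,36,0⟩,
   ⟨⟨2,-2,1,1,0,-1,1,0⟩,800,62,154⟩,
   ⟨⟨2,-2,1,1,0,1,-1,0⟩,800,181,177⟩,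
   ⟨⟨2,-2,1,1,0,1,-1,2⟩,1056,175,43⟩,
   ⟨⟨2,-2,1,1,0,1,1,-2⟩,1056,62,250⟩,
   ⟨⟨2,-2,1,1,0,1,1,0⟩,800,36,96⟩,
   ⟨⟨2,0,-1,-1,-2,1,-1,0⟩,800,181,177⟩,
   ⟨⟨2,0,-1,-1,-2,1,-1,2⟩,1056,175,43⟩,
   ⟨⟨2,0,-1,-1,-2,1,1,-2⟩,1056,62,250⟩,
   ⟨⟨2,0,-1,-1,-2,1,1,0⟩,800,36,96⟩,
   ⟨⟨2,0,-1,-1,0,-1,-1,0⟩,548,62,202⟩,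
   ⟨⟨2,0,-1,-1,0,-1,1,0⟩,548,175,27⟩,
   ⟨⟨2,0,-1,-1,0,1,-1,0⟩,548,36,48⟩,
   ⟨⟨2,0,-1,-1,0,1,1,0⟩,548,181,225⟩,
   ⟨⟨2,0,-1,-1,2,-1,-1,0⟩,800,175,75⟩,
   ⟨⟨2,0,-1,-1,2,-1,-1,2⟩,1056,181,209⟩,
   ⟨⟨2,0,-1,-1,2,-1,1,-2⟩,1056,36,0⟩,
   ⟨⟨2,0,-1,-1,2,-1,1,0⟩,800,62,154⟩,
   ⟨⟨2,0,-1,1,-2,1,-1,0⟩,796,175,123⟩,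
   ⟨⟨2,0,-1,1,-2,1,1,0⟩,796,62,170⟩,
   ⟨⟨2,0,-1,1,0,-1,-3,0⟩,1056,181,209⟩,
   ⟨⟨2,0,-1,1,0,-1,-1,0⟩,544,36,0⟩,
   ⟨⟨2,0,-1,1,0,-1,-1,2⟩,800,62,154⟩,
   ⟨⟨2,0,-1,1,0,-1,1,-2⟩,800,175,75⟩,
   ⟨⟨2,0,-1,1,0,-1,1,0⟩,544,181,209⟩,
   ⟨⟨2,0,-1,1,0,-1,3,0⟩,1056,36,0⟩,
   ⟨⟨2,0,-1,1,0,1,-3,0⟩,1056,175,43⟩,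
   ⟨⟨2,0,-1,1,0,1,-1,0⟩,544,62,250⟩,
   ⟨⟨2,0,-1,1,0,1,-1,2⟩,800,36,96⟩,
   ⟨⟨2,0,-1,1,0,1,1,-2⟩,800,181,177⟩,
   ⟨⟨2,0,-1,1,0,1,1,0⟩,544,175,43⟩,
   ⟨⟨2,0,-1,1,0,1,3,0⟩,1056,62,250⟩,
   ⟨⟨2,0,-1,1,2,-1,-1,0⟩,796,181,129⟩,
   ⟨⟨2,0,-1,1,2,-1,1,0⟩,796,36,80⟩,
   ⟨⟨2,0,1,-1,-2,1,-1,0⟩,796,36,80⟩,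
   ⟨⟨2,0,1,-1,-2,1,1,0⟩,796,181,129⟩,
   ⟨⟨2,0,1,-1,0,-1,-3,0⟩,1056,62,250⟩,
   ⟨⟨2,0,1,-1,0,-1,-1,0⟩,544,175,43⟩,
   ⟨⟨2,0,1,-1,0,-1,-1,2⟩,800,181,177⟩,
   ⟨⟨2,0,1,-1,0,-1,1,-2⟩,800,36,96⟩,
   ⟨⟨2,0,1,-1,0,-1,1,0⟩,544,62,250⟩,
   ⟨⟨2,0,1,-1,0,-1,3,0⟩,1056,175,43⟩,
   ⟨⟨2,0,1,-1,0,1,-3,0⟩,1056,36,0⟩,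
   ⟨⟨2,0,1,-1,0,1,-1,0⟩,544,181,209⟩,
   ⟨⟨2,0,1,-1,0,1,-1,2⟩,800,175,75⟩,
   ⟨⟨2,0,1,-1,0,1,1,-2⟩,800,62,154⟩,
   ⟨⟨2,0,1,-1,0,1,1,0⟩,544,36,0⟩,
   ⟨⟨2,0,1,-1,0,1,3,0⟩,1056,181,209⟩,
   ⟨⟨2,0,1,-1,2,-1,-1,0⟩,796,62,170⟩,
   ⟨⟨2,0,1,-1,2,-1,1,0⟩,796,175,123⟩,
   ⟨⟨2,0,1,1,-2,1,-1,0⟩,800,62,154⟩,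
   ⟨⟨2,0,1,1,-2,1,-1,2⟩,1056,36,0⟩,
   ⟨⟨2,0,1,1,-2,1,1,-2⟩,1056,181,209⟩,
   ⟨⟨2,0,1,1,-2,1,1,0⟩,800,175,75⟩,
   ⟨⟨2,0,1,1,0,-1,-1,0⟩,548,181,225⟩]

def ekChunk21 : List EK :=
  [⟨⟨2,0,1,1,0,-1,1,0⟩,548,36,48⟩,
   ⟨⟨2,0,1,1,0,1,-1,0⟩,548,175,27⟩,
   ⟨⟨2,0,1,1,0,1,1,0⟩,548,62,202⟩,
   ⟨⟨2,0,1,1,2,-1,-1,0⟩,800,36,96⟩,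
   ⟨⟨2,0,1,1,2,-1,-1,2⟩,1056,62,250⟩,
   ⟨⟨2,0,1,1,2,-1,1,-2⟩,1056,175,43⟩,
   ⟨⟨2,0,1,1,2,-1,1,0⟩,800,181,177⟩,
   ⟨⟨-2,-1,-2,2,-1,1,-1,0⟩,1056,40,170⟩,
   ⟨⟨-2,-1,-2,2,-1,1,1,0⟩,1056,185,123⟩,
   ⟨⟨-2,-1,-2,2,1,-1,-1,0⟩,1056,163,209⟩,
   ⟨⟨-2,-1,-2,2,1,-1,1,0⟩,1056,50,0⟩,
   ⟨⟨-2,-1,0,0,-3,1,-1,0⟩,1056,50,0⟩,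
   ⟨⟨-2,-1,0,0,-3,1,1,0⟩,1056,163,209⟩,
   ⟨⟨-2,-1,0,0,-1,1,-1,0⟩,548,163,129⟩,
   ⟨⟨-2,-1,0,0,-1,1,1,0⟩,548,50,80⟩,
   ⟨⟨-2,-1,0,0,1,-1,-1,0⟩,548,40,250⟩,
   ⟨⟨-2,-1,0,0,1,-1,1,0⟩,548,185,43⟩,
   ⟨⟨-2,-1,0,0,3,-1,-1,0⟩,1056,185,123⟩,
   ⟨⟨-2,-1,0,0,3,-1,1,0⟩,1056,40,170⟩,
   ⟨⟨-2,-1,2,-2,-1,1,-1,0⟩,1056,40,170⟩,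
   ⟨⟨-2,-1,2,-2,-1,1,1,0⟩,1056,185,123⟩,
   ⟨⟨-2,-1,2,-2,1,-1,-1,0⟩,1056,163,209⟩,
   ⟨⟨-2,-1,2,-2,1,-1,1,0⟩,1056,50,0⟩,
   ⟨⟨-2,1,-2,0,-1,-1,-1,0⟩,800,50,48⟩,
   ⟨⟨-2,1,-2,0,-1,-1,-1,2⟩,1056,40,170⟩,
   ⟨⟨-2,1,-2,0,-1,-1,1,-2⟩,1056,185,123⟩,
   ⟨⟨-2,1,-2,0,-1,-1,1,0⟩,800,163,225⟩,
   ⟨⟨-2,1,-2,0,-1,1,-1,0⟩,796,40,202⟩,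
   ⟨⟨-2,1,-2,0,-1,1,1,0⟩,796,185,27⟩,
   ⟨⟨-2,1,-2,0,1,-1,-1,0⟩,796,163,177⟩,
   ⟨⟨-2,1,-2,0,1,-1,1,0⟩,796,50,96⟩,
   ⟨⟨-2,1,-2,0,1,1,-1,0⟩,800,185,75⟩,
   ⟨⟨-2,1,-2,0,1,1,-1,2⟩,1056,163,209⟩,
   ⟨⟨-2,1,-2,0,1,1,1,-2⟩,1056,50,0⟩,
   ⟨⟨-2,1,-2,0,1,1,1,0⟩,800,40,154⟩,
   ⟨⟨-2,1,0,-2,-1,1,-1,0⟩,800,163,225⟩,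
   ⟨⟨-2,1,0,-2,-1,1,-1,2⟩,1056,185,123⟩,
   ⟨⟨-2,1,0,-2,-1,1,1,-2⟩,1056,40,170⟩,
   ⟨⟨-2,1,0,-2,-1,1,1,0⟩,800,50,48⟩,
   ⟨⟨-2,1,0,-2,1,-1,-1,0⟩,800,40,154⟩,
   ⟨⟨-2,1,0,-2,1,-1,-1,2⟩,1056,50,0⟩,
   ⟨⟨-2,1,0,-2,1,-1,1,-2⟩,1056,163,209⟩,
   ⟨⟨-2,1,0,-2,1,-1,1,0⟩,800,185,75⟩,
   ⟨⟨-2,1,0,0,-1,-1,-3,0⟩,1056,50,0⟩,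
   ⟨⟨-2,1,0,0,-1,-1,-1,0⟩,544,163,209⟩,
   ⟨⟨-2,1,0,0,-1,-1,-1,2⟩,800,185,75⟩,
   ⟨⟨-2,1,0,0,-1,-1,1,-2⟩,800,40,154⟩,
   ⟨⟨-2,1,0,0,-1,-1,1,0⟩,544,50,0⟩,
   ⟨⟨-2,1,0,0,-1,-1,3,0⟩,1056,163,209⟩,
   ⟨⟨-2,1,0,0,-1,1,-1,0⟩,540,185,43⟩,
   ⟨⟨-2,1,0,0,-1,1,-1,2⟩,796,163,177⟩,
   ⟨⟨-2,1,0,0,-1,1,1,-2⟩,796,50,96⟩,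
   ⟨⟨-2,1,0,0,-1,1,1,0⟩,540,40,250⟩,
   ⟨⟨-2,1,0,0,-1,3,-1,0⟩,1056,163,209⟩,
   ⟨⟨-2,1,0,0,-1,3,1,0⟩,1056,50,0⟩,
   ⟨⟨-2,1,0,0,1,-3,-1,0⟩,1056,40,170⟩,
   ⟨⟨-2,1,0,0,1,-3,1,0⟩,1056,185,123⟩,
   ⟨⟨-2,1,0,0,1,-1,-1,0⟩,540,50,80⟩,
   ⟨⟨-2,1,0,0,1,-1,-1,2⟩,796,40,202⟩,
   ⟨⟨-2,1,0,0,1,-1,1,-2⟩,796,185,27⟩,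
   ⟨⟨-2,1,0,0,1,-1,1,0⟩,540,163,129⟩,
   ⟨⟨-2,1,0,0,1,1,-3,0⟩,1056,185,123⟩,
   ⟨⟨-2,1,0,0,1,1,-1,0⟩,544,40,170⟩,
   ⟨⟨-2,1,0,0,1,1,-1,2⟩,800,50,48⟩,
   ⟨⟨-2,1,0,0,1,1,1,-2⟩,800,163,225⟩,
   ⟨⟨-2,1,0,0,1,1,1,0⟩,544,185,123⟩,
   ⟨⟨-2,1,0,0,1,1,3,0⟩,1056,40,170⟩,
   ⟨⟨-2,1,0,2,-1,1,-1,0⟩,800,163,225⟩,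
   ⟨⟨-2,1,0,2,-1,1,-1,2⟩,1056,185,123⟩,
   ⟨⟨-2,1,0,2,-1,1,1,-2⟩,1056,40,170⟩,
   ⟨⟨-2,1,0,2,-1,1,1,0⟩,800,50,48⟩,
   ⟨⟨-2,1,0,2,1,-1,-1,0⟩,800,40,154⟩,
   ⟨⟨-2,1,0,2,1,-1,-1,2⟩,1056,50,0⟩,
   ⟨⟨-2,1,0,2,1,-1,1,-2⟩,1056,163,209⟩,
   ⟨⟨-2,1,0,2,1,-1,1,0⟩,800,185,75⟩,
   ⟨⟨-2,1,2,0,-1,-1,-1,0⟩,800,50,48⟩,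
   ⟨⟨-2,1,2,0,-1,-1,-1,2⟩,1056,40,170⟩,
   ⟨⟨-2,1,2,0,-1,-1,1,-2⟩,1056,185,123⟩,
   ⟨⟨-2,1,2,0,-1,-1,1,0⟩,800,163,225⟩,
   ⟨⟨-2,1,2,0,-1,1,-1,0⟩,796,40,202⟩,
   ⟨⟨-2,1,2,0,-1,1,1,0⟩,796,185,27⟩,
   ⟨⟨-2,1,2,0,1,-1,-1,0⟩,796,163,177⟩,
   ⟨⟨-2,1,2,0,1,-1,1,0⟩,796,50,96⟩,
   ⟨⟨-2,1,2,0,1,1,-1,0⟩,800,185,75⟩,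
   ⟨⟨-2,1,2,0,1,1,-1,2⟩,1056,163,209⟩,
   ⟨⟨-2,1,2,0,1,1,1,-2⟩,1056,50,0⟩,
   ⟨⟨-2,1,2,0,1,1,1,0⟩,800,40,154⟩,
   ⟨⟨-2,3,0,0,-1,-1,-1,0⟩,1056,185,123⟩,
   ⟨⟨-2,3,0,0,-1,-1,1,0⟩,1056,40,170⟩,
   ⟨⟨-2,3,0,0,1,1,-1,0⟩,1056,50,0⟩,
   ⟨⟨-2,3,0,0,1,1,1,0⟩,1056,163,209⟩,
   ⟨⟨0,-1,-2,0,-1,-1,-1,0⟩,548,185,43⟩,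
   ⟨⟨0,-1,-2,0,-1,-1,1,0⟩,548,40,250⟩,
   ⟨⟨0,-1,-2,0,-1,1,-3,0⟩,1056,50,0⟩,
   ⟨⟨0,-1,-2,0,-1,1,-1,0⟩,544,163,209⟩,
   ⟨⟨0,-1,-2,0,-1,1,-1,2⟩,800,185,75⟩,
   ⟨⟨0,-1,-2,0,-1,1,1,-2⟩,800,40,154⟩,
   ⟨⟨0,-1,-2,0,-1,1,1,0⟩,544,50,0⟩,
   ⟨⟨0,-1,-2,0,-1,1,3,0⟩,1056,163,209⟩,
   ⟨⟨0,-1,-2,0,1,-1,-3,0⟩,1056,185,123⟩,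
   ⟨⟨0,-1,-2,0,1,-1,-1,0⟩,544,40,170⟩,
   ⟨⟨0,-1,-2,0,1,-1,-1,2⟩,800,50,48⟩,
   ⟨⟨0,-1,-2,0,1,-1,1,-2⟩,800,163,225⟩,
   ⟨⟨0,-1,-2,0,1,-1,1,0⟩,544,185,123⟩,
   ⟨⟨0,-1,-2,0,1,-1,3,0⟩,1056,40,170⟩,
   ⟨⟨0,-1,-2,0,1,1,-1,0⟩,548,50,80⟩,
   ⟨⟨0,-1,-2,0,1,1,1,0⟩,548,163,129⟩,
   ⟨⟨0,-1,-2,2,-1,-1,-1,0⟩,800,163,225⟩,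
   ⟨⟨0,-1,-2,2,-1,-1,-1,2⟩,1056,185,123⟩,
   ⟨⟨0,-1,-2,2,-1,-1,1,-2⟩,1056,40,170⟩,
   ⟨⟨0,-1,-2,2,-1,-1,1,0⟩,800,50,48⟩,
   ⟨⟨0,-1,-2,2,-1,1,-1,0⟩,796,185,27⟩,
   ⟨⟨0,-1,-2,2,-1,1,1,0⟩,796,40,202⟩,
   ⟨⟨0,-1,-2,2,1,-1,-1,0⟩,796,50,96⟩,
   ⟨⟨0,-1,-2,2,1,-1,1,0⟩,796,163,177⟩,
   ⟨⟨0,-1,-2,2,1,1,-1,0⟩,800,40,154⟩,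
   ⟨⟨0,-1,-2,2,1,1,-1,2⟩,1056,50,0⟩,
   ⟨⟨0,-1,-2,2,1,1,1,-2⟩,1056,163,209⟩,
   ⟨⟨0,-1,-2,2,1,1,1,0⟩,800,185,75⟩,
   ⟨⟨0,-1,0,-2,-3,1,-1,0⟩,1056,185,123⟩,
   ⟨⟨0,-1,0,-2,-3,1,1,0⟩,1056,40,170⟩,
   ⟨⟨0,-1,0,-2,-1,1,-1,0⟩,548,40,250⟩,
   ⟨⟨0,-1,0,-2,-1,1,1,0⟩,548,185,43⟩,
   ⟨⟨0,-1,0,-2,1,-1,-1,0⟩,548,163,129⟩,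
   ⟨⟨0,-1,0,-2,1,-1,1,0⟩,548,50,80⟩,
   ⟨⟨0,-1,0,-2,3,-1,-1,0⟩,1056,50,0⟩,
   ⟨⟨0,-1,0,-2,3,-1,1,0⟩,1056,163,209⟩,
   ⟨⟨0,-1,0,0,-3,1,-1,0⟩,796,163,177⟩,
   ⟨⟨0,-1,0,0,-3,1,1,0⟩,796,50,96⟩,
   ⟨⟨0,-1,0,0,-1,-1,-1,0⟩,292,40,202⟩]

def ekChunk22 : List EK :=
  [⟨⟨0,-1,0,0,-1,-1,-1,2⟩,548,50,80⟩,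
   ⟨⟨0,-1,0,0,-1,-1,1,-2⟩,548,163,129⟩,
   ⟨⟨0,-1,0,0,-1,-1,1,0⟩,292,185,27⟩,
   ⟨⟨0,-1,0,0,-1,1,-3,0⟩,800,163,225⟩,
   ⟨⟨0,-1,0,0,-1,1,-1,0⟩,288,50,48⟩,
   ⟨⟨0,-1,0,0,-1,1,-1,2⟩,544,40,170⟩,
   ⟨⟨0,-1,0,0,-1,1,1,-2⟩,544,185,123⟩,
   ⟨⟨0,-1,0,0,-1,1,1,0⟩,288,163,225⟩,
   ⟨⟨0,-1,0,0,-1,1,3,0⟩,800,50,48⟩,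
   ⟨⟨0,-1,0,0,1,-1,-3,0⟩,800,40,154⟩,
   ⟨⟨0,-1,0,0,1,-1,-1,0⟩,288,185,75⟩,
   ⟨⟨0,-1,0,0,1,-1,-1,2⟩,544,163,209⟩,
   ⟨⟨0,-1,0,0,1,-1,1,-2⟩,544,50,0⟩,
   ⟨⟨0,-1,0,0,1,-1,1,0⟩,288,40,154⟩,
   ⟨⟨0,-1,0,0,1,-1,3,0⟩,800,185,75⟩,
   ⟨⟨0,-1,0,0,1,1,-1,0⟩,292,163,177⟩,
   ⟨⟨0,-1,0,0,1,1,-1,2⟩,548,185,43⟩,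
   ⟨⟨0,-1,0,0,1,1,1,-2⟩,548,40,250⟩,
   ⟨⟨0,-1,0,0,1,1,1,0⟩,292,50,96⟩,
   ⟨⟨0,-1,0,0,3,-1,-1,0⟩,796,40,202⟩,
   ⟨⟨0,-1,0,0,3,-1,1,0⟩,796,185,27⟩,
   ⟨⟨0,-1,0,2,-3,1,-1,0⟩,1056,185,123⟩,
   ⟨⟨0,-1,0,2,-3,1,1,0⟩,1056,40,170⟩,
   ⟨⟨0,-1,0,2,-1,1,-1,0⟩,548,40,250⟩,
   ⟨⟨0,-1,0,2,-1,1,1,0⟩,548,185,43⟩,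
   ⟨⟨0,-1,0,2,1,-1,-1,0⟩,548,163,129⟩,
   ⟨⟨0,-1,0,2,1,-1,1,0⟩,548,50,80⟩,
   ⟨⟨0,-1,0,2,3,-1,-1,0⟩,1056,50,0⟩,
   ⟨⟨0,-1,0,2,3,-1,1,0⟩,1056,163,209⟩,
   ⟨⟨0,-1,2,-2,-1,-1,-1,0⟩,800,163,225⟩,
   ⟨⟨0,-1,2,-2,-1,-1,-1,2⟩,1056,185,123⟩,
   ⟨⟨0,-1,2,-2,-1,-1,1,-2⟩,1056,40,170⟩,
   ⟨⟨0,-1,2,-2,-1,-1,1,0⟩,800,50,48⟩,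
   ⟨⟨0,-1,2,-2,-1,1,-1,0⟩,796,185,27⟩,
   ⟨⟨0,-1,2,-2,-1,1,1,0⟩,796,40,202⟩,
   ⟨⟨0,-1,2,-2,1,-1,-1,0⟩,796,50,96⟩,
   ⟨⟨0,-1,2,-2,1,-1,1,0⟩,796,163,177⟩,
   ⟨⟨0,-1,2,-2,1,1,-1,0⟩,800,40,154⟩,
   ⟨⟨0,-1,2,-2,1,1,-1,2⟩,1056,50,0⟩,
   ⟨⟨0,-1,2,-2,1,1,1,-2⟩,1056,163,209⟩,
   ⟨⟨0,-1,2,-2,1,1,1,0⟩,800,185,75⟩,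
   ⟨⟨0,-1,2,0,-1,-1,-1,0⟩,548,185,43⟩,
   ⟨⟨0,-1,2,0,-1,-1,1,0⟩,548,40,250⟩,
   ⟨⟨0,-1,2,0,-1,1,-3,0⟩,1056,50,0⟩,
   ⟨⟨0,-1,2,0,-1,1,-1,0⟩,544,163,209⟩,
   ⟨⟨0,-1,2,0,-1,1,-1,2⟩,800,185,75⟩,
   ⟨⟨0,-1,2,0,-1,1,1,-2⟩,800,40,154⟩,
   ⟨⟨0,-1,2,0,-1,1,1,0⟩,544,50,0⟩,
   ⟨⟨0,-1,2,0,-1,1,3,0⟩,1056,163,209⟩,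
   ⟨⟨0,-1,2,0,1,-1,-3,0⟩,1056,185,123⟩,
   ⟨⟨0,-1,2,0,1,-1,-1,0⟩,544,40,170⟩,
   ⟨⟨0,-1,2,0,1,-1,-1,2⟩,800,50,48⟩,
   ⟨⟨0,-1,2,0,1,-1,1,-2⟩,800,163,225⟩,
   ⟨⟨0,-1,2,0,1,-1,1,0⟩,544,185,123⟩,
   ⟨⟨0,-1,2,0,1,-1,3,0⟩,1056,40,170⟩,
   ⟨⟨0,-1,2,0,1,1,-1,0⟩,548,50,80⟩,
   ⟨⟨0,-1,2,0,1,1,1,0⟩,548,163,129⟩,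
   ⟨⟨0,1,-2,0,-1,-1,-1,0⟩,548,163,129⟩,
   ⟨⟨0,1,-2,0,-1,-1,1,0⟩,548,50,80⟩,
   ⟨⟨0,1,-2,0,-1,1,-3,0⟩,1056,40,170⟩,
   ⟨⟨0,1,-2,0,-1,1,-1,0⟩,544,185,123⟩,
   ⟨⟨0,1,-2,0,-1,1,-1,2⟩,800,163,225⟩,
   ⟨⟨0,1,-2,0,-1,1,1,-2⟩,800,50,48⟩,
   ⟨⟨0,1,-2,0,-1,1,1,0⟩,544,40,170⟩,
   ⟨⟨0,1,-2,0,-1,1,3,0⟩,1056,185,123⟩,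
   ⟨⟨0,1,-2,0,1,-1,-3,0⟩,1056,163,209⟩,
   ⟨⟨0,1,-2,0,1,-1,-1,0⟩,544,50,0⟩,
   ⟨⟨0,1,-2,0,1,-1,-1,2⟩,800,40,154⟩,
   ⟨⟨0,1,-2,0,1,-1,1,-2⟩,800,185,75⟩,
   ⟨⟨0,1,-2,0,1,-1,1,0⟩,544,163,209⟩,
   ⟨⟨0,1,-2,0,1,-1,3,0⟩,1056,50,0⟩,
   ⟨⟨0,1,-2,0,1,1,-1,0⟩,548,40,250⟩,
   ⟨⟨0,1,-2,0,1,1,1,0⟩,548,185,43⟩,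
   ⟨⟨0,1,-2,2,-1,-1,-1,0⟩,800,185,75⟩,
   ⟨⟨0,1,-2,2,-1,-1,-1,2⟩,1056,163,209⟩,
   ⟨⟨0,1,-2,2,-1,-1,1,-2⟩,1056,50,0⟩,
   ⟨⟨0,1,-2,2,-1,-1,1,0⟩,800,40,154⟩,
   ⟨⟨0,1,-2,2,-1,1,-1,0⟩,796,163,177⟩,
   ⟨⟨0,1,-2,2,-1,1,1,0⟩,796,50,96⟩,
   ⟨⟨0,1,-2,2,1,-1,-1,0⟩,796,40,202⟩,
   ⟨⟨0,1,-2,2,1,-1,1,0⟩,796,185,27⟩,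
   ⟨⟨0,1,-2,2,1,1,-1,0⟩,800,50,48⟩,
   ⟨⟨0,1,-2,2,1,1,-1,2⟩,1056,40,170⟩,
   ⟨⟨0,1,-2,2,1,1,1,-2⟩,1056,185,123⟩,
   ⟨⟨0,1,-2,2,1,1,1,0⟩,800,163,225⟩,
   ⟨⟨0,1,0,-2,-3,1,-1,0⟩,1056,163,209⟩,
   ⟨⟨0,1,0,-2,-3,1,1,0⟩,1056,50,0⟩,
   ⟨⟨0,1,0,-2,-1,1,-1,0⟩,548,50,80⟩,
   ⟨⟨0,1,0,-2,-1,1,1,0⟩,548,163,129⟩,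
   ⟨⟨0,1,0,-2,1,-1,-1,0⟩,548,185,43⟩,
   ⟨⟨0,1,0,-2,1,-1,1,0⟩,548,40,250⟩,
   ⟨⟨0,1,0,-2,3,-1,-1,0⟩,1056,40,170⟩,
   ⟨⟨0,1,0,-2,3,-1,1,0⟩,1056,185,123⟩,
   ⟨⟨0,1,0,0,-3,1,-1,0⟩,796,185,27⟩,
   ⟨⟨0,1,0,0,-3,1,1,0⟩,796,40,202⟩,
   ⟨⟨0,1,0,0,-1,-1,-1,0⟩,292,50,96⟩,
   ⟨⟨0,1,0,0,-1,-1,-1,2⟩,548,40,250⟩,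
   ⟨⟨0,1,0,0,-1,-1,1,-2⟩,548,185,43⟩,
   ⟨⟨0,1,0,0,-1,-1,1,0⟩,292,163,177⟩,
   ⟨⟨0,1,0,0,-1,1,-3,0⟩,800,185,75⟩,
   ⟨⟨0,1,0,0,-1,1,-1,0⟩,288,40,154⟩,
   ⟨⟨0,1,0,0,-1,1,-1,2⟩,544,50,0⟩,
   ⟨⟨0,1,0,0,-1,1,1,-2⟩,544,163,209⟩,
   ⟨⟨0,1,0,0,-1,1,1,0⟩,288,185,75⟩,
   ⟨⟨0,1,0,0,-1,1,3,0⟩,800,40,154⟩,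
   ⟨⟨0,1,0,0,1,-1,-3,0⟩,800,50,48⟩,
   ⟨⟨0,1,0,0,1,-1,-1,0⟩,288,163,225⟩,
   ⟨⟨0,1,0,0,1,-1,-1,2⟩,544,185,123⟩,
   ⟨⟨0,1,0,0,1,-1,1,-2⟩,544,40,170⟩,
   ⟨⟨0,1,0,0,1,-1,1,0⟩,288,50,48⟩,
   ⟨⟨0,1,0,0,1,-1,3,0⟩,800,163,225⟩,
   ⟨⟨0,1,0,0,1,1,-1,0⟩,292,185,27⟩,
   ⟨⟨0,1,0,0,1,1,-1,2⟩,548,163,129⟩,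
   ⟨⟨0,1,0,0,1,1,1,-2⟩,548,50,80⟩,
   ⟨⟨0,1,0,0,1,1,1,0⟩,292,40,202⟩,
   ⟨⟨0,1,0,0,3,-1,-1,0⟩,796,50,96⟩,
   ⟨⟨0,1,0,0,3,-1,1,0⟩,796,163,177⟩,
   ⟨⟨0,1,0,2,-3,1,-1,0⟩,1056,163,209⟩,
   ⟨⟨0,1,0,2,-3,1,1,0⟩,1056,50,0⟩,
   ⟨⟨0,1,0,2,-1,1,-1,0⟩,548,50,80⟩,
   ⟨⟨0,1,0,2,-1,1,1,0⟩,548,163,129⟩,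
   ⟨⟨0,1,0,2,1,-1,-1,0⟩,548,185,43⟩,
   ⟨⟨0,1,0,2,1,-1,1,0⟩,548,40,250⟩,
   ⟨⟨0,1,0,2,3,-1,-1,0⟩,1056,40,170⟩,
   ⟨⟨0,1,0,2,3,-1,1,0⟩,1056,185,123⟩,
   ⟨⟨0,1,2,-2,-1,-1,-1,0⟩,800,185,75⟩,
   ⟨⟨0,1,2,-2,-1,-1,-1,2⟩,1056,163,209⟩,
   ⟨⟨0,1,2,-2,-1,-1,1,-2⟩,1056,50,0⟩,
   ⟨⟨0,1,2,-2,-1,-1,1,0⟩,800,40,154⟩,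
   ⟨⟨0,1,2,-2,-1,1,-1,0⟩,796,163,177⟩]

def ekChunk23 : List EK :=
  [⟨⟨0,1,2,-2,-1,1,1,0⟩,796,50,96⟩,
   ⟨⟨0,1,2,-2,1,-1,-1,0⟩,796,40,202⟩,
   ⟨⟨0,1,2,-2,1,-1,1,0⟩,796,185,27⟩,
   ⟨⟨0,1,2,-2,1,1,-1,0⟩,800,50,48⟩,
   ⟨⟨0,1,2,-2,1,1,-1,2⟩,1056,40,170⟩,
   ⟨⟨0,1,2,-2,1,1,1,-2⟩,1056,185,123⟩,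
   ⟨⟨0,1,2,-2,1,1,1,0⟩,800,163,225⟩,
   ⟨⟨0,1,2,0,-1,-1,-1,0⟩,548,163,129⟩,
   ⟨⟨0,1,2,0,-1,-1,1,0⟩,548,50,80⟩,
   ⟨⟨0,1,2,0,-1,1,-3,0⟩,1056,40,170⟩,
   ⟨⟨0,1,2,0,-1,1,-1,0⟩,544,185,123⟩,
   ⟨⟨0,1,2,0,-1,1,-1,2⟩,800,163,225⟩,
   ⟨⟨0,1,2,0,-1,1,1,-2⟩,800,50,48⟩,
   ⟨⟨0,1,2,0,-1,1,1,0⟩,544,40,170⟩,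
   ⟨⟨0,1,2,0,-1,1,3,0⟩,1056,185,123⟩,
   ⟨⟨0,1,2,0,1,-1,-3,0⟩,1056,163,209⟩,
   ⟨⟨0,1,2,0,1,-1,-1,0⟩,544,50,0⟩,
   ⟨⟨0,1,2,0,1,-1,-1,2⟩,800,40,154⟩,
   ⟨⟨0,1,2,0,1,-1,1,-2⟩,800,185,75⟩,
   ⟨⟨0,1,2,0,1,-1,1,0⟩,544,163,209⟩,
   ⟨⟨0,1,2,0,1,-1,3,0⟩,1056,50,0⟩,
   ⟨⟨0,1,2,0,1,1,-1,0⟩,548,40,250⟩,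
   ⟨⟨0,1,2,0,1,1,1,0⟩,548,185,43⟩,
   ⟨⟨2,-3,0,0,-1,-1,-1,0⟩,1056,163,209⟩,
   ⟨⟨2,-3,0,0,-1,-1,1,0⟩,1056,50,0⟩,
   ⟨⟨2,-3,0,0,1,1,-1,0⟩,1056,40,170⟩,
   ⟨⟨2,-3,0,0,1,1,1,0⟩,1056,185,123⟩,
   ⟨⟨2,-1,-2,0,-1,-1,-1,0⟩,800,40,154⟩,
   ⟨⟨2,-1,-2,0,-1,-1,-1,2⟩,1056,50,0⟩,
   ⟨⟨2,-1,-2,0,-1,-1,1,-2⟩,1056,163,209⟩,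
   ⟨⟨2,-1,-2,0,-1,-1,1,0⟩,800,185,75⟩,
   ⟨⟨2,-1,-2,0,-1,1,-1,0⟩,796,50,96⟩,
   ⟨⟨2,-1,-2,0,-1,1,1,0⟩,796,163,177⟩,
   ⟨⟨2,-1,-2,0,1,-1,-1,0⟩,796,185,27⟩,
   ⟨⟨2,-1,-2,0,1,-1,1,0⟩,796,40,202⟩,
   ⟨⟨2,-1,-2,0,1,1,-1,0⟩,800,163,225⟩,
   ⟨⟨2,-1,-2,0,1,1,-1,2⟩,1056,185,123⟩,
   ⟨⟨2,-1,-2,0,1,1,1,-2⟩,1056,40,170⟩,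
   ⟨⟨2,-1,-2,0,1,1,1,0⟩,800,50,48⟩,
   ⟨⟨2,-1,0,-2,-1,1,-1,0⟩,800,185,75⟩,
   ⟨⟨2,-1,0,-2,-1,1,-1,2⟩,1056,163,209⟩,
   ⟨⟨2,-1,0,-2,-1,1,1,-2⟩,1056,50,0⟩,
   ⟨⟨2,-1,0,-2,-1,1,1,0⟩,800,40,154⟩,
   ⟨⟨2,-1,0,-2,1,-1,-1,0⟩,800,50,48⟩,
   ⟨⟨2,-1,0,-2,1,-1,-1,2⟩,1056,40,170⟩,
   ⟨⟨2,-1,0,-2,1,-1,1,-2⟩,1056,185,123⟩,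
   ⟨⟨2,-1,0,-2,1,-1,1,0⟩,800,163,225⟩,
   ⟨⟨2,-1,0,0,-1,-1,-3,0⟩,1056,40,170⟩,
   ⟨⟨2,-1,0,0,-1,-1,-1,0⟩,544,185,123⟩,
   ⟨⟨2,-1,0,0,-1,-1,-1,2⟩,800,163,225⟩,
   ⟨⟨2,-1,0,0,-1,-1,1,-2⟩,800,50,48⟩,
   ⟨⟨2,-1,0,0,-1,-1,1,0⟩,544,40,170⟩,
   ⟨⟨2,-1,0,0,-1,-1,3,0⟩,1056,185,123⟩,
   ⟨⟨2,-1,0,0,-1,1,-1,0⟩,540,163,129⟩,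
   ⟨⟨2,-1,0,0,-1,1,-1,2⟩,796,185,27⟩,
   ⟨⟨2,-1,0,0,-1,1,1,-2⟩,796,40,202⟩,
   ⟨⟨2,-1,0,0,-1,1,1,0⟩,540,50,80⟩,
   ⟨⟨2,-1,0,0,-1,3,-1,0⟩,1056,185,123⟩,
   ⟨⟨2,-1,0,0,-1,3,1,0⟩,1056,40,170⟩,
   ⟨⟨2,-1,0,0,1,-3,-1,0⟩,1056,50,0⟩,
   ⟨⟨2,-1,0,0,1,-3,1,0⟩,1056,163,209⟩,
   ⟨⟨2,-1,0,0,1,-1,-1,0⟩,540,40,250⟩,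
   ⟨⟨2,-1,0,0,1,-1,-1,2⟩,796,50,96⟩,
   ⟨⟨2,-1,0,0,1,-1,1,-2⟩,796,163,177⟩,
   ⟨⟨2,-1,0,0,1,-1,1,0⟩,540,185,43⟩,
   ⟨⟨2,-1,0,0,1,1,-3,0⟩,1056,163,209⟩,
   ⟨⟨2,-1,0,0,1,1,-1,0⟩,544,50,0⟩,
   ⟨⟨2,-1,0,0,1,1,-1,2⟩,800,40,154⟩,
   ⟨⟨2,-1,0,0,1,1,1,-2⟩,800,185,75⟩,
   ⟨⟨2,-1,0,0,1,1,1,0⟩,544,163,209⟩,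
   ⟨⟨2,-1,0,0,1,1,3,0⟩,1056,50,0⟩,
   ⟨⟨2,-1,0,2,-1,1,-1,0⟩,800,185,75⟩,
   ⟨⟨2,-1,0,2,-1,1,-1,2⟩,1056,163,209⟩,
   ⟨⟨2,-1,0,2,-1,1,1,-2⟩,1056,50,0⟩,
   ⟨⟨2,-1,0,2,-1,1,1,0⟩,800,40,154⟩,
   ⟨⟨2,-1,0,2,1,-1,-1,0⟩,800,50,48⟩,
   ⟨⟨2,-1,0,2,1,-1,-1,2⟩,1056,40,170⟩,
   ⟨⟨2,-1,0,2,1,-1,1,-2⟩,1056,185,123⟩,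
   ⟨⟨2,-1,0,2,1,-1,1,0⟩,800,163,225⟩,
   ⟨⟨2,-1,2,0,-1,-1,-1,0⟩,800,40,154⟩,
   ⟨⟨2,-1,2,0,-1,-1,-1,2⟩,1056,50,0⟩,
   ⟨⟨2,-1,2,0,-1,-1,1,-2⟩,1056,163,209⟩,
   ⟨⟨2,-1,2,0,-1,-1,1,0⟩,800,185,75⟩,
   ⟨⟨2,-1,2,0,-1,1,-1,0⟩,796,50,96⟩,
   ⟨⟨2,-1,2,0,-1,1,1,0⟩,796,163,177⟩,
   ⟨⟨2,-1,2,0,1,-1,-1,0⟩,796,185,27⟩,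
   ⟨⟨2,-1,2,0,1,-1,1,0⟩,796,40,202⟩,
   ⟨⟨2,-1,2,0,1,1,-1,0⟩,800,163,225⟩,
   ⟨⟨2,-1,2,0,1,1,-1,2⟩,1056,185,123⟩,
   ⟨⟨2,-1,2,0,1,1,1,-2⟩,1056,40,170⟩,
   ⟨⟨2,-1,2,0,1,1,1,0⟩,800,50,48⟩,
   ⟨⟨2,1,-2,2,-1,1,-1,0⟩,1056,50,0⟩,
   ⟨⟨2,1,-2,2,-1,1,1,0⟩,1056,163,209⟩,
   ⟨⟨2,1,-2,2,1,-1,-1,0⟩,1056,185,123⟩,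
   ⟨⟨2,1,-2,2,1,-1,1,0⟩,1056,40,170⟩,
   ⟨⟨2,1,0,0,-3,1,-1,0⟩,1056,40,170⟩,
   ⟨⟨2,1,0,0,-3,1,1,0⟩,1056,185,123⟩,
   ⟨⟨2,1,0,0,-1,1,-1,0⟩,548,185,43⟩,
   ⟨⟨2,1,0,0,-1,1,1,0⟩,548,40,250⟩,
   ⟨⟨2,1,0,0,1,-1,-1,0⟩,548,50,80⟩,
   ⟨⟨2,1,0,0,1,-1,1,0⟩,548,163,129⟩,
   ⟨⟨2,1,0,0,3,-1,-1,0⟩,1056,163,209⟩,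
   ⟨⟨2,1,0,0,3,-1,1,0⟩,1056,50,0⟩,
   ⟨⟨2,1,2,-2,-1,1,-1,0⟩,1056,50,0⟩,
   ⟨⟨2,1,2,-2,-1,1,1,0⟩,1056,163,209⟩,
   ⟨⟨2,1,2,-2,1,-1,-1,0⟩,1056,185,123⟩,
   ⟨⟨2,1,2,-2,1,-1,1,0⟩,1056,40,170⟩,
   ⟨⟨-3,0,-1,-1,0,0,-2,1⟩,1056,163,154⟩,
   ⟨⟨-3,0,-1,-1,0,0,2,-1⟩,1056,185,0⟩,
   ⟨⟨-3,0,-1,1,-2,0,0,-1⟩,1056,163,154⟩,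
   ⟨⟨-3,0,-1,1,-2,0,0,1⟩,1056,185,0⟩,
   ⟨⟨-3,0,-1,1,0,0,0,-1⟩,800,50,27⟩,
   ⟨⟨-3,0,-1,1,0,0,0,1⟩,800,40,129⟩,
   ⟨⟨-3,0,-1,1,2,0,0,-1⟩,1056,163,154⟩,
   ⟨⟨-3,0,-1,1,2,0,0,1⟩,1056,185,0⟩,
   ⟨⟨-3,0,1,-1,-2,0,0,-1⟩,1056,40,177⟩,
   ⟨⟨-3,0,1,-1,-2,0,0,1⟩,1056,50,43⟩,
   ⟨⟨-3,0,1,-1,0,0,0,-1⟩,800,185,48⟩,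
   ⟨⟨-3,0,1,-1,0,0,0,1⟩,800,163,170⟩,
   ⟨⟨-3,0,1,-1,2,0,0,-1⟩,1056,40,177⟩,
   ⟨⟨-3,0,1,-1,2,0,0,1⟩,1056,50,43⟩,
   ⟨⟨-3,0,1,1,0,0,-2,1⟩,1056,40,177⟩,
   ⟨⟨-3,0,1,1,0,0,2,-1⟩,1056,50,43⟩,
   ⟨⟨-1,0,-3,1,0,-2,0,-1⟩,1056,40,177⟩,
   ⟨⟨-1,0,-3,1,0,-2,0,1⟩,1056,50,43⟩,
   ⟨⟨-1,0,-3,1,0,0,-2,-1⟩,1056,163,154⟩,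
   ⟨⟨-1,0,-3,1,0,0,0,-1⟩,796,50,75⟩,
   ⟨⟨-1,0,-3,1,0,0,0,1⟩,796,40,209⟩,
   ⟨⟨-1,0,-3,1,0,0,2,1⟩,1056,185,0⟩,
   ⟨⟨-1,0,-3,1,0,2,0,-1⟩,1056,40,177⟩]

def ekChunk24 : List EK :=
  [⟨⟨-1,0,-3,1,0,2,0,1⟩,1056,50,43⟩,
   ⟨⟨-1,0,-1,-1,-2,0,-2,1⟩,800,163,170⟩,
   ⟨⟨-1,0,-1,-1,-2,0,0,-1⟩,548,40,225⟩,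
   ⟨⟨-1,0,-1,-1,-2,0,0,1⟩,548,50,123⟩,
   ⟨⟨-1,0,-1,-1,-2,0,2,-1⟩,800,185,48⟩,
   ⟨⟨-1,0,-1,-1,-2,2,0,-1⟩,800,50,27⟩,
   ⟨⟨-1,0,-1,-1,-2,2,0,1⟩,800,40,129⟩,
   ⟨⟨-1,0,-1,-1,0,0,-2,1⟩,544,50,43⟩,
   ⟨⟨-1,0,-1,-1,0,0,-2,3⟩,1056,40,177⟩,
   ⟨⟨-1,0,-1,-1,0,0,0,-1⟩,292,185,96⟩,
   ⟨⟨-1,0,-1,-1,0,0,0,1⟩,292,163,250⟩,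
   ⟨⟨-1,0,-1,-1,0,0,2,-3⟩,1056,50,43⟩,
   ⟨⟨-1,0,-1,-1,0,0,2,-1⟩,544,40,177⟩,
   ⟨⟨-1,0,-1,-1,2,-2,0,-1⟩,800,50,27⟩,
   ⟨⟨-1,0,-1,-1,2,-2,0,1⟩,800,40,129⟩,
   ⟨⟨-1,0,-1,-1,2,0,-2,1⟩,800,163,170⟩,
   ⟨⟨-1,0,-1,-1,2,0,0,-1⟩,548,40,225⟩,
   ⟨⟨-1,0,-1,-1,2,0,0,1⟩,548,50,123⟩,
   ⟨⟨-1,0,-1,-1,2,0,2,-1⟩,800,185,48⟩,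
   ⟨⟨-1,0,-1,1,-2,0,-2,1⟩,796,185,96⟩,
   ⟨⟨-1,0,-1,1,-2,0,0,-1⟩,544,50,43⟩,
   ⟨⟨-1,0,-1,1,-2,0,0,1⟩,544,40,177⟩,
   ⟨⟨-1,0,-1,1,-2,0,2,-1⟩,796,163,250⟩,
   ⟨⟨-1,0,-1,1,-2,2,-2,-1⟩,1056,185,0⟩,
   ⟨⟨-1,0,-1,1,-2,2,0,-1⟩,796,40,209⟩,
   ⟨⟨-1,0,-1,1,-2,2,0,1⟩,796,50,75⟩,
   ⟨⟨-1,0,-1,1,-2,2,2,1⟩,1056,163,154⟩,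
   ⟨⟨-1,0,-1,1,0,-2,-2,1⟩,800,50,27⟩,
   ⟨⟨-1,0,-1,1,0,-2,0,-1⟩,548,185,80⟩,
   ⟨⟨-1,0,-1,1,0,-2,0,1⟩,548,163,202⟩,
   ⟨⟨-1,0,-1,1,0,-2,2,-1⟩,800,40,129⟩,
   ⟨⟨-1,0,-1,1,0,0,-2,-1⟩,548,50,123⟩,
   ⟨⟨-1,0,-1,1,0,0,-2,1⟩,540,40,225⟩,
   ⟨⟨-1,0,-1,1,0,0,0,-1⟩,288,163,170⟩,
   ⟨⟨-1,0,-1,1,0,0,0,1⟩,288,185,48⟩,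
   ⟨⟨-1,0,-1,1,0,0,2,-1⟩,540,50,123⟩,
   ⟨⟨-1,0,-1,1,0,0,2,1⟩,548,40,225⟩,
   ⟨⟨-1,0,-1,1,0,2,-2,1⟩,800,50,27⟩,
   ⟨⟨-1,0,-1,1,0,2,0,-1⟩,548,185,80⟩,
   ⟨⟨-1,0,-1,1,0,2,0,1⟩,548,163,202⟩,
   ⟨⟨-1,0,-1,1,0,2,2,-1⟩,800,40,129⟩,
   ⟨⟨-1,0,-1,1,2,-2,-2,-1⟩,1056,185,0⟩,
   ⟨⟨-1,0,-1,1,2,-2,0,-1⟩,796,40,209⟩,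
   ⟨⟨-1,0,-1,1,2,-2,0,1⟩,796,50,75⟩,
   ⟨⟨-1,0,-1,1,2,-2,2,1⟩,1056,163,154⟩,
   ⟨⟨-1,0,-1,1,2,0,-2,1⟩,796,185,96⟩,
   ⟨⟨-1,0,-1,1,2,0,0,-1⟩,544,50,43⟩,
   ⟨⟨-1,0,-1,1,2,0,0,1⟩,544,40,177⟩,
   ⟨⟨-1,0,-1,1,2,0,2,-1⟩,796,163,250⟩,
   ⟨⟨-1,0,-1,3,0,0,-2,1⟩,1056,50,43⟩,
   ⟨⟨-1,0,-1,3,0,0,2,-1⟩,1056,40,177⟩,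
   ⟨⟨-1,0,1,-3,0,0,-2,1⟩,1056,185,0⟩,
   ⟨⟨-1,0,1,-3,0,0,2,-1⟩,1056,163,154⟩,
   ⟨⟨-1,0,1,-1,-2,0,-2,1⟩,796,50,75⟩,
   ⟨⟨-1,0,1,-1,-2,0,0,-1⟩,544,185,0⟩,
   ⟨⟨-1,0,1,-1,-2,0,0,1⟩,544,163,154⟩,
   ⟨⟨-1,0,1,-1,-2,0,2,-1⟩,796,40,209⟩,
   ⟨⟨-1,0,1,-1,-2,2,-2,-1⟩,1056,50,43⟩,
   ⟨⟨-1,0,1,-1,-2,2,0,-1⟩,796,163,250⟩,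
   ⟨⟨-1,0,1,-1,-2,2,0,1⟩,796,185,96⟩,
   ⟨⟨-1,0,1,-1,-2,2,2,1⟩,1056,40,177⟩,
   ⟨⟨-1,0,1,-1,0,-2,-2,1⟩,800,185,48⟩,
   ⟨⟨-1,0,1,-1,0,-2,0,-1⟩,548,50,123⟩,
   ⟨⟨-1,0,1,-1,0,-2,0,1⟩,548,40,225⟩,
   ⟨⟨-1,0,1,-1,0,-2,2,-1⟩,800,163,170⟩,
   ⟨⟨-1,0,1,-1,0,0,-2,-1⟩,548,185,80⟩,
   ⟨⟨-1,0,1,-1,0,0,-2,1⟩,540,163,202⟩,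
   ⟨⟨-1,0,1,-1,0,0,0,-1⟩,288,40,129⟩,
   ⟨⟨-1,0,1,-1,0,0,0,1⟩,288,50,27⟩,
   ⟨⟨-1,0,1,-1,0,0,2,-1⟩,540,185,80⟩,
   ⟨⟨-1,0,1,-1,0,0,2,1⟩,548,163,202⟩,
   ⟨⟨-1,0,1,-1,0,2,-2,1⟩,800,185,48⟩,
   ⟨⟨-1,0,1,-1,0,2,0,-1⟩,548,50,123⟩,
   ⟨⟨-1,0,1,-1,0,2,0,1⟩,548,40,225⟩,
   ⟨⟨-1,0,1,-1,0,2,2,-1⟩,800,163,170⟩,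
   ⟨⟨-1,0,1,-1,2,-2,-2,-1⟩,1056,50,43⟩,
   ⟨⟨-1,0,1,-1,2,-2,0,-1⟩,796,163,250⟩,
   ⟨⟨-1,0,1,-1,2,-2,0,1⟩,796,185,96⟩,
   ⟨⟨-1,0,1,-1,2,-2,2,1⟩,1056,40,177⟩,
   ⟨⟨-1,0,1,-1,2,0,-2,1⟩,796,50,75⟩,
   ⟨⟨-1,0,1,-1,2,0,0,-1⟩,544,185,0⟩,
   ⟨⟨-1,0,1,-1,2,0,0,1⟩,544,163,154⟩,
   ⟨⟨-1,0,1,-1,2,0,2,-1⟩,796,40,209⟩,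
   ⟨⟨-1,0,1,1,-2,0,-2,1⟩,800,40,129⟩,
   ⟨⟨-1,0,1,1,-2,0,0,-1⟩,548,163,202⟩,
   ⟨⟨-1,0,1,1,-2,0,0,1⟩,548,185,80⟩,
   ⟨⟨-1,0,1,1,-2,0,2,-1⟩,800,50,27⟩,
   ⟨⟨-1,0,1,1,-2,2,0,-1⟩,800,185,48⟩,
   ⟨⟨-1,0,1,1,-2,2,0,1⟩,800,163,170⟩,
   ⟨⟨-1,0,1,1,0,0,-2,1⟩,544,185,0⟩,
   ⟨⟨-1,0,1,1,0,0,-2,3⟩,1056,163,154⟩,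
   ⟨⟨-1,0,1,1,0,0,0,-1⟩,292,50,75⟩,
   ⟨⟨-1,0,1,1,0,0,0,1⟩,292,40,209⟩,
   ⟨⟨-1,0,1,1,0,0,2,-3⟩,1056,185,0⟩,
   ⟨⟨-1,0,1,1,0,0,2,-1⟩,544,163,154⟩,
   ⟨⟨-1,0,1,1,2,-2,0,-1⟩,800,185,48⟩,
   ⟨⟨-1,0,1,1,2,-2,0,1⟩,800,163,170⟩,
   ⟨⟨-1,0,1,1,2,0,-2,1⟩,800,40,129⟩,
   ⟨⟨-1,0,1,1,2,0,0,-1⟩,548,163,202⟩,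
   ⟨⟨-1,0,1,1,2,0,0,1⟩,548,185,80⟩,
   ⟨⟨-1,0,1,1,2,0,2,-1⟩,800,50,27⟩,
   ⟨⟨-1,0,3,-1,0,-2,0,-1⟩,1056,163,154⟩,
   ⟨⟨-1,0,3,-1,0,-2,0,1⟩,1056,185,0⟩,
   ⟨⟨-1,0,3,-1,0,0,-2,-1⟩,1056,40,177⟩,
   ⟨⟨-1,0,3,-1,0,0,0,-1⟩,796,185,96⟩,
   ⟨⟨-1,0,3,-1,0,0,0,1⟩,796,163,250⟩,
   ⟨⟨-1,0,3,-1,0,0,2,1⟩,1056,50,43⟩,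
   ⟨⟨-1,0,3,-1,0,2,0,-1⟩,1056,163,154⟩,
   ⟨⟨-1,0,3,-1,0,2,0,1⟩,1056,185,0⟩,
   ⟨⟨-1,2,-1,-1,-2,0,-2,1⟩,1056,185,0⟩,
   ⟨⟨-1,2,-1,-1,-2,0,2,-1⟩,1056,163,154⟩,
   ⟨⟨-1,2,-1,-1,-2,2,0,-1⟩,1056,40,177⟩,
   ⟨⟨-1,2,-1,-1,-2,2,0,1⟩,1056,50,43⟩,
   ⟨⟨-1,2,-1,-1,0,0,-2,1⟩,800,40,129⟩,
   ⟨⟨-1,2,-1,-1,0,0,0,-1⟩,548,163,202⟩,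
   ⟨⟨-1,2,-1,-1,0,0,0,1⟩,548,185,80⟩,
   ⟨⟨-1,2,-1,-1,0,0,2,-1⟩,800,50,27⟩,
   ⟨⟨-1,2,-1,-1,2,-2,0,-1⟩,1056,40,177⟩,
   ⟨⟨-1,2,-1,-1,2,-2,0,1⟩,1056,50,43⟩,
   ⟨⟨-1,2,-1,-1,2,0,-2,1⟩,1056,185,0⟩,
   ⟨⟨-1,2,-1,-1,2,0,2,-1⟩,1056,163,154⟩,
   ⟨⟨-1,2,-1,1,-2,0,0,-1⟩,800,40,129⟩,
   ⟨⟨-1,2,-1,1,-2,0,0,1⟩,800,50,27⟩,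
   ⟨⟨-1,2,-1,1,0,-2,-2,1⟩,1056,40,177⟩,
   ⟨⟨-1,2,-1,1,0,-2,2,-1⟩,1056,50,43⟩,
   ⟨⟨-1,2,-1,1,0,0,-2,1⟩,796,50,75⟩,
   ⟨⟨-1,2,-1,1,0,0,0,-1⟩,544,185,0⟩,
   ⟨⟨-1,2,-1,1,0,0,0,1⟩,544,163,154⟩,
   ⟨⟨-1,2,-1,1,0,0,2,-1⟩,796,40,209⟩,
   ⟨⟨-1,2,-1,1,0,2,-2,1⟩,1056,40,177⟩]

def ekChunk25 : List EK :=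
  [⟨⟨-1,2,-1,1,0,2,2,-1⟩,1056,50,43⟩,
   ⟨⟨-1,2,-1,1,2,0,0,-1⟩,800,40,129⟩,
   ⟨⟨-1,2,-1,1,2,0,0,1⟩,800,50,27⟩,
   ⟨⟨-1,2,1,-1,-2,0,0,-1⟩,800,163,170⟩,
   ⟨⟨-1,2,1,-1,-2,0,0,1⟩,800,185,48⟩,
   ⟨⟨-1,2,1,-1,0,-2,-2,1⟩,1056,163,154⟩,
   ⟨⟨-1,2,1,-1,0,-2,2,-1⟩,1056,185,0⟩,
   ⟨⟨-1,2,1,-1,0,0,-2,1⟩,796,185,96⟩,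
   ⟨⟨-1,2,1,-1,0,0,0,-1⟩,544,50,43⟩,
   ⟨⟨-1,2,1,-1,0,0,0,1⟩,544,40,177⟩,
   ⟨⟨-1,2,1,-1,0,0,2,-1⟩,796,163,250⟩,
   ⟨⟨-1,2,1,-1,0,2,-2,1⟩,1056,163,154⟩,
   ⟨⟨-1,2,1,-1,0,2,2,-1⟩,1056,185,0⟩,
   ⟨⟨-1,2,1,-1,2,0,0,-1⟩,800,163,170⟩,
   ⟨⟨-1,2,1,-1,2,0,0,1⟩,800,185,48⟩,
   ⟨⟨-1,2,1,1,-2,0,-2,1⟩,1056,50,43⟩,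
   ⟨⟨-1,2,1,1,-2,0,2,-1⟩,1056,40,177⟩,
   ⟨⟨-1,2,1,1,-2,2,0,-1⟩,1056,163,154⟩,
   ⟨⟨-1,2,1,1,-2,2,0,1⟩,1056,185,0⟩,
   ⟨⟨-1,2,1,1,0,0,-2,1⟩,800,163,170⟩,
   ⟨⟨-1,2,1,1,0,0,0,-1⟩,548,40,225⟩,
   ⟨⟨-1,2,1,1,0,0,0,1⟩,548,50,123⟩,
   ⟨⟨-1,2,1,1,0,0,2,-1⟩,800,185,48⟩,
   ⟨⟨-1,2,1,1,2,-2,0,-1⟩,1056,163,154⟩,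
   ⟨⟨-1,2,1,1,2,-2,0,1⟩,1056,185,0⟩,
   ⟨⟨-1,2,1,1,2,0,-2,1⟩,1056,50,43⟩,
   ⟨⟨-1,2,1,1,2,0,2,-1⟩,1056,40,177⟩,
   ⟨⟨1,-2,-1,-1,-2,0,-2,1⟩,1056,40,177⟩,
   ⟨⟨1,-2,-1,-1,-2,0,2,-1⟩,1056,50,43⟩,
   ⟨⟨1,-2,-1,-1,-2,2,0,-1⟩,1056,185,0⟩,
   ⟨⟨1,-2,-1,-1,-2,2,0,1⟩,1056,163,154⟩,
   ⟨⟨1,-2,-1,-1,0,0,-2,1⟩,800,185,48⟩,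
   ⟨⟨1,-2,-1,-1,0,0,0,-1⟩,548,50,123⟩,
   ⟨⟨1,-2,-1,-1,0,0,0,1⟩,548,40,225⟩,
   ⟨⟨1,-2,-1,-1,0,0,2,-1⟩,800,163,170⟩,
   ⟨⟨1,-2,-1,-1,2,-2,0,-1⟩,1056,185,0⟩,
   ⟨⟨1,-2,-1,-1,2,-2,0,1⟩,1056,163,154⟩,
   ⟨⟨1,-2,-1,-1,2,0,-2,1⟩,1056,40,177⟩,
   ⟨⟨1,-2,-1,-1,2,0,2,-1⟩,1056,50,43⟩,
   ⟨⟨1,-2,-1,1,-2,0,0,-1⟩,800,185,48⟩,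
   ⟨⟨1,-2,-1,1,-2,0,0,1⟩,800,163,170⟩,
   ⟨⟨1,-2,-1,1,0,-2,-2,1⟩,1056,185,0⟩,
   ⟨⟨1,-2,-1,1,0,-2,2,-1⟩,1056,163,154⟩,
   ⟨⟨1,-2,-1,1,0,0,-2,1⟩,796,163,250⟩,
   ⟨⟨1,-2,-1,1,0,0,0,-1⟩,544,40,177⟩,
   ⟨⟨1,-2,-1,1,0,0,0,1⟩,544,50,43⟩,
   ⟨⟨1,-2,-1,1,0,0,2,-1⟩,796,185,96⟩,
   ⟨⟨1,-2,-1,1,0,2,-2,1⟩,1056,185,0⟩,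
   ⟨⟨1,-2,-1,1,0,2,2,-1⟩,1056,163,154⟩,
   ⟨⟨1,-2,-1,1,2,0,0,-1⟩,800,185,48⟩,
   ⟨⟨1,-2,-1,1,2,0,0,1⟩,800,163,170⟩,
   ⟨⟨1,-2,1,-1,-2,0,0,-1⟩,800,50,27⟩,
   ⟨⟨1,-2,1,-1,-2,0,0,1⟩,800,40,129⟩,
   ⟨⟨1,-2,1,-1,0,-2,-2,1⟩,1056,50,43⟩,
   ⟨⟨1,-2,1,-1,0,-2,2,-1⟩,1056,40,177⟩,
   ⟨⟨1,-2,1,-1,0,0,-2,1⟩,796,40,209⟩,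
   ⟨⟨1,-2,1,-1,0,0,0,-1⟩,544,163,154⟩,
   ⟨⟨1,-2,1,-1,0,0,0,1⟩,544,185,0⟩,
   ⟨⟨1,-2,1,-1,0,0,2,-1⟩,796,50,75⟩,
   ⟨⟨1,-2,1,-1,0,2,-2,1⟩,1056,50,43⟩,
   ⟨⟨1,-2,1,-1,0,2,2,-1⟩,1056,40,177⟩,
   ⟨⟨1,-2,1,-1,2,0,0,-1⟩,800,50,27⟩,
   ⟨⟨1,-2,1,-1,2,0,0,1⟩,800,40,129⟩,
   ⟨⟨1,-2,1,1,-2,0,-2,1⟩,1056,163,154⟩,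
   ⟨⟨1,-2,1,1,-2,0,2,-1⟩,1056,185,0⟩,
   ⟨⟨1,-2,1,1,-2,2,0,-1⟩,1056,50,43⟩,
   ⟨⟨1,-2,1,1,-2,2,0,1⟩,1056,40,177⟩,
   ⟨⟨1,-2,1,1,0,0,-2,1⟩,800,50,27⟩,
   ⟨⟨1,-2,1,1,0,0,0,-1⟩,548,185,80⟩,
   ⟨⟨1,-2,1,1,0,0,0,1⟩,548,163,202⟩,
   ⟨⟨1,-2,1,1,0,0,2,-1⟩,800,40,129⟩,
   ⟨⟨1,-2,1,1,2,-2,0,-1⟩,1056,50,43⟩,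
   ⟨⟨1,-2,1,1,2,-2,0,1⟩,1056,40,177⟩,
   ⟨⟨1,-2,1,1,2,0,-2,1⟩,1056,163,154⟩,
   ⟨⟨1,-2,1,1,2,0,2,-1⟩,1056,185,0⟩,
   ⟨⟨1,0,-3,1,0,-2,0,-1⟩,1056,185,0⟩,
   ⟨⟨1,0,-3,1,0,-2,0,1⟩,1056,163,154⟩,
   ⟨⟨1,0,-3,1,0,0,-2,-1⟩,1056,50,43⟩,
   ⟨⟨1,0,-3,1,0,0,0,-1⟩,796,163,250⟩,
   ⟨⟨1,0,-3,1,0,0,0,1⟩,796,185,96⟩,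
   ⟨⟨1,0,-3,1,0,0,2,1⟩,1056,40,177⟩,
   ⟨⟨1,0,-3,1,0,2,0,-1⟩,1056,185,0⟩,
   ⟨⟨1,0,-3,1,0,2,0,1⟩,1056,163,154⟩,
   ⟨⟨1,0,-1,-1,-2,0,-2,1⟩,800,50,27⟩,
   ⟨⟨1,0,-1,-1,-2,0,0,-1⟩,548,185,80⟩,
   ⟨⟨1,0,-1,-1,-2,0,0,1⟩,548,163,202⟩,
   ⟨⟨1,0,-1,-1,-2,0,2,-1⟩,800,40,129⟩,
   ⟨⟨1,0,-1,-1,-2,2,0,-1⟩,800,163,170⟩,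
   ⟨⟨1,0,-1,-1,-2,2,0,1⟩,800,185,48⟩,
   ⟨⟨1,0,-1,-1,0,0,-2,1⟩,544,163,154⟩,
   ⟨⟨1,0,-1,-1,0,0,-2,3⟩,1056,185,0⟩,
   ⟨⟨1,0,-1,-1,0,0,0,-1⟩,292,40,209⟩,
   ⟨⟨1,0,-1,-1,0,0,0,1⟩,292,50,75⟩,
   ⟨⟨1,0,-1,-1,0,0,2,-3⟩,1056,163,154⟩,
   ⟨⟨1,0,-1,-1,0,0,2,-1⟩,544,185,0⟩,
   ⟨⟨1,0,-1,-1,2,-2,0,-1⟩,800,163,170⟩,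
   ⟨⟨1,0,-1,-1,2,-2,0,1⟩,800,185,48⟩,
   ⟨⟨1,0,-1,-1,2,0,-2,1⟩,800,50,27⟩,
   ⟨⟨1,0,-1,-1,2,0,0,-1⟩,548,185,80⟩,
   ⟨⟨1,0,-1,-1,2,0,0,1⟩,548,163,202⟩,
   ⟨⟨1,0,-1,-1,2,0,2,-1⟩,800,40,129⟩,
   ⟨⟨1,0,-1,1,-2,0,-2,1⟩,796,40,209⟩,
   ⟨⟨1,0,-1,1,-2,0,0,-1⟩,544,163,154⟩,
   ⟨⟨1,0,-1,1,-2,0,0,1⟩,544,185,0⟩,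
   ⟨⟨1,0,-1,1,-2,0,2,-1⟩,796,50,75⟩,
   ⟨⟨1,0,-1,1,-2,2,-2,-1⟩,1056,40,177⟩,
   ⟨⟨1,0,-1,1,-2,2,0,-1⟩,796,185,96⟩,
   ⟨⟨1,0,-1,1,-2,2,0,1⟩,796,163,250⟩,
   ⟨⟨1,0,-1,1,-2,2,2,1⟩,1056,50,43⟩,
   ⟨⟨1,0,-1,1,0,-2,-2,1⟩,800,163,170⟩,
   ⟨⟨1,0,-1,1,0,-2,0,-1⟩,548,40,225⟩,
   ⟨⟨1,0,-1,1,0,-2,0,1⟩,548,50,123⟩,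
   ⟨⟨1,0,-1,1,0,-2,2,-1⟩,800,185,48⟩,
   ⟨⟨1,0,-1,1,0,0,-2,-1⟩,548,163,202⟩,
   ⟨⟨1,0,-1,1,0,0,-2,1⟩,540,185,80⟩,
   ⟨⟨1,0,-1,1,0,0,0,-1⟩,288,50,27⟩,
   ⟨⟨1,0,-1,1,0,0,0,1⟩,288,40,129⟩,
   ⟨⟨1,0,-1,1,0,0,2,-1⟩,540,163,202⟩,
   ⟨⟨1,0,-1,1,0,0,2,1⟩,548,185,80⟩,
   ⟨⟨1,0,-1,1,0,2,-2,1⟩,800,163,170⟩,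
   ⟨⟨1,0,-1,1,0,2,0,-1⟩,548,40,225⟩,
   ⟨⟨1,0,-1,1,0,2,0,1⟩,548,50,123⟩,
   ⟨⟨1,0,-1,1,0,2,2,-1⟩,800,185,48⟩,
   ⟨⟨1,0,-1,1,2,-2,-2,-1⟩,1056,40,177⟩,
   ⟨⟨1,0,-1,1,2,-2,0,-1⟩,796,185,96⟩,
   ⟨⟨1,0,-1,1,2,-2,0,1⟩,796,163,250⟩,
   ⟨⟨1,0,-1,1,2,-2,2,1⟩,1056,50,43⟩,
   ⟨⟨1,0,-1,1,2,0,-2,1⟩,796,40,209⟩,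
   ⟨⟨1,0,-1,1,2,0,0,-1⟩,544,163,154⟩,
   ⟨⟨1,0,-1,1,2,0,0,1⟩,544,185,0⟩]

def ekChunk26 : List EK :=
  [⟨⟨1,0,-1,1,2,0,2,-1⟩,796,50,75⟩,
   ⟨⟨1,0,-1,3,0,0,-2,1⟩,1056,163,154⟩,
   ⟨⟨1,0,-1,3,0,0,2,-1⟩,1056,185,0⟩,
   ⟨⟨1,0,1,-3,0,0,-2,1⟩,1056,40,177⟩,
   ⟨⟨1,0,1,-3,0,0,2,-1⟩,1056,50,43⟩,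
   ⟨⟨1,0,1,-1,-2,0,-2,1⟩,796,163,250⟩,
   ⟨⟨1,0,1,-1,-2,0,0,-1⟩,544,40,177⟩,
   ⟨⟨1,0,1,-1,-2,0,0,1⟩,544,50,43⟩,
   ⟨⟨1,0,1,-1,-2,0,2,-1⟩,796,185,96⟩,
   ⟨⟨1,0,1,-1,-2,2,-2,-1⟩,1056,163,154⟩,
   ⟨⟨1,0,1,-1,-2,2,0,-1⟩,796,50,75⟩,
   ⟨⟨1,0,1,-1,-2,2,0,1⟩,796,40,209⟩,
   ⟨⟨1,0,1,-1,-2,2,2,1⟩,1056,185,0⟩,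
   ⟨⟨1,0,1,-1,0,-2,-2,1⟩,800,40,129⟩,
   ⟨⟨1,0,1,-1,0,-2,0,-1⟩,548,163,202⟩,
   ⟨⟨1,0,1,-1,0,-2,0,1⟩,548,185,80⟩,
   ⟨⟨1,0,1,-1,0,-2,2,-1⟩,800,50,27⟩,
   ⟨⟨1,0,1,-1,0,0,-2,-1⟩,548,40,225⟩,
   ⟨⟨1,0,1,-1,0,0,-2,1⟩,540,50,123⟩,
   ⟨⟨1,0,1,-1,0,0,0,-1⟩,288,185,48⟩,
   ⟨⟨1,0,1,-1,0,0,0,1⟩,288,163,170⟩,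
   ⟨⟨1,0,1,-1,0,0,2,-1⟩,540,40,225⟩,
   ⟨⟨1,0,1,-1,0,0,2,1⟩,548,50,123⟩,
   ⟨⟨1,0,1,-1,0,2,-2,1⟩,800,40,129⟩,
   ⟨⟨1,0,1,-1,0,2,0,-1⟩,548,163,202⟩,
   ⟨⟨1,0,1,-1,0,2,0,1⟩,548,185,80⟩,
   ⟨⟨1,0,1,-1,0,2,2,-1⟩,800,50,27⟩,
   ⟨⟨1,0,1,-1,2,-2,-2,-1⟩,1056,163,154⟩,
   ⟨⟨1,0,1,-1,2,-2,0,-1⟩,796,50,75⟩,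
   ⟨⟨1,0,1,-1,2,-2,0,1⟩,796,40,209⟩,
   ⟨⟨1,0,1,-1,2,-2,2,1⟩,1056,185,0⟩,
   ⟨⟨1,0,1,-1,2,0,-2,1⟩,796,163,250⟩,
   ⟨⟨1,0,1,-1,2,0,0,-1⟩,544,40,177⟩,
   ⟨⟨1,0,1,-1,2,0,0,1⟩,544,50,43⟩,
   ⟨⟨1,0,1,-1,2,0,2,-1⟩,796,185,96⟩,
   ⟨⟨1,0,1,1,-2,0,-2,1⟩,800,185,48⟩,
   ⟨⟨1,0,1,1,-2,0,0,-1⟩,548,50,123⟩,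
   ⟨⟨1,0,1,1,-2,0,0,1⟩,548,40,225⟩,
   ⟨⟨1,0,1,1,-2,0,2,-1⟩,800,163,170⟩,
   ⟨⟨1,0,1,1,-2,2,0,-1⟩,800,40,129⟩,
   ⟨⟨1,0,1,1,-2,2,0,1⟩,800,50,27⟩,
   ⟨⟨1,0,1,1,0,0,-2,1⟩,544,40,177⟩,
   ⟨⟨1,0,1,1,0,0,-2,3⟩,1056,50,43⟩,
   ⟨⟨1,0,1,1,0,0,0,-1⟩,292,163,250⟩,
   ⟨⟨1,0,1,1,0,0,0,1⟩,292,185,96⟩,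
   ⟨⟨1,0,1,1,0,0,2,-3⟩,1056,40,177⟩,
   ⟨⟨1,0,1,1,0,0,2,-1⟩,544,50,43⟩,
   ⟨⟨1,0,1,1,2,-2,0,-1⟩,800,40,129⟩,
   ⟨⟨1,0,1,1,2,-2,0,1⟩,800,50,27⟩,
   ⟨⟨1,0,1,1,2,0,-2,1⟩,800,185,48⟩,
   ⟨⟨1,0,1,1,2,0,0,-1⟩,548,50,123⟩,
   ⟨⟨1,0,1,1,2,0,0,1⟩,548,40,225⟩,
   ⟨⟨1,0,1,1,2,0,2,-1⟩,800,163,170⟩,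
   ⟨⟨1,0,3,-1,0,-2,0,-1⟩,1056,50,43⟩,
   ⟨⟨1,0,3,-1,0,-2,0,1⟩,1056,40,177⟩,
   ⟨⟨1,0,3,-1,0,0,-2,-1⟩,1056,185,0⟩,
   ⟨⟨1,0,3,-1,0,0,0,-1⟩,796,40,209⟩,
   ⟨⟨1,0,3,-1,0,0,0,1⟩,796,50,75⟩,
   ⟨⟨1,0,3,-1,0,0,2,1⟩,1056,163,154⟩,
   ⟨⟨1,0,3,-1,0,2,0,-1⟩,1056,50,43⟩,
   ⟨⟨1,0,3,-1,0,2,0,1⟩,1056,40,177⟩,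
   ⟨⟨3,0,-1,-1,0,0,-2,1⟩,1056,50,43⟩,
   ⟨⟨3,0,-1,-1,0,0,2,-1⟩,1056,40,177⟩,
   ⟨⟨3,0,-1,1,-2,0,0,-1⟩,1056,50,43⟩,
   ⟨⟨3,0,-1,1,-2,0,0,1⟩,1056,40,177⟩,
   ⟨⟨3,0,-1,1,0,0,0,-1⟩,800,163,170⟩,
   ⟨⟨3,0,-1,1,0,0,0,1⟩,800,185,48⟩,
   ⟨⟨3,0,-1,1,2,0,0,-1⟩,1056,50,43⟩,
   ⟨⟨3,0,-1,1,2,0,0,1⟩,1056,40,177⟩,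
   ⟨⟨3,0,1,-1,-2,0,0,-1⟩,1056,185,0⟩,
   ⟨⟨3,0,1,-1,-2,0,0,1⟩,1056,163,154⟩,
   ⟨⟨3,0,1,-1,0,0,0,-1⟩,800,40,129⟩,
   ⟨⟨3,0,1,-1,0,0,0,1⟩,800,50,27⟩,
   ⟨⟨3,0,1,-1,2,0,0,-1⟩,1056,185,0⟩,
   ⟨⟨3,0,1,-1,2,0,0,1⟩,1056,163,154⟩,
   ⟨⟨3,0,1,1,0,0,-2,1⟩,1056,185,0⟩,
   ⟨⟨3,0,1,1,0,0,2,-1⟩,1056,163,154⟩,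
   ⟨⟨-3,1,0,-2,-1,0,0,-1⟩,1056,175,0⟩,
   ⟨⟨-3,1,0,-2,-1,0,0,1⟩,1056,181,154⟩,
   ⟨⟨-3,1,0,-2,1,0,0,-1⟩,1056,62,129⟩,
   ⟨⟨-3,1,0,-2,1,0,0,1⟩,1056,36,27⟩,
   ⟨⟨-3,1,0,0,-1,0,-2,-1⟩,1056,36,27⟩,
   ⟨⟨-3,1,0,0,-1,0,0,-1⟩,796,181,202⟩,
   ⟨⟨-3,1,0,0,-1,0,0,1⟩,796,175,80⟩,
   ⟨⟨-3,1,0,0,-1,0,2,1⟩,1056,62,129⟩,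
   ⟨⟨-3,1,0,0,1,0,-2,-1⟩,1056,181,154⟩,
   ⟨⟨-3,1,0,0,1,0,0,-1⟩,796,36,75⟩,
   ⟨⟨-3,1,0,0,1,0,0,1⟩,796,62,209⟩,
   ⟨⟨-3,1,0,0,1,0,2,1⟩,1056,175,0⟩,
   ⟨⟨-3,1,0,2,-1,0,0,-1⟩,1056,175,0⟩,
   ⟨⟨-3,1,0,2,-1,0,0,1⟩,1056,181,154⟩,
   ⟨⟨-3,1,0,2,1,0,0,-1⟩,1056,62,129⟩,
   ⟨⟨-3,1,0,2,1,0,0,1⟩,1056,36,27⟩,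
   ⟨⟨-1,-1,-2,0,-1,0,-2,1⟩,800,36,123⟩,
   ⟨⟨-1,-1,-2,0,-1,0,0,-1⟩,548,175,48⟩,
   ⟨⟨-1,-1,-2,0,-1,0,0,1⟩,548,181,170⟩,
   ⟨⟨-1,-1,-2,0,-1,0,2,-1⟩,800,62,225⟩,
   ⟨⟨-1,-1,-2,0,-1,2,-2,1⟩,1056,62,129⟩,
   ⟨⟨-1,-1,-2,0,-1,2,2,-1⟩,1056,36,27⟩,
   ⟨⟨-1,-1,-2,0,1,-2,-2,1⟩,1056,175,0⟩,
   ⟨⟨-1,-1,-2,0,1,-2,2,-1⟩,1056,181,154⟩,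
   ⟨⟨-1,-1,-2,0,1,0,-2,1⟩,800,181,250⟩,
   ⟨⟨-1,-1,-2,0,1,0,0,-1⟩,548,62,177⟩,
   ⟨⟨-1,-1,-2,0,1,0,0,1⟩,548,36,43⟩,
   ⟨⟨-1,-1,-2,0,1,0,2,-1⟩,800,175,96⟩,
   ⟨⟨-1,-1,-2,2,-1,0,0,-1⟩,800,181,250⟩,
   ⟨⟨-1,-1,-2,2,-1,0,0,1⟩,800,175,96⟩,
   ⟨⟨-1,-1,-2,2,-1,2,0,-1⟩,1056,175,0⟩,
   ⟨⟨-1,-1,-2,2,-1,2,0,1⟩,1056,181,154⟩,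
   ⟨⟨-1,-1,-2,2,1,-2,0,-1⟩,1056,62,129⟩,
   ⟨⟨-1,-1,-2,2,1,-2,0,1⟩,1056,36,27⟩,
   ⟨⟨-1,-1,-2,2,1,0,0,-1⟩,800,36,123⟩,
   ⟨⟨-1,-1,-2,2,1,0,0,1⟩,800,62,225⟩,
   ⟨⟨-1,-1,0,0,-3,0,-2,1⟩,1056,36,27⟩,
   ⟨⟨-1,-1,0,0,-3,0,2,-1⟩,1056,62,129⟩,
   ⟨⟨-1,-1,0,0,-1,0,-2,1⟩,544,181,154⟩,
   ⟨⟨-1,-1,0,0,-1,0,-2,3⟩,1056,175,0⟩,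
   ⟨⟨-1,-1,0,0,-1,0,0,-1⟩,292,62,209⟩,
   ⟨⟨-1,-1,0,0,-1,0,0,1⟩,292,36,75⟩,
   ⟨⟨-1,-1,0,0,-1,0,2,-3⟩,1056,181,154⟩,
   ⟨⟨-1,-1,0,0,-1,0,2,-1⟩,544,175,0⟩,
   ⟨⟨-1,-1,0,0,-1,2,-2,1⟩,800,175,96⟩,
   ⟨⟨-1,-1,0,0,-1,2,0,-1⟩,548,36,43⟩,
   ⟨⟨-1,-1,0,0,-1,2,0,1⟩,548,62,177⟩,
   ⟨⟨-1,-1,0,0,-1,2,2,-1⟩,800,181,250⟩,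
   ⟨⟨-1,-1,0,0,1,-2,-2,1⟩,800,62,225⟩,
   ⟨⟨-1,-1,0,0,1,-2,0,-1⟩,548,181,170⟩,
   ⟨⟨-1,-1,0,0,1,-2,0,1⟩,548,175,48⟩,
   ⟨⟨-1,-1,0,0,1,-2,2,-1⟩,800,36,123⟩,
   ⟨⟨-1,-1,0,0,1,0,-2,1⟩,544,36,27⟩]

def ekChunk27 : List EK :=
  [⟨⟨-1,-1,0,0,1,0,-2,3⟩,1056,62,129⟩,
   ⟨⟨-1,-1,0,0,1,0,0,-1⟩,292,175,80⟩,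
   ⟨⟨-1,-1,0,0,1,0,0,1⟩,292,181,202⟩,
   ⟨⟨-1,-1,0,0,1,0,2,-3⟩,1056,36,27⟩,
   ⟨⟨-1,-1,0,0,1,0,2,-1⟩,544,62,129⟩,
   ⟨⟨-1,-1,0,0,3,0,-2,1⟩,1056,181,154⟩,
   ⟨⟨-1,-1,0,0,3,0,2,-1⟩,1056,175,0⟩,
   ⟨⟨-1,-1,2,-2,-1,0,0,-1⟩,800,181,250⟩,
   ⟨⟨-1,-1,2,-2,-1,0,0,1⟩,800,175,96⟩,
   ⟨⟨-1,-1,2,-2,-1,2,0,-1⟩,1056,175,0⟩,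
   ⟨⟨-1,-1,2,-2,-1,2,0,1⟩,1056,181,154⟩,
   ⟨⟨-1,-1,2,-2,1,-2,0,-1⟩,1056,62,129⟩,
   ⟨⟨-1,-1,2,-2,1,-2,0,1⟩,1056,36,27⟩,
   ⟨⟨-1,-1,2,-2,1,0,0,-1⟩,800,36,123⟩,
   ⟨⟨-1,-1,2,-2,1,0,0,1⟩,800,62,225⟩,
   ⟨⟨-1,-1,2,0,-1,0,-2,1⟩,800,36,123⟩,
   ⟨⟨-1,-1,2,0,-1,0,0,-1⟩,548,175,48⟩,
   ⟨⟨-1,-1,2,0,-1,0,0,1⟩,548,181,170⟩,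
   ⟨⟨-1,-1,2,0,-1,0,2,-1⟩,800,62,225⟩,
   ⟨⟨-1,-1,2,0,-1,2,-2,1⟩,1056,62,129⟩,
   ⟨⟨-1,-1,2,0,-1,2,2,-1⟩,1056,36,27⟩,
   ⟨⟨-1,-1,2,0,1,-2,-2,1⟩,1056,175,0⟩,
   ⟨⟨-1,-1,2,0,1,-2,2,-1⟩,1056,181,154⟩,
   ⟨⟨-1,-1,2,0,1,0,-2,1⟩,800,181,250⟩,
   ⟨⟨-1,-1,2,0,1,0,0,-1⟩,548,62,177⟩,
   ⟨⟨-1,-1,2,0,1,0,0,1⟩,548,36,43⟩,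
   ⟨⟨-1,-1,2,0,1,0,2,-1⟩,800,175,96⟩,
   ⟨⟨-1,1,-2,0,-3,0,0,-1⟩,1056,36,27⟩,
   ⟨⟨-1,1,-2,0,-3,0,0,1⟩,1056,62,129⟩,
   ⟨⟨-1,1,-2,0,-1,0,-2,1⟩,796,62,209⟩,
   ⟨⟨-1,1,-2,0,-1,0,0,-1⟩,544,181,154⟩,
   ⟨⟨-1,1,-2,0,-1,0,0,1⟩,544,175,0⟩,
   ⟨⟨-1,1,-2,0,-1,0,2,-1⟩,796,36,75⟩,
   ⟨⟨-1,1,-2,0,-1,2,0,-1⟩,800,175,96⟩,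
   ⟨⟨-1,1,-2,0,-1,2,0,1⟩,800,181,250⟩,
   ⟨⟨-1,1,-2,0,1,-2,0,-1⟩,800,62,225⟩,
   ⟨⟨-1,1,-2,0,1,-2,0,1⟩,800,36,123⟩,
   ⟨⟨-1,1,-2,0,1,0,-2,1⟩,796,175,80⟩,
   ⟨⟨-1,1,-2,0,1,0,0,-1⟩,544,36,27⟩,
   ⟨⟨-1,1,-2,0,1,0,0,1⟩,544,62,129⟩,
   ⟨⟨-1,1,-2,0,1,0,2,-1⟩,796,181,202⟩,
   ⟨⟨-1,1,-2,0,3,0,0,-1⟩,1056,181,154⟩,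
   ⟨⟨-1,1,-2,0,3,0,0,1⟩,1056,175,0⟩,
   ⟨⟨-1,1,-2,2,-1,0,-2,-1⟩,1056,62,129⟩,
   ⟨⟨-1,1,-2,2,-1,0,0,-1⟩,796,175,80⟩,
   ⟨⟨-1,1,-2,2,-1,0,0,1⟩,796,181,202⟩,
   ⟨⟨-1,1,-2,2,-1,0,2,1⟩,1056,36,27⟩,
   ⟨⟨-1,1,-2,2,1,0,-2,-1⟩,1056,175,0⟩,
   ⟨⟨-1,1,-2,2,1,0,0,-1⟩,796,62,209⟩,
   ⟨⟨-1,1,-2,2,1,0,0,1⟩,796,36,75⟩,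
   ⟨⟨-1,1,-2,2,1,0,2,1⟩,1056,181,154⟩,
   ⟨⟨-1,1,0,-2,-1,0,-2,1⟩,800,181,250⟩,
   ⟨⟨-1,1,0,-2,-1,0,0,-1⟩,548,62,177⟩,
   ⟨⟨-1,1,0,-2,-1,0,0,1⟩,548,36,43⟩,
   ⟨⟨-1,1,0,-2,-1,0,2,-1⟩,800,175,96⟩,
   ⟨⟨-1,1,0,-2,-1,2,-2,1⟩,1056,175,0⟩,
   ⟨⟨-1,1,0,-2,-1,2,2,-1⟩,1056,181,154⟩,
   ⟨⟨-1,1,0,-2,1,-2,-2,1⟩,1056,62,129⟩,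
   ⟨⟨-1,1,0,-2,1,-2,2,-1⟩,1056,36,27⟩,
   ⟨⟨-1,1,0,-2,1,0,-2,1⟩,800,36,123⟩,
   ⟨⟨-1,1,0,-2,1,0,0,-1⟩,548,175,48⟩,
   ⟨⟨-1,1,0,-2,1,0,0,1⟩,548,181,170⟩,
   ⟨⟨-1,1,0,-2,1,0,2,-1⟩,800,62,225⟩,
   ⟨⟨-1,1,0,0,-3,0,0,-1⟩,800,181,250⟩,
   ⟨⟨-1,1,0,0,-3,0,0,1⟩,800,175,96⟩,
   ⟨⟨-1,1,0,0,-1,0,-2,-1⟩,548,181,170⟩,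
   ⟨⟨-1,1,0,0,-1,0,-2,1⟩,540,175,48⟩,
   ⟨⟨-1,1,0,0,-1,0,0,-1⟩,288,36,123⟩,
   ⟨⟨-1,1,0,0,-1,0,0,1⟩,288,62,225⟩,
   ⟨⟨-1,1,0,0,-1,0,2,-1⟩,540,181,170⟩,
   ⟨⟨-1,1,0,0,-1,0,2,1⟩,548,175,48⟩,
   ⟨⟨-1,1,0,0,-1,2,-2,1⟩,796,181,202⟩,
   ⟨⟨-1,1,0,0,-1,2,0,-1⟩,544,62,129⟩,
   ⟨⟨-1,1,0,0,-1,2,0,1⟩,544,36,27⟩,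
   ⟨⟨-1,1,0,0,-1,2,2,-1⟩,796,175,80⟩,
   ⟨⟨-1,1,0,0,1,-2,-2,1⟩,796,36,75⟩,
   ⟨⟨-1,1,0,0,1,-2,0,-1⟩,544,175,0⟩,
   ⟨⟨-1,1,0,0,1,-2,0,1⟩,544,181,154⟩,
   ⟨⟨-1,1,0,0,1,-2,2,-1⟩,796,62,209⟩,
   ⟨⟨-1,1,0,0,1,0,-2,-1⟩,548,36,43⟩,
   ⟨⟨-1,1,0,0,1,0,-2,1⟩,540,62,177⟩,
   ⟨⟨-1,1,0,0,1,0,0,-1⟩,288,181,250⟩,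
   ⟨⟨-1,1,0,0,1,0,0,1⟩,288,175,96⟩,
   ⟨⟨-1,1,0,0,1,0,2,-1⟩,540,36,43⟩,
   ⟨⟨-1,1,0,0,1,0,2,1⟩,548,62,177⟩,
   ⟨⟨-1,1,0,0,3,0,0,-1⟩,800,36,123⟩,
   ⟨⟨-1,1,0,0,3,0,0,1⟩,800,62,225⟩,
   ⟨⟨-1,1,0,2,-1,0,-2,1⟩,800,181,250⟩,
   ⟨⟨-1,1,0,2,-1,0,0,-1⟩,548,62,177⟩,
   ⟨⟨-1,1,0,2,-1,0,0,1⟩,548,36,43⟩,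
   ⟨⟨-1,1,0,2,-1,0,2,-1⟩,800,175,96⟩,
   ⟨⟨-1,1,0,2,-1,2,-2,1⟩,1056,175,0⟩,
   ⟨⟨-1,1,0,2,-1,2,2,-1⟩,1056,181,154⟩,
   ⟨⟨-1,1,0,2,1,-2,-2,1⟩,1056,62,129⟩,
   ⟨⟨-1,1,0,2,1,-2,2,-1⟩,1056,36,27⟩,
   ⟨⟨-1,1,0,2,1,0,-2,1⟩,800,36,123⟩,
   ⟨⟨-1,1,0,2,1,0,0,-1⟩,548,175,48⟩,
   ⟨⟨-1,1,0,2,1,0,0,1⟩,548,181,170⟩,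
   ⟨⟨-1,1,0,2,1,0,2,-1⟩,800,62,225⟩,
   ⟨⟨-1,1,2,-2,-1,0,-2,-1⟩,1056,62,129⟩,
   ⟨⟨-1,1,2,-2,-1,0,0,-1⟩,796,175,80⟩,
   ⟨⟨-1,1,2,-2,-1,0,0,1⟩,796,181,202⟩,
   ⟨⟨-1,1,2,-2,-1,0,2,1⟩,1056,36,27⟩,
   ⟨⟨-1,1,2,-2,1,0,-2,-1⟩,1056,175,0⟩,
   ⟨⟨-1,1,2,-2,1,0,0,-1⟩,796,62,209⟩,
   ⟨⟨-1,1,2,-2,1,0,0,1⟩,796,36,75⟩,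
   ⟨⟨-1,1,2,-2,1,0,2,1⟩,1056,181,154⟩,
   ⟨⟨-1,1,2,0,-3,0,0,-1⟩,1056,36,27⟩,
   ⟨⟨-1,1,2,0,-3,0,0,1⟩,1056,62,129⟩,
   ⟨⟨-1,1,2,0,-1,0,-2,1⟩,796,62,209⟩,
   ⟨⟨-1,1,2,0,-1,0,0,-1⟩,544,181,154⟩,
   ⟨⟨-1,1,2,0,-1,0,0,1⟩,544,175,0⟩,
   ⟨⟨-1,1,2,0,-1,0,2,-1⟩,796,36,75⟩,
   ⟨⟨-1,1,2,0,-1,2,0,-1⟩,800,175,96⟩,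
   ⟨⟨-1,1,2,0,-1,2,0,1⟩,800,181,250⟩,
   ⟨⟨-1,1,2,0,1,-2,0,-1⟩,800,62,225⟩,
   ⟨⟨-1,1,2,0,1,-2,0,1⟩,800,36,123⟩,
   ⟨⟨-1,1,2,0,1,0,-2,1⟩,796,175,80⟩,
   ⟨⟨-1,1,2,0,1,0,0,-1⟩,544,36,27⟩,
   ⟨⟨-1,1,2,0,1,0,0,1⟩,544,62,129⟩,
   ⟨⟨-1,1,2,0,1,0,2,-1⟩,796,181,202⟩,
   ⟨⟨-1,1,2,0,3,0,0,-1⟩,1056,181,154⟩,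
   ⟨⟨-1,1,2,0,3,0,0,1⟩,1056,175,0⟩,
   ⟨⟨-1,3,0,0,-1,0,-2,1⟩,1056,181,154⟩,
   ⟨⟨-1,3,0,0,-1,0,2,-1⟩,1056,175,0⟩,
   ⟨⟨-1,3,0,0,1,0,-2,1⟩,1056,36,27⟩,
   ⟨⟨-1,3,0,0,1,0,2,-1⟩,1056,62,129⟩,
   ⟨⟨1,-3,0,0,-1,0,-2,1⟩,1056,62,129⟩,
   ⟨⟨1,-3,0,0,-1,0,2,-1⟩,1056,36,27⟩,
   ⟨⟨1,-3,0,0,1,0,-2,1⟩,1056,175,0⟩]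

def ekChunk28 : List EK :=
  [⟨⟨1,-3,0,0,1,0,2,-1⟩,1056,181,154⟩,
   ⟨⟨1,-1,-2,0,-3,0,0,-1⟩,1056,175,0⟩,
   ⟨⟨1,-1,-2,0,-3,0,0,1⟩,1056,181,154⟩,
   ⟨⟨1,-1,-2,0,-1,0,-2,1⟩,796,181,202⟩,
   ⟨⟨1,-1,-2,0,-1,0,0,-1⟩,544,62,129⟩,
   ⟨⟨1,-1,-2,0,-1,0,0,1⟩,544,36,27⟩,
   ⟨⟨1,-1,-2,0,-1,0,2,-1⟩,796,175,80⟩,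
   ⟨⟨1,-1,-2,0,-1,2,0,-1⟩,800,36,123⟩,
   ⟨⟨1,-1,-2,0,-1,2,0,1⟩,800,62,225⟩,
   ⟨⟨1,-1,-2,0,1,-2,0,-1⟩,800,181,250⟩,
   ⟨⟨1,-1,-2,0,1,-2,0,1⟩,800,175,96⟩,
   ⟨⟨1,-1,-2,0,1,0,-2,1⟩,796,36,75⟩,
   ⟨⟨1,-1,-2,0,1,0,0,-1⟩,544,175,0⟩,
   ⟨⟨1,-1,-2,0,1,0,0,1⟩,544,181,154⟩,
   ⟨⟨1,-1,-2,0,1,0,2,-1⟩,796,62,209⟩,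
   ⟨⟨1,-1,-2,0,3,0,0,-1⟩,1056,62,129⟩,
   ⟨⟨1,-1,-2,0,3,0,0,1⟩,1056,36,27⟩,
   ⟨⟨1,-1,-2,2,-1,0,-2,-1⟩,1056,181,154⟩,
   ⟨⟨1,-1,-2,2,-1,0,0,-1⟩,796,36,75⟩,
   ⟨⟨1,-1,-2,2,-1,0,0,1⟩,796,62,209⟩,
   ⟨⟨1,-1,-2,2,-1,0,2,1⟩,1056,175,0⟩,
   ⟨⟨1,-1,-2,2,1,0,-2,-1⟩,1056,36,27⟩,
   ⟨⟨1,-1,-2,2,1,0,0,-1⟩,796,181,202⟩,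
   ⟨⟨1,-1,-2,2,1,0,0,1⟩,796,175,80⟩,
   ⟨⟨1,-1,-2,2,1,0,2,1⟩,1056,62,129⟩,
   ⟨⟨1,-1,0,-2,-1,0,-2,1⟩,800,62,225⟩,
   ⟨⟨1,-1,0,-2,-1,0,0,-1⟩,548,181,170⟩,
   ⟨⟨1,-1,0,-2,-1,0,0,1⟩,548,175,48⟩,
   ⟨⟨1,-1,0,-2,-1,0,2,-1⟩,800,36,123⟩,
   ⟨⟨1,-1,0,-2,-1,2,-2,1⟩,1056,36,27⟩,
   ⟨⟨1,-1,0,-2,-1,2,2,-1⟩,1056,62,129⟩,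
   ⟨⟨1,-1,0,-2,1,-2,-2,1⟩,1056,181,154⟩,
   ⟨⟨1,-1,0,-2,1,-2,2,-1⟩,1056,175,0⟩,
   ⟨⟨1,-1,0,-2,1,0,-2,1⟩,800,175,96⟩,
   ⟨⟨1,-1,0,-2,1,0,0,-1⟩,548,36,43⟩,
   ⟨⟨1,-1,0,-2,1,0,0,1⟩,548,62,177⟩,
   ⟨⟨1,-1,0,-2,1,0,2,-1⟩,800,181,250⟩,
   ⟨⟨1,-1,0,0,-3,0,0,-1⟩,800,62,225⟩,
   ⟨⟨1,-1,0,0,-3,0,0,1⟩,800,36,123⟩,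
   ⟨⟨1,-1,0,0,-1,0,-2,-1⟩,548,62,177⟩,
   ⟨⟨1,-1,0,0,-1,0,-2,1⟩,540,36,43⟩,
   ⟨⟨1,-1,0,0,-1,0,0,-1⟩,288,175,96⟩,
   ⟨⟨1,-1,0,0,-1,0,0,1⟩,288,181,250⟩,
   ⟨⟨1,-1,0,0,-1,0,2,-1⟩,540,62,177⟩,
   ⟨⟨1,-1,0,0,-1,0,2,1⟩,548,36,43⟩,
   ⟨⟨1,-1,0,0,-1,2,-2,1⟩,796,62,209⟩,
   ⟨⟨1,-1,0,0,-1,2,0,-1⟩,544,181,154⟩,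
   ⟨⟨1,-1,0,0,-1,2,0,1⟩,544,175,0⟩,
   ⟨⟨1,-1,0,0,-1,2,2,-1⟩,796,36,75⟩,
   ⟨⟨1,-1,0,0,1,-2,-2,1⟩,796,175,80⟩,
   ⟨⟨1,-1,0,0,1,-2,0,-1⟩,544,36,27⟩,
   ⟨⟨1,-1,0,0,1,-2,0,1⟩,544,62,129⟩,
   ⟨⟨1,-1,0,0,1,-2,2,-1⟩,796,181,202⟩,
   ⟨⟨1,-1,0,0,1,0,-2,-1⟩,548,175,48⟩,
   ⟨⟨1,-1,0,0,1,0,-2,1⟩,540,181,170⟩,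
   ⟨⟨1,-1,0,0,1,0,0,-1⟩,288,62,225⟩,
   ⟨⟨1,-1,0,0,1,0,0,1⟩,288,36,123⟩,
   ⟨⟨1,-1,0,0,1,0,2,-1⟩,540,175,48⟩,
   ⟨⟨1,-1,0,0,1,0,2,1⟩,548,181,170⟩,
   ⟨⟨1,-1,0,0,3,0,0,-1⟩,800,175,96⟩,
   ⟨⟨1,-1,0,0,3,0,0,1⟩,800,181,250⟩,
   ⟨⟨1,-1,0,2,-1,0,-2,1⟩,800,62,225⟩,
   ⟨⟨1,-1,0,2,-1,0,0,-1⟩,548,181,170⟩,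
   ⟨⟨1,-1,0,2,-1,0,0,1⟩,548,175,48⟩,
   ⟨⟨1,-1,0,2,-1,0,2,-1⟩,800,36,123⟩,
   ⟨⟨1,-1,0,2,-1,2,-2,1⟩,1056,36,27⟩,
   ⟨⟨1,-1,0,2,-1,2,2,-1⟩,1056,62,129⟩,
   ⟨⟨1,-1,0,2,1,-2,-2,1⟩,1056,181,154⟩,
   ⟨⟨1,-1,0,2,1,-2,2,-1⟩,1056,175,0⟩,
   ⟨⟨1,-1,0,2,1,0,-2,1⟩,800,175,96⟩,
   ⟨⟨1,-1,0,2,1,0,0,-1⟩,548,36,43⟩,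
   ⟨⟨1,-1,0,2,1,0,0,1⟩,548,62,177⟩,
   ⟨⟨1,-1,0,2,1,0,2,-1⟩,800,181,250⟩,
   ⟨⟨1,-1,2,-2,-1,0,-2,-1⟩,1056,181,154⟩,
   ⟨⟨1,-1,2,-2,-1,0,0,-1⟩,796,36,75⟩,
   ⟨⟨1,-1,2,-2,-1,0,0,1⟩,796,62,209⟩,
   ⟨⟨1,-1,2,-2,-1,0,2,1⟩,1056,175,0⟩,
   ⟨⟨1,-1,2,-2,1,0,-2,-1⟩,1056,36,27⟩,
   ⟨⟨1,-1,2,-2,1,0,0,-1⟩,796,181,202⟩,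
   ⟨⟨1,-1,2,-2,1,0,0,1⟩,796,175,80⟩,
   ⟨⟨1,-1,2,-2,1,0,2,1⟩,1056,62,129⟩,
   ⟨⟨1,-1,2,0,-3,0,0,-1⟩,1056,175,0⟩,
   ⟨⟨1,-1,2,0,-3,0,0,1⟩,1056,181,154⟩,
   ⟨⟨1,-1,2,0,-1,0,-2,1⟩,796,181,202⟩,
   ⟨⟨1,-1,2,0,-1,0,0,-1⟩,544,62,129⟩,
   ⟨⟨1,-1,2,0,-1,0,0,1⟩,544,36,27⟩,
   ⟨⟨1,-1,2,0,-1,0,2,-1⟩,796,175,80⟩,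
   ⟨⟨1,-1,2,0,-1,2,0,-1⟩,800,36,123⟩,
   ⟨⟨1,-1,2,0,-1,2,0,1⟩,800,62,225⟩,
   ⟨⟨1,-1,2,0,1,-2,0,-1⟩,800,181,250⟩,
   ⟨⟨1,-1,2,0,1,-2,0,1⟩,800,175,96⟩,
   ⟨⟨1,-1,2,0,1,0,-2,1⟩,796,36,75⟩,
   ⟨⟨1,-1,2,0,1,0,0,-1⟩,544,175,0⟩,
   ⟨⟨1,-1,2,0,1,0,0,1⟩,544,181,154⟩,
   ⟨⟨1,-1,2,0,1,0,2,-1⟩,796,62,209⟩,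
   ⟨⟨1,-1,2,0,3,0,0,-1⟩,1056,62,129⟩,
   ⟨⟨1,-1,2,0,3,0,0,1⟩,1056,36,27⟩,
   ⟨⟨1,1,-2,0,-1,0,-2,1⟩,800,175,96⟩,
   ⟨⟨1,1,-2,0,-1,0,0,-1⟩,548,36,43⟩,
   ⟨⟨1,1,-2,0,-1,0,0,1⟩,548,62,177⟩,
   ⟨⟨1,1,-2,0,-1,0,2,-1⟩,800,181,250⟩,
   ⟨⟨1,1,-2,0,-1,2,-2,1⟩,1056,181,154⟩,
   ⟨⟨1,1,-2,0,-1,2,2,-1⟩,1056,175,0⟩,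
   ⟨⟨1,1,-2,0,1,-2,-2,1⟩,1056,36,27⟩,
   ⟨⟨1,1,-2,0,1,-2,2,-1⟩,1056,62,129⟩,
   ⟨⟨1,1,-2,0,1,0,-2,1⟩,800,62,225⟩,
   ⟨⟨1,1,-2,0,1,0,0,-1⟩,548,181,170⟩,
   ⟨⟨1,1,-2,0,1,0,0,1⟩,548,175,48⟩,
   ⟨⟨1,1,-2,0,1,0,2,-1⟩,800,36,123⟩,
   ⟨⟨1,1,-2,2,-1,0,0,-1⟩,800,62,225⟩,
   ⟨⟨1,1,-2,2,-1,0,0,1⟩,800,36,123⟩,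
   ⟨⟨1,1,-2,2,-1,2,0,-1⟩,1056,36,27⟩,
   ⟨⟨1,1,-2,2,-1,2,0,1⟩,1056,62,129⟩,
   ⟨⟨1,1,-2,2,1,-2,0,-1⟩,1056,181,154⟩,
   ⟨⟨1,1,-2,2,1,-2,0,1⟩,1056,175,0⟩,
   ⟨⟨1,1,-2,2,1,0,0,-1⟩,800,175,96⟩,
   ⟨⟨1,1,-2,2,1,0,0,1⟩,800,181,250⟩,
   ⟨⟨1,1,0,0,-3,0,-2,1⟩,1056,175,0⟩,
   ⟨⟨1,1,0,0,-3,0,2,-1⟩,1056,181,154⟩,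
   ⟨⟨1,1,0,0,-1,0,-2,1⟩,544,62,129⟩,
   ⟨⟨1,1,0,0,-1,0,-2,3⟩,1056,36,27⟩,
   ⟨⟨1,1,0,0,-1,0,0,-1⟩,292,181,202⟩,
   ⟨⟨1,1,0,0,-1,0,0,1⟩,292,175,80⟩,
   ⟨⟨1,1,0,0,-1,0,2,-3⟩,1056,62,129⟩,
   ⟨⟨1,1,0,0,-1,0,2,-1⟩,544,36,27⟩,
   ⟨⟨1,1,0,0,-1,2,-2,1⟩,800,36,123⟩,
   ⟨⟨1,1,0,0,-1,2,0,-1⟩,548,175,48⟩,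
   ⟨⟨1,1,0,0,-1,2,0,1⟩,548,181,170⟩,
   ⟨⟨1,1,0,0,-1,2,2,-1⟩,800,62,225⟩,
   ⟨⟨1,1,0,0,1,-2,-2,1⟩,800,181,250⟩]

def ekChunk29 : List EK :=
  [⟨⟨1,1,0,0,1,-2,0,-1⟩,548,62,177⟩,
   ⟨⟨1,1,0,0,1,-2,0,1⟩,548,36,43⟩,
   ⟨⟨1,1,0,0,1,-2,2,-1⟩,800,175,96⟩,
   ⟨⟨1,1,0,0,1,0,-2,1⟩,544,175,0⟩,
   ⟨⟨1,1,0,0,1,0,-2,3⟩,1056,181,154⟩,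
   ⟨⟨1,1,0,0,1,0,0,-1⟩,292,36,75⟩,
   ⟨⟨1,1,0,0,1,0,0,1⟩,292,62,209⟩,
   ⟨⟨1,1,0,0,1,0,2,-3⟩,1056,175,0⟩,
   ⟨⟨1,1,0,0,1,0,2,-1⟩,544,181,154⟩,
   ⟨⟨1,1,0,0,3,0,-2,1⟩,1056,62,129⟩,
   ⟨⟨1,1,0,0,3,0,2,-1⟩,1056,36,27⟩,
   ⟨⟨1,1,2,-2,-1,0,0,-1⟩,800,62,225⟩,
   ⟨⟨1,1,2,-2,-1,0,0,1⟩,800,36,123⟩,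
   ⟨⟨1,1,2,-2,-1,2,0,-1⟩,1056,36,27⟩,
   ⟨⟨1,1,2,-2,-1,2,0,1⟩,1056,62,129⟩,
   ⟨⟨1,1,2,-2,1,-2,0,-1⟩,1056,181,154⟩,
   ⟨⟨1,1,2,-2,1,-2,0,1⟩,1056,175,0⟩,
   ⟨⟨1,1,2,-2,1,0,0,-1⟩,800,175,96⟩,
   ⟨⟨1,1,2,-2,1,0,0,1⟩,800,181,250⟩,
   ⟨⟨1,1,2,0,-1,0,-2,1⟩,800,175,96⟩,
   ⟨⟨1,1,2,0,-1,0,0,-1⟩,548,36,43⟩,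
   ⟨⟨1,1,2,0,-1,0,0,1⟩,548,62,177⟩,
   ⟨⟨1,1,2,0,-1,0,2,-1⟩,800,181,250⟩,
   ⟨⟨1,1,2,0,-1,2,-2,1⟩,1056,181,154⟩,
   ⟨⟨1,1,2,0,-1,2,2,-1⟩,1056,175,0⟩,
   ⟨⟨1,1,2,0,1,-2,-2,1⟩,1056,36,27⟩,
   ⟨⟨1,1,2,0,1,-2,2,-1⟩,1056,62,129⟩,
   ⟨⟨1,1,2,0,1,0,-2,1⟩,800,62,225⟩,
   ⟨⟨1,1,2,0,1,0,0,-1⟩,548,181,170⟩,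
   ⟨⟨1,1,2,0,1,0,0,1⟩,548,175,48⟩,
   ⟨⟨1,1,2,0,1,0,2,-1⟩,800,36,123⟩,
   ⟨⟨3,-1,0,-2,-1,0,0,-1⟩,1056,36,27⟩,
   ⟨⟨3,-1,0,-2,-1,0,0,1⟩,1056,62,129⟩,
   ⟨⟨3,-1,0,-2,1,0,0,-1⟩,1056,181,154⟩,
   ⟨⟨3,-1,0,-2,1,0,0,1⟩,1056,175,0⟩,
   ⟨⟨3,-1,0,0,-1,0,-2,-1⟩,1056,175,0⟩,
   ⟨⟨3,-1,0,0,-1,0,0,-1⟩,796,62,209⟩,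
   ⟨⟨3,-1,0,0,-1,0,0,1⟩,796,36,75⟩,
   ⟨⟨3,-1,0,0,-1,0,2,1⟩,1056,181,154⟩,
   ⟨⟨3,-1,0,0,1,0,-2,-1⟩,1056,62,129⟩,
   ⟨⟨3,-1,0,0,1,0,0,-1⟩,796,175,80⟩,
   ⟨⟨3,-1,0,0,1,0,0,1⟩,796,181,202⟩,
   ⟨⟨3,-1,0,0,1,0,2,1⟩,1056,36,27⟩,
   ⟨⟨3,-1,0,2,-1,0,0,-1⟩,1056,36,27⟩,
   ⟨⟨3,-1,0,2,-1,0,0,1⟩,1056,62,129⟩,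
   ⟨⟨3,-1,0,2,1,0,0,-1⟩,1056,181,154⟩,
   ⟨⟨3,-1,0,2,1,0,0,1⟩,1056,175,0⟩,
   ⟨⟨-2,-1,-2,1,-2,1,0,-1⟩,1056,26,80⟩,
   ⟨⟨-2,-1,-2,1,-2,1,0,1⟩,1056,0,202⟩,
   ⟨⟨-2,-1,-2,1,0,-1,-2,1⟩,1056,26,96⟩,
   ⟨⟨-2,-1,-2,1,0,-1,2,-1⟩,1056,0,250⟩,
   ⟨⟨-2,-1,-2,1,0,1,-2,1⟩,1056,0,154⟩,
   ⟨⟨-2,-1,-2,1,0,1,2,-1⟩,1056,26,0⟩,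
   ⟨⟨-2,-1,-2,1,2,-1,0,-1⟩,1056,0,170⟩,
   ⟨⟨-2,-1,-2,1,2,-1,0,1⟩,1056,26,48⟩,
   ⟨⟨-2,-1,0,-1,-2,1,-2,1⟩,1056,26,48⟩,
   ⟨⟨-2,-1,0,-1,-2,1,2,-1⟩,1056,0,170⟩,
   ⟨⟨-2,-1,0,-1,2,-1,-2,1⟩,1056,0,202⟩,
   ⟨⟨-2,-1,0,-1,2,-1,2,-1⟩,1056,26,80⟩,
   ⟨⟨-2,-1,0,1,-2,1,-2,1⟩,1056,0,250⟩,
   ⟨⟨-2,-1,0,1,-2,1,2,-1⟩,1056,26,96⟩,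
   ⟨⟨-2,-1,0,1,2,-1,-2,1⟩,1056,26,0⟩,
   ⟨⟨-2,-1,0,1,2,-1,2,-1⟩,1056,0,154⟩,
   ⟨⟨-2,-1,2,-1,-2,1,0,-1⟩,1056,0,154⟩,
   ⟨⟨-2,-1,2,-1,-2,1,0,1⟩,1056,26,0⟩,
   ⟨⟨-2,-1,2,-1,0,-1,-2,1⟩,1056,0,170⟩,
   ⟨⟨-2,-1,2,-1,0,-1,2,-1⟩,1056,26,48⟩,
   ⟨⟨-2,-1,2,-1,0,1,-2,1⟩,1056,26,80⟩,
   ⟨⟨-2,-1,2,-1,0,1,2,-1⟩,1056,0,202⟩,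
   ⟨⟨-2,-1,2,-1,2,-1,0,-1⟩,1056,26,96⟩,
   ⟨⟨-2,-1,2,-1,2,-1,0,1⟩,1056,0,250⟩,
   ⟨⟨-2,1,-2,-1,-2,1,0,-1⟩,1056,26,48⟩,
   ⟨⟨-2,1,-2,-1,-2,1,0,1⟩,1056,0,170⟩,
   ⟨⟨-2,1,-2,-1,0,-1,-2,1⟩,1056,26,0⟩,
   ⟨⟨-2,1,-2,-1,0,-1,2,-1⟩,1056,0,154⟩,
   ⟨⟨-2,1,-2,-1,0,1,-2,1⟩,1056,0,250⟩,
   ⟨⟨-2,1,-2,-1,0,1,2,-1⟩,1056,26,96⟩,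
   ⟨⟨-2,1,-2,-1,2,-1,0,-1⟩,1056,0,202⟩,
   ⟨⟨-2,1,-2,-1,2,-1,0,1⟩,1056,26,80⟩,
   ⟨⟨-2,1,-2,1,-2,-1,0,-1⟩,1056,26,0⟩,
   ⟨⟨-2,1,-2,1,-2,-1,0,1⟩,1056,0,154⟩,
   ⟨⟨-2,1,-2,1,0,-1,-2,-1⟩,1056,26,80⟩,
   ⟨⟨-2,1,-2,1,0,-1,0,-1⟩,796,139,129⟩,
   ⟨⟨-2,1,-2,1,0,-1,0,1⟩,796,145,27⟩,
   ⟨⟨-2,1,-2,1,0,-1,2,1⟩,1056,0,202⟩,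
   ⟨⟨-2,1,-2,1,0,1,-2,-1⟩,1056,0,170⟩,
   ⟨⟨-2,1,-2,1,0,1,0,-1⟩,796,145,123⟩,
   ⟨⟨-2,1,-2,1,0,1,0,1⟩,796,139,225⟩,
   ⟨⟨-2,1,-2,1,0,1,2,1⟩,1056,26,48⟩,
   ⟨⟨-2,1,-2,1,2,1,0,-1⟩,1056,0,250⟩,
   ⟨⟨-2,1,-2,1,2,1,0,1⟩,1056,26,96⟩,
   ⟨⟨-2,1,0,-1,-2,-1,-2,1⟩,1056,26,96⟩,
   ⟨⟨-2,1,0,-1,-2,-1,2,-1⟩,1056,0,250⟩,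
   ⟨⟨-2,1,0,-1,-2,1,-2,-1⟩,1056,26,0⟩,
   ⟨⟨-2,1,0,-1,-2,1,0,-1⟩,796,139,209⟩,
   ⟨⟨-2,1,0,-1,-2,1,0,1⟩,796,145,75⟩,
   ⟨⟨-2,1,0,-1,-2,1,2,1⟩,1056,0,154⟩,
   ⟨⟨-2,1,0,-1,0,-1,-2,1⟩,796,139,225⟩,
   ⟨⟨-2,1,0,-1,0,-1,0,-1⟩,544,0,170⟩,
   ⟨⟨-2,1,0,-1,0,-1,0,1⟩,544,26,48⟩,
   ⟨⟨-2,1,0,-1,0,-1,2,-1⟩,796,145,123⟩,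
   ⟨⟨-2,1,0,-1,0,1,-2,1⟩,796,145,27⟩,
   ⟨⟨-2,1,0,-1,0,1,0,-1⟩,544,26,80⟩,
   ⟨⟨-2,1,0,-1,0,1,0,1⟩,544,0,202⟩,
   ⟨⟨-2,1,0,-1,0,1,2,-1⟩,796,139,129⟩,
   ⟨⟨-2,1,0,-1,2,-1,-2,-1⟩,1056,0,250⟩,
   ⟨⟨-2,1,0,-1,2,-1,0,-1⟩,796,145,43⟩,
   ⟨⟨-2,1,0,-1,2,-1,0,1⟩,796,139,177⟩,
   ⟨⟨-2,1,0,-1,2,-1,2,1⟩,1056,26,96⟩,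
   ⟨⟨-2,1,0,-1,2,1,-2,1⟩,1056,0,154⟩,
   ⟨⟨-2,1,0,-1,2,1,2,-1⟩,1056,26,0⟩,
   ⟨⟨-2,1,0,1,-2,-1,-2,1⟩,1056,0,170⟩,
   ⟨⟨-2,1,0,1,-2,-1,2,-1⟩,1056,26,48⟩,
   ⟨⟨-2,1,0,1,-2,1,-2,-1⟩,1056,0,202⟩,
   ⟨⟨-2,1,0,1,-2,1,0,-1⟩,796,145,27⟩,
   ⟨⟨-2,1,0,1,-2,1,0,1⟩,796,139,129⟩,
   ⟨⟨-2,1,0,1,-2,1,2,1⟩,1056,26,80⟩,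
   ⟨⟨-2,1,0,1,0,-1,-2,1⟩,796,145,43⟩,
   ⟨⟨-2,1,0,1,0,-1,0,-1⟩,544,26,96⟩,
   ⟨⟨-2,1,0,1,0,-1,0,1⟩,544,0,250⟩,
   ⟨⟨-2,1,0,1,0,-1,2,-1⟩,796,139,177⟩,
   ⟨⟨-2,1,0,1,0,1,-2,1⟩,796,139,209⟩,
   ⟨⟨-2,1,0,1,0,1,0,-1⟩,544,0,154⟩,
   ⟨⟨-2,1,0,1,0,1,0,1⟩,544,26,0⟩,
   ⟨⟨-2,1,0,1,0,1,2,-1⟩,796,145,75⟩,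
   ⟨⟨-2,1,0,1,2,-1,-2,-1⟩,1056,26,48⟩,
   ⟨⟨-2,1,0,1,2,-1,0,-1⟩,796,139,225⟩,
   ⟨⟨-2,1,0,1,2,-1,0,1⟩,796,145,123⟩,
   ⟨⟨-2,1,0,1,2,-1,2,1⟩,1056,0,170⟩,
   ⟨⟨-2,1,0,1,2,1,-2,1⟩,1056,26,80⟩]

def ekChunk30 : List EK :=
  [⟨⟨-2,1,0,1,2,1,2,-1⟩,1056,0,202⟩,
   ⟨⟨-2,1,2,-1,-2,-1,0,-1⟩,1056,0,202⟩,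
   ⟨⟨-2,1,2,-1,-2,-1,0,1⟩,1056,26,80⟩,
   ⟨⟨-2,1,2,-1,0,-1,-2,-1⟩,1056,0,154⟩,
   ⟨⟨-2,1,2,-1,0,-1,0,-1⟩,796,145,75⟩,
   ⟨⟨-2,1,2,-1,0,-1,0,1⟩,796,139,209⟩,
   ⟨⟨-2,1,2,-1,0,-1,2,1⟩,1056,26,0⟩,
   ⟨⟨-2,1,2,-1,0,1,-2,-1⟩,1056,26,96⟩,
   ⟨⟨-2,1,2,-1,0,1,0,-1⟩,796,139,177⟩,
   ⟨⟨-2,1,2,-1,0,1,0,1⟩,796,145,43⟩,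
   ⟨⟨-2,1,2,-1,0,1,2,1⟩,1056,0,250⟩,
   ⟨⟨-2,1,2,-1,2,1,0,-1⟩,1056,26,48⟩,
   ⟨⟨-2,1,2,-1,2,1,0,1⟩,1056,0,170⟩,
   ⟨⟨-2,1,2,1,-2,1,0,-1⟩,1056,0,250⟩,
   ⟨⟨-2,1,2,1,-2,1,0,1⟩,1056,26,96⟩,
   ⟨⟨-2,1,2,1,0,-1,-2,1⟩,1056,0,202⟩,
   ⟨⟨-2,1,2,1,0,-1,2,-1⟩,1056,26,80⟩,
   ⟨⟨-2,1,2,1,0,1,-2,1⟩,1056,26,48⟩,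
   ⟨⟨-2,1,2,1,0,1,2,-1⟩,1056,0,170⟩,
   ⟨⟨-2,1,2,1,2,-1,0,-1⟩,1056,26,0⟩,
   ⟨⟨-2,1,2,1,2,-1,0,1⟩,1056,0,154⟩,
   ⟨⟨-2,3,0,-1,0,-1,0,-1⟩,1056,26,0⟩,
   ⟨⟨-2,3,0,-1,0,-1,0,1⟩,1056,0,154⟩,
   ⟨⟨-2,3,0,-1,0,1,0,-1⟩,1056,0,250⟩,
   ⟨⟨-2,3,0,-1,0,1,0,1⟩,1056,26,96⟩,
   ⟨⟨-2,3,0,1,0,-1,0,-1⟩,1056,0,202⟩,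
   ⟨⟨-2,3,0,1,0,-1,0,1⟩,1056,26,80⟩,
   ⟨⟨-2,3,0,1,0,1,0,-1⟩,1056,26,48⟩,
   ⟨⟨-2,3,0,1,0,1,0,1⟩,1056,0,170⟩,
   ⟨⟨0,-1,-2,-1,-2,1,-2,1⟩,1056,26,96⟩,
   ⟨⟨0,-1,-2,-1,-2,1,2,-1⟩,1056,0,250⟩,
   ⟨⟨0,-1,-2,-1,2,-1,-2,1⟩,1056,0,154⟩,
   ⟨⟨0,-1,-2,-1,2,-1,2,-1⟩,1056,26,0⟩,
   ⟨⟨0,-1,-2,1,-2,-1,-2,1⟩,1056,26,80⟩,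
   ⟨⟨0,-1,-2,1,-2,-1,2,-1⟩,1056,0,202⟩,
   ⟨⟨0,-1,-2,1,-2,1,-2,-1⟩,1056,26,48⟩,
   ⟨⟨0,-1,-2,1,-2,1,0,-1⟩,796,139,225⟩,
   ⟨⟨0,-1,-2,1,-2,1,0,1⟩,796,145,123⟩,
   ⟨⟨0,-1,-2,1,-2,1,2,1⟩,1056,0,170⟩,
   ⟨⟨0,-1,-2,1,0,-1,-2,1⟩,796,139,209⟩,
   ⟨⟨0,-1,-2,1,0,-1,0,-1⟩,544,0,154⟩,
   ⟨⟨0,-1,-2,1,0,-1,0,1⟩,544,26,0⟩,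
   ⟨⟨0,-1,-2,1,0,-1,2,-1⟩,796,145,75⟩,
   ⟨⟨0,-1,-2,1,0,1,-2,1⟩,796,145,43⟩,
   ⟨⟨0,-1,-2,1,0,1,0,-1⟩,544,26,96⟩,
   ⟨⟨0,-1,-2,1,0,1,0,1⟩,544,0,250⟩,
   ⟨⟨0,-1,-2,1,0,1,2,-1⟩,796,139,177⟩,
   ⟨⟨0,-1,-2,1,2,-1,-2,-1⟩,1056,0,202⟩,
   ⟨⟨0,-1,-2,1,2,-1,0,-1⟩,796,145,27⟩,
   ⟨⟨0,-1,-2,1,2,-1,0,1⟩,796,139,129⟩,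
   ⟨⟨0,-1,-2,1,2,-1,2,1⟩,1056,26,80⟩,
   ⟨⟨0,-1,-2,1,2,1,-2,1⟩,1056,0,170⟩,
   ⟨⟨0,-1,-2,1,2,1,2,-1⟩,1056,26,48⟩,
   ⟨⟨0,-1,-2,3,0,-1,0,-1⟩,1056,26,80⟩,
   ⟨⟨0,-1,-2,3,0,-1,0,1⟩,1056,0,202⟩,
   ⟨⟨0,-1,-2,3,0,1,0,-1⟩,1056,0,170⟩,
   ⟨⟨0,-1,-2,3,0,1,0,1⟩,1056,26,48⟩,
   ⟨⟨0,-1,0,-1,-2,1,-2,1⟩,796,139,129⟩,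
   ⟨⟨0,-1,0,-1,-2,1,0,-1⟩,544,0,202⟩,
   ⟨⟨0,-1,0,-1,-2,1,0,1⟩,544,26,80⟩,
   ⟨⟨0,-1,0,-1,-2,1,2,-1⟩,796,145,27⟩,
   ⟨⟨0,-1,0,-1,-2,3,0,-1⟩,1056,26,48⟩,
   ⟨⟨0,-1,0,-1,-2,3,0,1⟩,1056,0,170⟩,
   ⟨⟨0,-1,0,-1,0,-1,-2,1⟩,544,0,250⟩,
   ⟨⟨0,-1,0,-1,0,-1,-2,3⟩,1056,26,96⟩,
   ⟨⟨0,-1,0,-1,0,-1,0,-1⟩,292,139,177⟩,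
   ⟨⟨0,-1,0,-1,0,-1,0,1⟩,292,145,43⟩,
   ⟨⟨0,-1,0,-1,0,-1,2,-3⟩,1056,0,250⟩,
   ⟨⟨0,-1,0,-1,0,-1,2,-1⟩,544,26,96⟩,
   ⟨⟨0,-1,0,-1,0,1,-2,1⟩,544,26,0⟩,
   ⟨⟨0,-1,0,-1,0,1,-2,3⟩,1056,0,154⟩,
   ⟨⟨0,-1,0,-1,0,1,0,-1⟩,292,145,75⟩,
   ⟨⟨0,-1,0,-1,0,1,0,1⟩,292,139,209⟩,
   ⟨⟨0,-1,0,-1,0,1,2,-3⟩,1056,26,0⟩,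
   ⟨⟨0,-1,0,-1,0,1,2,-1⟩,544,0,154⟩,
   ⟨⟨0,-1,0,-1,2,-3,0,-1⟩,1056,0,202⟩,
   ⟨⟨0,-1,0,-1,2,-3,0,1⟩,1056,26,80⟩,
   ⟨⟨0,-1,0,-1,2,-1,-2,1⟩,796,145,123⟩,
   ⟨⟨0,-1,0,-1,2,-1,0,-1⟩,544,26,48⟩,
   ⟨⟨0,-1,0,-1,2,-1,0,1⟩,544,0,170⟩,
   ⟨⟨0,-1,0,-1,2,-1,2,-1⟩,796,139,225⟩,
   ⟨⟨0,-1,0,1,-2,1,-2,1⟩,796,145,75⟩,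
   ⟨⟨0,-1,0,1,-2,1,0,-1⟩,544,26,0⟩,
   ⟨⟨0,-1,0,1,-2,1,0,1⟩,544,0,154⟩,
   ⟨⟨0,-1,0,1,-2,1,2,-1⟩,796,139,209⟩,
   ⟨⟨0,-1,0,1,-2,3,0,-1⟩,1056,0,250⟩,
   ⟨⟨0,-1,0,1,-2,3,0,1⟩,1056,26,96⟩,
   ⟨⟨0,-1,0,1,0,-1,-2,1⟩,544,26,48⟩,
   ⟨⟨0,-1,0,1,0,-1,-2,3⟩,1056,0,170⟩,
   ⟨⟨0,-1,0,1,0,-1,0,-1⟩,292,145,123⟩,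
   ⟨⟨0,-1,0,1,0,-1,0,1⟩,292,139,225⟩,
   ⟨⟨0,-1,0,1,0,-1,2,-3⟩,1056,26,48⟩,
   ⟨⟨0,-1,0,1,0,-1,2,-1⟩,544,0,170⟩,
   ⟨⟨0,-1,0,1,0,1,-2,1⟩,544,0,202⟩,
   ⟨⟨0,-1,0,1,0,1,-2,3⟩,1056,26,80⟩,
   ⟨⟨0,-1,0,1,0,1,0,-1⟩,292,139,129⟩,
   ⟨⟨0,-1,0,1,0,1,0,1⟩,292,145,27⟩,
   ⟨⟨0,-1,0,1,0,1,2,-3⟩,1056,0,202⟩,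
   ⟨⟨0,-1,0,1,0,1,2,-1⟩,544,26,80⟩,
   ⟨⟨0,-1,0,1,2,-3,0,-1⟩,1056,26,0⟩,
   ⟨⟨0,-1,0,1,2,-3,0,1⟩,1056,0,154⟩,
   ⟨⟨0,-1,0,1,2,-1,-2,1⟩,796,139,177⟩,
   ⟨⟨0,-1,0,1,2,-1,0,-1⟩,544,0,250⟩,
   ⟨⟨0,-1,0,1,2,-1,0,1⟩,544,26,96⟩,
   ⟨⟨0,-1,0,1,2,-1,2,-1⟩,796,145,43⟩,
   ⟨⟨0,-1,2,-3,0,-1,0,-1⟩,1056,0,154⟩,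
   ⟨⟨0,-1,2,-3,0,-1,0,1⟩,1056,26,0⟩,
   ⟨⟨0,-1,2,-3,0,1,0,-1⟩,1056,26,96⟩,
   ⟨⟨0,-1,2,-3,0,1,0,1⟩,1056,0,250⟩,
   ⟨⟨0,-1,2,-1,-2,-1,-2,1⟩,1056,0,154⟩,
   ⟨⟨0,-1,2,-1,-2,-1,2,-1⟩,1056,26,0⟩,
   ⟨⟨0,-1,2,-1,-2,1,-2,-1⟩,1056,0,250⟩,
   ⟨⟨0,-1,2,-1,-2,1,0,-1⟩,796,145,43⟩,
   ⟨⟨0,-1,2,-1,-2,1,0,1⟩,796,139,177⟩,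
   ⟨⟨0,-1,2,-1,-2,1,2,1⟩,1056,26,96⟩,
   ⟨⟨0,-1,2,-1,0,-1,-2,1⟩,796,145,27⟩,
   ⟨⟨0,-1,2,-1,0,-1,0,-1⟩,544,26,80⟩,
   ⟨⟨0,-1,2,-1,0,-1,0,1⟩,544,0,202⟩,
   ⟨⟨0,-1,2,-1,0,-1,2,-1⟩,796,139,129⟩,
   ⟨⟨0,-1,2,-1,0,1,-2,1⟩,796,139,225⟩,
   ⟨⟨0,-1,2,-1,0,1,0,-1⟩,544,0,170⟩,
   ⟨⟨0,-1,2,-1,0,1,0,1⟩,544,26,48⟩,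
   ⟨⟨0,-1,2,-1,0,1,2,-1⟩,796,145,123⟩,
   ⟨⟨0,-1,2,-1,2,-1,-2,-1⟩,1056,26,0⟩,
   ⟨⟨0,-1,2,-1,2,-1,0,-1⟩,796,139,209⟩,
   ⟨⟨0,-1,2,-1,2,-1,0,1⟩,796,145,75⟩,
   ⟨⟨0,-1,2,-1,2,-1,2,1⟩,1056,0,154⟩,
   ⟨⟨0,-1,2,-1,2,1,-2,1⟩,1056,26,96⟩,
   ⟨⟨0,-1,2,-1,2,1,2,-1⟩,1056,0,250⟩,
   ⟨⟨0,-1,2,1,-2,1,-2,1⟩,1056,0,170⟩]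

def ekChunk31 : List EK :=
  [⟨⟨0,-1,2,1,-2,1,2,-1⟩,1056,26,48⟩,
   ⟨⟨0,-1,2,1,2,-1,-2,1⟩,1056,26,80⟩,
   ⟨⟨0,-1,2,1,2,-1,2,-1⟩,1056,0,202⟩,
   ⟨⟨0,1,-2,-1,-2,1,-2,1⟩,1056,0,202⟩,
   ⟨⟨0,1,-2,-1,-2,1,2,-1⟩,1056,26,80⟩,
   ⟨⟨0,1,-2,-1,2,-1,-2,1⟩,1056,26,48⟩,
   ⟨⟨0,1,-2,-1,2,-1,2,-1⟩,1056,0,170⟩,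
   ⟨⟨0,1,-2,1,-2,-1,-2,1⟩,1056,0,250⟩,
   ⟨⟨0,1,-2,1,-2,-1,2,-1⟩,1056,26,96⟩,
   ⟨⟨0,1,-2,1,-2,1,-2,-1⟩,1056,0,154⟩,
   ⟨⟨0,1,-2,1,-2,1,0,-1⟩,796,145,75⟩,
   ⟨⟨0,1,-2,1,-2,1,0,1⟩,796,139,209⟩,
   ⟨⟨0,1,-2,1,-2,1,2,1⟩,1056,26,0⟩,
   ⟨⟨0,1,-2,1,0,-1,-2,1⟩,796,145,123⟩,
   ⟨⟨0,1,-2,1,0,-1,0,-1⟩,544,26,48⟩,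
   ⟨⟨0,1,-2,1,0,-1,0,1⟩,544,0,170⟩,
   ⟨⟨0,1,-2,1,0,-1,2,-1⟩,796,139,225⟩,
   ⟨⟨0,1,-2,1,0,1,-2,1⟩,796,139,129⟩,
   ⟨⟨0,1,-2,1,0,1,0,-1⟩,544,0,202⟩,
   ⟨⟨0,1,-2,1,0,1,0,1⟩,544,26,80⟩,
   ⟨⟨0,1,-2,1,0,1,2,-1⟩,796,145,27⟩,
   ⟨⟨0,1,-2,1,2,-1,-2,-1⟩,1056,26,96⟩,
   ⟨⟨0,1,-2,1,2,-1,0,-1⟩,796,139,177⟩,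
   ⟨⟨0,1,-2,1,2,-1,0,1⟩,796,145,43⟩,
   ⟨⟨0,1,-2,1,2,-1,2,1⟩,1056,0,250⟩,
   ⟨⟨0,1,-2,1,2,1,-2,1⟩,1056,26,0⟩,
   ⟨⟨0,1,-2,1,2,1,2,-1⟩,1056,0,154⟩,
   ⟨⟨0,1,-2,3,0,-1,0,-1⟩,1056,0,250⟩,
   ⟨⟨0,1,-2,3,0,-1,0,1⟩,1056,26,96⟩,
   ⟨⟨0,1,-2,3,0,1,0,-1⟩,1056,26,0⟩,
   ⟨⟨0,1,-2,3,0,1,0,1⟩,1056,0,154⟩,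
   ⟨⟨0,1,0,-1,-2,1,-2,1⟩,796,145,43⟩,
   ⟨⟨0,1,0,-1,-2,1,0,-1⟩,544,26,96⟩,
   ⟨⟨0,1,0,-1,-2,1,0,1⟩,544,0,250⟩,
   ⟨⟨0,1,0,-1,-2,1,2,-1⟩,796,139,177⟩,
   ⟨⟨0,1,0,-1,-2,3,0,-1⟩,1056,0,154⟩,
   ⟨⟨0,1,0,-1,-2,3,0,1⟩,1056,26,0⟩,
   ⟨⟨0,1,0,-1,0,-1,-2,1⟩,544,26,80⟩,
   ⟨⟨0,1,0,-1,0,-1,-2,3⟩,1056,0,202⟩,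
   ⟨⟨0,1,0,-1,0,-1,0,-1⟩,292,145,27⟩,
   ⟨⟨0,1,0,-1,0,-1,0,1⟩,292,139,129⟩,
   ⟨⟨0,1,0,-1,0,-1,2,-3⟩,1056,26,80⟩,
   ⟨⟨0,1,0,-1,0,-1,2,-1⟩,544,0,202⟩,
   ⟨⟨0,1,0,-1,0,1,-2,1⟩,544,0,170⟩,
   ⟨⟨0,1,0,-1,0,1,-2,3⟩,1056,26,48⟩,
   ⟨⟨0,1,0,-1,0,1,0,-1⟩,292,139,225⟩,
   ⟨⟨0,1,0,-1,0,1,0,1⟩,292,145,123⟩,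
   ⟨⟨0,1,0,-1,0,1,2,-3⟩,1056,0,170⟩,
   ⟨⟨0,1,0,-1,0,1,2,-1⟩,544,26,48⟩,
   ⟨⟨0,1,0,-1,2,-3,0,-1⟩,1056,26,96⟩,
   ⟨⟨0,1,0,-1,2,-3,0,1⟩,1056,0,250⟩,
   ⟨⟨0,1,0,-1,2,-1,-2,1⟩,796,139,209⟩,
   ⟨⟨0,1,0,-1,2,-1,0,-1⟩,544,0,154⟩,
   ⟨⟨0,1,0,-1,2,-1,0,1⟩,544,26,0⟩,
   ⟨⟨0,1,0,-1,2,-1,2,-1⟩,796,145,75⟩,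
   ⟨⟨0,1,0,1,-2,1,-2,1⟩,796,139,225⟩,
   ⟨⟨0,1,0,1,-2,1,0,-1⟩,544,0,170⟩,
   ⟨⟨0,1,0,1,-2,1,0,1⟩,544,26,48⟩,
   ⟨⟨0,1,0,1,-2,1,2,-1⟩,796,145,123⟩,
   ⟨⟨0,1,0,1,-2,3,0,-1⟩,1056,26,80⟩,
   ⟨⟨0,1,0,1,-2,3,0,1⟩,1056,0,202⟩,
   ⟨⟨0,1,0,1,0,-1,-2,1⟩,544,0,154⟩,
   ⟨⟨0,1,0,1,0,-1,-2,3⟩,1056,26,0⟩,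
   ⟨⟨0,1,0,1,0,-1,0,-1⟩,292,139,209⟩,
   ⟨⟨0,1,0,1,0,-1,0,1⟩,292,145,75⟩,
   ⟨⟨0,1,0,1,0,-1,2,-3⟩,1056,0,154⟩,
   ⟨⟨0,1,0,1,0,-1,2,-1⟩,544,26,0⟩,
   ⟨⟨0,1,0,1,0,1,-2,1⟩,544,26,96⟩,
   ⟨⟨0,1,0,1,0,1,-2,3⟩,1056,0,250⟩,
   ⟨⟨0,1,0,1,0,1,0,-1⟩,292,145,43⟩,
   ⟨⟨0,1,0,1,0,1,0,1⟩,292,139,177⟩,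
   ⟨⟨0,1,0,1,0,1,2,-3⟩,1056,26,96⟩,
   ⟨⟨0,1,0,1,0,1,2,-1⟩,544,0,250⟩,
   ⟨⟨0,1,0,1,2,-3,0,-1⟩,1056,0,170⟩,
   ⟨⟨0,1,0,1,2,-3,0,1⟩,1056,26,48⟩,
   ⟨⟨0,1,0,1,2,-1,-2,1⟩,796,145,27⟩,
   ⟨⟨0,1,0,1,2,-1,0,-1⟩,544,26,80⟩,
   ⟨⟨0,1,0,1,2,-1,0,1⟩,544,0,202⟩,
   ⟨⟨0,1,0,1,2,-1,2,-1⟩,796,139,129⟩,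
   ⟨⟨0,1,2,-3,0,-1,0,-1⟩,1056,26,48⟩,
   ⟨⟨0,1,2,-3,0,-1,0,1⟩,1056,0,170⟩,
   ⟨⟨0,1,2,-3,0,1,0,-1⟩,1056,0,202⟩,
   ⟨⟨0,1,2,-3,0,1,0,1⟩,1056,26,80⟩,
   ⟨⟨0,1,2,-1,-2,-1,-2,1⟩,1056,26,48⟩,
   ⟨⟨0,1,2,-1,-2,-1,2,-1⟩,1056,0,170⟩,
   ⟨⟨0,1,2,-1,-2,1,-2,-1⟩,1056,26,80⟩,
   ⟨⟨0,1,2,-1,-2,1,0,-1⟩,796,139,129⟩,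
   ⟨⟨0,1,2,-1,-2,1,0,1⟩,796,145,27⟩,
   ⟨⟨0,1,2,-1,-2,1,2,1⟩,1056,0,202⟩,
   ⟨⟨0,1,2,-1,0,-1,-2,1⟩,796,139,177⟩,
   ⟨⟨0,1,2,-1,0,-1,0,-1⟩,544,0,250⟩,
   ⟨⟨0,1,2,-1,0,-1,0,1⟩,544,26,96⟩,
   ⟨⟨0,1,2,-1,0,-1,2,-1⟩,796,145,43⟩,
   ⟨⟨0,1,2,-1,0,1,-2,1⟩,796,145,75⟩,
   ⟨⟨0,1,2,-1,0,1,0,-1⟩,544,26,0⟩,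
   ⟨⟨0,1,2,-1,0,1,0,1⟩,544,0,154⟩,
   ⟨⟨0,1,2,-1,0,1,2,-1⟩,796,139,209⟩,
   ⟨⟨0,1,2,-1,2,-1,-2,-1⟩,1056,0,170⟩,
   ⟨⟨0,1,2,-1,2,-1,0,-1⟩,796,145,123⟩,
   ⟨⟨0,1,2,-1,2,-1,0,1⟩,796,139,225⟩,
   ⟨⟨0,1,2,-1,2,-1,2,1⟩,1056,26,48⟩,
   ⟨⟨0,1,2,-1,2,1,-2,1⟩,1056,0,202⟩,
   ⟨⟨0,1,2,-1,2,1,2,-1⟩,1056,26,80⟩,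
   ⟨⟨0,1,2,1,-2,1,-2,1⟩,1056,26,0⟩,
   ⟨⟨0,1,2,1,-2,1,2,-1⟩,1056,0,154⟩,
   ⟨⟨0,1,2,1,2,-1,-2,1⟩,1056,0,250⟩,
   ⟨⟨0,1,2,1,2,-1,2,-1⟩,1056,26,96⟩,
   ⟨⟨2,-3,0,-1,0,-1,0,-1⟩,1056,0,170⟩,
   ⟨⟨2,-3,0,-1,0,-1,0,1⟩,1056,26,48⟩,
   ⟨⟨2,-3,0,-1,0,1,0,-1⟩,1056,26,80⟩,
   ⟨⟨2,-3,0,-1,0,1,0,1⟩,1056,0,202⟩,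
   ⟨⟨2,-3,0,1,0,-1,0,-1⟩,1056,26,96⟩,
   ⟨⟨2,-3,0,1,0,-1,0,1⟩,1056,0,250⟩,
   ⟨⟨2,-3,0,1,0,1,0,-1⟩,1056,0,154⟩,
   ⟨⟨2,-3,0,1,0,1,0,1⟩,1056,26,0⟩,
   ⟨⟨2,-1,-2,-1,-2,1,0,-1⟩,1056,0,154⟩,
   ⟨⟨2,-1,-2,-1,-2,1,0,1⟩,1056,26,0⟩,
   ⟨⟨2,-1,-2,-1,0,-1,-2,1⟩,1056,0,170⟩,
   ⟨⟨2,-1,-2,-1,0,-1,2,-1⟩,1056,26,48⟩,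
   ⟨⟨2,-1,-2,-1,0,1,-2,1⟩,1056,26,80⟩,
   ⟨⟨2,-1,-2,-1,0,1,2,-1⟩,1056,0,202⟩,
   ⟨⟨2,-1,-2,-1,2,-1,0,-1⟩,1056,26,96⟩,
   ⟨⟨2,-1,-2,-1,2,-1,0,1⟩,1056,0,250⟩,
   ⟨⟨2,-1,-2,1,-2,-1,0,-1⟩,1056,0,170⟩,
   ⟨⟨2,-1,-2,1,-2,-1,0,1⟩,1056,26,48⟩,
   ⟨⟨2,-1,-2,1,0,-1,-2,-1⟩,1056,0,250⟩,
   ⟨⟨2,-1,-2,1,0,-1,0,-1⟩,796,145,43⟩,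
   ⟨⟨2,-1,-2,1,0,-1,0,1⟩,796,139,177⟩,
   ⟨⟨2,-1,-2,1,0,-1,2,1⟩,1056,26,96⟩,
   ⟨⟨2,-1,-2,1,0,1,-2,-1⟩,1056,26,0⟩]

def ekChunk32 : List EK :=
  [⟨⟨2,-1,-2,1,0,1,0,-1⟩,796,139,209⟩,
   ⟨⟨2,-1,-2,1,0,1,0,1⟩,796,145,75⟩,
   ⟨⟨2,-1,-2,1,0,1,2,1⟩,1056,0,154⟩,
   ⟨⟨2,-1,-2,1,2,1,0,-1⟩,1056,26,80⟩,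
   ⟨⟨2,-1,-2,1,2,1,0,1⟩,1056,0,202⟩,
   ⟨⟨2,-1,0,-1,-2,-1,-2,1⟩,1056,0,202⟩,
   ⟨⟨2,-1,0,-1,-2,-1,2,-1⟩,1056,26,80⟩,
   ⟨⟨2,-1,0,-1,-2,1,-2,-1⟩,1056,0,170⟩,
   ⟨⟨2,-1,0,-1,-2,1,0,-1⟩,796,145,123⟩,
   ⟨⟨2,-1,0,-1,-2,1,0,1⟩,796,139,225⟩,
   ⟨⟨2,-1,0,-1,-2,1,2,1⟩,1056,26,48⟩,
   ⟨⟨2,-1,0,-1,0,-1,-2,1⟩,796,145,75⟩,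
   ⟨⟨2,-1,0,-1,0,-1,0,-1⟩,544,26,0⟩,
   ⟨⟨2,-1,0,-1,0,-1,0,1⟩,544,0,154⟩,
   ⟨⟨2,-1,0,-1,0,-1,2,-1⟩,796,139,209⟩,
   ⟨⟨2,-1,0,-1,0,1,-2,1⟩,796,139,177⟩,
   ⟨⟨2,-1,0,-1,0,1,0,-1⟩,544,0,250⟩,
   ⟨⟨2,-1,0,-1,0,1,0,1⟩,544,26,96⟩,
   ⟨⟨2,-1,0,-1,0,1,2,-1⟩,796,145,43⟩,
   ⟨⟨2,-1,0,-1,2,-1,-2,-1⟩,1056,26,80⟩,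
   ⟨⟨2,-1,0,-1,2,-1,0,-1⟩,796,139,129⟩,
   ⟨⟨2,-1,0,-1,2,-1,0,1⟩,796,145,27⟩,
   ⟨⟨2,-1,0,-1,2,-1,2,1⟩,1056,0,202⟩,
   ⟨⟨2,-1,0,-1,2,1,-2,1⟩,1056,26,48⟩,
   ⟨⟨2,-1,0,-1,2,1,2,-1⟩,1056,0,170⟩,
   ⟨⟨2,-1,0,1,-2,-1,-2,1⟩,1056,26,0⟩,
   ⟨⟨2,-1,0,1,-2,-1,2,-1⟩,1056,0,154⟩,
   ⟨⟨2,-1,0,1,-2,1,-2,-1⟩,1056,26,96⟩,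
   ⟨⟨2,-1,0,1,-2,1,0,-1⟩,796,139,177⟩,
   ⟨⟨2,-1,0,1,-2,1,0,1⟩,796,145,43⟩,
   ⟨⟨2,-1,0,1,-2,1,2,1⟩,1056,0,250⟩,
   ⟨⟨2,-1,0,1,0,-1,-2,1⟩,796,139,129⟩,
   ⟨⟨2,-1,0,1,0,-1,0,-1⟩,544,0,202⟩,
   ⟨⟨2,-1,0,1,0,-1,0,1⟩,544,26,80⟩,
   ⟨⟨2,-1,0,1,0,-1,2,-1⟩,796,145,27⟩,
   ⟨⟨2,-1,0,1,0,1,-2,1⟩,796,145,123⟩,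
   ⟨⟨2,-1,0,1,0,1,0,-1⟩,544,26,48⟩,
   ⟨⟨2,-1,0,1,0,1,0,1⟩,544,0,170⟩,
   ⟨⟨2,-1,0,1,0,1,2,-1⟩,796,139,225⟩,
   ⟨⟨2,-1,0,1,2,-1,-2,-1⟩,1056,0,154⟩,
   ⟨⟨2,-1,0,1,2,-1,0,-1⟩,796,145,75⟩,
   ⟨⟨2,-1,0,1,2,-1,0,1⟩,796,139,209⟩,
   ⟨⟨2,-1,0,1,2,-1,2,1⟩,1056,26,0⟩,
   ⟨⟨2,-1,0,1,2,1,-2,1⟩,1056,0,250⟩,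
   ⟨⟨2,-1,0,1,2,1,2,-1⟩,1056,26,96⟩,
   ⟨⟨2,-1,2,-1,-2,-1,0,-1⟩,1056,26,96⟩,
   ⟨⟨2,-1,2,-1,-2,-1,0,1⟩,1056,0,250⟩,
   ⟨⟨2,-1,2,-1,0,-1,-2,-1⟩,1056,26,48⟩,
   ⟨⟨2,-1,2,-1,0,-1,0,-1⟩,796,139,225⟩,
   ⟨⟨2,-1,2,-1,0,-1,0,1⟩,796,145,123⟩,
   ⟨⟨2,-1,2,-1,0,-1,2,1⟩,1056,0,170⟩,
   ⟨⟨2,-1,2,-1,0,1,-2,-1⟩,1056,0,202⟩,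
   ⟨⟨2,-1,2,-1,0,1,0,-1⟩,796,145,27⟩,
   ⟨⟨2,-1,2,-1,0,1,0,1⟩,796,139,129⟩,
   ⟨⟨2,-1,2,-1,0,1,2,1⟩,1056,26,80⟩,
   ⟨⟨2,-1,2,-1,2,1,0,-1⟩,1056,0,154⟩,
   ⟨⟨2,-1,2,-1,2,1,0,1⟩,1056,26,0⟩,
   ⟨⟨2,-1,2,1,-2,1,0,-1⟩,1056,26,80⟩,
   ⟨⟨2,-1,2,1,-2,1,0,1⟩,1056,0,202⟩,
   ⟨⟨2,-1,2,1,0,-1,-2,1⟩,1056,26,96⟩,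
   ⟨⟨2,-1,2,1,0,-1,2,-1⟩,1056,0,250⟩,
   ⟨⟨2,-1,2,1,0,1,-2,1⟩,1056,0,154⟩,
   ⟨⟨2,-1,2,1,0,1,2,-1⟩,1056,26,0⟩,
   ⟨⟨2,-1,2,1,2,-1,0,-1⟩,1056,0,170⟩,
   ⟨⟨2,-1,2,1,2,-1,0,1⟩,1056,26,48⟩,
   ⟨⟨2,1,-2,1,-2,1,0,-1⟩,1056,0,250⟩,
   ⟨⟨2,1,-2,1,-2,1,0,1⟩,1056,26,96⟩,
   ⟨⟨2,1,-2,1,0,-1,-2,1⟩,1056,0,202⟩,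
   ⟨⟨2,1,-2,1,0,-1,2,-1⟩,1056,26,80⟩,
   ⟨⟨2,1,-2,1,0,1,-2,1⟩,1056,26,48⟩,
   ⟨⟨2,1,-2,1,0,1,2,-1⟩,1056,0,170⟩,
   ⟨⟨2,1,-2,1,2,-1,0,-1⟩,1056,26,0⟩,
   ⟨⟨2,1,-2,1,2,-1,0,1⟩,1056,0,154⟩,
   ⟨⟨2,1,0,-1,-2,1,-2,1⟩,1056,0,154⟩,
   ⟨⟨2,1,0,-1,-2,1,2,-1⟩,1056,26,0⟩,
   ⟨⟨2,1,0,-1,2,-1,-2,1⟩,1056,26,96⟩,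
   ⟨⟨2,1,0,-1,2,-1,2,-1⟩,1056,0,250⟩,
   ⟨⟨2,1,0,1,-2,1,-2,1⟩,1056,26,80⟩,
   ⟨⟨2,1,0,1,-2,1,2,-1⟩,1056,0,202⟩,
   ⟨⟨2,1,0,1,2,-1,-2,1⟩,1056,0,170⟩,
   ⟨⟨2,1,0,1,2,-1,2,-1⟩,1056,26,48⟩,
   ⟨⟨2,1,2,-1,-2,1,0,-1⟩,1056,26,48⟩,
   ⟨⟨2,1,2,-1,-2,1,0,1⟩,1056,0,170⟩,
   ⟨⟨2,1,2,-1,0,-1,-2,1⟩,1056,26,0⟩,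
   ⟨⟨2,1,2,-1,0,-1,2,-1⟩,1056,0,154⟩,
   ⟨⟨2,1,2,-1,0,1,-2,1⟩,1056,0,250⟩,
   ⟨⟨2,1,2,-1,0,1,2,-1⟩,1056,26,96⟩,
   ⟨⟨2,1,2,-1,2,-1,0,-1⟩,1056,0,202⟩,
   ⟨⟨2,1,2,-1,2,-1,0,1⟩,1056,26,80⟩,
   ⟨⟨-2,0,-3,0,-1,1,0,-1⟩,1056,157,225⟩,
   ⟨⟨-2,0,-3,0,-1,1,0,1⟩,1056,135,123⟩,
   ⟨⟨-2,0,-3,0,1,-1,0,-1⟩,1056,22,154⟩,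
   ⟨⟨-2,0,-3,0,1,-1,0,1⟩,1056,12,0⟩,
   ⟨⟨-2,0,-1,0,-1,-1,-2,1⟩,800,157,177⟩,
   ⟨⟨-2,0,-1,0,-1,-1,0,-1⟩,548,22,250⟩,
   ⟨⟨-2,0,-1,0,-1,-1,0,1⟩,548,12,96⟩,
   ⟨⟨-2,0,-1,0,-1,-1,2,-1⟩,800,135,43⟩,
   ⟨⟨-2,0,-1,0,-1,1,-2,1⟩,796,135,75⟩,
   ⟨⟨-2,0,-1,0,-1,1,0,-1⟩,544,12,0⟩,
   ⟨⟨-2,0,-1,0,-1,1,0,1⟩,544,22,154⟩,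
   ⟨⟨-2,0,-1,0,-1,1,2,-1⟩,796,157,209⟩,
   ⟨⟨-2,0,-1,0,1,-1,-2,1⟩,796,12,48⟩,
   ⟨⟨-2,0,-1,0,1,-1,0,-1⟩,544,135,123⟩,
   ⟨⟨-2,0,-1,0,1,-1,0,1⟩,544,157,225⟩,
   ⟨⟨-2,0,-1,0,1,-1,2,-1⟩,796,22,170⟩,
   ⟨⟨-2,0,-1,0,1,1,-2,1⟩,800,22,202⟩,
   ⟨⟨-2,0,-1,0,1,1,0,-1⟩,548,157,129⟩,
   ⟨⟨-2,0,-1,0,1,1,0,1⟩,548,135,27⟩,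
   ⟨⟨-2,0,-1,0,1,1,2,-1⟩,800,12,80⟩,
   ⟨⟨-2,0,-1,2,-1,-1,-2,1⟩,1056,135,123⟩,
   ⟨⟨-2,0,-1,2,-1,-1,2,-1⟩,1056,157,225⟩,
   ⟨⟨-2,0,-1,2,-1,1,0,-1⟩,800,22,202⟩,
   ⟨⟨-2,0,-1,2,-1,1,0,1⟩,800,12,80⟩,
   ⟨⟨-2,0,-1,2,1,-1,0,-1⟩,800,157,177⟩,
   ⟨⟨-2,0,-1,2,1,-1,0,1⟩,800,135,43⟩,
   ⟨⟨-2,0,-1,2,1,1,-2,1⟩,1056,12,0⟩,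
   ⟨⟨-2,0,-1,2,1,1,2,-1⟩,1056,22,154⟩,
   ⟨⟨-2,0,1,-2,-1,-1,-2,1⟩,1056,22,154⟩,
   ⟨⟨-2,0,1,-2,-1,-1,2,-1⟩,1056,12,0⟩,
   ⟨⟨-2,0,1,-2,-1,1,0,-1⟩,800,135,43⟩,
   ⟨⟨-2,0,1,-2,-1,1,0,1⟩,800,157,177⟩,
   ⟨⟨-2,0,1,-2,1,-1,0,-1⟩,800,12,80⟩,
   ⟨⟨-2,0,1,-2,1,-1,0,1⟩,800,22,202⟩,
   ⟨⟨-2,0,1,-2,1,1,-2,1⟩,1056,157,225⟩,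
   ⟨⟨-2,0,1,-2,1,1,2,-1⟩,1056,135,123⟩,
   ⟨⟨-2,0,1,0,-1,-1,-2,1⟩,800,12,80⟩,
   ⟨⟨-2,0,1,0,-1,-1,0,-1⟩,548,135,27⟩,
   ⟨⟨-2,0,1,0,-1,-1,0,1⟩,548,157,129⟩,
   ⟨⟨-2,0,1,0,-1,-1,2,-1⟩,800,22,202⟩,
   ⟨⟨-2,0,1,0,-1,1,-2,1⟩,796,22,170⟩]

def ekChunk33 : List EK :=
  [⟨⟨-2,0,1,0,-1,1,0,-1⟩,544,157,225⟩,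
   ⟨⟨-2,0,1,0,-1,1,0,1⟩,544,135,123⟩,
   ⟨⟨-2,0,1,0,-1,1,2,-1⟩,796,12,48⟩,
   ⟨⟨-2,0,1,0,1,-1,-2,1⟩,796,157,209⟩,
   ⟨⟨-2,0,1,0,1,-1,0,-1⟩,544,22,154⟩,
   ⟨⟨-2,0,1,0,1,-1,0,1⟩,544,12,0⟩,
   ⟨⟨-2,0,1,0,1,-1,2,-1⟩,796,135,75⟩,
   ⟨⟨-2,0,1,0,1,1,-2,1⟩,800,135,43⟩,
   ⟨⟨-2,0,1,0,1,1,0,-1⟩,548,12,96⟩,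
   ⟨⟨-2,0,1,0,1,1,0,1⟩,548,22,250⟩,
   ⟨⟨-2,0,1,0,1,1,2,-1⟩,800,157,177⟩,
   ⟨⟨-2,0,3,0,-1,1,0,-1⟩,1056,12,0⟩,
   ⟨⟨-2,0,3,0,-1,1,0,1⟩,1056,22,154⟩,
   ⟨⟨-2,0,3,0,1,-1,0,-1⟩,1056,135,123⟩,
   ⟨⟨-2,0,3,0,1,-1,0,1⟩,1056,157,225⟩,
   ⟨⟨-2,2,-1,0,-1,-1,0,-1⟩,800,12,80⟩,
   ⟨⟨-2,2,-1,0,-1,-1,0,1⟩,800,22,202⟩,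
   ⟨⟨-2,2,-1,0,-1,1,-2,-1⟩,1056,135,123⟩,
   ⟨⟨-2,2,-1,0,-1,1,0,-1⟩,796,22,170⟩,
   ⟨⟨-2,2,-1,0,-1,1,0,1⟩,796,12,48⟩,
   ⟨⟨-2,2,-1,0,-1,1,2,1⟩,1056,157,225⟩,
   ⟨⟨-2,2,-1,0,1,-1,-2,-1⟩,1056,12,0⟩,
   ⟨⟨-2,2,-1,0,1,-1,0,-1⟩,796,157,209⟩,
   ⟨⟨-2,2,-1,0,1,-1,0,1⟩,796,135,75⟩,
   ⟨⟨-2,2,-1,0,1,-1,2,1⟩,1056,22,154⟩,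
   ⟨⟨-2,2,-1,0,1,1,0,-1⟩,800,135,43⟩,
   ⟨⟨-2,2,-1,0,1,1,0,1⟩,800,157,177⟩,
   ⟨⟨-2,2,-1,2,-1,-1,0,-1⟩,1056,22,154⟩,
   ⟨⟨-2,2,-1,2,-1,-1,0,1⟩,1056,12,0⟩,
   ⟨⟨-2,2,-1,2,1,1,0,-1⟩,1056,157,225⟩,
   ⟨⟨-2,2,-1,2,1,1,0,1⟩,1056,135,123⟩,
   ⟨⟨-2,2,1,-2,-1,-1,0,-1⟩,1056,135,123⟩,
   ⟨⟨-2,2,1,-2,-1,-1,0,1⟩,1056,157,225⟩,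
   ⟨⟨-2,2,1,-2,1,1,0,-1⟩,1056,12,0⟩,
   ⟨⟨-2,2,1,-2,1,1,0,1⟩,1056,22,154⟩,
   ⟨⟨-2,2,1,0,-1,-1,0,-1⟩,800,157,177⟩,
   ⟨⟨-2,2,1,0,-1,-1,0,1⟩,800,135,43⟩,
   ⟨⟨-2,2,1,0,-1,1,-2,-1⟩,1056,22,154⟩,
   ⟨⟨-2,2,1,0,-1,1,0,-1⟩,796,135,75⟩,
   ⟨⟨-2,2,1,0,-1,1,0,1⟩,796,157,209⟩,
   ⟨⟨-2,2,1,0,-1,1,2,1⟩,1056,12,0⟩,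
   ⟨⟨-2,2,1,0,1,-1,-2,-1⟩,1056,157,225⟩,
   ⟨⟨-2,2,1,0,1,-1,0,-1⟩,796,12,48⟩,
   ⟨⟨-2,2,1,0,1,-1,0,1⟩,796,22,170⟩,
   ⟨⟨-2,2,1,0,1,-1,2,1⟩,1056,135,123⟩,
   ⟨⟨-2,2,1,0,1,1,0,-1⟩,800,22,202⟩,
   ⟨⟨-2,2,1,0,1,1,0,1⟩,800,12,80⟩,
   ⟨⟨0,-2,-1,0,-3,1,0,-1⟩,1056,22,154⟩,
   ⟨⟨0,-2,-1,0,-3,1,0,1⟩,1056,12,0⟩,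
   ⟨⟨0,-2,-1,0,-1,1,-2,1⟩,800,12,80⟩,
   ⟨⟨0,-2,-1,0,-1,1,0,-1⟩,548,135,27⟩,
   ⟨⟨0,-2,-1,0,-1,1,0,1⟩,548,157,129⟩,
   ⟨⟨0,-2,-1,0,-1,1,2,-1⟩,800,22,202⟩,
   ⟨⟨0,-2,-1,0,1,-1,-2,1⟩,800,135,43⟩,
   ⟨⟨0,-2,-1,0,1,-1,0,-1⟩,548,12,96⟩,
   ⟨⟨0,-2,-1,0,1,-1,0,1⟩,548,22,250⟩,
   ⟨⟨0,-2,-1,0,1,-1,2,-1⟩,800,157,177⟩,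
   ⟨⟨0,-2,-1,0,3,-1,0,-1⟩,1056,157,225⟩,
   ⟨⟨0,-2,-1,0,3,-1,0,1⟩,1056,135,123⟩,
   ⟨⟨0,-2,-1,2,-1,1,-2,1⟩,1056,22,154⟩,
   ⟨⟨0,-2,-1,2,-1,1,2,-1⟩,1056,12,0⟩,
   ⟨⟨0,-2,-1,2,1,-1,-2,1⟩,1056,157,225⟩,
   ⟨⟨0,-2,-1,2,1,-1,2,-1⟩,1056,135,123⟩,
   ⟨⟨0,-2,1,-2,-1,1,-2,1⟩,1056,135,123⟩,
   ⟨⟨0,-2,1,-2,-1,1,2,-1⟩,1056,157,225⟩,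
   ⟨⟨0,-2,1,-2,1,-1,-2,1⟩,1056,12,0⟩,
   ⟨⟨0,-2,1,-2,1,-1,2,-1⟩,1056,22,154⟩,
   ⟨⟨0,-2,1,0,-3,1,0,-1⟩,1056,135,123⟩,
   ⟨⟨0,-2,1,0,-3,1,0,1⟩,1056,157,225⟩,
   ⟨⟨0,-2,1,0,-1,1,-2,1⟩,800,157,177⟩,
   ⟨⟨0,-2,1,0,-1,1,0,-1⟩,548,22,250⟩,
   ⟨⟨0,-2,1,0,-1,1,0,1⟩,548,12,96⟩,
   ⟨⟨0,-2,1,0,-1,1,2,-1⟩,800,135,43⟩,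
   ⟨⟨0,-2,1,0,1,-1,-2,1⟩,800,22,202⟩,
   ⟨⟨0,-2,1,0,1,-1,0,-1⟩,548,157,129⟩,
   ⟨⟨0,-2,1,0,1,-1,0,1⟩,548,135,27⟩,
   ⟨⟨0,-2,1,0,1,-1,2,-1⟩,800,12,80⟩,
   ⟨⟨0,-2,1,0,3,-1,0,-1⟩,1056,12,0⟩,
   ⟨⟨0,-2,1,0,3,-1,0,1⟩,1056,22,154⟩,
   ⟨⟨0,0,-3,0,-1,-1,-2,1⟩,1056,157,225⟩,
   ⟨⟨0,0,-3,0,-1,-1,2,-1⟩,1056,135,123⟩,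
   ⟨⟨0,0,-3,0,-1,1,0,-1⟩,800,12,80⟩,
   ⟨⟨0,0,-3,0,-1,1,0,1⟩,800,22,202⟩,
   ⟨⟨0,0,-3,0,1,-1,0,-1⟩,800,135,43⟩,
   ⟨⟨0,0,-3,0,1,-1,0,1⟩,800,157,177⟩,
   ⟨⟨0,0,-3,0,1,1,-2,1⟩,1056,22,154⟩,
   ⟨⟨0,0,-3,0,1,1,2,-1⟩,1056,12,0⟩,
   ⟨⟨0,0,-1,0,-3,1,-2,-1⟩,1056,157,225⟩,
   ⟨⟨0,0,-1,0,-3,1,0,-1⟩,796,12,48⟩,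
   ⟨⟨0,0,-1,0,-3,1,0,1⟩,796,22,170⟩,
   ⟨⟨0,0,-1,0,-3,1,2,1⟩,1056,135,123⟩,
   ⟨⟨0,0,-1,0,-1,-1,-2,1⟩,544,12,0⟩,
   ⟨⟨0,0,-1,0,-1,-1,-2,3⟩,1056,22,154⟩,
   ⟨⟨0,0,-1,0,-1,-1,0,-1⟩,292,135,75⟩,
   ⟨⟨0,0,-1,0,-1,-1,0,1⟩,292,157,209⟩,
   ⟨⟨0,0,-1,0,-1,-1,2,-3⟩,1056,12,0⟩,
   ⟨⟨0,0,-1,0,-1,-1,2,-1⟩,544,22,154⟩,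
   ⟨⟨0,0,-1,0,-1,1,-2,-1⟩,548,12,96⟩,
   ⟨⟨0,0,-1,0,-1,1,-2,1⟩,540,22,250⟩,
   ⟨⟨0,0,-1,0,-1,1,0,-1⟩,288,157,177⟩,
   ⟨⟨0,0,-1,0,-1,1,0,1⟩,288,135,43⟩,
   ⟨⟨0,0,-1,0,-1,1,2,-1⟩,540,12,96⟩,
   ⟨⟨0,0,-1,0,-1,1,2,1⟩,548,22,250⟩,
   ⟨⟨0,0,-1,0,-1,3,-2,1⟩,1056,12,0⟩,
   ⟨⟨0,0,-1,0,-1,3,2,-1⟩,1056,22,154⟩,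
   ⟨⟨0,0,-1,0,1,-3,-2,1⟩,1056,135,123⟩,
   ⟨⟨0,0,-1,0,1,-3,2,-1⟩,1056,157,225⟩,
   ⟨⟨0,0,-1,0,1,-1,-2,-1⟩,548,135,27⟩,
   ⟨⟨0,0,-1,0,1,-1,-2,1⟩,540,157,129⟩,
   ⟨⟨0,0,-1,0,1,-1,0,-1⟩,288,22,202⟩,
   ⟨⟨0,0,-1,0,1,-1,0,1⟩,288,12,80⟩,
   ⟨⟨0,0,-1,0,1,-1,2,-1⟩,540,135,27⟩,
   ⟨⟨0,0,-1,0,1,-1,2,1⟩,548,157,129⟩,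
   ⟨⟨0,0,-1,0,1,1,-2,1⟩,544,135,123⟩,
   ⟨⟨0,0,-1,0,1,1,-2,3⟩,1056,157,225⟩,
   ⟨⟨0,0,-1,0,1,1,0,-1⟩,292,12,48⟩,
   ⟨⟨0,0,-1,0,1,1,0,1⟩,292,22,170⟩,
   ⟨⟨0,0,-1,0,1,1,2,-3⟩,1056,135,123⟩,
   ⟨⟨0,0,-1,0,1,1,2,-1⟩,544,157,225⟩,
   ⟨⟨0,0,-1,0,3,-1,-2,-1⟩,1056,22,154⟩,
   ⟨⟨0,0,-1,0,3,-1,0,-1⟩,796,135,75⟩,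
   ⟨⟨0,0,-1,0,3,-1,0,1⟩,796,157,209⟩,
   ⟨⟨0,0,-1,0,3,-1,2,1⟩,1056,12,0⟩,
   ⟨⟨0,0,-1,2,-1,-1,-2,1⟩,800,22,202⟩,
   ⟨⟨0,0,-1,2,-1,-1,0,-1⟩,548,157,129⟩,
   ⟨⟨0,0,-1,2,-1,-1,0,1⟩,548,135,27⟩,
   ⟨⟨0,0,-1,2,-1,-1,2,-1⟩,800,12,80⟩,
   ⟨⟨0,0,-1,2,-1,1,-2,1⟩,796,12,48⟩,
   ⟨⟨0,0,-1,2,-1,1,0,-1⟩,544,135,123⟩,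
   ⟨⟨0,0,-1,2,-1,1,0,1⟩,544,157,225⟩]

def ekChunk34 : List EK :=
  [⟨⟨0,0,-1,2,-1,1,2,-1⟩,796,22,170⟩,
   ⟨⟨0,0,-1,2,1,-1,-2,1⟩,796,135,75⟩,
   ⟨⟨0,0,-1,2,1,-1,0,-1⟩,544,12,0⟩,
   ⟨⟨0,0,-1,2,1,-1,0,1⟩,544,22,154⟩,
   ⟨⟨0,0,-1,2,1,-1,2,-1⟩,796,157,209⟩,
   ⟨⟨0,0,-1,2,1,1,-2,1⟩,800,157,177⟩,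
   ⟨⟨0,0,-1,2,1,1,0,-1⟩,548,22,250⟩,
   ⟨⟨0,0,-1,2,1,1,0,1⟩,548,12,96⟩,
   ⟨⟨0,0,-1,2,1,1,2,-1⟩,800,135,43⟩,
   ⟨⟨0,0,1,-2,-1,-1,-2,1⟩,800,135,43⟩,
   ⟨⟨0,0,1,-2,-1,-1,0,-1⟩,548,12,96⟩,
   ⟨⟨0,0,1,-2,-1,-1,0,1⟩,548,22,250⟩,
   ⟨⟨0,0,1,-2,-1,-1,2,-1⟩,800,157,177⟩,
   ⟨⟨0,0,1,-2,-1,1,-2,1⟩,796,157,209⟩,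
   ⟨⟨0,0,1,-2,-1,1,0,-1⟩,544,22,154⟩,
   ⟨⟨0,0,1,-2,-1,1,0,1⟩,544,12,0⟩,
   ⟨⟨0,0,1,-2,-1,1,2,-1⟩,796,135,75⟩,
   ⟨⟨0,0,1,-2,1,-1,-2,1⟩,796,22,170⟩,
   ⟨⟨0,0,1,-2,1,-1,0,-1⟩,544,157,225⟩,
   ⟨⟨0,0,1,-2,1,-1,0,1⟩,544,135,123⟩,
   ⟨⟨0,0,1,-2,1,-1,2,-1⟩,796,12,48⟩,
   ⟨⟨0,0,1,-2,1,1,-2,1⟩,800,12,80⟩,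
   ⟨⟨0,0,1,-2,1,1,0,-1⟩,548,135,27⟩,
   ⟨⟨0,0,1,-2,1,1,0,1⟩,548,157,129⟩,
   ⟨⟨0,0,1,-2,1,1,2,-1⟩,800,22,202⟩,
   ⟨⟨0,0,1,0,-3,1,-2,-1⟩,1056,12,0⟩,
   ⟨⟨0,0,1,0,-3,1,0,-1⟩,796,157,209⟩,
   ⟨⟨0,0,1,0,-3,1,0,1⟩,796,135,75⟩,
   ⟨⟨0,0,1,0,-3,1,2,1⟩,1056,22,154⟩,
   ⟨⟨0,0,1,0,-1,-1,-2,1⟩,544,157,225⟩,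
   ⟨⟨0,0,1,0,-1,-1,-2,3⟩,1056,135,123⟩,
   ⟨⟨0,0,1,0,-1,-1,0,-1⟩,292,22,170⟩,
   ⟨⟨0,0,1,0,-1,-1,0,1⟩,292,12,48⟩,
   ⟨⟨0,0,1,0,-1,-1,2,-3⟩,1056,157,225⟩,
   ⟨⟨0,0,1,0,-1,-1,2,-1⟩,544,135,123⟩,
   ⟨⟨0,0,1,0,-1,1,-2,-1⟩,548,157,129⟩,
   ⟨⟨0,0,1,0,-1,1,-2,1⟩,540,135,27⟩,
   ⟨⟨0,0,1,0,-1,1,0,-1⟩,288,12,80⟩,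
   ⟨⟨0,0,1,0,-1,1,0,1⟩,288,22,202⟩,
   ⟨⟨0,0,1,0,-1,1,2,-1⟩,540,157,129⟩,
   ⟨⟨0,0,1,0,-1,1,2,1⟩,548,135,27⟩,
   ⟨⟨0,0,1,0,-1,3,-2,1⟩,1056,157,225⟩,
   ⟨⟨0,0,1,0,-1,3,2,-1⟩,1056,135,123⟩,
   ⟨⟨0,0,1,0,1,-3,-2,1⟩,1056,22,154⟩,
   ⟨⟨0,0,1,0,1,-3,2,-1⟩,1056,12,0⟩,
   ⟨⟨0,0,1,0,1,-1,-2,-1⟩,548,22,250⟩,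
   ⟨⟨0,0,1,0,1,-1,-2,1⟩,540,12,96⟩,
   ⟨⟨0,0,1,0,1,-1,0,-1⟩,288,135,43⟩,
   ⟨⟨0,0,1,0,1,-1,0,1⟩,288,157,177⟩,
   ⟨⟨0,0,1,0,1,-1,2,-1⟩,540,22,250⟩,
   ⟨⟨0,0,1,0,1,-1,2,1⟩,548,12,96⟩,
   ⟨⟨0,0,1,0,1,1,-2,1⟩,544,22,154⟩,
   ⟨⟨0,0,1,0,1,1,-2,3⟩,1056,12,0⟩,
   ⟨⟨0,0,1,0,1,1,0,-1⟩,292,157,209⟩,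
   ⟨⟨0,0,1,0,1,1,0,1⟩,292,135,75⟩,
   ⟨⟨0,0,1,0,1,1,2,-3⟩,1056,22,154⟩,
   ⟨⟨0,0,1,0,1,1,2,-1⟩,544,12,0⟩,
   ⟨⟨0,0,1,0,3,-1,-2,-1⟩,1056,135,123⟩,
   ⟨⟨0,0,1,0,3,-1,0,-1⟩,796,22,170⟩,
   ⟨⟨0,0,1,0,3,-1,0,1⟩,796,12,48⟩,
   ⟨⟨0,0,1,0,3,-1,2,1⟩,1056,157,225⟩,
   ⟨⟨0,0,3,0,-1,-1,-2,1⟩,1056,12,0⟩,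
   ⟨⟨0,0,3,0,-1,-1,2,-1⟩,1056,22,154⟩,
   ⟨⟨0,0,3,0,-1,1,0,-1⟩,800,157,177⟩,
   ⟨⟨0,0,3,0,-1,1,0,1⟩,800,135,43⟩,
   ⟨⟨0,0,3,0,1,-1,0,-1⟩,800,22,202⟩,
   ⟨⟨0,0,3,0,1,-1,0,1⟩,800,12,80⟩,
   ⟨⟨0,0,3,0,1,1,-2,1⟩,1056,135,123⟩,
   ⟨⟨0,0,3,0,1,1,2,-1⟩,1056,157,225⟩,
   ⟨⟨0,2,-1,0,-3,1,0,-1⟩,1056,22,154⟩,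
   ⟨⟨0,2,-1,0,-3,1,0,1⟩,1056,12,0⟩,
   ⟨⟨0,2,-1,0,-1,1,-2,1⟩,800,12,80⟩,
   ⟨⟨0,2,-1,0,-1,1,0,-1⟩,548,135,27⟩,
   ⟨⟨0,2,-1,0,-1,1,0,1⟩,548,157,129⟩,
   ⟨⟨0,2,-1,0,-1,1,2,-1⟩,800,22,202⟩,
   ⟨⟨0,2,-1,0,1,-1,-2,1⟩,800,135,43⟩,
   ⟨⟨0,2,-1,0,1,-1,0,-1⟩,548,12,96⟩,
   ⟨⟨0,2,-1,0,1,-1,0,1⟩,548,22,250⟩,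
   ⟨⟨0,2,-1,0,1,-1,2,-1⟩,800,157,177⟩,
   ⟨⟨0,2,-1,0,3,-1,0,-1⟩,1056,157,225⟩,
   ⟨⟨0,2,-1,0,3,-1,0,1⟩,1056,135,123⟩,
   ⟨⟨0,2,-1,2,-1,1,-2,1⟩,1056,22,154⟩,
   ⟨⟨0,2,-1,2,-1,1,2,-1⟩,1056,12,0⟩,
   ⟨⟨0,2,-1,2,1,-1,-2,1⟩,1056,157,225⟩,
   ⟨⟨0,2,-1,2,1,-1,2,-1⟩,1056,135,123⟩,
   ⟨⟨0,2,1,-2,-1,1,-2,1⟩,1056,135,123⟩,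
   ⟨⟨0,2,1,-2,-1,1,2,-1⟩,1056,157,225⟩,
   ⟨⟨0,2,1,-2,1,-1,-2,1⟩,1056,12,0⟩,
   ⟨⟨0,2,1,-2,1,-1,2,-1⟩,1056,22,154⟩,
   ⟨⟨0,2,1,0,-3,1,0,-1⟩,1056,135,123⟩,
   ⟨⟨0,2,1,0,-3,1,0,1⟩,1056,157,225⟩,
   ⟨⟨0,2,1,0,-1,1,-2,1⟩,800,157,177⟩,
   ⟨⟨0,2,1,0,-1,1,0,-1⟩,548,22,250⟩,
   ⟨⟨0,2,1,0,-1,1,0,1⟩,548,12,96⟩,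
   ⟨⟨0,2,1,0,-1,1,2,-1⟩,800,135,43⟩,
   ⟨⟨0,2,1,0,1,-1,-2,1⟩,800,22,202⟩,
   ⟨⟨0,2,1,0,1,-1,0,-1⟩,548,157,129⟩,
   ⟨⟨0,2,1,0,1,-1,0,1⟩,548,135,27⟩,
   ⟨⟨0,2,1,0,1,-1,2,-1⟩,800,12,80⟩,
   ⟨⟨0,2,1,0,3,-1,0,-1⟩,1056,12,0⟩,
   ⟨⟨0,2,1,0,3,-1,0,1⟩,1056,22,154⟩,
   ⟨⟨2,-2,-1,0,-1,-1,0,-1⟩,800,12,80⟩,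
   ⟨⟨2,-2,-1,0,-1,-1,0,1⟩,800,22,202⟩,
   ⟨⟨2,-2,-1,0,-1,1,-2,-1⟩,1056,135,123⟩,
   ⟨⟨2,-2,-1,0,-1,1,0,-1⟩,796,22,170⟩,
   ⟨⟨2,-2,-1,0,-1,1,0,1⟩,796,12,48⟩,
   ⟨⟨2,-2,-1,0,-1,1,2,1⟩,1056,157,225⟩,
   ⟨⟨2,-2,-1,0,1,-1,-2,-1⟩,1056,12,0⟩,
   ⟨⟨2,-2,-1,0,1,-1,0,-1⟩,796,157,209⟩,
   ⟨⟨2,-2,-1,0,1,-1,0,1⟩,796,135,75⟩,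
   ⟨⟨2,-2,-1,0,1,-1,2,1⟩,1056,22,154⟩,
   ⟨⟨2,-2,-1,0,1,1,0,-1⟩,800,135,43⟩,
   ⟨⟨2,-2,-1,0,1,1,0,1⟩,800,157,177⟩,
   ⟨⟨2,-2,-1,2,-1,-1,0,-1⟩,1056,22,154⟩,
   ⟨⟨2,-2,-1,2,-1,-1,0,1⟩,1056,12,0⟩,
   ⟨⟨2,-2,-1,2,1,1,0,-1⟩,1056,157,225⟩,
   ⟨⟨2,-2,-1,2,1,1,0,1⟩,1056,135,123⟩,
   ⟨⟨2,-2,1,-2,-1,-1,0,-1⟩,1056,135,123⟩,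
   ⟨⟨2,-2,1,-2,-1,-1,0,1⟩,1056,157,225⟩,
   ⟨⟨2,-2,1,-2,1,1,0,-1⟩,1056,12,0⟩,
   ⟨⟨2,-2,1,-2,1,1,0,1⟩,1056,22,154⟩,
   ⟨⟨2,-2,1,0,-1,-1,0,-1⟩,800,157,177⟩,
   ⟨⟨2,-2,1,0,-1,-1,0,1⟩,800,135,43⟩,
   ⟨⟨2,-2,1,0,-1,1,-2,-1⟩,1056,22,154⟩,
   ⟨⟨2,-2,1,0,-1,1,0,-1⟩,796,135,75⟩,
   ⟨⟨2,-2,1,0,-1,1,0,1⟩,796,157,209⟩,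
   ⟨⟨2,-2,1,0,-1,1,2,1⟩,1056,12,0⟩,
   ⟨⟨2,-2,1,0,1,-1,-2,-1⟩,1056,157,225⟩,
   ⟨⟨2,-2,1,0,1,-1,0,-1⟩,796,12,48⟩,
   ⟨⟨2,-2,1,0,1,-1,0,1⟩,796,22,170⟩]

def ekChunk35 : List EK :=
  [⟨⟨2,-2,1,0,1,-1,2,1⟩,1056,135,123⟩,
   ⟨⟨2,-2,1,0,1,1,0,-1⟩,800,22,202⟩,
   ⟨⟨2,-2,1,0,1,1,0,1⟩,800,12,80⟩,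
   ⟨⟨2,0,-3,0,-1,1,0,-1⟩,1056,157,225⟩,
   ⟨⟨2,0,-3,0,-1,1,0,1⟩,1056,135,123⟩,
   ⟨⟨2,0,-3,0,1,-1,0,-1⟩,1056,22,154⟩,
   ⟨⟨2,0,-3,0,1,-1,0,1⟩,1056,12,0⟩,
   ⟨⟨2,0,-1,0,-1,-1,-2,1⟩,800,157,177⟩,
   ⟨⟨2,0,-1,0,-1,-1,0,-1⟩,548,22,250⟩,
   ⟨⟨2,0,-1,0,-1,-1,0,1⟩,548,12,96⟩,
   ⟨⟨2,0,-1,0,-1,-1,2,-1⟩,800,135,43⟩,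
   ⟨⟨2,0,-1,0,-1,1,-2,1⟩,796,135,75⟩,
   ⟨⟨2,0,-1,0,-1,1,0,-1⟩,544,12,0⟩,
   ⟨⟨2,0,-1,0,-1,1,0,1⟩,544,22,154⟩,
   ⟨⟨2,0,-1,0,-1,1,2,-1⟩,796,157,209⟩,
   ⟨⟨2,0,-1,0,1,-1,-2,1⟩,796,12,48⟩,
   ⟨⟨2,0,-1,0,1,-1,0,-1⟩,544,135,123⟩,
   ⟨⟨2,0,-1,0,1,-1,0,1⟩,544,157,225⟩,
   ⟨⟨2,0,-1,0,1,-1,2,-1⟩,796,22,170⟩,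
   ⟨⟨2,0,-1,0,1,1,-2,1⟩,800,22,202⟩,
   ⟨⟨2,0,-1,0,1,1,0,-1⟩,548,157,129⟩,
   ⟨⟨2,0,-1,0,1,1,0,1⟩,548,135,27⟩,
   ⟨⟨2,0,-1,0,1,1,2,-1⟩,800,12,80⟩,
   ⟨⟨2,0,-1,2,-1,-1,-2,1⟩,1056,135,123⟩,
   ⟨⟨2,0,-1,2,-1,-1,2,-1⟩,1056,157,225⟩,
   ⟨⟨2,0,-1,2,-1,1,0,-1⟩,800,22,202⟩,
   ⟨⟨2,0,-1,2,-1,1,0,1⟩,800,12,80⟩,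
   ⟨⟨2,0,-1,2,1,-1,0,-1⟩,800,157,177⟩,
   ⟨⟨2,0,-1,2,1,-1,0,1⟩,800,135,43⟩,
   ⟨⟨2,0,-1,2,1,1,-2,1⟩,1056,12,0⟩,
   ⟨⟨2,0,-1,2,1,1,2,-1⟩,1056,22,154⟩,
   ⟨⟨2,0,1,-2,-1,-1,-2,1⟩,1056,22,154⟩,
   ⟨⟨2,0,1,-2,-1,-1,2,-1⟩,1056,12,0⟩,
   ⟨⟨2,0,1,-2,-1,1,0,-1⟩,800,135,43⟩,
   ⟨⟨2,0,1,-2,-1,1,0,1⟩,800,157,177⟩,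
   ⟨⟨2,0,1,-2,1,-1,0,-1⟩,800,12,80⟩,
   ⟨⟨2,0,1,-2,1,-1,0,1⟩,800,22,202⟩,
   ⟨⟨2,0,1,-2,1,1,-2,1⟩,1056,157,225⟩,
   ⟨⟨2,0,1,-2,1,1,2,-1⟩,1056,135,123⟩,
   ⟨⟨2,0,1,0,-1,-1,-2,1⟩,800,12,80⟩,
   ⟨⟨2,0,1,0,-1,-1,0,-1⟩,548,135,27⟩,
   ⟨⟨2,0,1,0,-1,-1,0,1⟩,548,157,129⟩,
   ⟨⟨2,0,1,0,-1,-1,2,-1⟩,800,22,202⟩,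
   ⟨⟨2,0,1,0,-1,1,-2,1⟩,796,22,170⟩,
   ⟨⟨2,0,1,0,-1,1,0,-1⟩,544,157,225⟩,
   ⟨⟨2,0,1,0,-1,1,0,1⟩,544,135,123⟩,
   ⟨⟨2,0,1,0,-1,1,2,-1⟩,796,12,48⟩,
   ⟨⟨2,0,1,0,1,-1,-2,1⟩,796,157,209⟩,
   ⟨⟨2,0,1,0,1,-1,0,-1⟩,544,22,154⟩,
   ⟨⟨2,0,1,0,1,-1,0,1⟩,544,12,0⟩,
   ⟨⟨2,0,1,0,1,-1,2,-1⟩,796,135,75⟩,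
   ⟨⟨2,0,1,0,1,1,-2,1⟩,800,135,43⟩,
   ⟨⟨2,0,1,0,1,1,0,-1⟩,548,12,96⟩,
   ⟨⟨2,0,1,0,1,1,0,1⟩,548,22,250⟩,
   ⟨⟨2,0,1,0,1,1,2,-1⟩,800,157,177⟩,
   ⟨⟨2,0,3,0,-1,1,0,-1⟩,1056,12,0⟩,
   ⟨⟨2,0,3,0,-1,1,0,1⟩,1056,22,154⟩,
   ⟨⟨2,0,3,0,1,-1,0,-1⟩,1056,135,123⟩,
   ⟨⟨2,0,3,0,1,-1,0,1⟩,1056,157,225⟩,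
   ⟨⟨-2,-1,-1,0,-2,2,-1,1⟩,1056,36,170⟩,
   ⟨⟨-2,-1,-1,0,-2,2,1,-1⟩,1056,175,225⟩,
   ⟨⟨-2,-1,-1,0,0,0,-3,1⟩,1056,62,0⟩,
   ⟨⟨-2,-1,-1,0,0,0,-1,1⟩,548,175,209⟩,
   ⟨⟨-2,-1,-1,0,0,0,1,-1⟩,548,36,154⟩,
   ⟨⟨-2,-1,-1,0,0,0,3,-1⟩,1056,181,75⟩,
   ⟨⟨-2,-1,-1,0,2,-2,-1,1⟩,1056,36,170⟩,
   ⟨⟨-2,-1,-1,0,2,-2,1,-1⟩,1056,175,225⟩,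
   ⟨⟨-2,-1,1,0,-2,2,-1,1⟩,1056,181,75⟩,
   ⟨⟨-2,-1,1,0,-2,2,1,-1⟩,1056,62,0⟩,
   ⟨⟨-2,-1,1,0,0,0,-3,1⟩,1056,175,225⟩,
   ⟨⟨-2,-1,1,0,0,0,-1,1⟩,548,62,48⟩,
   ⟨⟨-2,-1,1,0,0,0,1,-1⟩,548,181,123⟩,
   ⟨⟨-2,-1,1,0,0,0,3,-1⟩,1056,36,170⟩,
   ⟨⟨-2,-1,1,0,2,-2,-1,1⟩,1056,181,75⟩,
   ⟨⟨-2,-1,1,0,2,-2,1,-1⟩,1056,62,0⟩,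
   ⟨⟨-2,1,-3,0,0,0,-1,-1⟩,1056,62,0⟩,
   ⟨⟨-2,1,-3,0,0,0,1,1⟩,1056,181,75⟩,
   ⟨⟨-2,1,-1,0,-2,0,-1,-1⟩,800,62,96⟩,
   ⟨⟨-2,1,-1,0,-2,0,-1,1⟩,796,36,250⟩,
   ⟨⟨-2,1,-1,0,-2,0,1,-1⟩,796,175,177⟩,
   ⟨⟨-2,1,-1,0,-2,0,1,1⟩,800,181,43⟩,
   ⟨⟨-2,1,-1,0,0,-2,-1,1⟩,800,175,129⟩,
   ⟨⟨-2,1,-1,0,0,-2,1,-1⟩,800,36,202⟩,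
   ⟨⟨-2,1,-1,0,0,0,-1,-1⟩,544,175,225⟩,
   ⟨⟨-2,1,-1,0,0,0,-1,1⟩,540,181,123⟩,
   ⟨⟨-2,1,-1,0,0,0,-1,3⟩,1056,175,225⟩,
   ⟨⟨-2,1,-1,0,0,0,1,-3⟩,1056,36,170⟩,
   ⟨⟨-2,1,-1,0,0,0,1,-1⟩,540,62,48⟩,
   ⟨⟨-2,1,-1,0,0,0,1,1⟩,544,36,170⟩,
   ⟨⟨-2,1,-1,0,0,2,-1,1⟩,800,175,129⟩,
   ⟨⟨-2,1,-1,0,0,2,1,-1⟩,800,36,202⟩,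
   ⟨⟨-2,1,-1,0,2,0,-1,-1⟩,800,62,96⟩,
   ⟨⟨-2,1,-1,0,2,0,-1,1⟩,796,36,250⟩,
   ⟨⟨-2,1,-1,0,2,0,1,-1⟩,796,175,177⟩,
   ⟨⟨-2,1,-1,0,2,0,1,1⟩,800,181,43⟩,
   ⟨⟨-2,1,-1,2,-2,0,-1,-1⟩,1056,36,170⟩,
   ⟨⟨-2,1,-1,2,-2,0,1,1⟩,1056,175,225⟩,
   ⟨⟨-2,1,-1,2,0,-2,-1,1⟩,1056,181,75⟩,
   ⟨⟨-2,1,-1,2,0,-2,1,-1⟩,1056,62,0⟩,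
   ⟨⟨-2,1,-1,2,0,0,-1,-1⟩,800,181,43⟩,
   ⟨⟨-2,1,-1,2,0,0,-1,1⟩,796,175,177⟩,
   ⟨⟨-2,1,-1,2,0,0,1,-1⟩,796,36,250⟩,
   ⟨⟨-2,1,-1,2,0,0,1,1⟩,800,62,96⟩,
   ⟨⟨-2,1,-1,2,0,2,-1,1⟩,1056,181,75⟩,
   ⟨⟨-2,1,-1,2,0,2,1,-1⟩,1056,62,0⟩,
   ⟨⟨-2,1,-1,2,2,0,-1,-1⟩,1056,36,170⟩,
   ⟨⟨-2,1,-1,2,2,0,1,1⟩,1056,175,225⟩,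
   ⟨⟨-2,1,1,-2,-2,0,-1,-1⟩,1056,181,75⟩,
   ⟨⟨-2,1,1,-2,-2,0,1,1⟩,1056,62,0⟩,
   ⟨⟨-2,1,1,-2,0,-2,-1,1⟩,1056,36,170⟩,
   ⟨⟨-2,1,1,-2,0,-2,1,-1⟩,1056,175,225⟩,
   ⟨⟨-2,1,1,-2,0,0,-1,-1⟩,800,36,202⟩,
   ⟨⟨-2,1,1,-2,0,0,-1,1⟩,796,62,80⟩,
   ⟨⟨-2,1,1,-2,0,0,1,-1⟩,796,181,27⟩,
   ⟨⟨-2,1,1,-2,0,0,1,1⟩,800,175,129⟩,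
   ⟨⟨-2,1,1,-2,0,2,-1,1⟩,1056,36,170⟩,
   ⟨⟨-2,1,1,-2,0,2,1,-1⟩,1056,175,225⟩,
   ⟨⟨-2,1,1,-2,2,0,-1,-1⟩,1056,181,75⟩,
   ⟨⟨-2,1,1,-2,2,0,1,1⟩,1056,62,0⟩,
   ⟨⟨-2,1,1,0,-2,0,-1,-1⟩,800,175,129⟩,
   ⟨⟨-2,1,1,0,-2,0,-1,1⟩,796,181,27⟩,
   ⟨⟨-2,1,1,0,-2,0,1,-1⟩,796,62,80⟩,
   ⟨⟨-2,1,1,0,-2,0,1,1⟩,800,36,202⟩,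
   ⟨⟨-2,1,1,0,0,-2,-1,1⟩,800,62,96⟩,
   ⟨⟨-2,1,1,0,0,-2,1,-1⟩,800,181,43⟩,
   ⟨⟨-2,1,1,0,0,0,-1,-1⟩,544,62,0⟩,
   ⟨⟨-2,1,1,0,0,0,-1,1⟩,540,36,154⟩,
   ⟨⟨-2,1,1,0,0,0,-1,3⟩,1056,62,0⟩,
   ⟨⟨-2,1,1,0,0,0,1,-3⟩,1056,181,75⟩,
   ⟨⟨-2,1,1,0,0,0,1,-1⟩,540,175,209⟩]

def ekChunk36 : List EK :=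
  [⟨⟨-2,1,1,0,0,0,1,1⟩,544,181,75⟩,
   ⟨⟨-2,1,1,0,0,2,-1,1⟩,800,62,96⟩,
   ⟨⟨-2,1,1,0,0,2,1,-1⟩,800,181,43⟩,
   ⟨⟨-2,1,1,0,2,0,-1,-1⟩,800,175,129⟩,
   ⟨⟨-2,1,1,0,2,0,-1,1⟩,796,181,27⟩,
   ⟨⟨-2,1,1,0,2,0,1,-1⟩,796,62,80⟩,
   ⟨⟨-2,1,1,0,2,0,1,1⟩,800,36,202⟩,
   ⟨⟨-2,1,3,0,0,0,-1,-1⟩,1056,175,225⟩,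
   ⟨⟨-2,1,3,0,0,0,1,1⟩,1056,36,170⟩,
   ⟨⟨-2,3,-1,0,0,0,-1,-1⟩,1056,181,75⟩,
   ⟨⟨-2,3,-1,0,0,0,1,1⟩,1056,62,0⟩,
   ⟨⟨-2,3,1,0,0,0,-1,-1⟩,1056,36,170⟩,
   ⟨⟨-2,3,1,0,0,0,1,1⟩,1056,175,225⟩,
   ⟨⟨0,-1,-3,0,-2,0,-1,1⟩,1056,62,0⟩,
   ⟨⟨0,-1,-3,0,-2,0,1,-1⟩,1056,181,75⟩,
   ⟨⟨0,-1,-3,0,0,0,-1,1⟩,800,175,129⟩,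
   ⟨⟨0,-1,-3,0,0,0,1,-1⟩,800,36,202⟩,
   ⟨⟨0,-1,-3,0,2,0,-1,1⟩,1056,62,0⟩,
   ⟨⟨0,-1,-3,0,2,0,1,-1⟩,1056,181,75⟩,
   ⟨⟨0,-1,-1,0,-2,0,-1,-1⟩,548,181,123⟩,
   ⟨⟨0,-1,-1,0,-2,0,-1,1⟩,544,175,225⟩,
   ⟨⟨0,-1,-1,0,-2,0,1,-1⟩,544,36,170⟩,
   ⟨⟨0,-1,-1,0,-2,0,1,1⟩,548,62,48⟩,
   ⟨⟨0,-1,-1,0,-2,2,-1,-1⟩,800,175,129⟩,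
   ⟨⟨0,-1,-1,0,-2,2,-1,1⟩,796,181,27⟩,
   ⟨⟨0,-1,-1,0,-2,2,1,-1⟩,796,62,80⟩,
   ⟨⟨0,-1,-1,0,-2,2,1,1⟩,800,36,202⟩,
   ⟨⟨0,-1,-1,0,0,-2,-3,1⟩,1056,181,75⟩,
   ⟨⟨0,-1,-1,0,0,-2,-1,1⟩,548,36,154⟩,
   ⟨⟨0,-1,-1,0,0,-2,1,-1⟩,548,175,209⟩,
   ⟨⟨0,-1,-1,0,0,-2,3,-1⟩,1056,62,0⟩,
   ⟨⟨0,-1,-1,0,0,0,-3,1⟩,796,175,177⟩,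
   ⟨⟨0,-1,-1,0,0,0,-1,-1⟩,292,36,250⟩,
   ⟨⟨0,-1,-1,0,0,0,-1,1⟩,288,62,96⟩,
   ⟨⟨0,-1,-1,0,0,0,1,-1⟩,288,181,43⟩,
   ⟨⟨0,-1,-1,0,0,0,1,1⟩,292,175,177⟩,
   ⟨⟨0,-1,-1,0,0,0,3,-1⟩,796,36,250⟩,
   ⟨⟨0,-1,-1,0,0,2,-3,1⟩,1056,181,75⟩,
   ⟨⟨0,-1,-1,0,0,2,-1,1⟩,548,36,154⟩,
   ⟨⟨0,-1,-1,0,0,2,1,-1⟩,548,175,209⟩,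
   ⟨⟨0,-1,-1,0,0,2,3,-1⟩,1056,62,0⟩,
   ⟨⟨0,-1,-1,0,2,-2,-1,-1⟩,800,175,129⟩,
   ⟨⟨0,-1,-1,0,2,-2,-1,1⟩,796,181,27⟩,
   ⟨⟨0,-1,-1,0,2,-2,1,-1⟩,796,62,80⟩,
   ⟨⟨0,-1,-1,0,2,-2,1,1⟩,800,36,202⟩,
   ⟨⟨0,-1,-1,0,2,0,-1,-1⟩,548,181,123⟩,
   ⟨⟨0,-1,-1,0,2,0,-1,1⟩,544,175,225⟩,
   ⟨⟨0,-1,-1,0,2,0,1,-1⟩,544,36,170⟩,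
   ⟨⟨0,-1,-1,0,2,0,1,1⟩,548,62,48⟩,
   ⟨⟨0,-1,-1,2,-2,0,-1,1⟩,800,181,43⟩,
   ⟨⟨0,-1,-1,2,-2,0,1,-1⟩,800,62,96⟩,
   ⟨⟨0,-1,-1,2,-2,2,-1,-1⟩,1056,181,75⟩,
   ⟨⟨0,-1,-1,2,-2,2,1,1⟩,1056,62,0⟩,
   ⟨⟨0,-1,-1,2,0,0,-1,-1⟩,548,62,48⟩,
   ⟨⟨0,-1,-1,2,0,0,-1,1⟩,544,36,170⟩,
   ⟨⟨0,-1,-1,2,0,0,1,-1⟩,544,175,225⟩,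
   ⟨⟨0,-1,-1,2,0,0,1,1⟩,548,181,123⟩,
   ⟨⟨0,-1,-1,2,2,-2,-1,-1⟩,1056,181,75⟩,
   ⟨⟨0,-1,-1,2,2,-2,1,1⟩,1056,62,0⟩,
   ⟨⟨0,-1,-1,2,2,0,-1,1⟩,800,181,43⟩,
   ⟨⟨0,-1,-1,2,2,0,1,-1⟩,800,62,96⟩,
   ⟨⟨0,-1,1,-2,-2,0,-1,1⟩,800,36,202⟩,
   ⟨⟨0,-1,1,-2,-2,0,1,-1⟩,800,175,129⟩,
   ⟨⟨0,-1,1,-2,-2,2,-1,-1⟩,1056,36,170⟩,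
   ⟨⟨0,-1,1,-2,-2,2,1,1⟩,1056,175,225⟩,
   ⟨⟨0,-1,1,-2,0,0,-1,-1⟩,548,175,209⟩,
   ⟨⟨0,-1,1,-2,0,0,-1,1⟩,544,181,75⟩,
   ⟨⟨0,-1,1,-2,0,0,1,-1⟩,544,62,0⟩,
   ⟨⟨0,-1,1,-2,0,0,1,1⟩,548,36,154⟩,
   ⟨⟨0,-1,1,-2,2,-2,-1,-1⟩,1056,36,170⟩,
   ⟨⟨0,-1,1,-2,2,-2,1,1⟩,1056,175,225⟩,
   ⟨⟨0,-1,1,-2,2,0,-1,1⟩,800,36,202⟩,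
   ⟨⟨0,-1,1,-2,2,0,1,-1⟩,800,175,129⟩,
   ⟨⟨0,-1,1,0,-2,0,-1,-1⟩,548,36,154⟩,
   ⟨⟨0,-1,1,0,-2,0,-1,1⟩,544,62,0⟩,
   ⟨⟨0,-1,1,0,-2,0,1,-1⟩,544,181,75⟩,
   ⟨⟨0,-1,1,0,-2,0,1,1⟩,548,175,209⟩,
   ⟨⟨0,-1,1,0,-2,2,-1,-1⟩,800,62,96⟩,
   ⟨⟨0,-1,1,0,-2,2,-1,1⟩,796,36,250⟩,
   ⟨⟨0,-1,1,0,-2,2,1,-1⟩,796,175,177⟩,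
   ⟨⟨0,-1,1,0,-2,2,1,1⟩,800,181,43⟩,
   ⟨⟨0,-1,1,0,0,-2,-3,1⟩,1056,36,170⟩,
   ⟨⟨0,-1,1,0,0,-2,-1,1⟩,548,181,123⟩,
   ⟨⟨0,-1,1,0,0,-2,1,-1⟩,548,62,48⟩,
   ⟨⟨0,-1,1,0,0,-2,3,-1⟩,1056,175,225⟩,
   ⟨⟨0,-1,1,0,0,0,-3,1⟩,796,62,80⟩,
   ⟨⟨0,-1,1,0,0,0,-1,-1⟩,292,181,27⟩,
   ⟨⟨0,-1,1,0,0,0,-1,1⟩,288,175,129⟩,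
   ⟨⟨0,-1,1,0,0,0,1,-1⟩,288,36,202⟩,
   ⟨⟨0,-1,1,0,0,0,1,1⟩,292,62,80⟩,
   ⟨⟨0,-1,1,0,0,0,3,-1⟩,796,181,27⟩,
   ⟨⟨0,-1,1,0,0,2,-3,1⟩,1056,36,170⟩,
   ⟨⟨0,-1,1,0,0,2,-1,1⟩,548,181,123⟩,
   ⟨⟨0,-1,1,0,0,2,1,-1⟩,548,62,48⟩,
   ⟨⟨0,-1,1,0,0,2,3,-1⟩,1056,175,225⟩,
   ⟨⟨0,-1,1,0,2,-2,-1,-1⟩,800,62,96⟩,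
   ⟨⟨0,-1,1,0,2,-2,-1,1⟩,796,36,250⟩,
   ⟨⟨0,-1,1,0,2,-2,1,-1⟩,796,175,177⟩,
   ⟨⟨0,-1,1,0,2,-2,1,1⟩,800,181,43⟩,
   ⟨⟨0,-1,1,0,2,0,-1,-1⟩,548,36,154⟩,
   ⟨⟨0,-1,1,0,2,0,-1,1⟩,544,62,0⟩,
   ⟨⟨0,-1,1,0,2,0,1,-1⟩,544,181,75⟩,
   ⟨⟨0,-1,1,0,2,0,1,1⟩,548,175,209⟩,
   ⟨⟨0,-1,3,0,-2,0,-1,1⟩,1056,175,225⟩,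
   ⟨⟨0,-1,3,0,-2,0,1,-1⟩,1056,36,170⟩,
   ⟨⟨0,-1,3,0,0,0,-1,1⟩,800,62,96⟩,
   ⟨⟨0,-1,3,0,0,0,1,-1⟩,800,181,43⟩,
   ⟨⟨0,-1,3,0,2,0,-1,1⟩,1056,175,225⟩,
   ⟨⟨0,-1,3,0,2,0,1,-1⟩,1056,36,170⟩,
   ⟨⟨0,1,-3,0,-2,0,-1,1⟩,1056,36,170⟩,
   ⟨⟨0,1,-3,0,-2,0,1,-1⟩,1056,175,225⟩,
   ⟨⟨0,1,-3,0,0,0,-1,1⟩,800,181,43⟩,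
   ⟨⟨0,1,-3,0,0,0,1,-1⟩,800,62,96⟩,
   ⟨⟨0,1,-3,0,2,0,-1,1⟩,1056,36,170⟩,
   ⟨⟨0,1,-3,0,2,0,1,-1⟩,1056,175,225⟩,
   ⟨⟨0,1,-1,0,-2,0,-1,-1⟩,548,175,209⟩,
   ⟨⟨0,1,-1,0,-2,0,-1,1⟩,544,181,75⟩,
   ⟨⟨0,1,-1,0,-2,0,1,-1⟩,544,62,0⟩,
   ⟨⟨0,1,-1,0,-2,0,1,1⟩,548,36,154⟩,
   ⟨⟨0,1,-1,0,-2,2,-1,-1⟩,800,181,43⟩,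
   ⟨⟨0,1,-1,0,-2,2,-1,1⟩,796,175,177⟩,
   ⟨⟨0,1,-1,0,-2,2,1,-1⟩,796,36,250⟩,
   ⟨⟨0,1,-1,0,-2,2,1,1⟩,800,62,96⟩,
   ⟨⟨0,1,-1,0,0,-2,-3,1⟩,1056,175,225⟩,
   ⟨⟨0,1,-1,0,0,-2,-1,1⟩,548,62,48⟩,
   ⟨⟨0,1,-1,0,0,-2,1,-1⟩,548,181,123⟩,
   ⟨⟨0,1,-1,0,0,-2,3,-1⟩,1056,36,170⟩,
   ⟨⟨0,1,-1,0,0,0,-3,1⟩,796,181,27⟩,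
   ⟨⟨0,1,-1,0,0,0,-1,-1⟩,292,62,80⟩,
   ⟨⟨0,1,-1,0,0,0,-1,1⟩,288,36,202⟩]

def ekChunk37 : List EK :=
  [⟨⟨0,1,-1,0,0,0,1,-1⟩,288,175,129⟩,
   ⟨⟨0,1,-1,0,0,0,1,1⟩,292,181,27⟩,
   ⟨⟨0,1,-1,0,0,0,3,-1⟩,796,62,80⟩,
   ⟨⟨0,1,-1,0,0,2,-3,1⟩,1056,175,225⟩,
   ⟨⟨0,1,-1,0,0,2,-1,1⟩,548,62,48⟩,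
   ⟨⟨0,1,-1,0,0,2,1,-1⟩,548,181,123⟩,
   ⟨⟨0,1,-1,0,0,2,3,-1⟩,1056,36,170⟩,
   ⟨⟨0,1,-1,0,2,-2,-1,-1⟩,800,181,43⟩,
   ⟨⟨0,1,-1,0,2,-2,-1,1⟩,796,175,177⟩,
   ⟨⟨0,1,-1,0,2,-2,1,-1⟩,796,36,250⟩,
   ⟨⟨0,1,-1,0,2,-2,1,1⟩,800,62,96⟩,
   ⟨⟨0,1,-1,0,2,0,-1,-1⟩,548,175,209⟩,
   ⟨⟨0,1,-1,0,2,0,-1,1⟩,544,181,75⟩,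
   ⟨⟨0,1,-1,0,2,0,1,-1⟩,544,62,0⟩,
   ⟨⟨0,1,-1,0,2,0,1,1⟩,548,36,154⟩,
   ⟨⟨0,1,-1,2,-2,0,-1,1⟩,800,175,129⟩,
   ⟨⟨0,1,-1,2,-2,0,1,-1⟩,800,36,202⟩,
   ⟨⟨0,1,-1,2,-2,2,-1,-1⟩,1056,175,225⟩,
   ⟨⟨0,1,-1,2,-2,2,1,1⟩,1056,36,170⟩,
   ⟨⟨0,1,-1,2,0,0,-1,-1⟩,548,36,154⟩,
   ⟨⟨0,1,-1,2,0,0,-1,1⟩,544,62,0⟩,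
   ⟨⟨0,1,-1,2,0,0,1,-1⟩,544,181,75⟩,
   ⟨⟨0,1,-1,2,0,0,1,1⟩,548,175,209⟩,
   ⟨⟨0,1,-1,2,2,-2,-1,-1⟩,1056,175,225⟩,
   ⟨⟨0,1,-1,2,2,-2,1,1⟩,1056,36,170⟩,
   ⟨⟨0,1,-1,2,2,0,-1,1⟩,800,175,129⟩,
   ⟨⟨0,1,-1,2,2,0,1,-1⟩,800,36,202⟩,
   ⟨⟨0,1,1,-2,-2,0,-1,1⟩,800,62,96⟩,
   ⟨⟨0,1,1,-2,-2,0,1,-1⟩,800,181,43⟩,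
   ⟨⟨0,1,1,-2,-2,2,-1,-1⟩,1056,62,0⟩,
   ⟨⟨0,1,1,-2,-2,2,1,1⟩,1056,181,75⟩,
   ⟨⟨0,1,1,-2,0,0,-1,-1⟩,548,181,123⟩,
   ⟨⟨0,1,1,-2,0,0,-1,1⟩,544,175,225⟩,
   ⟨⟨0,1,1,-2,0,0,1,-1⟩,544,36,170⟩,
   ⟨⟨0,1,1,-2,0,0,1,1⟩,548,62,48⟩,
   ⟨⟨0,1,1,-2,2,-2,-1,-1⟩,1056,62,0⟩,
   ⟨⟨0,1,1,-2,2,-2,1,1⟩,1056,181,75⟩,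
   ⟨⟨0,1,1,-2,2,0,-1,1⟩,800,62,96⟩,
   ⟨⟨0,1,1,-2,2,0,1,-1⟩,800,181,43⟩,
   ⟨⟨0,1,1,0,-2,0,-1,-1⟩,548,62,48⟩,
   ⟨⟨0,1,1,0,-2,0,-1,1⟩,544,36,170⟩,
   ⟨⟨0,1,1,0,-2,0,1,-1⟩,544,175,225⟩,
   ⟨⟨0,1,1,0,-2,0,1,1⟩,548,181,123⟩,
   ⟨⟨0,1,1,0,-2,2,-1,-1⟩,800,36,202⟩,
   ⟨⟨0,1,1,0,-2,2,-1,1⟩,796,62,80⟩,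
   ⟨⟨0,1,1,0,-2,2,1,-1⟩,796,181,27⟩,
   ⟨⟨0,1,1,0,-2,2,1,1⟩,800,175,129⟩,
   ⟨⟨0,1,1,0,0,-2,-3,1⟩,1056,62,0⟩,
   ⟨⟨0,1,1,0,0,-2,-1,1⟩,548,175,209⟩,
   ⟨⟨0,1,1,0,0,-2,1,-1⟩,548,36,154⟩,
   ⟨⟨0,1,1,0,0,-2,3,-1⟩,1056,181,75⟩,
   ⟨⟨0,1,1,0,0,0,-3,1⟩,796,36,250⟩,
   ⟨⟨0,1,1,0,0,0,-1,-1⟩,292,175,177⟩,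
   ⟨⟨0,1,1,0,0,0,-1,1⟩,288,181,43⟩,
   ⟨⟨0,1,1,0,0,0,1,-1⟩,288,62,96⟩,
   ⟨⟨0,1,1,0,0,0,1,1⟩,292,36,250⟩,
   ⟨⟨0,1,1,0,0,0,3,-1⟩,796,175,177⟩,
   ⟨⟨0,1,1,0,0,2,-3,1⟩,1056,62,0⟩,
   ⟨⟨0,1,1,0,0,2,-1,1⟩,548,175,209⟩,
   ⟨⟨0,1,1,0,0,2,1,-1⟩,548,36,154⟩,
   ⟨⟨0,1,1,0,0,2,3,-1⟩,1056,181,75⟩,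
   ⟨⟨0,1,1,0,2,-2,-1,-1⟩,800,36,202⟩,
   ⟨⟨0,1,1,0,2,-2,-1,1⟩,796,62,80⟩,
   ⟨⟨0,1,1,0,2,-2,1,-1⟩,796,181,27⟩,
   ⟨⟨0,1,1,0,2,-2,1,1⟩,800,175,129⟩,
   ⟨⟨0,1,1,0,2,0,-1,-1⟩,548,62,48⟩,
   ⟨⟨0,1,1,0,2,0,-1,1⟩,544,36,170⟩,
   ⟨⟨0,1,1,0,2,0,1,-1⟩,544,175,225⟩,
   ⟨⟨0,1,1,0,2,0,1,1⟩,548,181,123⟩,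
   ⟨⟨0,1,3,0,-2,0,-1,1⟩,1056,181,75⟩,
   ⟨⟨0,1,3,0,-2,0,1,-1⟩,1056,62,0⟩,
   ⟨⟨0,1,3,0,0,0,-1,1⟩,800,36,202⟩,
   ⟨⟨0,1,3,0,0,0,1,-1⟩,800,175,129⟩,
   ⟨⟨0,1,3,0,2,0,-1,1⟩,1056,181,75⟩,
   ⟨⟨0,1,3,0,2,0,1,-1⟩,1056,62,0⟩,
   ⟨⟨2,-3,-1,0,0,0,-1,-1⟩,1056,175,225⟩,
   ⟨⟨2,-3,-1,0,0,0,1,1⟩,1056,36,170⟩,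
   ⟨⟨2,-3,1,0,0,0,-1,-1⟩,1056,62,0⟩,
   ⟨⟨2,-3,1,0,0,0,1,1⟩,1056,181,75⟩,
   ⟨⟨2,-1,-3,0,0,0,-1,-1⟩,1056,36,170⟩,
   ⟨⟨2,-1,-3,0,0,0,1,1⟩,1056,175,225⟩,
   ⟨⟨2,-1,-1,0,-2,0,-1,-1⟩,800,36,202⟩,
   ⟨⟨2,-1,-1,0,-2,0,-1,1⟩,796,62,80⟩,
   ⟨⟨2,-1,-1,0,-2,0,1,-1⟩,796,181,27⟩,
   ⟨⟨2,-1,-1,0,-2,0,1,1⟩,800,175,129⟩,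
   ⟨⟨2,-1,-1,0,0,-2,-1,1⟩,800,181,43⟩,
   ⟨⟨2,-1,-1,0,0,-2,1,-1⟩,800,62,96⟩,
   ⟨⟨2,-1,-1,0,0,0,-1,-1⟩,544,181,75⟩,
   ⟨⟨2,-1,-1,0,0,0,-1,1⟩,540,175,209⟩,
   ⟨⟨2,-1,-1,0,0,0,-1,3⟩,1056,181,75⟩,
   ⟨⟨2,-1,-1,0,0,0,1,-3⟩,1056,62,0⟩,
   ⟨⟨2,-1,-1,0,0,0,1,-1⟩,540,36,154⟩,
   ⟨⟨2,-1,-1,0,0,0,1,1⟩,544,62,0⟩,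
   ⟨⟨2,-1,-1,0,0,2,-1,1⟩,800,181,43⟩,
   ⟨⟨2,-1,-1,0,0,2,1,-1⟩,800,62,96⟩,
   ⟨⟨2,-1,-1,0,2,0,-1,-1⟩,800,36,202⟩,
   ⟨⟨2,-1,-1,0,2,0,-1,1⟩,796,62,80⟩,
   ⟨⟨2,-1,-1,0,2,0,1,-1⟩,796,181,27⟩,
   ⟨⟨2,-1,-1,0,2,0,1,1⟩,800,175,129⟩,
   ⟨⟨2,-1,-1,2,-2,0,-1,-1⟩,1056,62,0⟩,
   ⟨⟨2,-1,-1,2,-2,0,1,1⟩,1056,181,75⟩,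
   ⟨⟨2,-1,-1,2,0,-2,-1,1⟩,1056,175,225⟩,
   ⟨⟨2,-1,-1,2,0,-2,1,-1⟩,1056,36,170⟩,
   ⟨⟨2,-1,-1,2,0,0,-1,-1⟩,800,175,129⟩,
   ⟨⟨2,-1,-1,2,0,0,-1,1⟩,796,181,27⟩,
   ⟨⟨2,-1,-1,2,0,0,1,-1⟩,796,62,80⟩,
   ⟨⟨2,-1,-1,2,0,0,1,1⟩,800,36,202⟩,
   ⟨⟨2,-1,-1,2,0,2,-1,1⟩,1056,175,225⟩,
   ⟨⟨2,-1,-1,2,0,2,1,-1⟩,1056,36,170⟩,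
   ⟨⟨2,-1,-1,2,2,0,-1,-1⟩,1056,62,0⟩,
   ⟨⟨2,-1,-1,2,2,0,1,1⟩,1056,181,75⟩,
   ⟨⟨2,-1,1,-2,-2,0,-1,-1⟩,1056,175,225⟩,
   ⟨⟨2,-1,1,-2,-2,0,1,1⟩,1056,36,170⟩,
   ⟨⟨2,-1,1,-2,0,-2,-1,1⟩,1056,62,0⟩,
   ⟨⟨2,-1,1,-2,0,-2,1,-1⟩,1056,181,75⟩,
   ⟨⟨2,-1,1,-2,0,0,-1,-1⟩,800,62,96⟩,
   ⟨⟨2,-1,1,-2,0,0,-1,1⟩,796,36,250⟩,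
   ⟨⟨2,-1,1,-2,0,0,1,-1⟩,796,175,177⟩,
   ⟨⟨2,-1,1,-2,0,0,1,1⟩,800,181,43⟩,
   ⟨⟨2,-1,1,-2,0,2,-1,1⟩,1056,62,0⟩,
   ⟨⟨2,-1,1,-2,0,2,1,-1⟩,1056,181,75⟩,
   ⟨⟨2,-1,1,-2,2,0,-1,-1⟩,1056,175,225⟩,
   ⟨⟨2,-1,1,-2,2,0,1,1⟩,1056,36,170⟩,
   ⟨⟨2,-1,1,0,-2,0,-1,-1⟩,800,181,43⟩,
   ⟨⟨2,-1,1,0,-2,0,-1,1⟩,796,175,177⟩,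
   ⟨⟨2,-1,1,0,-2,0,1,-1⟩,796,36,250⟩,
   ⟨⟨2,-1,1,0,-2,0,1,1⟩,800,62,96⟩,
   ⟨⟨2,-1,1,0,0,-2,-1,1⟩,800,36,202⟩,
   ⟨⟨2,-1,1,0,0,-2,1,-1⟩,800,175,129⟩,
   ⟨⟨2,-1,1,0,0,0,-1,-1⟩,544,36,170⟩]

def ekChunk38 : List EK :=
  [⟨⟨2,-1,1,0,0,0,-1,1⟩,540,62,48⟩,
   ⟨⟨2,-1,1,0,0,0,-1,3⟩,1056,36,170⟩,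
   ⟨⟨2,-1,1,0,0,0,1,-3⟩,1056,175,225⟩,
   ⟨⟨2,-1,1,0,0,0,1,-1⟩,540,181,123⟩,
   ⟨⟨2,-1,1,0,0,0,1,1⟩,544,175,225⟩,
   ⟨⟨2,-1,1,0,0,2,-1,1⟩,800,36,202⟩,
   ⟨⟨2,-1,1,0,0,2,1,-1⟩,800,175,129⟩,
   ⟨⟨2,-1,1,0,2,0,-1,-1⟩,800,181,43⟩,
   ⟨⟨2,-1,1,0,2,0,-1,1⟩,796,175,177⟩,
   ⟨⟨2,-1,1,0,2,0,1,-1⟩,796,36,250⟩,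
   ⟨⟨2,-1,1,0,2,0,1,1⟩,800,62,96⟩,
   ⟨⟨2,-1,3,0,0,0,-1,-1⟩,1056,181,75⟩,
   ⟨⟨2,-1,3,0,0,0,1,1⟩,1056,62,0⟩,
   ⟨⟨2,1,-1,0,-2,2,-1,1⟩,1056,62,0⟩,
   ⟨⟨2,1,-1,0,-2,2,1,-1⟩,1056,181,75⟩,
   ⟨⟨2,1,-1,0,0,0,-3,1⟩,1056,36,170⟩,
   ⟨⟨2,1,-1,0,0,0,-1,1⟩,548,181,123⟩,
   ⟨⟨2,1,-1,0,0,0,1,-1⟩,548,62,48⟩,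
   ⟨⟨2,1,-1,0,0,0,3,-1⟩,1056,175,225⟩,
   ⟨⟨2,1,-1,0,2,-2,-1,1⟩,1056,62,0⟩,
   ⟨⟨2,1,-1,0,2,-2,1,-1⟩,1056,181,75⟩,
   ⟨⟨2,1,1,0,-2,2,-1,1⟩,1056,175,225⟩,
   ⟨⟨2,1,1,0,-2,2,1,-1⟩,1056,36,170⟩,
   ⟨⟨2,1,1,0,0,0,-3,1⟩,1056,181,75⟩,
   ⟨⟨2,1,1,0,0,0,-1,1⟩,548,36,154⟩,
   ⟨⟨2,1,1,0,0,0,1,-1⟩,548,175,209⟩,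
   ⟨⟨2,1,1,0,0,0,3,-1⟩,1056,62,0⟩,
   ⟨⟨2,1,1,0,2,-2,-1,1⟩,1056,175,225⟩,
   ⟨⟨2,1,1,0,2,-2,1,-1⟩,1056,36,170⟩,
   ⟨⟨-2,0,-2,1,-1,0,-1,-1⟩,800,185,177⟩,
   ⟨⟨-2,0,-2,1,-1,0,-1,1⟩,796,163,43⟩,
   ⟨⟨-2,0,-2,1,-1,0,1,-1⟩,796,40,96⟩,
   ⟨⟨-2,0,-2,1,-1,0,1,1⟩,800,50,250⟩,
   ⟨⟨-2,0,-2,1,-1,2,-1,-1⟩,1056,163,75⟩,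
   ⟨⟨-2,0,-2,1,-1,2,1,1⟩,1056,40,0⟩,
   ⟨⟨-2,0,-2,1,1,-2,-1,-1⟩,1056,50,202⟩,
   ⟨⟨-2,0,-2,1,1,-2,1,1⟩,1056,185,129⟩,
   ⟨⟨-2,0,-2,1,1,0,-1,-1⟩,800,40,48⟩,
   ⟨⟨-2,0,-2,1,1,0,-1,1⟩,796,50,170⟩,
   ⟨⟨-2,0,-2,1,1,0,1,-1⟩,796,185,225⟩,
   ⟨⟨-2,0,-2,1,1,0,1,1⟩,800,163,123⟩,
   ⟨⟨-2,0,0,-1,-3,0,-1,1⟩,1056,185,129⟩,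
   ⟨⟨-2,0,0,-1,-3,0,1,-1⟩,1056,50,202⟩,
   ⟨⟨-2,0,0,-1,-1,0,-1,-1⟩,548,50,154⟩,
   ⟨⟨-2,0,0,-1,-1,0,-1,1⟩,544,40,0⟩,
   ⟨⟨-2,0,0,-1,-1,0,1,-1⟩,544,163,75⟩,
   ⟨⟨-2,0,0,-1,-1,0,1,1⟩,548,185,209⟩,
   ⟨⟨-2,0,0,-1,-1,2,-1,1⟩,800,50,250⟩,
   ⟨⟨-2,0,0,-1,-1,2,1,-1⟩,800,185,177⟩,
   ⟨⟨-2,0,0,-1,1,-2,-1,1⟩,800,163,123⟩,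
   ⟨⟨-2,0,0,-1,1,-2,1,-1⟩,800,40,48⟩,
   ⟨⟨-2,0,0,-1,1,0,-1,-1⟩,548,163,27⟩,
   ⟨⟨-2,0,0,-1,1,0,-1,1⟩,544,185,129⟩,
   ⟨⟨-2,0,0,-1,1,0,1,-1⟩,544,50,202⟩,
   ⟨⟨-2,0,0,-1,1,0,1,1⟩,548,40,80⟩,
   ⟨⟨-2,0,0,-1,3,0,-1,1⟩,1056,40,0⟩,
   ⟨⟨-2,0,0,-1,3,0,1,-1⟩,1056,163,75⟩,
   ⟨⟨-2,0,0,1,-3,0,-1,1⟩,1056,163,75⟩,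
   ⟨⟨-2,0,0,1,-3,0,1,-1⟩,1056,40,0⟩,
   ⟨⟨-2,0,0,1,-1,0,-1,-1⟩,548,40,80⟩,
   ⟨⟨-2,0,0,1,-1,0,-1,1⟩,544,50,202⟩,
   ⟨⟨-2,0,0,1,-1,0,1,-1⟩,544,185,129⟩,
   ⟨⟨-2,0,0,1,-1,0,1,1⟩,548,163,27⟩,
   ⟨⟨-2,0,0,1,-1,2,-1,1⟩,800,40,48⟩,
   ⟨⟨-2,0,0,1,-1,2,1,-1⟩,800,163,123⟩,
   ⟨⟨-2,0,0,1,1,-2,-1,1⟩,800,185,177⟩,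
   ⟨⟨-2,0,0,1,1,-2,1,-1⟩,800,50,250⟩,
   ⟨⟨-2,0,0,1,1,0,-1,-1⟩,548,185,209⟩,
   ⟨⟨-2,0,0,1,1,0,-1,1⟩,544,163,75⟩,
   ⟨⟨-2,0,0,1,1,0,1,-1⟩,544,40,0⟩,
   ⟨⟨-2,0,0,1,1,0,1,1⟩,548,50,154⟩,
   ⟨⟨-2,0,0,1,3,0,-1,1⟩,1056,50,202⟩,
   ⟨⟨-2,0,0,1,3,0,1,-1⟩,1056,185,129⟩,
   ⟨⟨-2,0,2,-1,-1,0,-1,-1⟩,800,163,123⟩,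
   ⟨⟨-2,0,2,-1,-1,0,-1,1⟩,796,185,225⟩,
   ⟨⟨-2,0,2,-1,-1,0,1,-1⟩,796,50,170⟩,
   ⟨⟨-2,0,2,-1,-1,0,1,1⟩,800,40,48⟩,
   ⟨⟨-2,0,2,-1,-1,2,-1,-1⟩,1056,185,129⟩,
   ⟨⟨-2,0,2,-1,-1,2,1,1⟩,1056,50,202⟩,
   ⟨⟨-2,0,2,-1,1,-2,-1,-1⟩,1056,40,0⟩,
   ⟨⟨-2,0,2,-1,1,-2,1,1⟩,1056,163,75⟩,
   ⟨⟨-2,0,2,-1,1,0,-1,-1⟩,800,50,250⟩,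
   ⟨⟨-2,0,2,-1,1,0,-1,1⟩,796,40,96⟩,
   ⟨⟨-2,0,2,-1,1,0,1,-1⟩,796,163,43⟩,
   ⟨⟨-2,0,2,-1,1,0,1,1⟩,800,185,177⟩,
   ⟨⟨-2,2,-2,-1,-1,0,-1,1⟩,1056,163,75⟩,
   ⟨⟨-2,2,-2,-1,-1,0,1,-1⟩,1056,40,0⟩,
   ⟨⟨-2,2,-2,-1,1,0,-1,1⟩,1056,50,202⟩,
   ⟨⟨-2,2,-2,-1,1,0,1,-1⟩,1056,185,129⟩,
   ⟨⟨-2,2,0,-1,-1,0,-1,-1⟩,800,40,48⟩,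
   ⟨⟨-2,2,0,-1,-1,0,-1,1⟩,796,50,170⟩,
   ⟨⟨-2,2,0,-1,-1,0,1,-1⟩,796,185,225⟩,
   ⟨⟨-2,2,0,-1,-1,0,1,1⟩,800,163,123⟩,
   ⟨⟨-2,2,0,-1,-1,2,-1,-1⟩,1056,50,202⟩,
   ⟨⟨-2,2,0,-1,-1,2,1,1⟩,1056,185,129⟩,
   ⟨⟨-2,2,0,-1,1,-2,-1,-1⟩,1056,163,75⟩,
   ⟨⟨-2,2,0,-1,1,-2,1,1⟩,1056,40,0⟩,
   ⟨⟨-2,2,0,-1,1,0,-1,-1⟩,800,185,177⟩,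
   ⟨⟨-2,2,0,-1,1,0,-1,1⟩,796,163,43⟩,
   ⟨⟨-2,2,0,-1,1,0,1,-1⟩,796,40,96⟩,
   ⟨⟨-2,2,0,-1,1,0,1,1⟩,800,50,250⟩,
   ⟨⟨-2,2,0,1,-1,0,-1,-1⟩,800,50,250⟩,
   ⟨⟨-2,2,0,1,-1,0,-1,1⟩,796,40,96⟩,
   ⟨⟨-2,2,0,1,-1,0,1,-1⟩,796,163,43⟩,
   ⟨⟨-2,2,0,1,-1,0,1,1⟩,800,185,177⟩,
   ⟨⟨-2,2,0,1,-1,2,-1,-1⟩,1056,40,0⟩,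
   ⟨⟨-2,2,0,1,-1,2,1,1⟩,1056,163,75⟩,
   ⟨⟨-2,2,0,1,1,-2,-1,-1⟩,1056,185,129⟩,
   ⟨⟨-2,2,0,1,1,-2,1,1⟩,1056,50,202⟩,
   ⟨⟨-2,2,0,1,1,0,-1,-1⟩,800,163,123⟩,
   ⟨⟨-2,2,0,1,1,0,-1,1⟩,796,185,225⟩,
   ⟨⟨-2,2,0,1,1,0,1,-1⟩,796,50,170⟩,
   ⟨⟨-2,2,0,1,1,0,1,1⟩,800,40,48⟩,
   ⟨⟨-2,2,2,1,-1,0,-1,1⟩,1056,185,129⟩,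
   ⟨⟨-2,2,2,1,-1,0,1,-1⟩,1056,50,202⟩,
   ⟨⟨-2,2,2,1,1,0,-1,1⟩,1056,40,0⟩,
   ⟨⟨-2,2,2,1,1,0,1,-1⟩,1056,163,75⟩,
   ⟨⟨0,-2,-2,1,-1,0,-1,1⟩,800,40,48⟩,
   ⟨⟨0,-2,-2,1,-1,0,1,-1⟩,800,163,123⟩,
   ⟨⟨0,-2,-2,1,-1,2,-1,1⟩,1056,50,202⟩,
   ⟨⟨0,-2,-2,1,-1,2,1,-1⟩,1056,185,129⟩,
   ⟨⟨0,-2,-2,1,1,-2,-1,1⟩,1056,163,75⟩,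
   ⟨⟨0,-2,-2,1,1,-2,1,-1⟩,1056,40,0⟩,
   ⟨⟨0,-2,-2,1,1,0,-1,1⟩,800,185,177⟩,
   ⟨⟨0,-2,-2,1,1,0,1,-1⟩,800,50,250⟩,
   ⟨⟨0,-2,0,-1,-1,0,-3,1⟩,1056,50,202⟩,
   ⟨⟨0,-2,0,-1,-1,0,-1,1⟩,548,163,27⟩,
   ⟨⟨0,-2,0,-1,-1,0,1,-1⟩,548,40,80⟩,
   ⟨⟨0,-2,0,-1,-1,0,3,-1⟩,1056,185,129⟩,
   ⟨⟨0,-2,0,-1,1,0,-3,1⟩,1056,163,75⟩]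

def ekChunk39 : List EK :=
  [⟨⟨0,-2,0,-1,1,0,-1,1⟩,548,50,154⟩,
   ⟨⟨0,-2,0,-1,1,0,1,-1⟩,548,185,209⟩,
   ⟨⟨0,-2,0,-1,1,0,3,-1⟩,1056,40,0⟩,
   ⟨⟨0,-2,0,1,-1,0,-3,1⟩,1056,40,0⟩,
   ⟨⟨0,-2,0,1,-1,0,-1,1⟩,548,185,209⟩,
   ⟨⟨0,-2,0,1,-1,0,1,-1⟩,548,50,154⟩,
   ⟨⟨0,-2,0,1,-1,0,3,-1⟩,1056,163,75⟩,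
   ⟨⟨0,-2,0,1,1,0,-3,1⟩,1056,185,129⟩,
   ⟨⟨0,-2,0,1,1,0,-1,1⟩,548,40,80⟩,
   ⟨⟨0,-2,0,1,1,0,1,-1⟩,548,163,27⟩,
   ⟨⟨0,-2,0,1,1,0,3,-1⟩,1056,50,202⟩,
   ⟨⟨0,-2,2,-1,-1,0,-1,1⟩,800,50,250⟩,
   ⟨⟨0,-2,2,-1,-1,0,1,-1⟩,800,185,177⟩,
   ⟨⟨0,-2,2,-1,-1,2,-1,1⟩,1056,40,0⟩,
   ⟨⟨0,-2,2,-1,-1,2,1,-1⟩,1056,163,75⟩,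
   ⟨⟨0,-2,2,-1,1,-2,-1,1⟩,1056,185,129⟩,
   ⟨⟨0,-2,2,-1,1,-2,1,-1⟩,1056,50,202⟩,
   ⟨⟨0,-2,2,-1,1,0,-1,1⟩,800,163,123⟩,
   ⟨⟨0,-2,2,-1,1,0,1,-1⟩,800,40,48⟩,
   ⟨⟨0,0,-2,-1,-1,0,-3,1⟩,1056,185,129⟩,
   ⟨⟨0,0,-2,-1,-1,0,-1,1⟩,548,40,80⟩,
   ⟨⟨0,0,-2,-1,-1,0,1,-1⟩,548,163,27⟩,
   ⟨⟨0,0,-2,-1,-1,0,3,-1⟩,1056,50,202⟩,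
   ⟨⟨0,0,-2,-1,1,0,-3,1⟩,1056,40,0⟩,
   ⟨⟨0,0,-2,-1,1,0,-1,1⟩,548,185,209⟩,
   ⟨⟨0,0,-2,-1,1,0,1,-1⟩,548,50,154⟩,
   ⟨⟨0,0,-2,-1,1,0,3,-1⟩,1056,163,75⟩,
   ⟨⟨0,0,-2,1,-3,0,-1,-1⟩,1056,185,129⟩,
   ⟨⟨0,0,-2,1,-3,0,1,1⟩,1056,50,202⟩,
   ⟨⟨0,0,-2,1,-1,0,-1,-1⟩,544,40,0⟩,
   ⟨⟨0,0,-2,1,-1,0,-1,1⟩,540,50,154⟩,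
   ⟨⟨0,0,-2,1,-1,0,-1,3⟩,1056,40,0⟩,
   ⟨⟨0,0,-2,1,-1,0,1,-3⟩,1056,163,75⟩,
   ⟨⟨0,0,-2,1,-1,0,1,-1⟩,540,185,209⟩,
   ⟨⟨0,0,-2,1,-1,0,1,1⟩,544,163,75⟩,
   ⟨⟨0,0,-2,1,-1,2,-1,-1⟩,800,50,250⟩,
   ⟨⟨0,0,-2,1,-1,2,-1,1⟩,796,40,96⟩,
   ⟨⟨0,0,-2,1,-1,2,1,-1⟩,796,163,43⟩,
   ⟨⟨0,0,-2,1,-1,2,1,1⟩,800,185,177⟩,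
   ⟨⟨0,0,-2,1,1,-2,-1,-1⟩,800,163,123⟩,
   ⟨⟨0,0,-2,1,1,-2,-1,1⟩,796,185,225⟩,
   ⟨⟨0,0,-2,1,1,-2,1,-1⟩,796,50,170⟩,
   ⟨⟨0,0,-2,1,1,-2,1,1⟩,800,40,48⟩,
   ⟨⟨0,0,-2,1,1,0,-1,-1⟩,544,185,129⟩,
   ⟨⟨0,0,-2,1,1,0,-1,1⟩,540,163,27⟩,
   ⟨⟨0,0,-2,1,1,0,-1,3⟩,1056,185,129⟩,
   ⟨⟨0,0,-2,1,1,0,1,-3⟩,1056,50,202⟩,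
   ⟨⟨0,0,-2,1,1,0,1,-1⟩,540,40,80⟩,
   ⟨⟨0,0,-2,1,1,0,1,1⟩,544,50,202⟩,
   ⟨⟨0,0,-2,1,3,0,-1,-1⟩,1056,40,0⟩,
   ⟨⟨0,0,-2,1,3,0,1,1⟩,1056,163,75⟩,
   ⟨⟨0,0,-2,3,-1,0,-1,-1⟩,1056,50,202⟩,
   ⟨⟨0,0,-2,3,-1,0,1,1⟩,1056,185,129⟩,
   ⟨⟨0,0,-2,3,1,0,-1,-1⟩,1056,163,75⟩,
   ⟨⟨0,0,-2,3,1,0,1,1⟩,1056,40,0⟩,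
   ⟨⟨0,0,0,-1,-3,0,-1,1⟩,800,40,48⟩,
   ⟨⟨0,0,0,-1,-3,0,1,-1⟩,800,163,123⟩,
   ⟨⟨0,0,0,-1,-1,0,-3,1⟩,796,40,96⟩,
   ⟨⟨0,0,0,-1,-1,0,-1,-1⟩,292,163,43⟩,
   ⟨⟨0,0,0,-1,-1,0,-1,1⟩,288,185,177⟩,
   ⟨⟨0,0,0,-1,-1,0,1,-1⟩,288,50,250⟩,
   ⟨⟨0,0,0,-1,-1,0,1,1⟩,292,40,96⟩,
   ⟨⟨0,0,0,-1,-1,0,3,-1⟩,796,163,43⟩,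
   ⟨⟨0,0,0,-1,-1,2,-1,-1⟩,548,185,209⟩,
   ⟨⟨0,0,0,-1,-1,2,-1,1⟩,544,163,75⟩,
   ⟨⟨0,0,0,-1,-1,2,1,-1⟩,544,40,0⟩,
   ⟨⟨0,0,0,-1,-1,2,1,1⟩,548,50,154⟩,
   ⟨⟨0,0,0,-1,1,-2,-1,-1⟩,548,40,80⟩,
   ⟨⟨0,0,0,-1,1,-2,-1,1⟩,544,50,202⟩,
   ⟨⟨0,0,0,-1,1,-2,1,-1⟩,544,185,129⟩,
   ⟨⟨0,0,0,-1,1,-2,1,1⟩,548,163,27⟩,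
   ⟨⟨0,0,0,-1,1,0,-3,1⟩,796,185,225⟩,
   ⟨⟨0,0,0,-1,1,0,-1,-1⟩,292,50,170⟩,
   ⟨⟨0,0,0,-1,1,0,-1,1⟩,288,40,48⟩,
   ⟨⟨0,0,0,-1,1,0,1,-1⟩,288,163,123⟩,
   ⟨⟨0,0,0,-1,1,0,1,1⟩,292,185,225⟩,
   ⟨⟨0,0,0,-1,1,0,3,-1⟩,796,50,170⟩,
   ⟨⟨0,0,0,-1,3,0,-1,1⟩,800,185,177⟩,
   ⟨⟨0,0,0,-1,3,0,1,-1⟩,800,50,250⟩,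
   ⟨⟨0,0,0,1,-3,0,-1,1⟩,800,50,250⟩,
   ⟨⟨0,0,0,1,-3,0,1,-1⟩,800,185,177⟩,
   ⟨⟨0,0,0,1,-1,0,-3,1⟩,796,50,170⟩,
   ⟨⟨0,0,0,1,-1,0,-1,-1⟩,292,185,225⟩,
   ⟨⟨0,0,0,1,-1,0,-1,1⟩,288,163,123⟩,
   ⟨⟨0,0,0,1,-1,0,1,-1⟩,288,40,48⟩,
   ⟨⟨0,0,0,1,-1,0,1,1⟩,292,50,170⟩,
   ⟨⟨0,0,0,1,-1,0,3,-1⟩,796,185,225⟩,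
   ⟨⟨0,0,0,1,-1,2,-1,-1⟩,548,163,27⟩,
   ⟨⟨0,0,0,1,-1,2,-1,1⟩,544,185,129⟩,
   ⟨⟨0,0,0,1,-1,2,1,-1⟩,544,50,202⟩,
   ⟨⟨0,0,0,1,-1,2,1,1⟩,548,40,80⟩,
   ⟨⟨0,0,0,1,1,-2,-1,-1⟩,548,50,154⟩,
   ⟨⟨0,0,0,1,1,-2,-1,1⟩,544,40,0⟩,
   ⟨⟨0,0,0,1,1,-2,1,-1⟩,544,163,75⟩,
   ⟨⟨0,0,0,1,1,-2,1,1⟩,548,185,209⟩,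
   ⟨⟨0,0,0,1,1,0,-3,1⟩,796,163,43⟩,
   ⟨⟨0,0,0,1,1,0,-1,-1⟩,292,40,96⟩,
   ⟨⟨0,0,0,1,1,0,-1,1⟩,288,50,250⟩,
   ⟨⟨0,0,0,1,1,0,1,-1⟩,288,185,177⟩,
   ⟨⟨0,0,0,1,1,0,1,1⟩,292,163,43⟩,
   ⟨⟨0,0,0,1,1,0,3,-1⟩,796,40,96⟩,
   ⟨⟨0,0,0,1,3,0,-1,1⟩,800,163,123⟩,
   ⟨⟨0,0,0,1,3,0,1,-1⟩,800,40,48⟩,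
   ⟨⟨0,0,2,-3,-1,0,-1,-1⟩,1056,40,0⟩,
   ⟨⟨0,0,2,-3,-1,0,1,1⟩,1056,163,75⟩,
   ⟨⟨0,0,2,-3,1,0,-1,-1⟩,1056,185,129⟩,
   ⟨⟨0,0,2,-3,1,0,1,1⟩,1056,50,202⟩,
   ⟨⟨0,0,2,-1,-3,0,-1,-1⟩,1056,163,75⟩,
   ⟨⟨0,0,2,-1,-3,0,1,1⟩,1056,40,0⟩,
   ⟨⟨0,0,2,-1,-1,0,-1,-1⟩,544,50,202⟩,
   ⟨⟨0,0,2,-1,-1,0,-1,1⟩,540,40,80⟩,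
   ⟨⟨0,0,2,-1,-1,0,-1,3⟩,1056,50,202⟩,
   ⟨⟨0,0,2,-1,-1,0,1,-3⟩,1056,185,129⟩,
   ⟨⟨0,0,2,-1,-1,0,1,-1⟩,540,163,27⟩,
   ⟨⟨0,0,2,-1,-1,0,1,1⟩,544,185,129⟩,
   ⟨⟨0,0,2,-1,-1,2,-1,-1⟩,800,40,48⟩,
   ⟨⟨0,0,2,-1,-1,2,-1,1⟩,796,50,170⟩,
   ⟨⟨0,0,2,-1,-1,2,1,-1⟩,796,185,225⟩,
   ⟨⟨0,0,2,-1,-1,2,1,1⟩,800,163,123⟩,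
   ⟨⟨0,0,2,-1,1,-2,-1,-1⟩,800,185,177⟩,
   ⟨⟨0,0,2,-1,1,-2,-1,1⟩,796,163,43⟩,
   ⟨⟨0,0,2,-1,1,-2,1,-1⟩,796,40,96⟩,
   ⟨⟨0,0,2,-1,1,-2,1,1⟩,800,50,250⟩,
   ⟨⟨0,0,2,-1,1,0,-1,-1⟩,544,163,75⟩,
   ⟨⟨0,0,2,-1,1,0,-1,1⟩,540,185,209⟩,
   ⟨⟨0,0,2,-1,1,0,-1,3⟩,1056,163,75⟩,
   ⟨⟨0,0,2,-1,1,0,1,-3⟩,1056,40,0⟩,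
   ⟨⟨0,0,2,-1,1,0,1,-1⟩,540,50,154⟩,
   ⟨⟨0,0,2,-1,1,0,1,1⟩,544,40,0⟩,
   ⟨⟨0,0,2,-1,3,0,-1,-1⟩,1056,50,202⟩]

def ekChunk40 : List EK :=
  [⟨⟨0,0,2,-1,3,0,1,1⟩,1056,185,129⟩,
   ⟨⟨0,0,2,1,-1,0,-3,1⟩,1056,163,75⟩,
   ⟨⟨0,0,2,1,-1,0,-1,1⟩,548,50,154⟩,
   ⟨⟨0,0,2,1,-1,0,1,-1⟩,548,185,209⟩,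
   ⟨⟨0,0,2,1,-1,0,3,-1⟩,1056,40,0⟩,
   ⟨⟨0,0,2,1,1,0,-3,1⟩,1056,50,202⟩,
   ⟨⟨0,0,2,1,1,0,-1,1⟩,548,163,27⟩,
   ⟨⟨0,0,2,1,1,0,1,-1⟩,548,40,80⟩,
   ⟨⟨0,0,2,1,1,0,3,-1⟩,1056,185,129⟩,
   ⟨⟨0,2,-2,1,-1,0,-1,1⟩,800,40,48⟩,
   ⟨⟨0,2,-2,1,-1,0,1,-1⟩,800,163,123⟩,
   ⟨⟨0,2,-2,1,-1,2,-1,1⟩,1056,50,202⟩,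
   ⟨⟨0,2,-2,1,-1,2,1,-1⟩,1056,185,129⟩,
   ⟨⟨0,2,-2,1,1,-2,-1,1⟩,1056,163,75⟩,
   ⟨⟨0,2,-2,1,1,-2,1,-1⟩,1056,40,0⟩,
   ⟨⟨0,2,-2,1,1,0,-1,1⟩,800,185,177⟩,
   ⟨⟨0,2,-2,1,1,0,1,-1⟩,800,50,250⟩,
   ⟨⟨0,2,0,-1,-1,0,-3,1⟩,1056,50,202⟩,
   ⟨⟨0,2,0,-1,-1,0,-1,1⟩,548,163,27⟩,
   ⟨⟨0,2,0,-1,-1,0,1,-1⟩,548,40,80⟩,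
   ⟨⟨0,2,0,-1,-1,0,3,-1⟩,1056,185,129⟩,
   ⟨⟨0,2,0,-1,1,0,-3,1⟩,1056,163,75⟩,
   ⟨⟨0,2,0,-1,1,0,-1,1⟩,548,50,154⟩,
   ⟨⟨0,2,0,-1,1,0,1,-1⟩,548,185,209⟩,
   ⟨⟨0,2,0,-1,1,0,3,-1⟩,1056,40,0⟩,
   ⟨⟨0,2,0,1,-1,0,-3,1⟩,1056,40,0⟩,
   ⟨⟨0,2,0,1,-1,0,-1,1⟩,548,185,209⟩,
   ⟨⟨0,2,0,1,-1,0,1,-1⟩,548,50,154⟩,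
   ⟨⟨0,2,0,1,-1,0,3,-1⟩,1056,163,75⟩,
   ⟨⟨0,2,0,1,1,0,-3,1⟩,1056,185,129⟩,
   ⟨⟨0,2,0,1,1,0,-1,1⟩,548,40,80⟩,
   ⟨⟨0,2,0,1,1,0,1,-1⟩,548,163,27⟩,
   ⟨⟨0,2,0,1,1,0,3,-1⟩,1056,50,202⟩,
   ⟨⟨0,2,2,-1,-1,0,-1,1⟩,800,50,250⟩,
   ⟨⟨0,2,2,-1,-1,0,1,-1⟩,800,185,177⟩,
   ⟨⟨0,2,2,-1,-1,2,-1,1⟩,1056,40,0⟩,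
   ⟨⟨0,2,2,-1,-1,2,1,-1⟩,1056,163,75⟩,
   ⟨⟨0,2,2,-1,1,-2,-1,1⟩,1056,185,129⟩,
   ⟨⟨0,2,2,-1,1,-2,1,-1⟩,1056,50,202⟩,
   ⟨⟨0,2,2,-1,1,0,-1,1⟩,800,163,123⟩,
   ⟨⟨0,2,2,-1,1,0,1,-1⟩,800,40,48⟩,
   ⟨⟨2,-2,-2,-1,-1,0,-1,1⟩,1056,163,75⟩,
   ⟨⟨2,-2,-2,-1,-1,0,1,-1⟩,1056,40,0⟩,
   ⟨⟨2,-2,-2,-1,1,0,-1,1⟩,1056,50,202⟩,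
   ⟨⟨2,-2,-2,-1,1,0,1,-1⟩,1056,185,129⟩,
   ⟨⟨2,-2,0,-1,-1,0,-1,-1⟩,800,40,48⟩,
   ⟨⟨2,-2,0,-1,-1,0,-1,1⟩,796,50,170⟩,
   ⟨⟨2,-2,0,-1,-1,0,1,-1⟩,796,185,225⟩,
   ⟨⟨2,-2,0,-1,-1,0,1,1⟩,800,163,123⟩,
   ⟨⟨2,-2,0,-1,-1,2,-1,-1⟩,1056,50,202⟩,
   ⟨⟨2,-2,0,-1,-1,2,1,1⟩,1056,185,129⟩,
   ⟨⟨2,-2,0,-1,1,-2,-1,-1⟩,1056,163,75⟩,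
   ⟨⟨2,-2,0,-1,1,-2,1,1⟩,1056,40,0⟩,
   ⟨⟨2,-2,0,-1,1,0,-1,-1⟩,800,185,177⟩,
   ⟨⟨2,-2,0,-1,1,0,-1,1⟩,796,163,43⟩,
   ⟨⟨2,-2,0,-1,1,0,1,-1⟩,796,40,96⟩,
   ⟨⟨2,-2,0,-1,1,0,1,1⟩,800,50,250⟩,
   ⟨⟨2,-2,0,1,-1,0,-1,-1⟩,800,50,250⟩,
   ⟨⟨2,-2,0,1,-1,0,-1,1⟩,796,40,96⟩,
   ⟨⟨2,-2,0,1,-1,0,1,-1⟩,796,163,43⟩,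
   ⟨⟨2,-2,0,1,-1,0,1,1⟩,800,185,177⟩,
   ⟨⟨2,-2,0,1,-1,2,-1,-1⟩,1056,40,0⟩,
   ⟨⟨2,-2,0,1,-1,2,1,1⟩,1056,163,75⟩,
   ⟨⟨2,-2,0,1,1,-2,-1,-1⟩,1056,185,129⟩,
   ⟨⟨2,-2,0,1,1,-2,1,1⟩,1056,50,202⟩,
   ⟨⟨2,-2,0,1,1,0,-1,-1⟩,800,163,123⟩,
   ⟨⟨2,-2,0,1,1,0,-1,1⟩,796,185,225⟩,
   ⟨⟨2,-2,0,1,1,0,1,-1⟩,796,50,170⟩,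
   ⟨⟨2,-2,0,1,1,0,1,1⟩,800,40,48⟩,
   ⟨⟨2,-2,2,1,-1,0,-1,1⟩,1056,185,129⟩,
   ⟨⟨2,-2,2,1,-1,0,1,-1⟩,1056,50,202⟩,
   ⟨⟨2,-2,2,1,1,0,-1,1⟩,1056,40,0⟩,
   ⟨⟨2,-2,2,1,1,0,1,-1⟩,1056,163,75⟩,
   ⟨⟨2,0,-2,1,-1,0,-1,-1⟩,800,185,177⟩,
   ⟨⟨2,0,-2,1,-1,0,-1,1⟩,796,163,43⟩,
   ⟨⟨2,0,-2,1,-1,0,1,-1⟩,796,40,96⟩,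
   ⟨⟨2,0,-2,1,-1,0,1,1⟩,800,50,250⟩,
   ⟨⟨2,0,-2,1,-1,2,-1,-1⟩,1056,163,75⟩,
   ⟨⟨2,0,-2,1,-1,2,1,1⟩,1056,40,0⟩,
   ⟨⟨2,0,-2,1,1,-2,-1,-1⟩,1056,50,202⟩,
   ⟨⟨2,0,-2,1,1,-2,1,1⟩,1056,185,129⟩,
   ⟨⟨2,0,-2,1,1,0,-1,-1⟩,800,40,48⟩,
   ⟨⟨2,0,-2,1,1,0,-1,1⟩,796,50,170⟩,
   ⟨⟨2,0,-2,1,1,0,1,-1⟩,796,185,225⟩,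
   ⟨⟨2,0,-2,1,1,0,1,1⟩,800,163,123⟩,
   ⟨⟨2,0,0,-1,-3,0,-1,1⟩,1056,185,129⟩,
   ⟨⟨2,0,0,-1,-3,0,1,-1⟩,1056,50,202⟩,
   ⟨⟨2,0,0,-1,-1,0,-1,-1⟩,548,50,154⟩,
   ⟨⟨2,0,0,-1,-1,0,-1,1⟩,544,40,0⟩,
   ⟨⟨2,0,0,-1,-1,0,1,-1⟩,544,163,75⟩,
   ⟨⟨2,0,0,-1,-1,0,1,1⟩,548,185,209⟩,
   ⟨⟨2,0,0,-1,-1,2,-1,1⟩,800,50,250⟩,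
   ⟨⟨2,0,0,-1,-1,2,1,-1⟩,800,185,177⟩,
   ⟨⟨2,0,0,-1,1,-2,-1,1⟩,800,163,123⟩,
   ⟨⟨2,0,0,-1,1,-2,1,-1⟩,800,40,48⟩,
   ⟨⟨2,0,0,-1,1,0,-1,-1⟩,548,163,27⟩,
   ⟨⟨2,0,0,-1,1,0,-1,1⟩,544,185,129⟩,
   ⟨⟨2,0,0,-1,1,0,1,-1⟩,544,50,202⟩,
   ⟨⟨2,0,0,-1,1,0,1,1⟩,548,40,80⟩,
   ⟨⟨2,0,0,-1,3,0,-1,1⟩,1056,40,0⟩,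
   ⟨⟨2,0,0,-1,3,0,1,-1⟩,1056,163,75⟩,
   ⟨⟨2,0,0,1,-3,0,-1,1⟩,1056,163,75⟩,
   ⟨⟨2,0,0,1,-3,0,1,-1⟩,1056,40,0⟩,
   ⟨⟨2,0,0,1,-1,0,-1,-1⟩,548,40,80⟩,
   ⟨⟨2,0,0,1,-1,0,-1,1⟩,544,50,202⟩,
   ⟨⟨2,0,0,1,-1,0,1,-1⟩,544,185,129⟩,
   ⟨⟨2,0,0,1,-1,0,1,1⟩,548,163,27⟩,
   ⟨⟨2,0,0,1,-1,2,-1,1⟩,800,40,48⟩,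
   ⟨⟨2,0,0,1,-1,2,1,-1⟩,800,163,123⟩,
   ⟨⟨2,0,0,1,1,-2,-1,1⟩,800,185,177⟩,
   ⟨⟨2,0,0,1,1,-2,1,-1⟩,800,50,250⟩,
   ⟨⟨2,0,0,1,1,0,-1,-1⟩,548,185,209⟩,
   ⟨⟨2,0,0,1,1,0,-1,1⟩,544,163,75⟩,
   ⟨⟨2,0,0,1,1,0,1,-1⟩,544,40,0⟩,
   ⟨⟨2,0,0,1,1,0,1,1⟩,548,50,154⟩,
   ⟨⟨2,0,0,1,3,0,-1,1⟩,1056,50,202⟩,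
   ⟨⟨2,0,0,1,3,0,1,-1⟩,1056,185,129⟩,
   ⟨⟨2,0,2,-1,-1,0,-1,-1⟩,800,163,123⟩,
   ⟨⟨2,0,2,-1,-1,0,-1,1⟩,796,185,225⟩,
   ⟨⟨2,0,2,-1,-1,0,1,-1⟩,796,50,170⟩,
   ⟨⟨2,0,2,-1,-1,0,1,1⟩,800,40,48⟩,
   ⟨⟨2,0,2,-1,-1,2,-1,-1⟩,1056,185,129⟩,
   ⟨⟨2,0,2,-1,-1,2,1,1⟩,1056,50,202⟩,
   ⟨⟨2,0,2,-1,1,-2,-1,-1⟩,1056,40,0⟩,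
   ⟨⟨2,0,2,-1,1,-2,1,1⟩,1056,163,75⟩,
   ⟨⟨2,0,2,-1,1,0,-1,-1⟩,800,50,250⟩,
   ⟨⟨2,0,2,-1,1,0,-1,1⟩,796,40,96⟩,
   ⟨⟨2,0,2,-1,1,0,1,-1⟩,796,163,43⟩,
   ⟨⟨2,0,2,-1,1,0,1,1⟩,800,185,177⟩,
   ⟨⟨-3,0,-2,0,0,-1,-1,1⟩,1056,135,250⟩]

def ekChunk41 : List EK :=
  [⟨⟨-3,0,-2,0,0,-1,1,-1⟩,1056,12,177⟩,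
   ⟨⟨-3,0,-2,0,0,1,-1,1⟩,1056,157,0⟩,
   ⟨⟨-3,0,-2,0,0,1,1,-1⟩,1056,22,75⟩,
   ⟨⟨-3,0,0,0,-2,1,-1,-1⟩,1056,135,250⟩,
   ⟨⟨-3,0,0,0,-2,1,1,1⟩,1056,12,177⟩,
   ⟨⟨-3,0,0,0,0,-1,-1,1⟩,800,22,27⟩,
   ⟨⟨-3,0,0,0,0,-1,1,-1⟩,800,157,80⟩,
   ⟨⟨-3,0,0,0,0,1,-1,1⟩,800,12,225⟩,
   ⟨⟨-3,0,0,0,0,1,1,-1⟩,800,135,170⟩,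
   ⟨⟨-3,0,0,0,2,-1,-1,-1⟩,1056,157,0⟩,
   ⟨⟨-3,0,0,0,2,-1,1,1⟩,1056,22,75⟩,
   ⟨⟨-3,0,2,0,0,-1,-1,1⟩,1056,135,250⟩,
   ⟨⟨-3,0,2,0,0,-1,1,-1⟩,1056,12,177⟩,
   ⟨⟨-3,0,2,0,0,1,-1,1⟩,1056,157,0⟩,
   ⟨⟨-3,0,2,0,0,1,1,-1⟩,1056,22,75⟩,
   ⟨⟨-1,0,-2,0,-2,1,-1,-1⟩,800,135,170⟩,
   ⟨⟨-1,0,-2,0,-2,1,-1,1⟩,796,157,48⟩,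
   ⟨⟨-1,0,-2,0,-2,1,1,-1⟩,796,22,123⟩,
   ⟨⟨-1,0,-2,0,-2,1,1,1⟩,800,12,225⟩,
   ⟨⟨-1,0,-2,0,0,-1,-1,-1⟩,548,12,209⟩,
   ⟨⟨-1,0,-2,0,0,-1,-1,1⟩,544,22,75⟩,
   ⟨⟨-1,0,-2,0,0,-1,1,-1⟩,544,157,0⟩,
   ⟨⟨-1,0,-2,0,0,-1,1,1⟩,548,135,154⟩,
   ⟨⟨-1,0,-2,0,0,1,-1,-1⟩,548,22,43⟩,
   ⟨⟨-1,0,-2,0,0,1,-1,1⟩,544,12,177⟩,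
   ⟨⟨-1,0,-2,0,0,1,1,-1⟩,544,135,250⟩,
   ⟨⟨-1,0,-2,0,0,1,1,1⟩,548,157,96⟩,
   ⟨⟨-1,0,-2,0,2,-1,-1,-1⟩,800,157,80⟩,
   ⟨⟨-1,0,-2,0,2,-1,-1,1⟩,796,135,202⟩,
   ⟨⟨-1,0,-2,0,2,-1,1,-1⟩,796,12,129⟩,
   ⟨⟨-1,0,-2,0,2,-1,1,1⟩,800,22,27⟩,
   ⟨⟨-1,0,-2,2,-2,-1,-1,1⟩,1056,157,0⟩,
   ⟨⟨-1,0,-2,2,-2,-1,1,-1⟩,1056,22,75⟩,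
   ⟨⟨-1,0,-2,2,0,-1,-1,-1⟩,800,22,27⟩,
   ⟨⟨-1,0,-2,2,0,-1,-1,1⟩,796,12,129⟩,
   ⟨⟨-1,0,-2,2,0,-1,1,-1⟩,796,135,202⟩,
   ⟨⟨-1,0,-2,2,0,-1,1,1⟩,800,157,80⟩,
   ⟨⟨-1,0,-2,2,0,1,-1,-1⟩,800,12,225⟩,
   ⟨⟨-1,0,-2,2,0,1,-1,1⟩,796,22,123⟩,
   ⟨⟨-1,0,-2,2,0,1,1,-1⟩,796,157,48⟩,
   ⟨⟨-1,0,-2,2,0,1,1,1⟩,800,135,170⟩,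
   ⟨⟨-1,0,-2,2,2,1,-1,1⟩,1056,135,250⟩,
   ⟨⟨-1,0,-2,2,2,1,1,-1⟩,1056,12,177⟩,
   ⟨⟨-1,0,0,-2,-2,1,-1,1⟩,800,22,27⟩,
   ⟨⟨-1,0,0,-2,-2,1,1,-1⟩,800,157,80⟩,
   ⟨⟨-1,0,0,-2,0,-1,-3,1⟩,1056,12,177⟩,
   ⟨⟨-1,0,0,-2,0,-1,-1,1⟩,548,157,96⟩,
   ⟨⟨-1,0,0,-2,0,-1,1,-1⟩,548,22,43⟩,
   ⟨⟨-1,0,0,-2,0,-1,3,-1⟩,1056,135,250⟩,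
   ⟨⟨-1,0,0,-2,0,1,-3,1⟩,1056,22,75⟩,
   ⟨⟨-1,0,0,-2,0,1,-1,1⟩,548,135,154⟩,
   ⟨⟨-1,0,0,-2,0,1,1,-1⟩,548,12,209⟩,
   ⟨⟨-1,0,0,-2,0,1,3,-1⟩,1056,157,0⟩,
   ⟨⟨-1,0,0,-2,2,-1,-1,1⟩,800,12,225⟩,
   ⟨⟨-1,0,0,-2,2,-1,1,-1⟩,800,135,170⟩,
   ⟨⟨-1,0,0,0,-2,-1,-3,1⟩,1056,135,250⟩,
   ⟨⟨-1,0,0,0,-2,-1,-1,1⟩,548,22,43⟩,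
   ⟨⟨-1,0,0,0,-2,-1,1,-1⟩,548,157,96⟩,
   ⟨⟨-1,0,0,0,-2,-1,3,-1⟩,1056,12,177⟩,
   ⟨⟨-1,0,0,0,-2,1,-1,-1⟩,544,22,75⟩,
   ⟨⟨-1,0,0,0,-2,1,-1,1⟩,540,12,209⟩,
   ⟨⟨-1,0,0,0,-2,1,-1,3⟩,1056,22,75⟩,
   ⟨⟨-1,0,0,0,-2,1,1,-3⟩,1056,157,0⟩,
   ⟨⟨-1,0,0,0,-2,1,1,-1⟩,540,135,154⟩,
   ⟨⟨-1,0,0,0,-2,1,1,1⟩,544,157,0⟩,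
   ⟨⟨-1,0,0,0,-2,3,-1,-1⟩,1056,12,177⟩,
   ⟨⟨-1,0,0,0,-2,3,1,1⟩,1056,135,250⟩,
   ⟨⟨-1,0,0,0,0,-1,-3,1⟩,796,22,123⟩,
   ⟨⟨-1,0,0,0,0,-1,-1,-1⟩,292,157,48⟩,
   ⟨⟨-1,0,0,0,0,-1,-1,1⟩,288,135,170⟩,
   ⟨⟨-1,0,0,0,0,-1,1,-1⟩,288,12,225⟩,
   ⟨⟨-1,0,0,0,0,-1,1,1⟩,292,22,123⟩,
   ⟨⟨-1,0,0,0,0,-1,3,-1⟩,796,157,48⟩,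
   ⟨⟨-1,0,0,0,0,1,-3,1⟩,796,12,129⟩,
   ⟨⟨-1,0,0,0,0,1,-1,-1⟩,292,135,202⟩,
   ⟨⟨-1,0,0,0,0,1,-1,1⟩,288,157,80⟩,
   ⟨⟨-1,0,0,0,0,1,1,-1⟩,288,22,27⟩,
   ⟨⟨-1,0,0,0,0,1,1,1⟩,292,12,129⟩,
   ⟨⟨-1,0,0,0,0,1,3,-1⟩,796,135,202⟩,
   ⟨⟨-1,0,0,0,2,-3,-1,-1⟩,1056,22,75⟩,
   ⟨⟨-1,0,0,0,2,-3,1,1⟩,1056,157,0⟩,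
   ⟨⟨-1,0,0,0,2,-1,-1,-1⟩,544,12,177⟩,
   ⟨⟨-1,0,0,0,2,-1,-1,1⟩,540,22,43⟩,
   ⟨⟨-1,0,0,0,2,-1,-1,3⟩,1056,12,177⟩,
   ⟨⟨-1,0,0,0,2,-1,1,-3⟩,1056,135,250⟩,
   ⟨⟨-1,0,0,0,2,-1,1,-1⟩,540,157,96⟩,
   ⟨⟨-1,0,0,0,2,-1,1,1⟩,544,135,250⟩,
   ⟨⟨-1,0,0,0,2,1,-3,1⟩,1056,157,0⟩,
   ⟨⟨-1,0,0,0,2,1,-1,1⟩,548,12,209⟩,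
   ⟨⟨-1,0,0,0,2,1,1,-1⟩,548,135,154⟩,
   ⟨⟨-1,0,0,0,2,1,3,-1⟩,1056,22,75⟩,
   ⟨⟨-1,0,0,2,-2,1,-1,1⟩,800,22,27⟩,
   ⟨⟨-1,0,0,2,-2,1,1,-1⟩,800,157,80⟩,
   ⟨⟨-1,0,0,2,0,-1,-3,1⟩,1056,12,177⟩,
   ⟨⟨-1,0,0,2,0,-1,-1,1⟩,548,157,96⟩,
   ⟨⟨-1,0,0,2,0,-1,1,-1⟩,548,22,43⟩,
   ⟨⟨-1,0,0,2,0,-1,3,-1⟩,1056,135,250⟩,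
   ⟨⟨-1,0,0,2,0,1,-3,1⟩,1056,22,75⟩,
   ⟨⟨-1,0,0,2,0,1,-1,1⟩,548,135,154⟩,
   ⟨⟨-1,0,0,2,0,1,1,-1⟩,548,12,209⟩,
   ⟨⟨-1,0,0,2,0,1,3,-1⟩,1056,157,0⟩,
   ⟨⟨-1,0,0,2,2,-1,-1,1⟩,800,12,225⟩,
   ⟨⟨-1,0,0,2,2,-1,1,-1⟩,800,135,170⟩,
   ⟨⟨-1,0,2,-2,-2,-1,-1,1⟩,1056,157,0⟩,
   ⟨⟨-1,0,2,-2,-2,-1,1,-1⟩,1056,22,75⟩,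
   ⟨⟨-1,0,2,-2,0,-1,-1,-1⟩,800,22,27⟩,
   ⟨⟨-1,0,2,-2,0,-1,-1,1⟩,796,12,129⟩,
   ⟨⟨-1,0,2,-2,0,-1,1,-1⟩,796,135,202⟩,
   ⟨⟨-1,0,2,-2,0,-1,1,1⟩,800,157,80⟩,
   ⟨⟨-1,0,2,-2,0,1,-1,-1⟩,800,12,225⟩,
   ⟨⟨-1,0,2,-2,0,1,-1,1⟩,796,22,123⟩,
   ⟨⟨-1,0,2,-2,0,1,1,-1⟩,796,157,48⟩,
   ⟨⟨-1,0,2,-2,0,1,1,1⟩,800,135,170⟩,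
   ⟨⟨-1,0,2,-2,2,1,-1,1⟩,1056,135,250⟩,
   ⟨⟨-1,0,2,-2,2,1,1,-1⟩,1056,12,177⟩,
   ⟨⟨-1,0,2,0,-2,1,-1,-1⟩,800,135,170⟩,
   ⟨⟨-1,0,2,0,-2,1,-1,1⟩,796,157,48⟩,
   ⟨⟨-1,0,2,0,-2,1,1,-1⟩,796,22,123⟩,
   ⟨⟨-1,0,2,0,-2,1,1,1⟩,800,12,225⟩,
   ⟨⟨-1,0,2,0,0,-1,-1,-1⟩,548,12,209⟩,
   ⟨⟨-1,0,2,0,0,-1,-1,1⟩,544,22,75⟩,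
   ⟨⟨-1,0,2,0,0,-1,1,-1⟩,544,157,0⟩,
   ⟨⟨-1,0,2,0,0,-1,1,1⟩,548,135,154⟩,
   ⟨⟨-1,0,2,0,0,1,-1,-1⟩,548,22,43⟩,
   ⟨⟨-1,0,2,0,0,1,-1,1⟩,544,12,177⟩,
   ⟨⟨-1,0,2,0,0,1,1,-1⟩,544,135,250⟩,
   ⟨⟨-1,0,2,0,0,1,1,1⟩,548,157,96⟩,
   ⟨⟨-1,0,2,0,2,-1,-1,-1⟩,800,157,80⟩,
   ⟨⟨-1,0,2,0,2,-1,-1,1⟩,796,135,202⟩,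
   ⟨⟨-1,0,2,0,2,-1,1,-1⟩,796,12,129⟩]

def ekChunk42 : List EK :=
  [⟨⟨-1,0,2,0,2,-1,1,1⟩,800,22,27⟩,
   ⟨⟨-1,2,-2,0,-2,1,-1,-1⟩,1056,157,0⟩,
   ⟨⟨-1,2,-2,0,-2,1,1,1⟩,1056,22,75⟩,
   ⟨⟨-1,2,-2,0,0,-1,-1,1⟩,800,12,225⟩,
   ⟨⟨-1,2,-2,0,0,-1,1,-1⟩,800,135,170⟩,
   ⟨⟨-1,2,-2,0,0,1,-1,1⟩,800,22,27⟩,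
   ⟨⟨-1,2,-2,0,0,1,1,-1⟩,800,157,80⟩,
   ⟨⟨-1,2,-2,0,2,-1,-1,-1⟩,1056,135,250⟩,
   ⟨⟨-1,2,-2,0,2,-1,1,1⟩,1056,12,177⟩,
   ⟨⟨-1,2,-2,2,0,-1,-1,-1⟩,1056,12,177⟩,
   ⟨⟨-1,2,-2,2,0,-1,1,1⟩,1056,135,250⟩,
   ⟨⟨-1,2,-2,2,0,1,-1,-1⟩,1056,22,75⟩,
   ⟨⟨-1,2,-2,2,0,1,1,1⟩,1056,157,0⟩,
   ⟨⟨-1,2,0,-2,-2,1,-1,1⟩,1056,12,177⟩,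
   ⟨⟨-1,2,0,-2,-2,1,1,-1⟩,1056,135,250⟩,
   ⟨⟨-1,2,0,-2,2,-1,-1,1⟩,1056,22,75⟩,
   ⟨⟨-1,2,0,-2,2,-1,1,-1⟩,1056,157,0⟩,
   ⟨⟨-1,2,0,0,-2,1,-1,-1⟩,800,12,225⟩,
   ⟨⟨-1,2,0,0,-2,1,-1,1⟩,796,22,123⟩,
   ⟨⟨-1,2,0,0,-2,1,1,-1⟩,796,157,48⟩,
   ⟨⟨-1,2,0,0,-2,1,1,1⟩,800,135,170⟩,
   ⟨⟨-1,2,0,0,0,-1,-1,-1⟩,548,135,154⟩,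
   ⟨⟨-1,2,0,0,0,-1,-1,1⟩,544,157,0⟩,
   ⟨⟨-1,2,0,0,0,-1,1,-1⟩,544,22,75⟩,
   ⟨⟨-1,2,0,0,0,-1,1,1⟩,548,12,209⟩,
   ⟨⟨-1,2,0,0,0,1,-1,-1⟩,548,157,96⟩,
   ⟨⟨-1,2,0,0,0,1,-1,1⟩,544,135,250⟩,
   ⟨⟨-1,2,0,0,0,1,1,-1⟩,544,12,177⟩,
   ⟨⟨-1,2,0,0,0,1,1,1⟩,548,22,43⟩,
   ⟨⟨-1,2,0,0,2,-1,-1,-1⟩,800,22,27⟩,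
   ⟨⟨-1,2,0,0,2,-1,-1,1⟩,796,12,129⟩,
   ⟨⟨-1,2,0,0,2,-1,1,-1⟩,796,135,202⟩,
   ⟨⟨-1,2,0,0,2,-1,1,1⟩,800,157,80⟩,
   ⟨⟨-1,2,0,2,-2,1,-1,1⟩,1056,12,177⟩,
   ⟨⟨-1,2,0,2,-2,1,1,-1⟩,1056,135,250⟩,
   ⟨⟨-1,2,0,2,2,-1,-1,1⟩,1056,22,75⟩,
   ⟨⟨-1,2,0,2,2,-1,1,-1⟩,1056,157,0⟩,
   ⟨⟨-1,2,2,-2,0,-1,-1,-1⟩,1056,12,177⟩,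
   ⟨⟨-1,2,2,-2,0,-1,1,1⟩,1056,135,250⟩,
   ⟨⟨-1,2,2,-2,0,1,-1,-1⟩,1056,22,75⟩,
   ⟨⟨-1,2,2,-2,0,1,1,1⟩,1056,157,0⟩,
   ⟨⟨-1,2,2,0,-2,1,-1,-1⟩,1056,157,0⟩,
   ⟨⟨-1,2,2,0,-2,1,1,1⟩,1056,22,75⟩,
   ⟨⟨-1,2,2,0,0,-1,-1,1⟩,800,12,225⟩,
   ⟨⟨-1,2,2,0,0,-1,1,-1⟩,800,135,170⟩,
   ⟨⟨-1,2,2,0,0,1,-1,1⟩,800,22,27⟩,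
   ⟨⟨-1,2,2,0,0,1,1,-1⟩,800,157,80⟩,
   ⟨⟨-1,2,2,0,2,-1,-1,-1⟩,1056,135,250⟩,
   ⟨⟨-1,2,2,0,2,-1,1,1⟩,1056,12,177⟩,
   ⟨⟨1,-2,-2,0,-2,1,-1,-1⟩,1056,12,177⟩,
   ⟨⟨1,-2,-2,0,-2,1,1,1⟩,1056,135,250⟩,
   ⟨⟨1,-2,-2,0,0,-1,-1,1⟩,800,157,80⟩,
   ⟨⟨1,-2,-2,0,0,-1,1,-1⟩,800,22,27⟩,
   ⟨⟨1,-2,-2,0,0,1,-1,1⟩,800,135,170⟩,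
   ⟨⟨1,-2,-2,0,0,1,1,-1⟩,800,12,225⟩,
   ⟨⟨1,-2,-2,0,2,-1,-1,-1⟩,1056,22,75⟩,
   ⟨⟨1,-2,-2,0,2,-1,1,1⟩,1056,157,0⟩,
   ⟨⟨1,-2,-2,2,0,-1,-1,-1⟩,1056,157,0⟩,
   ⟨⟨1,-2,-2,2,0,-1,1,1⟩,1056,22,75⟩,
   ⟨⟨1,-2,-2,2,0,1,-1,-1⟩,1056,135,250⟩,
   ⟨⟨1,-2,-2,2,0,1,1,1⟩,1056,12,177⟩,
   ⟨⟨1,-2,0,-2,-2,1,-1,1⟩,1056,157,0⟩,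
   ⟨⟨1,-2,0,-2,-2,1,1,-1⟩,1056,22,75⟩,
   ⟨⟨1,-2,0,-2,2,-1,-1,1⟩,1056,135,250⟩,
   ⟨⟨1,-2,0,-2,2,-1,1,-1⟩,1056,12,177⟩,
   ⟨⟨1,-2,0,0,-2,1,-1,-1⟩,800,157,80⟩,
   ⟨⟨1,-2,0,0,-2,1,-1,1⟩,796,135,202⟩,
   ⟨⟨1,-2,0,0,-2,1,1,-1⟩,796,12,129⟩,
   ⟨⟨1,-2,0,0,-2,1,1,1⟩,800,22,27⟩,
   ⟨⟨1,-2,0,0,0,-1,-1,-1⟩,548,22,43⟩,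
   ⟨⟨1,-2,0,0,0,-1,-1,1⟩,544,12,177⟩,
   ⟨⟨1,-2,0,0,0,-1,1,-1⟩,544,135,250⟩,
   ⟨⟨1,-2,0,0,0,-1,1,1⟩,548,157,96⟩,
   ⟨⟨1,-2,0,0,0,1,-1,-1⟩,548,12,209⟩,
   ⟨⟨1,-2,0,0,0,1,-1,1⟩,544,22,75⟩,
   ⟨⟨1,-2,0,0,0,1,1,-1⟩,544,157,0⟩,
   ⟨⟨1,-2,0,0,0,1,1,1⟩,548,135,154⟩,
   ⟨⟨1,-2,0,0,2,-1,-1,-1⟩,800,135,170⟩,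
   ⟨⟨1,-2,0,0,2,-1,-1,1⟩,796,157,48⟩,
   ⟨⟨1,-2,0,0,2,-1,1,-1⟩,796,22,123⟩,
   ⟨⟨1,-2,0,0,2,-1,1,1⟩,800,12,225⟩,
   ⟨⟨1,-2,0,2,-2,1,-1,1⟩,1056,157,0⟩,
   ⟨⟨1,-2,0,2,-2,1,1,-1⟩,1056,22,75⟩,
   ⟨⟨1,-2,0,2,2,-1,-1,1⟩,1056,135,250⟩,
   ⟨⟨1,-2,0,2,2,-1,1,-1⟩,1056,12,177⟩,
   ⟨⟨1,-2,2,-2,0,-1,-1,-1⟩,1056,157,0⟩,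
   ⟨⟨1,-2,2,-2,0,-1,1,1⟩,1056,22,75⟩,
   ⟨⟨1,-2,2,-2,0,1,-1,-1⟩,1056,135,250⟩,
   ⟨⟨1,-2,2,-2,0,1,1,1⟩,1056,12,177⟩,
   ⟨⟨1,-2,2,0,-2,1,-1,-1⟩,1056,12,177⟩,
   ⟨⟨1,-2,2,0,-2,1,1,1⟩,1056,135,250⟩,
   ⟨⟨1,-2,2,0,0,-1,-1,1⟩,800,157,80⟩,
   ⟨⟨1,-2,2,0,0,-1,1,-1⟩,800,22,27⟩,
   ⟨⟨1,-2,2,0,0,1,-1,1⟩,800,135,170⟩,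
   ⟨⟨1,-2,2,0,0,1,1,-1⟩,800,12,225⟩,
   ⟨⟨1,-2,2,0,2,-1,-1,-1⟩,1056,22,75⟩,
   ⟨⟨1,-2,2,0,2,-1,1,1⟩,1056,157,0⟩,
   ⟨⟨1,0,-2,0,-2,1,-1,-1⟩,800,22,27⟩,
   ⟨⟨1,0,-2,0,-2,1,-1,1⟩,796,12,129⟩,
   ⟨⟨1,0,-2,0,-2,1,1,-1⟩,796,135,202⟩,
   ⟨⟨1,0,-2,0,-2,1,1,1⟩,800,157,80⟩,
   ⟨⟨1,0,-2,0,0,-1,-1,-1⟩,548,157,96⟩,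
   ⟨⟨1,0,-2,0,0,-1,-1,1⟩,544,135,250⟩,
   ⟨⟨1,0,-2,0,0,-1,1,-1⟩,544,12,177⟩,
   ⟨⟨1,0,-2,0,0,-1,1,1⟩,548,22,43⟩,
   ⟨⟨1,0,-2,0,0,1,-1,-1⟩,548,135,154⟩,
   ⟨⟨1,0,-2,0,0,1,-1,1⟩,544,157,0⟩,
   ⟨⟨1,0,-2,0,0,1,1,-1⟩,544,22,75⟩,
   ⟨⟨1,0,-2,0,0,1,1,1⟩,548,12,209⟩,
   ⟨⟨1,0,-2,0,2,-1,-1,-1⟩,800,12,225⟩,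
   ⟨⟨1,0,-2,0,2,-1,-1,1⟩,796,22,123⟩,
   ⟨⟨1,0,-2,0,2,-1,1,-1⟩,796,157,48⟩,
   ⟨⟨1,0,-2,0,2,-1,1,1⟩,800,135,170⟩,
   ⟨⟨1,0,-2,2,-2,-1,-1,1⟩,1056,12,177⟩,
   ⟨⟨1,0,-2,2,-2,-1,1,-1⟩,1056,135,250⟩,
   ⟨⟨1,0,-2,2,0,-1,-1,-1⟩,800,135,170⟩,
   ⟨⟨1,0,-2,2,0,-1,-1,1⟩,796,157,48⟩,
   ⟨⟨1,0,-2,2,0,-1,1,-1⟩,796,22,123⟩,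
   ⟨⟨1,0,-2,2,0,-1,1,1⟩,800,12,225⟩,
   ⟨⟨1,0,-2,2,0,1,-1,-1⟩,800,157,80⟩,
   ⟨⟨1,0,-2,2,0,1,-1,1⟩,796,135,202⟩,
   ⟨⟨1,0,-2,2,0,1,1,-1⟩,796,12,129⟩,
   ⟨⟨1,0,-2,2,0,1,1,1⟩,800,22,27⟩,
   ⟨⟨1,0,-2,2,2,1,-1,1⟩,1056,22,75⟩,
   ⟨⟨1,0,-2,2,2,1,1,-1⟩,1056,157,0⟩,
   ⟨⟨1,0,0,-2,-2,1,-1,1⟩,800,135,170⟩,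
   ⟨⟨1,0,0,-2,-2,1,1,-1⟩,800,12,225⟩,
   ⟨⟨1,0,0,-2,0,-1,-3,1⟩,1056,157,0⟩,
   ⟨⟨1,0,0,-2,0,-1,-1,1⟩,548,12,209⟩,
   ⟨⟨1,0,0,-2,0,-1,1,-1⟩,548,135,154⟩]

def ekChunk43 : List EK :=
  [⟨⟨1,0,0,-2,0,-1,3,-1⟩,1056,22,75⟩,
   ⟨⟨1,0,0,-2,0,1,-3,1⟩,1056,135,250⟩,
   ⟨⟨1,0,0,-2,0,1,-1,1⟩,548,22,43⟩,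
   ⟨⟨1,0,0,-2,0,1,1,-1⟩,548,157,96⟩,
   ⟨⟨1,0,0,-2,0,1,3,-1⟩,1056,12,177⟩,
   ⟨⟨1,0,0,-2,2,-1,-1,1⟩,800,157,80⟩,
   ⟨⟨1,0,0,-2,2,-1,1,-1⟩,800,22,27⟩,
   ⟨⟨1,0,0,0,-2,-1,-3,1⟩,1056,22,75⟩,
   ⟨⟨1,0,0,0,-2,-1,-1,1⟩,548,135,154⟩,
   ⟨⟨1,0,0,0,-2,-1,1,-1⟩,548,12,209⟩,
   ⟨⟨1,0,0,0,-2,-1,3,-1⟩,1056,157,0⟩,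
   ⟨⟨1,0,0,0,-2,1,-1,-1⟩,544,135,250⟩,
   ⟨⟨1,0,0,0,-2,1,-1,1⟩,540,157,96⟩,
   ⟨⟨1,0,0,0,-2,1,-1,3⟩,1056,135,250⟩,
   ⟨⟨1,0,0,0,-2,1,1,-3⟩,1056,12,177⟩,
   ⟨⟨1,0,0,0,-2,1,1,-1⟩,540,22,43⟩,
   ⟨⟨1,0,0,0,-2,1,1,1⟩,544,12,177⟩,
   ⟨⟨1,0,0,0,-2,3,-1,-1⟩,1056,157,0⟩,
   ⟨⟨1,0,0,0,-2,3,1,1⟩,1056,22,75⟩,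
   ⟨⟨1,0,0,0,0,-1,-3,1⟩,796,135,202⟩,
   ⟨⟨1,0,0,0,0,-1,-1,-1⟩,292,12,129⟩,
   ⟨⟨1,0,0,0,0,-1,-1,1⟩,288,22,27⟩,
   ⟨⟨1,0,0,0,0,-1,1,-1⟩,288,157,80⟩,
   ⟨⟨1,0,0,0,0,-1,1,1⟩,292,135,202⟩,
   ⟨⟨1,0,0,0,0,-1,3,-1⟩,796,12,129⟩,
   ⟨⟨1,0,0,0,0,1,-3,1⟩,796,157,48⟩,
   ⟨⟨1,0,0,0,0,1,-1,-1⟩,292,22,123⟩,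
   ⟨⟨1,0,0,0,0,1,-1,1⟩,288,12,225⟩,
   ⟨⟨1,0,0,0,0,1,1,-1⟩,288,135,170⟩,
   ⟨⟨1,0,0,0,0,1,1,1⟩,292,157,48⟩,
   ⟨⟨1,0,0,0,0,1,3,-1⟩,796,22,123⟩,
   ⟨⟨1,0,0,0,2,-3,-1,-1⟩,1056,135,250⟩,
   ⟨⟨1,0,0,0,2,-3,1,1⟩,1056,12,177⟩,
   ⟨⟨1,0,0,0,2,-1,-1,-1⟩,544,157,0⟩,
   ⟨⟨1,0,0,0,2,-1,-1,1⟩,540,135,154⟩,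
   ⟨⟨1,0,0,0,2,-1,-1,3⟩,1056,157,0⟩,
   ⟨⟨1,0,0,0,2,-1,1,-3⟩,1056,22,75⟩,
   ⟨⟨1,0,0,0,2,-1,1,-1⟩,540,12,209⟩,
   ⟨⟨1,0,0,0,2,-1,1,1⟩,544,22,75⟩,
   ⟨⟨1,0,0,0,2,1,-3,1⟩,1056,12,177⟩,
   ⟨⟨1,0,0,0,2,1,-1,1⟩,548,157,96⟩,
   ⟨⟨1,0,0,0,2,1,1,-1⟩,548,22,43⟩,
   ⟨⟨1,0,0,0,2,1,3,-1⟩,1056,135,250⟩,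
   ⟨⟨1,0,0,2,-2,1,-1,1⟩,800,135,170⟩,
   ⟨⟨1,0,0,2,-2,1,1,-1⟩,800,12,225⟩,
   ⟨⟨1,0,0,2,0,-1,-3,1⟩,1056,157,0⟩,
   ⟨⟨1,0,0,2,0,-1,-1,1⟩,548,12,209⟩,
   ⟨⟨1,0,0,2,0,-1,1,-1⟩,548,135,154⟩,
   ⟨⟨1,0,0,2,0,-1,3,-1⟩,1056,22,75⟩,
   ⟨⟨1,0,0,2,0,1,-3,1⟩,1056,135,250⟩,
   ⟨⟨1,0,0,2,0,1,-1,1⟩,548,22,43⟩,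
   ⟨⟨1,0,0,2,0,1,1,-1⟩,548,157,96⟩,
   ⟨⟨1,0,0,2,0,1,3,-1⟩,1056,12,177⟩,
   ⟨⟨1,0,0,2,2,-1,-1,1⟩,800,157,80⟩,
   ⟨⟨1,0,0,2,2,-1,1,-1⟩,800,22,27⟩,
   ⟨⟨1,0,2,-2,-2,-1,-1,1⟩,1056,12,177⟩,
   ⟨⟨1,0,2,-2,-2,-1,1,-1⟩,1056,135,250⟩,
   ⟨⟨1,0,2,-2,0,-1,-1,-1⟩,800,135,170⟩,
   ⟨⟨1,0,2,-2,0,-1,-1,1⟩,796,157,48⟩,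
   ⟨⟨1,0,2,-2,0,-1,1,-1⟩,796,22,123⟩,
   ⟨⟨1,0,2,-2,0,-1,1,1⟩,800,12,225⟩,
   ⟨⟨1,0,2,-2,0,1,-1,-1⟩,800,157,80⟩,
   ⟨⟨1,0,2,-2,0,1,-1,1⟩,796,135,202⟩,
   ⟨⟨1,0,2,-2,0,1,1,-1⟩,796,12,129⟩,
   ⟨⟨1,0,2,-2,0,1,1,1⟩,800,22,27⟩,
   ⟨⟨1,0,2,-2,2,1,-1,1⟩,1056,22,75⟩,
   ⟨⟨1,0,2,-2,2,1,1,-1⟩,1056,157,0⟩,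
   ⟨⟨1,0,2,0,-2,1,-1,-1⟩,800,22,27⟩,
   ⟨⟨1,0,2,0,-2,1,-1,1⟩,796,12,129⟩,
   ⟨⟨1,0,2,0,-2,1,1,-1⟩,796,135,202⟩,
   ⟨⟨1,0,2,0,-2,1,1,1⟩,800,157,80⟩,
   ⟨⟨1,0,2,0,0,-1,-1,-1⟩,548,157,96⟩,
   ⟨⟨1,0,2,0,0,-1,-1,1⟩,544,135,250⟩,
   ⟨⟨1,0,2,0,0,-1,1,-1⟩,544,12,177⟩,
   ⟨⟨1,0,2,0,0,-1,1,1⟩,548,22,43⟩,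
   ⟨⟨1,0,2,0,0,1,-1,-1⟩,548,135,154⟩,
   ⟨⟨1,0,2,0,0,1,-1,1⟩,544,157,0⟩,
   ⟨⟨1,0,2,0,0,1,1,-1⟩,544,22,75⟩,
   ⟨⟨1,0,2,0,0,1,1,1⟩,548,12,209⟩,
   ⟨⟨1,0,2,0,2,-1,-1,-1⟩,800,12,225⟩,
   ⟨⟨1,0,2,0,2,-1,-1,1⟩,796,22,123⟩,
   ⟨⟨1,0,2,0,2,-1,1,-1⟩,796,157,48⟩,
   ⟨⟨1,0,2,0,2,-1,1,1⟩,800,135,170⟩,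
   ⟨⟨3,0,-2,0,0,-1,-1,1⟩,1056,22,75⟩,
   ⟨⟨3,0,-2,0,0,-1,1,-1⟩,1056,157,0⟩,
   ⟨⟨3,0,-2,0,0,1,-1,1⟩,1056,12,177⟩,
   ⟨⟨3,0,-2,0,0,1,1,-1⟩,1056,135,250⟩,
   ⟨⟨3,0,0,0,-2,1,-1,-1⟩,1056,22,75⟩,
   ⟨⟨3,0,0,0,-2,1,1,1⟩,1056,157,0⟩,
   ⟨⟨3,0,0,0,0,-1,-1,1⟩,800,135,170⟩,
   ⟨⟨3,0,0,0,0,-1,1,-1⟩,800,12,225⟩,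
   ⟨⟨3,0,0,0,0,1,-1,1⟩,800,157,80⟩,
   ⟨⟨3,0,0,0,0,1,1,-1⟩,800,22,27⟩,
   ⟨⟨3,0,0,0,2,-1,-1,-1⟩,1056,12,177⟩,
   ⟨⟨3,0,0,0,2,-1,1,1⟩,1056,135,250⟩,
   ⟨⟨3,0,2,0,0,-1,-1,1⟩,1056,22,75⟩,
   ⟨⟨3,0,2,0,0,-1,1,-1⟩,1056,157,0⟩,
   ⟨⟨3,0,2,0,0,1,-1,1⟩,1056,12,177⟩,
   ⟨⟨3,0,2,0,0,1,1,-1⟩,1056,135,250⟩,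
   ⟨⟨-3,1,-1,-1,-1,-1,-1,1⟩,1056,0,43⟩,
   ⟨⟨-3,1,-1,-1,-1,-1,1,-1⟩,1056,139,96⟩,
   ⟨⟨-3,1,-1,-1,-1,1,-1,-1⟩,1056,0,75⟩,
   ⟨⟨-3,1,-1,-1,-1,1,1,1⟩,1056,139,0⟩,
   ⟨⟨-3,1,-1,-1,1,-1,-1,-1⟩,1056,139,48⟩,
   ⟨⟨-3,1,-1,-1,1,-1,1,1⟩,1056,0,123⟩,
   ⟨⟨-3,1,-1,-1,1,1,-1,1⟩,1056,139,80⟩,
   ⟨⟨-3,1,-1,-1,1,1,1,-1⟩,1056,0,27⟩,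
   ⟨⟨-3,1,-1,1,-1,-1,-1,-1⟩,1056,0,123⟩,
   ⟨⟨-3,1,-1,1,-1,-1,1,1⟩,1056,139,48⟩,
   ⟨⟨-3,1,-1,1,1,1,-1,-1⟩,1056,139,0⟩,
   ⟨⟨-3,1,-1,1,1,1,1,1⟩,1056,0,75⟩,
   ⟨⟨-3,1,1,-1,-1,-1,-1,-1⟩,1056,139,80⟩,
   ⟨⟨-3,1,1,-1,-1,-1,1,1⟩,1056,0,27⟩,
   ⟨⟨-3,1,1,-1,1,1,-1,-1⟩,1056,0,43⟩,
   ⟨⟨-3,1,1,-1,1,1,1,1⟩,1056,139,96⟩,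
   ⟨⟨-3,1,1,1,-1,-1,-1,1⟩,1056,139,0⟩,
   ⟨⟨-3,1,1,1,-1,-1,1,-1⟩,1056,0,75⟩,
   ⟨⟨-3,1,1,1,-1,1,-1,-1⟩,1056,139,96⟩,
   ⟨⟨-3,1,1,1,-1,1,1,1⟩,1056,0,43⟩,
   ⟨⟨-3,1,1,1,1,-1,-1,-1⟩,1056,0,27⟩,
   ⟨⟨-3,1,1,1,1,-1,1,1⟩,1056,139,80⟩,
   ⟨⟨-3,1,1,1,1,1,-1,1⟩,1056,0,123⟩,
   ⟨⟨-3,1,1,1,1,1,1,-1⟩,1056,139,48⟩,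
   ⟨⟨-1,-1,-3,1,-1,-1,-1,1⟩,1056,0,27⟩,
   ⟨⟨-1,-1,-3,1,-1,-1,1,-1⟩,1056,139,80⟩,
   ⟨⟨-1,-1,-3,1,-1,1,-1,-1⟩,1056,0,123⟩,
   ⟨⟨-1,-1,-3,1,-1,1,1,1⟩,1056,139,48⟩,
   ⟨⟨-1,-1,-3,1,1,-1,-1,-1⟩,1056,139,0⟩,
   ⟨⟨-1,-1,-3,1,1,-1,1,1⟩,1056,0,75⟩,
   ⟨⟨-1,-1,-3,1,1,1,-1,1⟩,1056,139,96⟩]

def ekChunk44 : List EK :=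
  [⟨⟨-1,-1,-3,1,1,1,1,-1⟩,1056,0,43⟩,
   ⟨⟨-1,-1,-1,-1,-3,1,-1,1⟩,1056,0,75⟩,
   ⟨⟨-1,-1,-1,-1,-3,1,1,-1⟩,1056,139,0⟩,
   ⟨⟨-1,-1,-1,-1,-1,1,-3,1⟩,1056,0,27⟩,
   ⟨⟨-1,-1,-1,-1,-1,1,-1,1⟩,548,145,202⟩,
   ⟨⟨-1,-1,-1,-1,-1,1,1,-1⟩,548,26,129⟩,
   ⟨⟨-1,-1,-1,-1,-1,1,3,-1⟩,1056,139,80⟩,
   ⟨⟨-1,-1,-1,-1,1,-1,-3,1⟩,1056,139,96⟩,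
   ⟨⟨-1,-1,-1,-1,1,-1,-1,1⟩,548,26,177⟩,
   ⟨⟨-1,-1,-1,-1,1,-1,1,-1⟩,548,145,250⟩,
   ⟨⟨-1,-1,-1,-1,1,-1,3,-1⟩,1056,0,43⟩,
   ⟨⟨-1,-1,-1,-1,3,-1,-1,1⟩,1056,139,48⟩,
   ⟨⟨-1,-1,-1,-1,3,-1,1,-1⟩,1056,0,123⟩,
   ⟨⟨-1,-1,-1,1,-3,1,-1,-1⟩,1056,0,27⟩,
   ⟨⟨-1,-1,-1,1,-3,1,1,1⟩,1056,139,80⟩,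
   ⟨⟨-1,-1,-1,1,-1,-1,-3,1⟩,1056,0,43⟩,
   ⟨⟨-1,-1,-1,1,-1,-1,-1,1⟩,548,145,250⟩,
   ⟨⟨-1,-1,-1,1,-1,-1,1,-1⟩,548,26,177⟩,
   ⟨⟨-1,-1,-1,1,-1,-1,3,-1⟩,1056,139,96⟩,
   ⟨⟨-1,-1,-1,1,-1,1,-1,-1⟩,548,145,154⟩,
   ⟨⟨-1,-1,-1,1,-1,1,-1,1⟩,544,139,0⟩,
   ⟨⟨-1,-1,-1,1,-1,1,1,-1⟩,544,0,75⟩,
   ⟨⟨-1,-1,-1,1,-1,1,1,1⟩,548,26,209⟩,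
   ⟨⟨-1,-1,-1,1,1,-1,-1,-1⟩,548,26,225⟩,
   ⟨⟨-1,-1,-1,1,1,-1,-1,1⟩,544,0,123⟩,
   ⟨⟨-1,-1,-1,1,1,-1,1,-1⟩,544,139,48⟩,
   ⟨⟨-1,-1,-1,1,1,-1,1,1⟩,548,145,170⟩,
   ⟨⟨-1,-1,-1,1,1,1,-3,1⟩,1056,139,80⟩,
   ⟨⟨-1,-1,-1,1,1,1,-1,1⟩,548,26,129⟩,
   ⟨⟨-1,-1,-1,1,1,1,1,-1⟩,548,145,202⟩,
   ⟨⟨-1,-1,-1,1,1,1,3,-1⟩,1056,0,27⟩,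
   ⟨⟨-1,-1,-1,1,3,-1,-1,-1⟩,1056,139,96⟩,
   ⟨⟨-1,-1,-1,1,3,-1,1,1⟩,1056,0,43⟩,
   ⟨⟨-1,-1,1,-1,-3,1,-1,-1⟩,1056,139,48⟩,
   ⟨⟨-1,-1,1,-1,-3,1,1,1⟩,1056,0,123⟩,
   ⟨⟨-1,-1,1,-1,-1,-1,-3,1⟩,1056,139,0⟩,
   ⟨⟨-1,-1,1,-1,-1,-1,-1,1⟩,548,26,209⟩,
   ⟨⟨-1,-1,1,-1,-1,-1,1,-1⟩,548,145,154⟩,
   ⟨⟨-1,-1,1,-1,-1,-1,3,-1⟩,1056,0,75⟩,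
   ⟨⟨-1,-1,1,-1,-1,1,-1,-1⟩,548,26,177⟩,
   ⟨⟨-1,-1,1,-1,-1,1,-1,1⟩,544,0,43⟩,
   ⟨⟨-1,-1,1,-1,-1,1,1,-1⟩,544,139,96⟩,
   ⟨⟨-1,-1,1,-1,-1,1,1,1⟩,548,145,250⟩,
   ⟨⟨-1,-1,1,-1,1,-1,-1,-1⟩,548,145,202⟩,
   ⟨⟨-1,-1,1,-1,1,-1,-1,1⟩,544,139,80⟩,
   ⟨⟨-1,-1,1,-1,1,-1,1,-1⟩,544,0,27⟩,
   ⟨⟨-1,-1,1,-1,1,-1,1,1⟩,548,26,129⟩,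
   ⟨⟨-1,-1,1,-1,1,1,-3,1⟩,1056,0,123⟩,
   ⟨⟨-1,-1,1,-1,1,1,-1,1⟩,548,145,170⟩,
   ⟨⟨-1,-1,1,-1,1,1,1,-1⟩,548,26,225⟩,
   ⟨⟨-1,-1,1,-1,1,1,3,-1⟩,1056,139,48⟩,
   ⟨⟨-1,-1,1,-1,3,-1,-1,-1⟩,1056,0,75⟩,
   ⟨⟨-1,-1,1,-1,3,-1,1,1⟩,1056,139,0⟩,
   ⟨⟨-1,-1,1,1,-3,1,-1,1⟩,1056,139,96⟩,
   ⟨⟨-1,-1,1,1,-3,1,1,-1⟩,1056,0,43⟩,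
   ⟨⟨-1,-1,1,1,-1,1,-3,1⟩,1056,139,48⟩,
   ⟨⟨-1,-1,1,1,-1,1,-1,1⟩,548,26,225⟩,
   ⟨⟨-1,-1,1,1,-1,1,1,-1⟩,548,145,170⟩,
   ⟨⟨-1,-1,1,1,-1,1,3,-1⟩,1056,0,123⟩,
   ⟨⟨-1,-1,1,1,1,-1,-3,1⟩,1056,0,75⟩,
   ⟨⟨-1,-1,1,1,1,-1,-1,1⟩,548,145,154⟩,
   ⟨⟨-1,-1,1,1,1,-1,1,-1⟩,548,26,209⟩,
   ⟨⟨-1,-1,1,1,1,-1,3,-1⟩,1056,139,0⟩,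
   ⟨⟨-1,-1,1,1,3,-1,-1,1⟩,1056,0,27⟩,
   ⟨⟨-1,-1,1,1,3,-1,1,-1⟩,1056,139,80⟩,
   ⟨⟨-1,-1,3,-1,-1,-1,-1,1⟩,1056,139,48⟩,
   ⟨⟨-1,-1,3,-1,-1,-1,1,-1⟩,1056,0,123⟩,
   ⟨⟨-1,-1,3,-1,-1,1,-1,-1⟩,1056,139,80⟩,
   ⟨⟨-1,-1,3,-1,-1,1,1,1⟩,1056,0,27⟩,
   ⟨⟨-1,-1,3,-1,1,-1,-1,-1⟩,1056,0,43⟩,
   ⟨⟨-1,-1,3,-1,1,-1,1,1⟩,1056,139,96⟩,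
   ⟨⟨-1,-1,3,-1,1,1,-1,1⟩,1056,0,75⟩,
   ⟨⟨-1,-1,3,-1,1,1,1,-1⟩,1056,139,0⟩,
   ⟨⟨-1,1,-3,1,-1,-1,-1,-1⟩,1056,0,43⟩,
   ⟨⟨-1,1,-3,1,-1,-1,1,1⟩,1056,139,96⟩,
   ⟨⟨-1,1,-3,1,1,1,-1,-1⟩,1056,139,80⟩,
   ⟨⟨-1,1,-3,1,1,1,1,1⟩,1056,0,27⟩,
   ⟨⟨-1,1,-1,-1,-3,1,-1,-1⟩,1056,0,123⟩,
   ⟨⟨-1,1,-1,-1,-3,1,1,1⟩,1056,139,48⟩,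
   ⟨⟨-1,1,-1,-1,-1,-1,-3,1⟩,1056,0,75⟩,
   ⟨⟨-1,1,-1,-1,-1,-1,-1,1⟩,548,145,154⟩,
   ⟨⟨-1,1,-1,-1,-1,-1,1,-1⟩,548,26,209⟩,
   ⟨⟨-1,1,-1,-1,-1,-1,3,-1⟩,1056,139,0⟩,
   ⟨⟨-1,1,-1,-1,-1,1,-1,-1⟩,548,145,250⟩,
   ⟨⟨-1,1,-1,-1,-1,1,-1,1⟩,544,139,96⟩,
   ⟨⟨-1,1,-1,-1,-1,1,1,-1⟩,544,0,43⟩,
   ⟨⟨-1,1,-1,-1,-1,1,1,1⟩,548,26,177⟩,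
   ⟨⟨-1,1,-1,-1,1,-1,-1,-1⟩,548,26,129⟩,
   ⟨⟨-1,1,-1,-1,1,-1,-1,1⟩,544,0,27⟩,
   ⟨⟨-1,1,-1,-1,1,-1,1,-1⟩,544,139,80⟩,
   ⟨⟨-1,1,-1,-1,1,-1,1,1⟩,548,145,202⟩,
   ⟨⟨-1,1,-1,-1,1,1,-3,1⟩,1056,139,48⟩,
   ⟨⟨-1,1,-1,-1,1,1,-1,1⟩,548,26,225⟩,
   ⟨⟨-1,1,-1,-1,1,1,1,-1⟩,548,145,170⟩,
   ⟨⟨-1,1,-1,-1,1,1,3,-1⟩,1056,0,123⟩,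
   ⟨⟨-1,1,-1,-1,3,-1,-1,-1⟩,1056,139,0⟩,
   ⟨⟨-1,1,-1,-1,3,-1,1,1⟩,1056,0,75⟩,
   ⟨⟨-1,1,-1,1,-1,-1,-1,-1⟩,548,145,202⟩,
   ⟨⟨-1,1,-1,1,-1,-1,-1,1⟩,544,139,80⟩,
   ⟨⟨-1,1,-1,1,-1,-1,1,-1⟩,544,0,27⟩,
   ⟨⟨-1,1,-1,1,-1,-1,1,1⟩,548,26,129⟩,
   ⟨⟨-1,1,-1,1,-1,1,-1,-1⟩,544,139,48⟩,
   ⟨⟨-1,1,-1,1,-1,1,-1,1⟩,540,145,170⟩,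
   ⟨⟨-1,1,-1,1,-1,1,-1,3⟩,1056,139,48⟩,
   ⟨⟨-1,1,-1,1,-1,1,1,-3⟩,1056,0,123⟩,
   ⟨⟨-1,1,-1,1,-1,1,1,-1⟩,540,26,225⟩,
   ⟨⟨-1,1,-1,1,-1,1,1,1⟩,544,0,123⟩,
   ⟨⟨-1,1,-1,1,-1,3,-1,1⟩,1056,139,80⟩,
   ⟨⟨-1,1,-1,1,-1,3,1,-1⟩,1056,0,27⟩,
   ⟨⟨-1,1,-1,1,1,-3,-1,1⟩,1056,0,43⟩,
   ⟨⟨-1,1,-1,1,1,-3,1,-1⟩,1056,139,96⟩,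
   ⟨⟨-1,1,-1,1,1,-1,-1,-1⟩,544,0,75⟩,
   ⟨⟨-1,1,-1,1,1,-1,-1,1⟩,540,26,209⟩,
   ⟨⟨-1,1,-1,1,1,-1,-1,3⟩,1056,0,75⟩,
   ⟨⟨-1,1,-1,1,1,-1,1,-3⟩,1056,139,0⟩,
   ⟨⟨-1,1,-1,1,1,-1,1,-1⟩,540,145,154⟩,
   ⟨⟨-1,1,-1,1,1,-1,1,1⟩,544,139,0⟩,
   ⟨⟨-1,1,-1,1,1,1,-1,-1⟩,548,26,177⟩,
   ⟨⟨-1,1,-1,1,1,1,-1,1⟩,544,0,43⟩,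
   ⟨⟨-1,1,-1,1,1,1,1,-1⟩,544,139,96⟩,
   ⟨⟨-1,1,-1,1,1,1,1,1⟩,548,145,250⟩,
   ⟨⟨-1,1,-1,3,-1,1,-1,1⟩,1056,139,96⟩,
   ⟨⟨-1,1,-1,3,-1,1,1,-1⟩,1056,0,43⟩,
   ⟨⟨-1,1,-1,3,1,-1,-1,1⟩,1056,0,27⟩,
   ⟨⟨-1,1,-1,3,1,-1,1,-1⟩,1056,139,80⟩,
   ⟨⟨-1,1,1,-3,-1,1,-1,1⟩,1056,0,75⟩,
   ⟨⟨-1,1,1,-3,-1,1,1,-1⟩,1056,139,0⟩,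
   ⟨⟨-1,1,1,-3,1,-1,-1,1⟩,1056,139,48⟩,
   ⟨⟨-1,1,1,-3,1,-1,1,-1⟩,1056,0,123⟩,
   ⟨⟨-1,1,1,-1,-1,-1,-1,-1⟩,548,26,225⟩]

def ekChunk45 : List EK :=
  [⟨⟨-1,1,1,-1,-1,-1,-1,1⟩,544,0,123⟩,
   ⟨⟨-1,1,1,-1,-1,-1,1,-1⟩,544,139,48⟩,
   ⟨⟨-1,1,1,-1,-1,-1,1,1⟩,548,145,170⟩,
   ⟨⟨-1,1,1,-1,-1,1,-1,-1⟩,544,0,27⟩,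
   ⟨⟨-1,1,1,-1,-1,1,-1,1⟩,540,26,129⟩,
   ⟨⟨-1,1,1,-1,-1,1,-1,3⟩,1056,0,27⟩,
   ⟨⟨-1,1,1,-1,-1,1,1,-3⟩,1056,139,80⟩,
   ⟨⟨-1,1,1,-1,-1,1,1,-1⟩,540,145,202⟩,
   ⟨⟨-1,1,1,-1,-1,1,1,1⟩,544,139,80⟩,
   ⟨⟨-1,1,1,-1,-1,3,-1,1⟩,1056,0,123⟩,
   ⟨⟨-1,1,1,-1,-1,3,1,-1⟩,1056,139,48⟩,
   ⟨⟨-1,1,1,-1,1,-3,-1,1⟩,1056,139,0⟩,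
   ⟨⟨-1,1,1,-1,1,-3,1,-1⟩,1056,0,75⟩,
   ⟨⟨-1,1,1,-1,1,-1,-1,-1⟩,544,139,96⟩,
   ⟨⟨-1,1,1,-1,1,-1,-1,1⟩,540,145,250⟩,
   ⟨⟨-1,1,1,-1,1,-1,-1,3⟩,1056,139,96⟩,
   ⟨⟨-1,1,1,-1,1,-1,1,-3⟩,1056,0,43⟩,
   ⟨⟨-1,1,1,-1,1,-1,1,-1⟩,540,26,177⟩,
   ⟨⟨-1,1,1,-1,1,-1,1,1⟩,544,0,43⟩,
   ⟨⟨-1,1,1,-1,1,1,-1,-1⟩,548,145,154⟩,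
   ⟨⟨-1,1,1,-1,1,1,-1,1⟩,544,139,0⟩,
   ⟨⟨-1,1,1,-1,1,1,1,-1⟩,544,0,75⟩,
   ⟨⟨-1,1,1,-1,1,1,1,1⟩,548,26,209⟩,
   ⟨⟨-1,1,1,1,-3,1,-1,-1⟩,1056,139,80⟩,
   ⟨⟨-1,1,1,1,-3,1,1,1⟩,1056,0,27⟩,
   ⟨⟨-1,1,1,1,-1,-1,-3,1⟩,1056,139,96⟩,
   ⟨⟨-1,1,1,1,-1,-1,-1,1⟩,548,26,177⟩,
   ⟨⟨-1,1,1,1,-1,-1,1,-1⟩,548,145,250⟩,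
   ⟨⟨-1,1,1,1,-1,-1,3,-1⟩,1056,0,43⟩,
   ⟨⟨-1,1,1,1,-1,1,-1,-1⟩,548,26,209⟩,
   ⟨⟨-1,1,1,1,-1,1,-1,1⟩,544,0,75⟩,
   ⟨⟨-1,1,1,1,-1,1,1,-1⟩,544,139,0⟩,
   ⟨⟨-1,1,1,1,-1,1,1,1⟩,548,145,154⟩,
   ⟨⟨-1,1,1,1,1,-1,-1,-1⟩,548,145,170⟩,
   ⟨⟨-1,1,1,1,1,-1,-1,1⟩,544,139,48⟩,
   ⟨⟨-1,1,1,1,1,-1,1,-1⟩,544,0,123⟩,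
   ⟨⟨-1,1,1,1,1,-1,1,1⟩,548,26,225⟩,
   ⟨⟨-1,1,1,1,1,1,-3,1⟩,1056,0,27⟩,
   ⟨⟨-1,1,1,1,1,1,-1,1⟩,548,145,202⟩,
   ⟨⟨-1,1,1,1,1,1,1,-1⟩,548,26,129⟩,
   ⟨⟨-1,1,1,1,1,1,3,-1⟩,1056,139,80⟩,
   ⟨⟨-1,1,1,1,3,-1,-1,-1⟩,1056,0,43⟩,
   ⟨⟨-1,1,1,1,3,-1,1,1⟩,1056,139,96⟩,
   ⟨⟨-1,1,3,-1,-1,-1,-1,-1⟩,1056,139,0⟩,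
   ⟨⟨-1,1,3,-1,-1,-1,1,1⟩,1056,0,75⟩,
   ⟨⟨-1,1,3,-1,1,1,-1,-1⟩,1056,0,123⟩,
   ⟨⟨-1,1,3,-1,1,1,1,1⟩,1056,139,48⟩,
   ⟨⟨-1,3,-1,1,-1,1,-1,1⟩,1056,139,0⟩,
   ⟨⟨-1,3,-1,1,-1,1,1,-1⟩,1056,0,75⟩,
   ⟨⟨-1,3,-1,1,1,-1,-1,1⟩,1056,0,123⟩,
   ⟨⟨-1,3,-1,1,1,-1,1,-1⟩,1056,139,48⟩,
   ⟨⟨-1,3,1,-1,-1,1,-1,1⟩,1056,0,43⟩,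
   ⟨⟨-1,3,1,-1,-1,1,1,-1⟩,1056,139,96⟩,
   ⟨⟨-1,3,1,-1,1,-1,-1,1⟩,1056,139,80⟩,
   ⟨⟨-1,3,1,-1,1,-1,1,-1⟩,1056,0,27⟩,
   ⟨⟨1,-3,-1,1,-1,1,-1,1⟩,1056,0,27⟩,
   ⟨⟨1,-3,-1,1,-1,1,1,-1⟩,1056,139,80⟩,
   ⟨⟨1,-3,-1,1,1,-1,-1,1⟩,1056,139,96⟩,
   ⟨⟨1,-3,-1,1,1,-1,1,-1⟩,1056,0,43⟩,
   ⟨⟨1,-3,1,-1,-1,1,-1,1⟩,1056,139,48⟩,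
   ⟨⟨1,-3,1,-1,-1,1,1,-1⟩,1056,0,123⟩,
   ⟨⟨1,-3,1,-1,1,-1,-1,1⟩,1056,0,75⟩,
   ⟨⟨1,-3,1,-1,1,-1,1,-1⟩,1056,139,0⟩,
   ⟨⟨1,-1,-3,1,-1,-1,-1,-1⟩,1056,139,48⟩,
   ⟨⟨1,-1,-3,1,-1,-1,1,1⟩,1056,0,123⟩,
   ⟨⟨1,-1,-3,1,1,1,-1,-1⟩,1056,0,75⟩,
   ⟨⟨1,-1,-3,1,1,1,1,1⟩,1056,139,0⟩,
   ⟨⟨1,-1,-1,-1,-3,1,-1,-1⟩,1056,139,96⟩,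
   ⟨⟨1,-1,-1,-1,-3,1,1,1⟩,1056,0,43⟩,
   ⟨⟨1,-1,-1,-1,-1,-1,-3,1⟩,1056,139,80⟩,
   ⟨⟨1,-1,-1,-1,-1,-1,-1,1⟩,548,26,129⟩,
   ⟨⟨1,-1,-1,-1,-1,-1,1,-1⟩,548,145,202⟩,
   ⟨⟨1,-1,-1,-1,-1,-1,3,-1⟩,1056,0,27⟩,
   ⟨⟨1,-1,-1,-1,-1,1,-1,-1⟩,548,26,225⟩,
   ⟨⟨1,-1,-1,-1,-1,1,-1,1⟩,544,0,123⟩,
   ⟨⟨1,-1,-1,-1,-1,1,1,-1⟩,544,139,48⟩,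
   ⟨⟨1,-1,-1,-1,-1,1,1,1⟩,548,145,170⟩,
   ⟨⟨1,-1,-1,-1,1,-1,-1,-1⟩,548,145,154⟩,
   ⟨⟨1,-1,-1,-1,1,-1,-1,1⟩,544,139,0⟩,
   ⟨⟨1,-1,-1,-1,1,-1,1,-1⟩,544,0,75⟩,
   ⟨⟨1,-1,-1,-1,1,-1,1,1⟩,548,26,209⟩,
   ⟨⟨1,-1,-1,-1,1,1,-3,1⟩,1056,0,43⟩,
   ⟨⟨1,-1,-1,-1,1,1,-1,1⟩,548,145,250⟩,
   ⟨⟨1,-1,-1,-1,1,1,1,-1⟩,548,26,177⟩,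
   ⟨⟨1,-1,-1,-1,1,1,3,-1⟩,1056,139,96⟩,
   ⟨⟨1,-1,-1,-1,3,-1,-1,-1⟩,1056,0,27⟩,
   ⟨⟨1,-1,-1,-1,3,-1,1,1⟩,1056,139,80⟩,
   ⟨⟨1,-1,-1,1,-1,-1,-1,-1⟩,548,26,209⟩,
   ⟨⟨1,-1,-1,1,-1,-1,-1,1⟩,544,0,75⟩,
   ⟨⟨1,-1,-1,1,-1,-1,1,-1⟩,544,139,0⟩,
   ⟨⟨1,-1,-1,1,-1,-1,1,1⟩,548,145,154⟩,
   ⟨⟨1,-1,-1,1,-1,1,-1,-1⟩,544,0,43⟩,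
   ⟨⟨1,-1,-1,1,-1,1,-1,1⟩,540,26,177⟩,
   ⟨⟨1,-1,-1,1,-1,1,-1,3⟩,1056,0,43⟩,
   ⟨⟨1,-1,-1,1,-1,1,1,-3⟩,1056,139,96⟩,
   ⟨⟨1,-1,-1,1,-1,1,1,-1⟩,540,145,250⟩,
   ⟨⟨1,-1,-1,1,-1,1,1,1⟩,544,139,96⟩,
   ⟨⟨1,-1,-1,1,-1,3,-1,1⟩,1056,0,75⟩,
   ⟨⟨1,-1,-1,1,-1,3,1,-1⟩,1056,139,0⟩,
   ⟨⟨1,-1,-1,1,1,-3,-1,1⟩,1056,139,48⟩,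
   ⟨⟨1,-1,-1,1,1,-3,1,-1⟩,1056,0,123⟩,
   ⟨⟨1,-1,-1,1,1,-1,-1,-1⟩,544,139,80⟩,
   ⟨⟨1,-1,-1,1,1,-1,-1,1⟩,540,145,202⟩,
   ⟨⟨1,-1,-1,1,1,-1,-1,3⟩,1056,139,80⟩,
   ⟨⟨1,-1,-1,1,1,-1,1,-3⟩,1056,0,27⟩,
   ⟨⟨1,-1,-1,1,1,-1,1,-1⟩,540,26,129⟩,
   ⟨⟨1,-1,-1,1,1,-1,1,1⟩,544,0,27⟩,
   ⟨⟨1,-1,-1,1,1,1,-1,-1⟩,548,145,170⟩,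
   ⟨⟨1,-1,-1,1,1,1,-1,1⟩,544,139,48⟩,
   ⟨⟨1,-1,-1,1,1,1,1,-1⟩,544,0,123⟩,
   ⟨⟨1,-1,-1,1,1,1,1,1⟩,548,26,225⟩,
   ⟨⟨1,-1,-1,3,-1,1,-1,1⟩,1056,0,123⟩,
   ⟨⟨1,-1,-1,3,-1,1,1,-1⟩,1056,139,48⟩,
   ⟨⟨1,-1,-1,3,1,-1,-1,1⟩,1056,139,0⟩,
   ⟨⟨1,-1,-1,3,1,-1,1,-1⟩,1056,0,75⟩,
   ⟨⟨1,-1,1,-3,-1,1,-1,1⟩,1056,139,80⟩,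
   ⟨⟨1,-1,1,-3,-1,1,1,-1⟩,1056,0,27⟩,
   ⟨⟨1,-1,1,-3,1,-1,-1,1⟩,1056,0,43⟩,
   ⟨⟨1,-1,1,-3,1,-1,1,-1⟩,1056,139,96⟩,
   ⟨⟨1,-1,1,-1,-1,-1,-1,-1⟩,548,145,250⟩,
   ⟨⟨1,-1,1,-1,-1,-1,-1,1⟩,544,139,96⟩,
   ⟨⟨1,-1,1,-1,-1,-1,1,-1⟩,544,0,43⟩,
   ⟨⟨1,-1,1,-1,-1,-1,1,1⟩,548,26,177⟩,
   ⟨⟨1,-1,1,-1,-1,1,-1,-1⟩,544,139,0⟩,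
   ⟨⟨1,-1,1,-1,-1,1,-1,1⟩,540,145,154⟩,
   ⟨⟨1,-1,1,-1,-1,1,-1,3⟩,1056,139,0⟩,
   ⟨⟨1,-1,1,-1,-1,1,1,-3⟩,1056,0,75⟩,
   ⟨⟨1,-1,1,-1,-1,1,1,-1⟩,540,26,209⟩,
   ⟨⟨1,-1,1,-1,-1,1,1,1⟩,544,0,75⟩,
   ⟨⟨1,-1,1,-1,-1,3,-1,1⟩,1056,139,96⟩]

def ekChunk46 : List EK :=
  [⟨⟨1,-1,1,-1,-1,3,1,-1⟩,1056,0,43⟩,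
   ⟨⟨1,-1,1,-1,1,-3,-1,1⟩,1056,0,27⟩,
   ⟨⟨1,-1,1,-1,1,-3,1,-1⟩,1056,139,80⟩,
   ⟨⟨1,-1,1,-1,1,-1,-1,-1⟩,544,0,123⟩,
   ⟨⟨1,-1,1,-1,1,-1,-1,1⟩,540,26,225⟩,
   ⟨⟨1,-1,1,-1,1,-1,-1,3⟩,1056,0,123⟩,
   ⟨⟨1,-1,1,-1,1,-1,1,-3⟩,1056,139,48⟩,
   ⟨⟨1,-1,1,-1,1,-1,1,-1⟩,540,145,170⟩,
   ⟨⟨1,-1,1,-1,1,-1,1,1⟩,544,139,48⟩,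
   ⟨⟨1,-1,1,-1,1,1,-1,-1⟩,548,26,129⟩,
   ⟨⟨1,-1,1,-1,1,1,-1,1⟩,544,0,27⟩,
   ⟨⟨1,-1,1,-1,1,1,1,-1⟩,544,139,80⟩,
   ⟨⟨1,-1,1,-1,1,1,1,1⟩,548,145,202⟩,
   ⟨⟨1,-1,1,1,-3,1,-1,-1⟩,1056,0,75⟩,
   ⟨⟨1,-1,1,1,-3,1,1,1⟩,1056,139,0⟩,
   ⟨⟨1,-1,1,1,-1,-1,-3,1⟩,1056,0,123⟩,
   ⟨⟨1,-1,1,1,-1,-1,-1,1⟩,548,145,170⟩,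
   ⟨⟨1,-1,1,1,-1,-1,1,-1⟩,548,26,225⟩,
   ⟨⟨1,-1,1,1,-1,-1,3,-1⟩,1056,139,48⟩,
   ⟨⟨1,-1,1,1,-1,1,-1,-1⟩,548,145,202⟩,
   ⟨⟨1,-1,1,1,-1,1,-1,1⟩,544,139,80⟩,
   ⟨⟨1,-1,1,1,-1,1,1,-1⟩,544,0,27⟩,
   ⟨⟨1,-1,1,1,-1,1,1,1⟩,548,26,129⟩,
   ⟨⟨1,-1,1,1,1,-1,-1,-1⟩,548,26,177⟩,
   ⟨⟨1,-1,1,1,1,-1,-1,1⟩,544,0,43⟩,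
   ⟨⟨1,-1,1,1,1,-1,1,-1⟩,544,139,96⟩,
   ⟨⟨1,-1,1,1,1,-1,1,1⟩,548,145,250⟩,
   ⟨⟨1,-1,1,1,1,1,-3,1⟩,1056,139,0⟩,
   ⟨⟨1,-1,1,1,1,1,-1,1⟩,548,26,209⟩,
   ⟨⟨1,-1,1,1,1,1,1,-1⟩,548,145,154⟩,
   ⟨⟨1,-1,1,1,1,1,3,-1⟩,1056,0,75⟩,
   ⟨⟨1,-1,1,1,3,-1,-1,-1⟩,1056,139,48⟩,
   ⟨⟨1,-1,1,1,3,-1,1,1⟩,1056,0,123⟩,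
   ⟨⟨1,-1,3,-1,-1,-1,-1,-1⟩,1056,0,27⟩,
   ⟨⟨1,-1,3,-1,-1,-1,1,1⟩,1056,139,80⟩,
   ⟨⟨1,-1,3,-1,1,1,-1,-1⟩,1056,139,96⟩,
   ⟨⟨1,-1,3,-1,1,1,1,1⟩,1056,0,43⟩,
   ⟨⟨1,1,-3,1,-1,-1,-1,1⟩,1056,139,0⟩,
   ⟨⟨1,1,-3,1,-1,-1,1,-1⟩,1056,0,75⟩,
   ⟨⟨1,1,-3,1,-1,1,-1,-1⟩,1056,139,96⟩,
   ⟨⟨1,1,-3,1,-1,1,1,1⟩,1056,0,43⟩,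
   ⟨⟨1,1,-3,1,1,-1,-1,-1⟩,1056,0,27⟩,
   ⟨⟨1,1,-3,1,1,-1,1,1⟩,1056,139,80⟩,
   ⟨⟨1,1,-3,1,1,1,-1,1⟩,1056,0,123⟩,
   ⟨⟨1,1,-3,1,1,1,1,-1⟩,1056,139,48⟩,
   ⟨⟨1,1,-1,-1,-3,1,-1,1⟩,1056,139,80⟩,
   ⟨⟨1,1,-1,-1,-3,1,1,-1⟩,1056,0,27⟩,
   ⟨⟨1,1,-1,-1,-1,1,-3,1⟩,1056,139,0⟩,
   ⟨⟨1,1,-1,-1,-1,1,-1,1⟩,548,26,209⟩,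
   ⟨⟨1,1,-1,-1,-1,1,1,-1⟩,548,145,154⟩,
   ⟨⟨1,1,-1,-1,-1,1,3,-1⟩,1056,0,75⟩,
   ⟨⟨1,1,-1,-1,1,-1,-3,1⟩,1056,0,123⟩,
   ⟨⟨1,1,-1,-1,1,-1,-1,1⟩,548,145,170⟩,
   ⟨⟨1,1,-1,-1,1,-1,1,-1⟩,548,26,225⟩,
   ⟨⟨1,1,-1,-1,1,-1,3,-1⟩,1056,139,48⟩,
   ⟨⟨1,1,-1,-1,3,-1,-1,1⟩,1056,0,43⟩,
   ⟨⟨1,1,-1,-1,3,-1,1,-1⟩,1056,139,96⟩,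
   ⟨⟨1,1,-1,1,-3,1,-1,-1⟩,1056,139,0⟩,
   ⟨⟨1,1,-1,1,-3,1,1,1⟩,1056,0,75⟩,
   ⟨⟨1,1,-1,1,-1,-1,-3,1⟩,1056,139,48⟩,
   ⟨⟨1,1,-1,1,-1,-1,-1,1⟩,548,26,225⟩,
   ⟨⟨1,1,-1,1,-1,-1,1,-1⟩,548,145,170⟩,
   ⟨⟨1,1,-1,1,-1,-1,3,-1⟩,1056,0,123⟩,
   ⟨⟨1,1,-1,1,-1,1,-1,-1⟩,548,26,129⟩,
   ⟨⟨1,1,-1,1,-1,1,-1,1⟩,544,0,27⟩,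
   ⟨⟨1,1,-1,1,-1,1,1,-1⟩,544,139,80⟩,
   ⟨⟨1,1,-1,1,-1,1,1,1⟩,548,145,202⟩,
   ⟨⟨1,1,-1,1,1,-1,-1,-1⟩,548,145,250⟩,
   ⟨⟨1,1,-1,1,1,-1,-1,1⟩,544,139,96⟩,
   ⟨⟨1,1,-1,1,1,-1,1,-1⟩,544,0,43⟩,
   ⟨⟨1,1,-1,1,1,-1,1,1⟩,548,26,177⟩,
   ⟨⟨1,1,-1,1,1,1,-3,1⟩,1056,0,75⟩,
   ⟨⟨1,1,-1,1,1,1,-1,1⟩,548,145,154⟩,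
   ⟨⟨1,1,-1,1,1,1,1,-1⟩,548,26,209⟩,
   ⟨⟨1,1,-1,1,1,1,3,-1⟩,1056,139,0⟩,
   ⟨⟨1,1,-1,1,3,-1,-1,-1⟩,1056,0,123⟩,
   ⟨⟨1,1,-1,1,3,-1,1,1⟩,1056,139,48⟩,
   ⟨⟨1,1,1,-1,-3,1,-1,-1⟩,1056,0,43⟩,
   ⟨⟨1,1,1,-1,-3,1,1,1⟩,1056,139,96⟩,
   ⟨⟨1,1,1,-1,-1,-1,-3,1⟩,1056,0,27⟩,
   ⟨⟨1,1,1,-1,-1,-1,-1,1⟩,548,145,202⟩,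
   ⟨⟨1,1,1,-1,-1,-1,1,-1⟩,548,26,129⟩,
   ⟨⟨1,1,1,-1,-1,-1,3,-1⟩,1056,139,80⟩,
   ⟨⟨1,1,1,-1,-1,1,-1,-1⟩,548,145,170⟩,
   ⟨⟨1,1,1,-1,-1,1,-1,1⟩,544,139,48⟩,
   ⟨⟨1,1,1,-1,-1,1,1,-1⟩,544,0,123⟩,
   ⟨⟨1,1,1,-1,-1,1,1,1⟩,548,26,225⟩,
   ⟨⟨1,1,1,-1,1,-1,-1,-1⟩,548,26,209⟩,
   ⟨⟨1,1,1,-1,1,-1,-1,1⟩,544,0,75⟩,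
   ⟨⟨1,1,1,-1,1,-1,1,-1⟩,544,139,0⟩,
   ⟨⟨1,1,1,-1,1,-1,1,1⟩,548,145,154⟩,
   ⟨⟨1,1,1,-1,1,1,-3,1⟩,1056,139,96⟩,
   ⟨⟨1,1,1,-1,1,1,-1,1⟩,548,26,177⟩,
   ⟨⟨1,1,1,-1,1,1,1,-1⟩,548,145,250⟩,
   ⟨⟨1,1,1,-1,1,1,3,-1⟩,1056,0,43⟩,
   ⟨⟨1,1,1,-1,3,-1,-1,-1⟩,1056,139,80⟩,
   ⟨⟨1,1,1,-1,3,-1,1,1⟩,1056,0,27⟩,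
   ⟨⟨1,1,1,1,-3,1,-1,1⟩,1056,0,123⟩,
   ⟨⟨1,1,1,1,-3,1,1,-1⟩,1056,139,48⟩,
   ⟨⟨1,1,1,1,-1,1,-3,1⟩,1056,0,43⟩,
   ⟨⟨1,1,1,1,-1,1,-1,1⟩,548,145,250⟩,
   ⟨⟨1,1,1,1,-1,1,1,-1⟩,548,26,177⟩,
   ⟨⟨1,1,1,1,-1,1,3,-1⟩,1056,139,96⟩,
   ⟨⟨1,1,1,1,1,-1,-3,1⟩,1056,139,80⟩,
   ⟨⟨1,1,1,1,1,-1,-1,1⟩,548,26,129⟩,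
   ⟨⟨1,1,1,1,1,-1,1,-1⟩,548,145,202⟩,
   ⟨⟨1,1,1,1,1,-1,3,-1⟩,1056,0,27⟩,
   ⟨⟨1,1,1,1,3,-1,-1,1⟩,1056,139,0⟩,
   ⟨⟨1,1,1,1,3,-1,1,-1⟩,1056,0,75⟩,
   ⟨⟨1,1,3,-1,-1,-1,-1,1⟩,1056,0,43⟩,
   ⟨⟨1,1,3,-1,-1,-1,1,-1⟩,1056,139,96⟩,
   ⟨⟨1,1,3,-1,-1,1,-1,-1⟩,1056,0,75⟩,
   ⟨⟨1,1,3,-1,-1,1,1,1⟩,1056,139,0⟩,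
   ⟨⟨1,1,3,-1,1,-1,-1,-1⟩,1056,139,48⟩,
   ⟨⟨1,1,3,-1,1,-1,1,1⟩,1056,0,123⟩,
   ⟨⟨1,1,3,-1,1,1,-1,1⟩,1056,139,80⟩,
   ⟨⟨1,1,3,-1,1,1,1,-1⟩,1056,0,27⟩,
   ⟨⟨3,-1,-1,-1,-1,-1,-1,1⟩,1056,139,48⟩,
   ⟨⟨3,-1,-1,-1,-1,-1,1,-1⟩,1056,0,123⟩,
   ⟨⟨3,-1,-1,-1,-1,1,-1,-1⟩,1056,139,80⟩,
   ⟨⟨3,-1,-1,-1,-1,1,1,1⟩,1056,0,27⟩,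
   ⟨⟨3,-1,-1,-1,1,-1,-1,-1⟩,1056,0,43⟩,
   ⟨⟨3,-1,-1,-1,1,-1,1,1⟩,1056,139,96⟩,
   ⟨⟨3,-1,-1,-1,1,1,-1,1⟩,1056,0,75⟩,
   ⟨⟨3,-1,-1,-1,1,1,1,-1⟩,1056,139,0⟩,
   ⟨⟨3,-1,-1,1,-1,-1,-1,-1⟩,1056,139,96⟩,
   ⟨⟨3,-1,-1,1,-1,-1,1,1⟩,1056,0,43⟩,
   ⟨⟨3,-1,-1,1,1,1,-1,-1⟩,1056,0,27⟩,
   ⟨⟨3,-1,-1,1,1,1,1,1⟩,1056,139,80⟩,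
   ⟨⟨3,-1,1,-1,-1,-1,-1,-1⟩,1056,0,75⟩]

def ekChunk47 : List EK :=
  [⟨⟨3,-1,1,-1,-1,-1,1,1⟩,1056,139,0⟩,
   ⟨⟨3,-1,1,-1,1,1,-1,-1⟩,1056,139,48⟩,
   ⟨⟨3,-1,1,-1,1,1,1,1⟩,1056,0,123⟩,
   ⟨⟨3,-1,1,1,-1,-1,-1,1⟩,1056,0,27⟩,
   ⟨⟨3,-1,1,1,-1,-1,1,-1⟩,1056,139,80⟩,
   ⟨⟨3,-1,1,1,-1,1,-1,-1⟩,1056,0,123⟩,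
   ⟨⟨3,-1,1,1,-1,1,1,1⟩,1056,139,48⟩,
   ⟨⟨3,-1,1,1,1,-1,-1,-1⟩,1056,139,0⟩,
   ⟨⟨3,-1,1,1,1,-1,1,1⟩,1056,0,75⟩,
   ⟨⟨3,-1,1,1,1,1,-1,1⟩,1056,139,96⟩,
   ⟨⟨3,-1,1,1,1,1,1,-1⟩,1056,0,43⟩]

/-- the cached table -/
def ekList : List EK :=
  ekChunk0 ++
  ekChunk1 ++
  ekChunk2 ++
  ekChunk3 ++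
  ekChunk4 ++
  ekChunk5 ++
  ekChunk6 ++
  ekChunk7 ++
  ekChunk8 ++
  ekChunk9 ++
  ekChunk10 ++
  ekChunk11 ++
  ekChunk12 ++
  ekChunk13 ++
  ekChunk14 ++
  ekChunk15 ++
  ekChunk16 ++
  ekChunk17 ++
  ekChunk18 ++
  ekChunk19 ++
  ekChunk20 ++
  ekChunk21 ++
  ekChunk22 ++
  ekChunk23 ++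
  ekChunk24 ++
  ekChunk25 ++
  ekChunk26 ++
  ekChunk27 ++
  ekChunk28 ++
  ekChunk29 ++
  ekChunk30 ++
  ekChunk31 ++
  ekChunk32 ++
  ekChunk33 ++
  ekChunk34 ++
  ekChunk35 ++
  ekChunk36 ++
  ekChunk37 ++
  ekChunk38 ++
  ekChunk39 ++
  ekChunk40 ++
  ekChunk41 ++
  ekChunk42 ++
  ekChunk43 ++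
  ekChunk44 ++
  ekChunk45 ++
  ekChunk46 ++
  ekChunk47

/-- the values of the first class -/
def kVals : List ℕ := [0, 12, 22, 26, 36, 40, 50, 62, 135, 139, 145, 157, 163, 175, 181, 185]

/-- the values of the second class -/
def kwVals : List ℕ := [0, 27, 43, 48, 75, 80, 96, 123, 129, 154, 170, 177, 202, 209, 225, 250]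

/-- table by the two classes -/
def ekTab : List (ℕ × List EK × List (ℕ × List EK)) :=
  kVals.map fun a => (a, ekList.filter fun e => Nat.beq e.k a,
    kwVals.map fun b => (b, (ekList.filter fun e => Nat.beq e.k a).filter fun e => Nat.beq e.kw b))

/-- candidate last entries given the first two -/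
def lastOK (sub : List (ℕ × List EK)) (x y : EK) (ok : V → Bool) : Bool :=
  !Nat.ble (x.N + y.N) 1120 || sub.all fun p => !Nat.beq p.1 (Nat.xor x.kw y.kw) ||
    p.2.all fun z => !Nat.beq (x.N + y.N + z.N) 1120 || ok ⟨x.x, y.x, z.x⟩

/-- the listed lines -/
def isLine (v : V) : Bool := lineList.any fun w => decide (w = v)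

/-- all triples with the given first entries lie in the list -/
def scanRow (x : EK) : Bool :=
  ekTab.all fun row => !Nat.beq row.1 x.k || row.2.1.all fun y => lastOK row.2.2 x y isLine

end CfsgLib.J2
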