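import Cfsg.Agent.Lib.Spor.J2.Data
import Cfsg.Agent.Lib.Spor.J2.GenData
import Cfsg.Agent.Lib.Spor.J2.Perm315

/-! The test that a reflection permutes the lines as tabulated. -/

set_option autoImplicit false

namespace CfsgLib.J2

/-- the reflection in `r` sends the `j`-th line to the unit multiple of the tabulated line -/
def genLineOK (r : V) (p : ℕ) (ws : List ℕ) (j : ℕ) : Bool :=
  match lineList[j]?, ws[j]?, lineList[getP p j]? with
  | some s, some w, some t =>
    match unitList[w]? with
    | some u => decide (V.refl r s = V.lmul u t)
    | none => false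
  | _, _, _ => false

/-- all lines in a range -/
def genOK (g p : ℕ) (ws : List ℕ) (lo len : ℕ) : Bool :=
  match lineList[g]? with
  | some r => (List.range' lo len).all (genLineOK r p ws)
  | none => false

theorem getElem?_append_range {q : ℕ → Bool} {a b : ℕ} (h₁ : (List.range' 0 a).all q = true)
    (h₂ : (List.range' a b).all q = true) : ∀ j < a + b, q j = true := by
  intro j hj
  rcases lt_or_ge j a with h | h
  · exact List.all_eq_true.1 h₁ j (List.mem_range'_1.2 ⟨Nat.zero_le _, by omega⟩)
  · exact List.all_eq_true.1 h₂ j (List.mem_range'_1.2 ⟨h, by omega⟩)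

end CfsgLib.J2
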