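import Cfsg.Agent.Lib.Spor.J2.GramData

/-! The keys of the 315 reflections are right and distinct. -/

set_option autoImplicit false
set_option maxRecDepth 100000

namespace CfsgLib.J2

/-- append an element to a key -/
def encQ (n : ℕ) (x : Q) : ℕ :=
  [x.a0, x.b0, x.a1, x.b1, x.a2, x.b2, x.a3, x.b3].foldl (fun n c => n * 64 + (c + 32).toNat) n

/-- the key of a line: the nine products of conjugate coordinate and coordinate -/
def gramKey (v : V) : ℕ :=
  [Q.mul v.x.conj v.x, Q.mul v.x.conj v.y, Q.mul v.x.conj v.z, Q.mul v.y.conj v.x, Q.mul v.y.conj v.y,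
    Q.mul v.y.conj v.z, Q.mul v.z.conj v.x, Q.mul v.z.conj v.y, Q.mul v.z.conj v.z].foldl encQ 0

/-- no repetition -/
def allDistinct : List ℕ → Bool
  | [] => true
  | a :: l => !(l.any (Nat.beq a)) && allDistinct l

theorem allDistinct_nodup : ∀ l : List ℕ, allDistinct l = true → l.Nodup := by
  intro l
  induction l with
  | nil => simp
  | cons a l ih =>
    intro h
    simp only [allDistinct, Bool.and_eq_true, Bool.not_eq_true', List.any_eq_false] at h
    refine List.nodup_cons.2 ⟨fun ha => ?_, ih h.2⟩
    exact h.1 a ha (Nat.beq_refl a)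

theorem gram_eq : lineList.map gramKey = gramList := by decide +kernel

theorem gram_distinct : allDistinct gramList = true := by decide +kernel

theorem lines_ok : ∀ v ∈ lineList, v.ok = true ∧ v.dot v = ⟨8, 0, 0, 0, 0, 0, 0, 0⟩ := by decide +kernel

end CfsgLib.J2
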