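import Mathlib
import Cfsg.Prelude.Def_Spor_J2

/-!
An integral model of the icosian ring: `½(x₀ + x₁ i + x₂ j + x₃ k)` with `xₜ = aₜ + bₜ τ` is stored as the
eight integers `aₜ, bₜ`, and lies in the icosian ring when four parities hold.
-/

set_option autoImplicit false

namespace CfsgLib.J2

open Quaternion

/-- Eight integers: the coordinates of twice a quaternion over `ℤ[τ]`. -/
structure Q where
  a0 : ℤ
  b0 : ℤ
  a1 : ℤ
  b1 : ℤ
  a2 : ℤ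
  b2 : ℤ
  a3 : ℤ
  b3 : ℤ
deriving DecidableEq

namespace Q

/-- zero -/
def zero : Q := ⟨0, 0, 0, 0, 0, 0, 0, 0⟩
/-- one -/
def one : Q := ⟨2, 0, 0, 0, 0, 0, 0, 0⟩
/-- two -/
def two : Q := ⟨4, 0, 0, 0, 0, 0, 0, 0⟩
/-- the icosian `h` -/
def h : Q := ⟨1, -2, 1, 0, 1, 0, 1, 0⟩
/-- the conjugate of `h` -/
def hs : Q := ⟨1, -2, -1, 0, -1, 0, -1, 0⟩

/-- addition -/
def add (x y : Q) : Q :=
  ⟨x.a0 + y.a0, x.b0 + y.b0, x.a1 + y.a1, x.b1 + y.b1, x.a2 + y.a2, x.b2 + y.b2, x.a3 + y.a3, x.b3 + y.b3⟩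

/-- negation -/
def neg (x : Q) : Q := ⟨-x.a0, -x.b0, -x.a1, -x.b1, -x.a2, -x.b2, -x.a3, -x.b3⟩

/-- subtraction -/
def sub (x y : Q) : Q :=
  ⟨x.a0 - y.a0, x.b0 - y.b0, x.a1 - y.a1, x.b1 - y.b1, x.a2 - y.a2, x.b2 - y.b2, x.a3 - y.a3, x.b3 - y.b3⟩

/-- quaternion conjugation -/
def conj (x : Q) : Q := ⟨x.a0, x.b0, -x.a1, -x.b1, -x.a2, -x.b2, -x.a3, -x.b3⟩

/-- integer multiples -/
def smul (n : ℤ) (x : Q) : Q :=
  ⟨n * x.a0, n * x.b0, n * x.a1, n * x.b1, n * x.a2, n * x.b2, n * x.a3, n * x.b3⟩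

/-- first coordinate of a product in `ℤ[τ]` -/
def pA (a b c d : ℤ) : ℤ := a * c + b * d
/-- second coordinate of a product in `ℤ[τ]` -/
def pB (a b c d : ℤ) : ℤ := a * d + b * c + b * d

/-- the undivided product: twice the stored form of the product -/
def raw (x y : Q) : Q :=
  ⟨pA x.a0 x.b0 y.a0 y.b0 - pA x.a1 x.b1 y.a1 y.b1 - pA x.a2 x.b2 y.a2 y.b2 - pA x.a3 x.b3 y.a3 y.b3,
   pB x.a0 x.b0 y.a0 y.b0 - pB x.a1 x.b1 y.a1 y.b1 - pB x.a2 x.b2 y.a2 y.b2 - pB x.a3 x.b3 y.a3 y.b3,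
   pA x.a0 x.b0 y.a1 y.b1 + pA x.a1 x.b1 y.a0 y.b0 + pA x.a2 x.b2 y.a3 y.b3 - pA x.a3 x.b3 y.a2 y.b2,
   pB x.a0 x.b0 y.a1 y.b1 + pB x.a1 x.b1 y.a0 y.b0 + pB x.a2 x.b2 y.a3 y.b3 - pB x.a3 x.b3 y.a2 y.b2,
   pA x.a0 x.b0 y.a2 y.b2 - pA x.a1 x.b1 y.a3 y.b3 + pA x.a2 x.b2 y.a0 y.b0 + pA x.a3 x.b3 y.a1 y.b1,
   pB x.a0 x.b0 y.a2 y.b2 - pB x.a1 x.b1 y.a3 y.b3 + pB x.a2 x.b2 y.a0 y.b0 + pB x.a3 x.b3 y.a1 y.b1,
   pA x.a0 x.b0 y.a3 y.b3 + pA x.a1 x.b1 y.a2 y.b2 - pA x.a2 x.b2 y.a1 y.b1 + pA x.a3 x.b3 y.a0 y.b0,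
   pB x.a0 x.b0 y.a3 y.b3 + pB x.a1 x.b1 y.a2 y.b2 - pB x.a2 x.b2 y.a1 y.b1 + pB x.a3 x.b3 y.a0 y.b0⟩

/-- halving -/
def half (x : Q) : Q :=
  ⟨x.a0 / 2, x.b0 / 2, x.a1 / 2, x.b1 / 2, x.a2 / 2, x.b2 / 2, x.a3 / 2, x.b3 / 2⟩

/-- all eight coordinates are even -/
def evenQ (x : Q) : Bool :=
  x.a0 % 2 == 0 && x.b0 % 2 == 0 && x.a1 % 2 == 0 && x.b1 % 2 == 0 &&
    x.a2 % 2 == 0 && x.b2 % 2 == 0 && x.a3 % 2 == 0 && x.b3 % 2 == 0

/-- the product -/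
def mul (x y : Q) : Q := half (raw x y)

/-- the four parities -/
def good (x : Q) : Bool :=
  (x.b0 + x.a1 + x.b1 + x.a2) % 2 == 0 && (x.a0 + x.b0 + x.a1 + x.b2) % 2 == 0 &&
    (x.a0 + x.b0 + x.b1 + x.a3) % 2 == 0 && (x.a0 + x.a1 + x.b1 + x.b3) % 2 == 0

/-- membership in `2I` -/
def inTwo (x : Q) : Bool := evenQ x && good (half x)

/-- the real quaternion -/
noncomputable def val (x : Q) : ℍ[ℝ] :=
  ⟨(x.a0 + x.b0 * Cfsg.Spor.tau) / 2, (x.a1 + x.b1 * Cfsg.Spor.tau) / 2,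
    (x.a2 + x.b2 * Cfsg.Spor.tau) / 2, (x.a3 + x.b3 * Cfsg.Spor.tau) / 2⟩

end Q

open Q

theorem tau_sq : Cfsg.Spor.tau * Cfsg.Spor.tau = Cfsg.Spor.tau + 1 := by
  have h5 : Real.sqrt 5 * Real.sqrt 5 = 5 := Real.mul_self_sqrt (by norm_num)
  simp only [Cfsg.Spor.tau]
  linear_combination h5 / 4

theorem tau_irr : Irrational Cfsg.Spor.tau := by
  have h := ((Nat.prime_five).irrational_sqrt.natCast_add 1).div_natCast (m := 2) (by norm_num)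
  simpa [Cfsg.Spor.tau] using h

theorem pair_eq {a b c d : ℤ} (h : (a : ℝ) + b * Cfsg.Spor.tau = c + d * Cfsg.Spor.tau) : a = c ∧ b = d := by
  have hbd : b = d := by
    by_contra hne
    have hne' : ((d - b : ℤ) : ℝ) ≠ 0 := by exact_mod_cast sub_ne_zero.2 (Ne.symm hne)
    apply tau_irr
    refine ⟨((a - c : ℤ) : ℚ) / ((d - b : ℤ) : ℚ), ?_⟩
    push_cast at hne' ⊢
    field_simp
    linarith
  subst hbd
  exact ⟨by exact_mod_cast add_right_cancel h, rfl⟩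

theorem val_injective : Function.Injective Q.val := by
  rintro ⟨a0, b0, a1, b1, a2, b2, a3, b3⟩ ⟨c0, d0, c1, d1, c2, d2, c3, d3⟩ h
  have e0 := congrArg QuaternionAlgebra.re h
  have e1 := congrArg QuaternionAlgebra.imI h
  have e2 := congrArg QuaternionAlgebra.imJ h
  have e3 := congrArg QuaternionAlgebra.imK h
  simp only [Q.val, div_left_inj' (two_ne_zero' ℝ)] at e0 e1 e2 e3
  obtain ⟨rfl, rfl⟩ := pair_eq e0
  obtain ⟨rfl, rfl⟩ := pair_eq e1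
  obtain ⟨rfl, rfl⟩ := pair_eq e2
  obtain ⟨rfl, rfl⟩ := pair_eq e3
  rfl

@[simp] theorem re_val (x : Q) : x.val.re = (x.a0 + x.b0 * Cfsg.Spor.tau) / 2 := rfl
@[simp] theorem imI_val (x : Q) : x.val.imI = (x.a1 + x.b1 * Cfsg.Spor.tau) / 2 := rfl
@[simp] theorem imJ_val (x : Q) : x.val.imJ = (x.a2 + x.b2 * Cfsg.Spor.tau) / 2 := rfl
@[simp] theorem imK_val (x : Q) : x.val.imK = (x.a3 + x.b3 * Cfsg.Spor.tau) / 2 := rfl

@[simp] theorem val_add (x y : Q) : (x.add y).val = x.val + y.val := by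
  ext <;> simp [Q.add] <;> ring

@[simp] theorem val_sub (x y : Q) : (x.sub y).val = x.val - y.val := by
  ext <;> simp [Q.sub] <;> ring

@[simp] theorem val_neg (x : Q) : x.neg.val = -x.val := by
  ext <;> simp [Q.neg] <;> ring

@[simp] theorem val_conj (x : Q) : x.conj.val = star x.val := by
  ext <;> simp [Q.conj] <;> ring

theorem val_smul (n : ℤ) (x : Q) : (Q.smul n x).val = n • x.val := by
  rw [zsmul_eq_mul]
  ext <;> simp [Q.smul] <;> ring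

@[simp] theorem val_zero : Q.zero.val = 0 := by
  ext <;> simp [Q.zero]

@[simp] theorem val_one : Q.one.val = 1 := by
  ext <;> simp [Q.one]

@[simp] theorem val_two : Q.two.val = 2 := by
  rw [show (2 : ℍ[ℝ]) = 1 + 1 by norm_num, ← val_one, ← val_add]
  rfl

theorem val_h : Q.h.val = Cfsg.Spor.icoH := by
  ext <;> simp [Q.h, Cfsg.Spor.icoH, Cfsg.Spor.tau] <;> ring

theorem val_hs : Q.hs.val = star Cfsg.Spor.icoH := by
  rw [← val_h, ← val_conj]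
  rfl

theorem val_raw (x y : Q) : (Q.raw x y).val = x.val * y.val + x.val * y.val := by
  ext <;>
    simp [Q.raw, Q.pA, Q.pB, Quaternion.re_mul, Quaternion.imI_mul, Quaternion.imJ_mul,
      Quaternion.imK_mul]
  all_goals
    ring_nf
    simp only [show Cfsg.Spor.tau ^ 2 = Cfsg.Spor.tau + 1 by rw [sq]; exact tau_sq]
    ring

/-- The eight basis vectors. -/
def basisQ : List Q :=
  [⟨1, 0, 1, 0, 1, 0, 1, 0⟩, ⟨0, 1, 0, 0, 1, -1, 1, 0⟩, ⟨0, 0, 1, -1, 0, 1, 1, 0⟩, ⟨0, 0, 0, 1, 1, 0, 1, -1⟩,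
   ⟨0, 0, 0, 0, 2, 0, 0, 0⟩, ⟨0, 0, 0, 0, 0, 2, 2, -2⟩, ⟨0, 0, 0, 0, 0, 0, 2, 0⟩, ⟨0, 0, 0, 0, 0, 0, 0, 2⟩]

theorem good_iff (x : Q) : x.good = true ↔
    2 ∣ x.b0 + x.a1 + x.b1 + x.a2 ∧ 2 ∣ x.a0 + x.b0 + x.a1 + x.b2 ∧
      2 ∣ x.a0 + x.b0 + x.b1 + x.a3 ∧ 2 ∣ x.a0 + x.a1 + x.b1 + x.b3 := by
  simp only [Q.good, Bool.and_eq_true, beq_iff_eq]
  constructor <;> intro h <;> omega

/-- The additive group of good vectors. -/
noncomputable def goodGroup : AddSubgroup ℍ[ℝ] where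
  carrier := {q | ∃ x : Q, x.good = true ∧ x.val = q}
  zero_mem' := ⟨Q.zero, by decide, val_zero⟩
  add_mem' := by
    rintro _ _ ⟨x, hx, rfl⟩ ⟨y, hy, rfl⟩
    refine ⟨x.add y, ?_, val_add x y⟩
    rw [good_iff] at hx hy ⊢
    simp only [Q.add]
    omega
  neg_mem' := by
    rintro _ ⟨x, hx, rfl⟩
    refine ⟨x.neg, ?_, val_neg x⟩
    rw [good_iff] at hx ⊢
    simp only [Q.neg]
    omega

theorem basis_good : ∀ b ∈ basisQ, b.good = true := by decide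

theorem goodGroup_eq : goodGroup = AddSubgroup.closure {q | ∃ b ∈ basisQ, b.val = q} := by
  apply le_antisymm
  · rintro _ ⟨x, hx, rfl⟩
    rw [good_iff] at hx
    obtain ⟨⟨t4, h4⟩, ⟨t5, h5⟩, ⟨t6, h6⟩, ⟨t7, h7⟩⟩ := hx
    set c0 := x.a0
    set c1 := x.b0
    set c2 := x.a1 - c0
    set c3 := x.b1 + c2
    set c4 := (x.a2 - c0 - c1 - c3) / 2 with hc4
    set c5 := (x.b2 + c1 - c2) / 2 with hc5
    set c6 := (x.a3 - c0 - c1 - c2 - c3 - 2 * c5) / 2 with hc6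
    set c7 := (x.b3 + c3 + 2 * c5) / 2 with hc7
    have e : x = (((((((Q.smul c0 ⟨1, 0, 1, 0, 1, 0, 1, 0⟩).add (Q.smul c1 ⟨0, 1, 0, 0, 1, -1, 1, 0⟩)).add
        (Q.smul c2 ⟨0, 0, 1, -1, 0, 1, 1, 0⟩)).add (Q.smul c3 ⟨0, 0, 0, 1, 1, 0, 1, -1⟩)).add
        (Q.smul c4 ⟨0, 0, 0, 0, 2, 0, 0, 0⟩)).add (Q.smul c5 ⟨0, 0, 0, 0, 0, 2, 2, -2⟩)).add
        (Q.smul c6 ⟨0, 0, 0, 0, 0, 0, 2, 0⟩)).add (Q.smul c7 ⟨0, 0, 0, 0, 0, 0, 0, 2⟩) := by
      obtain ⟨a0, b0, a1, b1, a2, b2, a3, b3⟩ := x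
      simp only [Q.smul, Q.add, Q.mk.injEq]
      simp only [c0, c1, c2, c3] at *
      refine ⟨by ring, by ring, by ring, by ring, ?_, ?_, ?_, ?_⟩ <;> omega
    rw [e]
    simp only [val_add, val_smul]
    have hb : ∀ b ∈ basisQ, ∀ n : ℤ, n • b.val ∈ AddSubgroup.closure {q | ∃ b ∈ basisQ, b.val = q} :=
      fun b hb n => AddSubgroup.zsmul_mem _ (AddSubgroup.subset_closure
        (show b.val ∈ {q : ℍ[ℝ] | ∃ b ∈ basisQ, b.val = q} from ⟨b, hb, rfl⟩)) n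
    refine add_mem (add_mem (add_mem (add_mem (add_mem (add_mem (add_mem ?_ ?_) ?_) ?_) ?_) ?_) ?_) ?_ <;>
      exact hb _ (by decide) _
  · rw [AddSubgroup.closure_le]
    rintro _ ⟨b, hb, rfl⟩
    exact ⟨b, basis_good b hb, rfl⟩

theorem basis_mul : ∀ a ∈ basisQ, ∀ b ∈ basisQ,
    (Q.raw a b).inTwo = true ∧ (Q.mul a b).add (Q.mul a b) = Q.raw a b := by decide +kernel

theorem double_cancel {p q : ℍ[ℝ]} (h : p + p = q + q) : p = q := by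
  have h0 := congrArg QuaternionAlgebra.re h
  have h1 := congrArg QuaternionAlgebra.imI h
  have h2 := congrArg QuaternionAlgebra.imJ h
  have h3 := congrArg QuaternionAlgebra.imK h
  simp only [Quaternion.re_add, Quaternion.imI_add, Quaternion.imJ_add, Quaternion.imK_add] at h0 h1 h2 h3
  ext <;> linarith

theorem goodGroup_mul {p q : ℍ[ℝ]} (hp : p ∈ goodGroup) (hq : q ∈ goodGroup) : p * q ∈ goodGroup := by
  rw [goodGroup_eq] at hp hq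
  induction hp using AddSubgroup.closure_induction with
  | mem a ha =>
    induction hq using AddSubgroup.closure_induction with
    | mem b hb =>
      obtain ⟨a, ha, rfl⟩ := ha
      obtain ⟨b, hb, rfl⟩ := hb
      obtain ⟨h1, h2⟩ := basis_mul a ha b hb
      refine ⟨Q.mul a b, ?_, ?_⟩
      · simp only [Q.inTwo, Bool.and_eq_true] at h1
        exact h1.2
      · exact double_cancel (by rw [← val_add, h2, val_raw])
    | zero => rw [mul_zero]; exact zero_mem _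
    | add x y _ _ hx hy => rw [mul_add]; exact add_mem hx hy
    | neg x _ hx => rw [mul_neg]; exact neg_mem hx
  | zero => rw [zero_mul]; exact zero_mem _
  | add x y _ _ hx hy => rw [add_mul]; exact add_mem hx hy
  | neg x _ hx => rw [neg_mul]; exact neg_mem hx

/-- The subring of good vectors. -/
noncomputable def goodRing : Subring ℍ[ℝ] :=
  { goodGroup with
    one_mem' := ⟨Q.one, by decide, val_one⟩
    mul_mem' := goodGroup_mul }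

/-- the first generator -/
def genI : Q := ⟨0, 0, 2, 0, 0, 0, 0, 0⟩
/-- the second generator -/
def genW : Q := ⟨1, 0, 1, -1, 0, 0, 0, 1⟩

/-- the product of a word in the two generators -/
def wordQ : List Bool → Q
  | [] => Q.one
  | k :: l => Q.mul (if k then genW else genI) (wordQ l)

theorem good_mul {x y : Q} (hx : x.good = true) (hy : y.good = true) :
    (Q.mul x y).val = x.val * y.val ∧ (Q.mul x y).good = true := by
  obtain ⟨z, hz, e⟩ := goodGroup_mul ⟨x, hx, rfl⟩ ⟨y, hy, rfl⟩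
  have : Q.raw x y = z.add z := val_injective (by rw [val_add, e, val_raw])
  have hm : Q.mul x y = z := by
    rw [Q.mul, this]
    obtain ⟨a0, b0, a1, b1, a2, b2, a3, b3⟩ := z
    simp only [Q.half, Q.add, Q.mk.injEq]
    omega
  rw [hm]
  exact ⟨e, hz⟩

theorem val_genI : genI.val = Cfsg.Spor.qI := by
  ext <;> simp [genI, Cfsg.Spor.qI]

theorem val_genW : genW.val = ⟨1 / 2, Cfsg.Spor.sig / 2, 0, Cfsg.Spor.tau / 2⟩ := by
  ext <;> simp [genW, Cfsg.Spor.sig, Cfsg.Spor.tau]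
  ring

theorem word_mem : ∀ l, (wordQ l).good = true ∧ (wordQ l).val ∈ Cfsg.Spor.icosians := by
  intro l
  induction l with
  | nil => exact ⟨by decide, by simp [wordQ, one_mem]⟩
  | cons k l ih =>
    have hk : (if k then genW else genI).good = true ∧ (if k then genW else genI).val ∈ Cfsg.Spor.icosians := by
      cases k
      · exact ⟨by decide, Subring.subset_closure (Or.inl val_genI)⟩
      · exact ⟨by decide, Subring.subset_closure (Or.inr val_genW)⟩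
    obtain ⟨e, g⟩ := good_mul hk.1 ih.1
    exact ⟨g, by rw [wordQ, e]; exact mul_mem hk.2 ih.2⟩

/-- read a word -/
def rdWord (s : List ℕ) : List Bool := s.map fun k => k == 1

/-- each basis vector as a sum of words -/
def basisWords : List (Q × List (List ℕ)) :=
  [(⟨1, 0, 1, 0, 1, 0, 1, 0⟩, [[0, 0, 0, 1, 0, 1, 0, 1, 1, 0]]),
   (⟨0, 1, 0, 0, 1, -1, 1, 0⟩, [[0, 0, 0, 1, 1, 0, 1, 0, 1, 1, 0, 1]]),
   (⟨0, 0, 1, -1, 0, 1, 1, 0⟩, [[0, 1, 1, 0, 1, 0]]),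
   (⟨0, 0, 0, 1, 1, 0, 1, -1⟩, [[1, 0, 1, 1, 0, 1, 0, 1, 1]]),
   (⟨0, 0, 0, 0, 2, 0, 0, 0⟩, [[0, 1, 0, 1, 1, 0, 1, 0, 1, 1, 0, 1]]),
   (⟨0, 0, 0, 0, 0, 2, 2, -2⟩, [[1, 0, 1, 1, 0, 1, 0, 1], [0, 1, 0, 1, 0, 1, 1, 0, 1, 1]]),
   (⟨0, 0, 0, 0, 0, 0, 2, 0⟩, [[0, 0, 1, 0, 1, 1, 0, 1, 0, 1, 1, 0, 1]]),
   (⟨0, 0, 0, 0, 0, 0, 0, 2⟩, [[0, 1, 0], [1]])]

theorem basisWords_ok : basisWords.map Prod.fst = basisQ ∧
    ∀ p ∈ basisWords, (p.2.map fun w => wordQ (rdWord w)).foldr Q.add Q.zero = p.1 := by decide +kernel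

theorem icosians_eq : (Cfsg.Spor.icosians : Set ℍ[ℝ]) = {q | ∃ x : Q, x.good = true ∧ x.val = q} := by
  apply Set.Subset.antisymm
  · show Cfsg.Spor.icosians ≤ goodRing
    rw [Cfsg.Spor.icosians, Subring.closure_le]
    rintro q (rfl | rfl)
    · exact ⟨genI, by decide, val_genI⟩
    · exact ⟨genW, by decide, val_genW⟩
  · intro q hq
    have h1 : q ∈ AddSubgroup.closure {q | ∃ b ∈ basisQ, b.val = q} := goodGroup_eq ▸ hq
    refine (AddSubgroup.closure_le (K := Cfsg.Spor.icosians.toAddSubgroup)).2 ?_ h1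
    rintro _ ⟨b, hb, rfl⟩
    rw [← basisWords_ok.1, List.mem_map] at hb
    obtain ⟨p, hp, rfl⟩ := hb
    rw [← basisWords_ok.2 p hp]
    generalize p.2 = ws
    induction ws with
    | nil => simp [zero_mem]
    | cons w ws ih =>
      simp only [List.map_cons, List.foldr_cons, val_add]
      exact add_mem (word_mem _).2 ih

theorem mem_icosians {q : ℍ[ℝ]} : q ∈ Cfsg.Spor.icosians ↔ ∃ x : Q, x.good = true ∧ x.val = q :=
  Set.ext_iff.1 icosians_eq q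

theorem val_mem_icosians {x : Q} : x.val ∈ Cfsg.Spor.icosians ↔ x.good = true := by
  rw [mem_icosians]
  exact ⟨fun ⟨y, hy, e⟩ => val_injective e ▸ hy, fun h => ⟨x, h, rfl⟩⟩

end CfsgLib.J2
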