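import Cfsg.Agent.Lib.Spor.J2.Sym8

/-!
An extension of an elementary abelian group of order 64 by the alternating group of degree 8
has the element orders of the symmetric group of degree 8.
-/

set_option autoImplicit false
set_option maxRecDepth 100000

namespace CfsgLib.J2

open scoped SemidirectProduct

/-- column vectors over the field with two elements, written multiplicatively -/
abbrev U8 := Multiplicative (Fin 8 → ZMod 2)

/-- permutation of coordinates -/
def permU : alternatingGroup (Fin 8) →* MulAut U8 where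
  toFun g :=
    { toFun := fun v => Multiplicative.ofAdd fun i => Multiplicative.toAdd v ((g : Equiv.Perm (Fin 8)).symm i)
      invFun := fun v => Multiplicative.ofAdd fun i => Multiplicative.toAdd v ((g : Equiv.Perm (Fin 8)) i)
      left_inv := fun v => by funext i; simp
      right_inv := fun v => by funext i; simp
      map_mul' := fun v w => rfl }
  map_one' := rfl
  map_mul' g h := rfl

/-- affine even permutations -/
abbrev Aff8 := U8 ⋊[permU] alternatingGroup (Fin 8)

/-- the parity of a vector -/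
def par (v : U8) : ZMod 2 := ∑ i, Multiplicative.toAdd v i

theorem par_perm (g : alternatingGroup (Fin 8)) (v : U8) : par (permU g v) = par v :=
  Equiv.sum_comp (g : Equiv.Perm (Fin 8)).symm (fun i => Multiplicative.toAdd v i)

theorem par_mul (v w : U8) : par (v * w) = par v + par w := Finset.sum_add_distrib

/-- even vectors with permutations -/
def evenAff : Subgroup Aff8 where
  carrier := {x | par x.left = 0}
  one_mem' := by simp [par]
  mul_mem' {x y} hx hy := by
    show par (x.left * permU x.right y.left) = 0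
    rw [par_mul, par_perm]
    simp only [Set.mem_setOf_eq] at hx hy
    rw [hx, hy, add_zero]
  inv_mem' {x} hx := by
    show par (permU x.right⁻¹ x.left⁻¹) = 0
    rw [par_perm]
    have h := par_mul x.left x.left⁻¹
    rw [mul_inv_cancel] at h
    simp only [Set.mem_setOf_eq] at hx
    rw [hx, zero_add] at h
    exact h.symm.trans (by simp [par])

/-- the all-ones vector -/
def onesV : U8 := Multiplicative.ofAdd fun _ => 1

/-- translation by all ones -/
def onesEl : evenAff := ⟨⟨onesV, 1⟩, by show par onesV = 0; decide⟩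

theorem onesEl_central : onesEl ∈ Subgroup.center evenAff := by
  rw [Subgroup.mem_center_iff]
  intro x
  refine Subtype.ext (SemidirectProduct.ext ?_ ?_)
  · show (x : Aff8).left * permU (x : Aff8).right onesV = onesV * permU 1 (x : Aff8).left
    rw [map_one, MulAut.one_apply, mul_comm]
    rfl
  · show (x : Aff8).right * 1 = 1 * (x : Aff8).right
    rw [one_mul, mul_one]

/-- the subgroup of constants -/
def constSub : Subgroup evenAff := Subgroup.zpowers onesEl

instance : constSub.Normal where
  conj_mem n hn g := by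
    have hc : n ∈ Subgroup.center evenAff := (Subgroup.zpowers_le.2 onesEl_central) hn
    rwa [Subgroup.mem_center_iff.1 hc g, mul_inv_cancel_right]

theorem mem_constSub {x : evenAff} : x ∈ constSub ↔ x = 1 ∨ x = onesEl := by
  constructor
  · intro hx
    have h2 : onesEl * onesEl = 1 := by decide +kernel
    have : constSub ≤ ({ carrier := {y | y = 1 ∨ y = onesEl}
                         one_mem' := Or.inl rfl
                         mul_mem' := by rintro a b (rfl | rfl) (rfl | rfl) <;> simp [h2]
                         inv_mem' := by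
                           rintro a (rfl | rfl)
                           · simp
                           · exact Or.inr (inv_eq_of_mul_eq_one_right h2) } : Subgroup evenAff) :=
      Subgroup.zpowers_le.2 (Or.inr rfl)
    exact this hx
  · rintro (rfl | rfl)
    · exact one_mem _
    · exact Subgroup.mem_zpowers _

/-- the group of shape 2^6:A8 -/
abbrev Ext64 := evenAff ⧸ constSub

/-- orders of elements in the alternating group of degree 8 -/
def lcmsP : ℕ → ℕ → List (ℕ × ℕ)
  | 0, _ => [(1, 0)]
  | f + 1, n => (1, 0) :: (List.range' 2 (n - 1)).flatMap fun p =>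
      (lcmsP f (n - p)).map fun q => (Nat.lcm p q.1, (p + 1 + q.2) % 2)

theorem mem_lcmsP (m : Multiset ℕ) : (∀ a ∈ m, 2 ≤ a) → ∀ f n : ℕ, m.sum ≤ n → n ≤ 2 * f + 1 →
    (m.lcm, (m.sum + m.card) % 2) ∈ lcmsP f n := by
  induction m using Multiset.induction_on with
  | empty =>
    intro _ f n _ _
    cases f <;> simp [lcmsP]
  | cons a m ih =>
    intro h f n hs hf
    have ha := h a (Multiset.mem_cons_self a m)
    rw [Multiset.sum_cons] at hs
    cases f with
    | zero => omega
    | succ f =>
      rw [Multiset.lcm_cons]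
      refine List.mem_cons_of_mem _ (List.mem_flatMap.2 ⟨a, List.mem_range'_1.2 ⟨ha, by omega⟩, ?_⟩)
      refine List.mem_map.2 ⟨_, ih (fun b hb => h b (Multiset.mem_cons_of_mem hb)) f (n - a) (by omega) (by omega), ?_⟩
      refine Prod.ext rfl ?_
      simp only [Multiset.sum_cons, Multiset.card_cons]
      omega

theorem orderOf_alt8 (g : alternatingGroup (Fin 8)) :
    orderOf (g : Equiv.Perm (Fin 8)) ∈ [1, 2, 3, 4, 5, 6, 7, 15] := by
  set σ : Equiv.Perm (Fin 8) := (g : Equiv.Perm (Fin 8))
  have hs : σ.cycleType.sum ≤ 8 := by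
    rw [Equiv.Perm.sum_cycleType]; exact le_trans (Finset.card_le_univ _) (by simp)
  have h := mem_lcmsP σ.cycleType (fun a ha => Equiv.Perm.two_le_of_mem_cycleType ha) 4 8 hs (by omega)
  have hpar : (σ.cycleType.sum + σ.cycleType.card) % 2 = 0 := by
    have hsgn : Equiv.Perm.sign σ = 1 := Equiv.Perm.mem_alternatingGroup.1 g.2
    rw [Equiv.Perm.sign_of_cycleType] at hsgn
    rw [← Nat.even_iff]
    exact (neg_one_pow_eq_one_iff_even (by decide)).1 hsgn
  rw [Equiv.Perm.lcm_cycleType, hpar] at h
  have key : ∀ q ∈ lcmsP 4 8, q.2 = 0 → q.1 ∈ [1, 2, 3, 4, 5, 6, 7, 15] := by decide +kernel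
  exact key _ h rfl

theorem subtypePerm_pow_apply {α : Type*} (σ : Equiv.Perm α) {p : α → Prop} (h : ∀ x, p (σ x) ↔ p x)
    (m : ℕ) : ∀ x : {x // p x}, (((σ.subtypePerm h) ^ m) x : α) = (σ ^ m) x := by
  induction m with
  | zero => intro x; rfl
  | succ m ih => intro x; rw [pow_succ, pow_succ, Equiv.Perm.mul_apply, Equiv.Perm.mul_apply, ih]; rfl

/-- an element of order 7 or 15 fixes only constant vectors among the even ones -/
theorem fixed_even_const (σ : Equiv.Perm (Fin 8)) (hσ : orderOf σ = 7 ∨ orderOf σ = 15) (w : Fin 8 → ZMod 2)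
    (hfix : ∀ i, w (σ i) = w i) (heven : ∑ i, w i = 0) : (∀ i, w i = 0) ∨ ∀ i, w i = 1 := by
  classical
  by_contra hcon
  push_neg at hcon
  obtain ⟨⟨i₁, h₁⟩, ⟨i₀, h₀⟩⟩ := hcon
  let p : Fin 8 → Prop := fun i => w i = 1
  have hp : ∀ i, p (σ i) ↔ p i := fun i => by simp [p, hfix i]
  let q : Fin 8 → Prop := fun i => ¬p i
  have hq : ∀ i, q (σ i) ↔ q i := fun i => not_congr (hp i)
  set a := orderOf (σ.subtypePerm hp) with ha'
  set b := orderOf (σ.subtypePerm hq : Equiv.Perm {i // q i}) with hb'
  have hpow : σ ^ Nat.lcm a b = 1 := by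
    ext x : 1
    rw [Equiv.Perm.one_apply]
    by_cases hx : p x
    · have e : (σ.subtypePerm hp) ^ Nat.lcm a b = 1 :=
        orderOf_dvd_iff_pow_eq_one.1 (Nat.dvd_lcm_left a b)
      have := subtypePerm_pow_apply σ hp (Nat.lcm a b) ⟨x, hx⟩
      rw [e] at this; exact this.symm
    · have e : (σ.subtypePerm hq) ^ Nat.lcm a b = 1 :=
        orderOf_dvd_iff_pow_eq_one.1 (Nat.dvd_lcm_right a b)
      have := subtypePerm_pow_apply σ hq (Nat.lcm a b) ⟨x, hx⟩
      rw [e] at this; exact this.symm
  set k := Fintype.card {i // p i} with hk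
  have hkc : Fintype.card {i // ¬p i} = 8 - k := by
    rw [Fintype.card_subtype_compl, Fintype.card_fin]
  have hk0 : 0 < k := by
    refine Fintype.card_pos_iff.2 ⟨⟨i₁, ?_⟩⟩
    exact (by decide : ∀ t : ZMod 2, t ≠ 0 → t = 1) _ h₁
  have hk8 : k < 8 := by
    refine lt_of_lt_of_eq (Fintype.card_subtype_lt (x := i₀) ?_) (Fintype.card_fin 8)
    exact h₀
  have hkeven : k % 2 = 0 := by
    have e : (k : ZMod 2) = ∑ i, w i := by
      rw [hk, Fintype.card_subtype, Finset.card_filter, Nat.cast_sum]
      refine Finset.sum_congr rfl fun i _ => ?_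
      rcases (by decide : ∀ t : ZMod 2, t = 0 ∨ t = 1) (w i) with h | h <;> simp [p, h]
    rw [heven] at e
    exact Nat.mod_eq_zero_of_dvd ((ZMod.natCast_eq_zero_iff k 2).1 e)
  have hA := orderOf_perm_mem (σ.subtypePerm hp) k le_rfl
  have hB := orderOf_perm_mem (σ.subtypePerm hq) (8 - k) hkc.le
  rw [← ha'] at hA
  rw [← hb'] at hB
  have key : ∀ k ∈ [2, 4, 6], ∀ a ∈ lcms (k / 2) k, ∀ b ∈ lcms ((8 - k) / 2) (8 - k),
      ¬(7 ∣ Nat.lcm a b) ∧ ¬(15 ∣ Nat.lcm a b) := by decide +kernel
  have hk3 : k ∈ [2, 4, 6] := by simp; omega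
  obtain ⟨n7, n15⟩ := key k hk3 a hA b hB
  have hd := orderOf_dvd_of_pow_eq_one hpow
  rcases hσ with h | h <;> rw [h] at hd
  · exact n7 hd
  · exact n15 hd

theorem orderOf_ext64 (y : Ext64) : orderOf y ∈ [1, 2, 3, 4, 5, 6, 7, 8, 10, 12, 15] := by
  obtain ⟨x, rfl⟩ := QuotientGroup.mk_surjective y
  set g := (x : Aff8).right with hg
  set n := orderOf (g : Equiv.Perm (Fin 8)) with hn
  have hgn : g ^ n = 1 := Subtype.ext (by rw [Subgroup.coe_pow]; exact pow_orderOf_eq_one _)
  set X : Aff8 := ((x ^ n : evenAff) : Aff8) with hX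
  have hXr : X.right = 1 := by
    rw [hX, Subgroup.coe_pow]
    exact (map_pow SemidirectProduct.rightHom (x : Aff8) n).trans hgn
  have hsq : x ^ (n * 2) = 1 := by
    refine Subtype.ext ?_
    rw [pow_mul, Subgroup.coe_pow, ← hX, pow_two]
    refine SemidirectProduct.ext ?_ ?_
    · show X.left * permU X.right X.left = 1
      rw [hXr, map_one, MulAut.one_apply]
      show Multiplicative.ofAdd (Multiplicative.toAdd X.left + Multiplicative.toAdd X.left) = 1
      refine congrArg Multiplicative.ofAdd (funext fun i => ?_)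
      exact (by decide : ∀ t : ZMod 2, t + t = 0) _
    · show X.right * X.right = 1
      rw [hXr, one_mul]
  have hd2 : orderOf (QuotientGroup.mk x : Ext64) ∣ n * 2 :=
    orderOf_dvd_of_pow_eq_one (by rw [← QuotientGroup.mk_pow, hsq]; rfl)
  have hodd : n = 7 ∨ n = 15 → orderOf (QuotientGroup.mk x : Ext64) ∣ n := by
    intro h
    refine orderOf_dvd_of_pow_eq_one ?_
    rw [← QuotientGroup.mk_pow, QuotientGroup.eq_one_iff, mem_constSub]
    have hfix : ∀ i, Multiplicative.toAdd X.left ((g : Equiv.Perm (Fin 8)) i) = Multiplicative.toAdd X.left i := by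
      intro i
      have hc : ((x : Aff8) * X) = X * (x : Aff8) := by
        rw [hX, Subgroup.coe_pow, ← pow_succ, ← pow_succ']
      have h1 : (x : Aff8).left * permU g X.left = X.left * permU X.right (x : Aff8).left :=
        congrArg SemidirectProduct.left hc
      rw [hXr, map_one, MulAut.one_apply, mul_comm X.left, mul_right_inj] at h1
      have h2 := congrFun (congrArg Multiplicative.toAdd h1) ((g : Equiv.Perm (Fin 8)) i)
      have h3 : Multiplicative.toAdd (permU g X.left) ((g : Equiv.Perm (Fin 8)) i) =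
          Multiplicative.toAdd X.left ((g : Equiv.Perm (Fin 8)).symm ((g : Equiv.Perm (Fin 8)) i)) := rfl
      rw [h3, Equiv.symm_apply_apply] at h2
      exact h2.symm
    rcases fixed_even_const _ h _ hfix (x ^ n : evenAff).2 with h0 | h1
    · exact Or.inl (Subtype.ext (SemidirectProduct.ext (funext h0) hXr))
    · exact Or.inr (Subtype.ext (SemidirectProduct.ext (funext h1) hXr))
  have hmem := orderOf_alt8 g
  rw [← hn] at hmem
  have key : ∀ n ∈ [1, 2, 3, 4, 5, 6, 7, 15], ∀ d ∈ (n * 2).divisors, ((n = 7 ∨ n = 15) → d ∣ n) →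
      d ∈ [1, 2, 3, 4, 5, 6, 7, 8, 10, 12, 15] := by decide +kernel
  exact key n hmem _ (Nat.mem_divisors.2 ⟨hd2, by
    have : 0 < n := orderOf_pos _
    omega⟩) hodd

/-- an element of the extension -/
def mkAff (v : List (ZMod 2)) (σ : Equiv.Perm (Fin 8)) (hσ : σ ∈ alternatingGroup (Fin 8))
    (hv : par (Multiplicative.ofAdd fun i : Fin 8 => v.getD i 0) = 0) : evenAff :=
  ⟨⟨Multiplicative.ofAdd fun i : Fin 8 => v.getD i 0, ⟨σ, hσ⟩⟩, hv⟩

/-- iterated products -/
def powN (x : evenAff) : ℕ → evenAff
  | 0 => 1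
  | j + 1 => powN x j * x

theorem powN_eq (x : evenAff) : ∀ j, powN x j = x ^ j
  | 0 => (pow_zero x).symm
  | j + 1 => by rw [powN, powN_eq x j, pow_succ]

/-- the element is one of the two constants -/
def isConstB (x : evenAff) : Bool :=
  decide ((x : Aff8).right = 1) && (decide ((x : Aff8).left = 1) || decide ((x : Aff8).left = onesV))

theorem isConstB_iff {x : evenAff} : isConstB x = true ↔ x = 1 ∨ x = onesEl := by
  simp only [isConstB, Bool.and_eq_true, Bool.or_eq_true, decide_eq_true_eq]
  constructor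
  · rintro ⟨h, h' | h'⟩
    · exact Or.inl (Subtype.ext (SemidirectProduct.ext h' h))
    · exact Or.inr (Subtype.ext (SemidirectProduct.ext h' h))
  · rintro (rfl | rfl)
    · exact ⟨rfl, Or.inl rfl⟩
    · exact ⟨rfl, Or.inr rfl⟩

/-- the check that the image in the quotient has the given order -/
def ordOK (x : evenAff) (n : ℕ) : Bool :=
  isConstB (powN x n) && (List.range' 1 (n - 1)).all fun j => !isConstB (powN x j)

theorem orderOf_mk_eq {x : evenAff} {n : ℕ} (hn : 0 < n) (h : ordOK x n = true) :
    orderOf (QuotientGroup.mk x : Ext64) = n := by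
  simp only [ordOK, powN_eq, Bool.and_eq_true, List.all_eq_true, Bool.not_eq_true', ← Bool.not_eq_true,
    isConstB_iff, List.mem_range'_1] at h
  rw [orderOf_eq_iff hn]
  refine ⟨?_, fun j hj hj0 => ?_⟩
  · rw [← QuotientGroup.mk_pow, QuotientGroup.eq_one_iff, mem_constSub]; exact h.1
  · rw [Ne, ← QuotientGroup.mk_pow, QuotientGroup.eq_one_iff, mem_constSub, not_or]; exact not_or.1 (h.2 j ⟨hj0, by omega⟩)

/-- order 8 -/
def e8 : evenAff := mkAff [1, 0, 0, 0, 1, 0, 0, 0] (List.formPerm [0, 1, 2, 3] * List.formPerm [4, 5])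
  (Equiv.Perm.mem_alternatingGroup.2 (by decide +kernel)) (by decide +kernel)
/-- order 10 -/
def e10 : evenAff := mkAff [1, 0, 0, 0, 0, 1, 0, 0] (List.formPerm [0, 1, 2, 3, 4]) (Equiv.Perm.mem_alternatingGroup.2 (by decide +kernel))
  (by decide +kernel)
/-- order 12 -/
def e12 : evenAff := mkAff [0, 0, 0, 1, 0, 0, 0, 1]
  (List.formPerm [0, 1, 2] * List.formPerm [3, 4] * List.formPerm [5, 6])
  (Equiv.Perm.mem_alternatingGroup.2 (by decide +kernel)) (by decide +kernel)
/-- order 7 -/
def e7 : evenAff := mkAff [] (List.formPerm [0, 1, 2, 3, 4, 5, 6]) (Equiv.Perm.mem_alternatingGroup.2 (by decide +kernel)) (by decide +kernel)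
/-- order 15 -/
def e15 : evenAff := mkAff [] (List.formPerm [0, 1, 2, 3, 4] * List.formPerm [5, 6, 7]) (Equiv.Perm.mem_alternatingGroup.2 (by decide +kernel))
  (by decide +kernel)

theorem range_orderOf_ext64 :
    Set.range (orderOf : Ext64 → ℕ) = {1, 2, 3, 4, 5, 6, 7, 8, 10, 12, 15} := by
  ext n
  constructor
  · rintro ⟨y, rfl⟩
    have := orderOf_ext64 y
    simp only [List.mem_cons, List.not_mem_nil, or_false] at this
    simpa only [Set.mem_insert_iff, Set.mem_singleton_iff] using this
  · intro hn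
    have o8 : orderOf (QuotientGroup.mk e8 : Ext64) = 8 :=
      orderOf_mk_eq (by norm_num) (by decide +kernel)
    have o10 : orderOf (QuotientGroup.mk e10 : Ext64) = 10 :=
      orderOf_mk_eq (by norm_num) (by decide +kernel)
    have o12 : orderOf (QuotientGroup.mk e12 : Ext64) = 12 :=
      orderOf_mk_eq (by norm_num) (by decide +kernel)
    have o7 : orderOf (QuotientGroup.mk e7 : Ext64) = 7 :=
      orderOf_mk_eq (by norm_num) (by decide +kernel)
    have o15 : orderOf (QuotientGroup.mk e15 : Ext64) = 15 :=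
      orderOf_mk_eq (by norm_num) (by decide +kernel)
    have down : ∀ {y : Ext64} {m d : ℕ}, orderOf y = m → 0 < d → d ∣ m →
        m / d ∈ Set.range (orderOf : Ext64 → ℕ) := by
      intro y m d hy hd hdm
      refine ⟨y ^ d, ?_⟩
      rw [orderOf_pow' _ hd.ne', hy, Nat.gcd_eq_right hdm]
    simp only [Set.mem_insert_iff, Set.mem_singleton_iff] at hn
    rcases hn with rfl | rfl | rfl | rfl | rfl | rfl | rfl | rfl | rfl | rfl | rfl
    · exact down o8 (by norm_num : 0 < 8) dvd_rfl
    · exact down o8 (by norm_num : 0 < 4) (by norm_num)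
    · exact down o12 (by norm_num : 0 < 4) (by norm_num)
    · exact down o8 (by norm_num : 0 < 2) (by norm_num)
    · exact down o10 (by norm_num : 0 < 2) (by norm_num)
    · exact down o12 (by norm_num : 0 < 2) (by norm_num)
    · exact ⟨_, o7⟩
    · exact ⟨_, o8⟩
    · exact ⟨_, o10⟩
    · exact ⟨_, o12⟩
    · exact ⟨_, o15⟩

/-- the translations -/
def transSub : Subgroup Ext64 :=
  ((SemidirectProduct.rightHom (φ := permU)).comp evenAff.subtype).ker.map (QuotientGroup.mk' constSub)

instance : transSub.Normal :=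
  Subgroup.Normal.map inferInstance _ (QuotientGroup.mk'_surjective _)

theorem transSub_ne_bot : transSub ≠ ⊥ := by
  intro h
  let t : evenAff := mkAff [1, 1] 1 (one_mem _) (by decide +kernel)
  have hmem : (QuotientGroup.mk t : Ext64) ∈ transSub := ⟨t, rfl, rfl⟩
  rw [h, Subgroup.mem_bot, QuotientGroup.eq_one_iff, mem_constSub] at hmem
  revert hmem
  decide +kernel

theorem transSub_solvable : Group.IsSolvable transSub := by
  refine Group.isSolvable_of_comm fun a b => Subtype.ext ?_
  obtain ⟨a', ha, ea⟩ := a.2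
  obtain ⟨b', hb, eb⟩ := b.2
  rw [Subgroup.coe_mul, Subgroup.coe_mul, ← ea, ← eb, ← map_mul, ← map_mul]
  congr 1
  have ha' : (a' : Aff8).right = 1 := ha
  have hb' : (b' : Aff8).right = 1 := hb
  refine Subtype.ext (SemidirectProduct.ext ?_ ?_)
  · show (a' : Aff8).left * permU (a' : Aff8).right (b' : Aff8).left =
      (b' : Aff8).left * permU (b' : Aff8).right (a' : Aff8).left
    rw [ha', hb', map_one, MulAut.one_apply, MulAut.one_apply, mul_comm]
  · show (a' : Aff8).right * (b' : Aff8).right = (b' : Aff8).right * (a' : Aff8).right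
    rw [ha', hb']

instance : Finite Ext64 := by
  haveI : Finite Aff8 := Finite.of_equiv _ SemidirectProduct.equivProd.symm
  infer_instance

end CfsgLib.J2
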