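import Cfsg.Agent.Lib.Spor.J2.Ico

/-!
The icosian Leech lattice in the integral model, its inner product and its reflections.
-/

set_option autoImplicit false

namespace CfsgLib.J2

open Quaternion Cfsg.Spor

/-- A triple of model quaternions. -/
structure V where
  x : Q
  y : Q
  z : Q
deriving DecidableEq

/-- `x - y ∈ I h` for good model quaternions -/
def congH (a : Q) : Bool := (Q.mul a Q.hs).inTwo

/-- `a ∈ I h̄` -/
def congHs (a : Q) : Bool := (Q.mul a Q.h).inTwo

namespace V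

/-- all three entries lie in the ring -/
def good (v : V) : Bool := v.x.good && v.y.good && v.z.good

/-- membership in the lattice -/
def ok (v : V) : Bool :=
  v.good && congH (v.x.sub v.y) && congH (v.y.sub v.z) && congHs ((v.x.add v.y).add v.z)

/-- the real vector -/
noncomputable def val (v : V) : Fin 3 → ℍ[ℝ] := ![v.x.val, v.y.val, v.z.val]

/-- left multiples -/
def lmul (a : Q) (v : V) : V := ⟨Q.mul a v.x, Q.mul a v.y, Q.mul a v.z⟩

/-- the hermitian product -/
def dot (v w : V) : Q :=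
  ((Q.mul v.x w.x.conj).add (Q.mul v.y w.y.conj)).add (Q.mul v.z w.z.conj)

/-- subtraction of a multiple -/
def subMul (v : V) (c : Q) (r : V) : V :=
  ⟨v.x.sub (Q.mul c r.x), v.y.sub (Q.mul c r.y), v.z.sub (Q.mul c r.z)⟩

/-- the reflection in `r` -/
def refl (r v : V) : V := v.subMul (Q.half (v.dot r)) r

end V

theorem V.val_injective : Function.Injective V.val := by
  intro v w h
  have h0 := CfsgLib.J2.val_injective (show v.x.val = w.x.val from congrFun h 0)
  have h1 := CfsgLib.J2.val_injective (show v.y.val = w.y.val from congrFun h 1)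
  have h2 := CfsgLib.J2.val_injective (show v.z.val = w.z.val from congrFun h 2)
  obtain ⟨a, b, c⟩ := v
  obtain ⟨a', b', c'⟩ := w
  simp_all

theorem good_add {x y : Q} (hx : x.good = true) (hy : y.good = true) : (x.add y).good = true := by
  rw [← val_mem_icosians] at *; rw [val_add]; exact add_mem hx hy

theorem good_sub {x y : Q} (hx : x.good = true) (hy : y.good = true) : (x.sub y).good = true := by
  rw [← val_mem_icosians] at *; rw [val_sub]; exact sub_mem hx hy

theorem good_conj {x : Q} (hx : x.good = true) : x.conj.good = true := by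
  rw [good_iff] at *
  simp only [Q.conj]
  omega

theorem star_mem_icosians {q : ℍ[ℝ]} (h : q ∈ icosians) : star q ∈ icosians := by
  obtain ⟨x, hx, rfl⟩ := mem_icosians.1 h
  rw [← val_conj]; exact val_mem_icosians.2 (good_conj hx)

theorem inTwo_iff {a : Q} : a.inTwo = true ↔ ∃ b : Q, b.good = true ∧ a = b.add b := by
  constructor
  · intro h
    simp only [Q.inTwo, Bool.and_eq_true] at h
    refine ⟨a.half, h.2, ?_⟩
    obtain ⟨a0, b0, a1, b1, a2, b2, a3, b3⟩ := a
    simp only [Q.evenQ, Bool.and_eq_true, beq_iff_eq] at h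
    simp only [Q.half, Q.add, Q.mk.injEq]
    omega
  · rintro ⟨b, hb, rfl⟩
    have e : Q.half (b.add b) = b := by
      obtain ⟨a0, b0, a1, b1, a2, b2, a3, b3⟩ := b
      simp only [Q.half, Q.add, Q.mk.injEq]
      omega
    simp only [Q.inTwo, Bool.and_eq_true, e, hb, and_true]
    simp only [Q.evenQ, Q.add, Bool.and_eq_true, beq_iff_eq]
    omega

theorem half_of_inTwo {a : Q} (h : a.inTwo = true) :
    (Q.half a).good = true ∧ a.val = (Q.half a).val + (Q.half a).val := by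
  obtain ⟨b, hb, rfl⟩ := inTwo_iff.1 h
  have e : Q.half (b.add b) = b := by
    obtain ⟨a0, b0, a1, b1, a2, b2, a3, b3⟩ := b
    simp only [Q.half, Q.add, Q.mk.injEq]
    omega
  rw [e]
  exact ⟨hb, val_add b b⟩

theorem h_mul_hs : Cfsg.Spor.icoH * star Cfsg.Spor.icoH = 2 ∧ star Cfsg.Spor.icoH * Cfsg.Spor.icoH = 2 := by
  obtain ⟨e1, -⟩ := good_mul (x := Q.h) (y := Q.hs) (by decide) (by decide)
  obtain ⟨e2, -⟩ := good_mul (x := Q.hs) (y := Q.h) (by decide) (by decide)
  rw [val_h, val_hs] at e1 e2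
  rw [← e1, ← e2, show Q.mul Q.h Q.hs = Q.two by decide, show Q.mul Q.hs Q.h = Q.two by decide, val_two]
  exact ⟨rfl, rfl⟩

theorem cong_iff {a g g' : Q} (ha : a.good = true) (hg : g.good = true) (hg' : g'.good = true)
    (h₁ : g.val * g'.val = 2) (h₂ : g'.val * g.val = 2) :
    (Q.mul a g').inTwo = true ↔ a.val ∈ leftIdeal g.val := by
  obtain ⟨e, -⟩ := good_mul ha hg'
  constructor
  · intro h
    obtain ⟨hb, eb⟩ := half_of_inTwo h
    refine ⟨(Q.half (Q.mul a g')).val, val_mem_icosians.2 hb, ?_⟩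
    apply double_cancel
    rw [← add_mul, ← eb, e, mul_assoc, h₂, mul_two]
  · rintro ⟨b, hb, eb⟩
    obtain ⟨b, hb', rfl⟩ := mem_icosians.1 hb
    refine inTwo_iff.2 ⟨b, hb', CfsgLib.J2.val_injective ?_⟩
    rw [val_add, e, eb, mul_assoc, h₁, mul_two]

theorem congH_iff {a : Q} (ha : a.good = true) : congH a = true ↔ a.val ∈ leftIdeal icoH := by
  rw [congH, cong_iff (g := Q.h) ha (by decide) (by decide) (by rw [val_h, val_hs]; exact h_mul_hs.1)
    (by rw [val_h, val_hs]; exact h_mul_hs.2), val_h]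

theorem congHs_iff {a : Q} (ha : a.good = true) : congHs a = true ↔ a.val ∈ leftIdeal (star icoH) := by
  rw [congHs, cong_iff (g := Q.hs) ha (by decide) (by decide) (by rw [val_h, val_hs]; exact h_mul_hs.2)
    (by rw [val_h, val_hs]; exact h_mul_hs.1), val_hs]

theorem ok_iff {v : V} : v.ok = true ↔ v.val ∈ icoLeech := by
  simp only [V.ok, V.good, Bool.and_eq_true, icoLeech, Set.mem_setOf_eq]
  constructor
  · rintro ⟨⟨⟨⟨⟨hx, hy⟩, hz⟩, h1⟩, h2⟩, h3⟩
    refine ⟨fun t => ?_, ?_, ?_, ?_⟩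
    · fin_cases t <;> simpa [V.val, val_mem_icosians]
    · simpa [V.val] using (congH_iff (good_sub hx hy)).1 h1
    · simpa [V.val] using (congH_iff (good_sub hy hz)).1 h2
    · simpa [V.val] using (congHs_iff (good_add (good_add hx hy) hz)).1 h3
  · rintro ⟨hI, h1, h2, h3⟩
    have hx : v.x.good = true := val_mem_icosians.1 (hI 0)
    have hy : v.y.good = true := val_mem_icosians.1 (hI 1)
    have hz : v.z.good = true := val_mem_icosians.1 (hI 2)
    refine ⟨⟨⟨⟨⟨hx, hy⟩, hz⟩, ?_⟩, ?_⟩, ?_⟩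
    · exact (congH_iff (good_sub hx hy)).2 (by simpa [V.val] using h1)
    · exact (congH_iff (good_sub hy hz)).2 (by simpa [V.val] using h2)
    · exact (congHs_iff (good_add (good_add hx hy) hz)).2 (by simpa [V.val] using h3)

theorem exists_model {v : Fin 3 → ℍ[ℝ]} (hv : v ∈ icoLeech) : ∃ w : V, w.ok = true ∧ w.val = v := by
  obtain ⟨x, -, ex⟩ := mem_icosians.1 (hv.1 0)
  obtain ⟨y, -, ey⟩ := mem_icosians.1 (hv.1 1)
  obtain ⟨z, -, ez⟩ := mem_icosians.1 (hv.1 2)
  have e : (⟨x, y, z⟩ : V).val = v := by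
    funext t; fin_cases t <;> simp [V.val, ex, ey, ez]
  exact ⟨⟨x, y, z⟩, ok_iff.2 (e ▸ hv), e⟩

theorem ok_good {v : V} (h : v.ok = true) :
    v.x.good = true ∧ v.y.good = true ∧ v.z.good = true := by
  simp only [V.ok, V.good, Bool.and_eq_true] at h
  exact ⟨h.1.1.1.1.1, h.1.1.1.1.2, h.1.1.1.2⟩

theorem qip_val {v w : V} (hv : v.good = true) (hw : w.good = true) :
    qip v.val w.val = (v.dot w).val ∧ (v.dot w).good = true := by
  simp only [V.good, Bool.and_eq_true] at hv hw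
  obtain ⟨e0, g0⟩ := good_mul hv.1.1 (good_conj hw.1.1)
  obtain ⟨e1, g1⟩ := good_mul hv.1.2 (good_conj hw.1.2)
  obtain ⟨e2, g2⟩ := good_mul hv.2 (good_conj hw.2)
  refine ⟨?_, good_add (good_add g0 g1) g2⟩
  simp [qip, V.val, V.dot, Fin.sum_univ_three, e0, e1, e2]

theorem lmul_val {a : Q} {v : V} (ha : a.good = true) (hv : v.good = true) :
    (V.lmul a v).val = (fun t => a.val * v.val t) ∧ (V.lmul a v).good = true := by
  simp only [V.good, Bool.and_eq_true] at hv
  obtain ⟨e0, g0⟩ := good_mul ha hv.1.1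
  obtain ⟨e1, g1⟩ := good_mul ha hv.1.2
  obtain ⟨e2, g2⟩ := good_mul ha hv.2
  refine ⟨?_, by simp [V.good, V.lmul, g0, g1, g2]⟩
  funext t
  fin_cases t <;> simp [V.val, V.lmul, e0, e1, e2]

/-! ### Generators of the lattice -/

/-- Generators of the lattice as a left module. -/
def latG : Fin 4 → V :=
  ![⟨Q.mul Q.two Q.h, Q.h, Q.h⟩, ⟨Q.h, Q.h, Q.zero⟩, ⟨Q.hs, Q.hs, Q.hs⟩, ⟨Q.two, Q.two, Q.two⟩]

theorem latG_check : ∀ i, (latG i).ok = true ∧ ∀ j, ((latG i).dot (latG j)).inTwo = true := by decide +kernel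

theorem two_mul_comm' (q : ℍ[ℝ]) : (2 : ℍ[ℝ]) * q = q * 2 := by rw [two_mul, mul_two]

/-- Every lattice vector is a combination of the generators. -/
theorem exists_combination {v : Fin 3 → ℍ[ℝ]} (hv : v ∈ icoLeech) :
    ∃ c : Fin 4 → ℍ[ℝ], (∀ i, c i ∈ icosians) ∧ v = fun t => ∑ i, c i * (latG i).val t := by
  obtain ⟨hI, ⟨a, ha, ea⟩, ⟨b, hb, eb⟩, ⟨c, hc, ec⟩⟩ := hv
  have hh : icoH ∈ icosians := val_h ▸ val_mem_icosians.2 (by decide)
  have hG : (latG 0).val = ![2 * icoH, icoH, icoH] := by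
    obtain ⟨e, -⟩ := good_mul (x := Q.two) (y := Q.h) (by decide) (by decide)
    simp [latG, V.val, e, val_h]
  have hG1 : (latG 1).val = ![icoH, icoH, 0] := by simp [latG, V.val, val_h]
  have hG2 : (latG 2).val = ![star icoH, star icoH, star icoH] := by simp [latG, V.val, val_hs]
  have hG3 : (latG 3).val = ![(2 : ℍ[ℝ]), 2, 2] := by simp [latG, V.val]
  -- the last coordinate modulo the three congruences
  refine ⟨![a, b, c, -(b * icoH) - a * icoH - v 2], fun i => ?_, ?_⟩
  · fin_cases i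
    · exact ha
    · exact hb
    · exact hc
    · exact sub_mem (sub_mem (neg_mem (mul_mem hb hh)) (mul_mem ha hh)) (hI 2)
  · funext t
    have e0 : v 0 = v 1 + a * icoH := by rw [← ea]; abel
    have e1 : v 1 = v 2 + b * icoH := by rw [← eb]; abel
    have e2 : c * star icoH = v 0 + v 1 + v 2 := ec.symm
    fin_cases t <;>
      simp [Fin.sum_univ_four, hG, hG1, hG2, hG3, e2, e0, e1, ← mul_assoc] <;>
      simp [mul_two, two_mul, mul_add, add_mul, sub_mul, neg_mul, mul_assoc] <;> abel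

theorem icoLeech_smul_add {v w : Fin 3 → ℍ[ℝ]} {a : ℍ[ℝ]} (hv : v ∈ icoLeech) (hw : w ∈ icoLeech)
    (ha : a ∈ icosians) : (fun t => v t + a * w t) ∈ icoLeech := by
  obtain ⟨hI, ⟨x, hx, ex⟩, ⟨y, hy, ey⟩, ⟨z, hz, ez⟩⟩ := hv
  obtain ⟨hI', ⟨x', hx', ex'⟩, ⟨y', hy', ey'⟩, ⟨z', hz', ez'⟩⟩ := hw
  refine ⟨fun t => add_mem (hI t) (mul_mem ha (hI' t)), ⟨x + a * x', add_mem hx (mul_mem ha hx'), ?_⟩,
    ⟨y + a * y', add_mem hy (mul_mem ha hy'), ?_⟩, ⟨z + a * z', add_mem hz (mul_mem ha hz'), ?_⟩⟩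
  · rw [add_mul, mul_assoc, ← ex, ← ex']; simp [mul_sub]; abel
  · rw [add_mul, mul_assoc, ← ey, ← ey']; simp [mul_sub]; abel
  · rw [add_mul, mul_assoc, ← ez, ← ez']; simp [mul_add]; abel

theorem qip_sum_left {ι : Type*} (s : Finset ι) (c : ι → ℍ[ℝ]) (v : ι → Fin 3 → ℍ[ℝ]) (w : Fin 3 → ℍ[ℝ]) :
    qip (fun t => ∑ i ∈ s, c i * v i t) w = ∑ i ∈ s, c i * qip (v i) w := by
  simp only [qip, Finset.sum_mul, Finset.mul_sum, mul_assoc]
  exact Finset.sum_comm

theorem qip_star (v w : Fin 3 → ℍ[ℝ]) : star (qip v w) = qip w v := by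
  simp [qip, star_sum]

/-- Inner products of lattice vectors lie in `2I`. -/
theorem qip_mem {v w : Fin 3 → ℍ[ℝ]} (hv : v ∈ icoLeech) (hw : w ∈ icoLeech) :
    ∃ c ∈ icosians, qip v w = c + c := by
  obtain ⟨a, ha, rfl⟩ := exists_combination hv
  obtain ⟨b, hb, rfl⟩ := exists_combination hw
  have hg : ∀ i j, ∃ c ∈ icosians, qip (latG i).val (latG j).val = c + c := by
    intro i j
    obtain ⟨g1, g2⟩ := half_of_inTwo ((latG_check i).2 j)
    have hgood : ∀ k, (latG k).good = true := fun k => by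
      have := (latG_check k).1; simp only [V.ok, Bool.and_eq_true] at this; exact this.1.1.1
    exact ⟨_, val_mem_icosians.2 g1, by rw [(qip_val (hgood i) (hgood j)).1]; exact g2⟩
  choose c hc ec using hg
  have key : ∀ i, qip (latG i).val (fun t => ∑ j, b j * (latG j).val t) =
      (∑ j, c i j * star (b j)) + ∑ j, c i j * star (b j) := by
    intro i
    rw [← qip_star, qip_sum_left, star_sum, ← Finset.sum_add_distrib]
    refine Finset.sum_congr rfl fun j _ => ?_
    rw [star_mul, qip_star, ec, add_mul]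
  refine ⟨∑ i, a i * ∑ j, c i j * star (b j),
    sum_mem fun i _ => mul_mem (ha i) (sum_mem fun j _ => mul_mem (hc i j) (star_mem_icosians (hb j))), ?_⟩
  rw [qip_sum_left, ← Finset.sum_add_distrib]
  exact Finset.sum_congr rfl fun i _ => by rw [key, mul_add]

/-! ### Reflections -/

theorem half_smul_add (c : ℍ[ℝ]) : (1 / 2 : ℝ) • (c + c) = c := by
  rw [← two_smul ℝ c, smul_smul]; norm_num

theorem qrefl_mem {r v : Fin 3 → ℍ[ℝ]} (hr : r ∈ icoLeech) (hv : v ∈ icoLeech) : qrefl r v ∈ icoLeech := by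
  obtain ⟨c, hc, ec⟩ := qip_mem hv hr
  have e : qrefl r v = fun t => v t + -c * r t := by
    funext t
    show v t - ((1 / 2 : ℝ) • qip v r) * r t = v t + -c * r t
    rw [ec, half_smul_add, neg_mul, sub_eq_add_neg]
  rw [e]
  exact icoLeech_smul_add hv hr (neg_mem hc)

theorem qip_smul_left (a : ℍ[ℝ]) (v w : Fin 3 → ℍ[ℝ]) : qip (fun t => a * v t) w = a * qip v w := by
  simp [qip, Finset.mul_sum, mul_assoc]

theorem qip_sub_left (u v w : Fin 3 → ℍ[ℝ]) : qip (fun t => u t - v t) w = qip u w - qip v w := by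
  simp [qip, sub_mul]

/-- The reflection is an involution when `r · r = 4`. -/
theorem qrefl_qrefl {r : Fin 3 → ℍ[ℝ]} (h4 : qip r r = 4) (v : Fin 3 → ℍ[ℝ]) : qrefl r (qrefl r v) = v := by
  have e : qip (qrefl r v) r = -qip v r := by
    rw [show qrefl r v = fun t => v t - ((1 / 2 : ℝ) • qip v r) * r t from rfl, qip_sub_left, qip_smul_left, h4]
    rw [smul_mul_assoc, show (4 : ℍ[ℝ]) = 2 + 2 by norm_num, mul_add, mul_two, smul_add, half_smul_add]
    abel
  funext t
  show qrefl r v t - _ * r t = _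
  rw [e]
  simp [qrefl]

/-- The lattice reflection. -/
noncomputable def reflPerm (r : icoLeech) (h : qip (r : Fin 3 → ℍ[ℝ]) r = 4) : Equiv.Perm icoLeech :=
  Function.Involutive.toPerm (fun v => ⟨qrefl r v, qrefl_mem r.2 v.2⟩)
    fun v => Subtype.ext (qrefl_qrefl h _)

theorem reflPerm_apply (r : icoLeech) (h : qip (r : Fin 3 → ℍ[ℝ]) r = 4) (v : icoLeech) :
    (reflPerm r h v : Fin 3 → ℍ[ℝ]) = qrefl r v := rfl

theorem isIcoReflection_iff {f : Equiv.Perm icoLeech} :
    IsIcoReflection f ↔ ∃ r, ∃ h, f = reflPerm r h := by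
  constructor
  · rintro ⟨r, h, hf⟩
    exact ⟨r, h, Equiv.ext fun v => Subtype.ext (hf v)⟩
  · rintro ⟨r, h, rfl⟩
    exact ⟨r, h, fun v => rfl⟩

/-- the model vector as a lattice point -/
noncomputable def toLeech (v : V) (h : v.ok = true) : icoLeech := ⟨v.val, ok_iff.1 h⟩

theorem refl_val {r v : V} (hr : r.ok = true) (hv : v.ok = true) :
    (V.refl r v).ok = true ∧ (V.refl r v).val = qrefl r.val v.val := by
  have gr : r.good = true := by simp only [V.ok, Bool.and_eq_true] at hr; exact hr.1.1.1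
  have gv : v.good = true := by simp only [V.ok, Bool.and_eq_true] at hv; exact hv.1.1.1
  obtain ⟨c, hc, ec⟩ := qip_mem (ok_iff.1 hv) (ok_iff.1 hr)
  obtain ⟨c, hc', rfl⟩ := mem_icosians.1 hc
  have ed : v.dot r = c.add c :=
    CfsgLib.J2.val_injective (by rw [val_add, ← ec, (qip_val gv gr).1])
  have eh : Q.half (v.dot r) = c := by
    obtain ⟨h1, h2⟩ := half_of_inTwo (inTwo_iff.2 ⟨c, hc', ed⟩)
    refine CfsgLib.J2.val_injective (double_cancel ?_)
    rw [← h2, ed, val_add]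
  obtain ⟨e', -⟩ := lmul_val hc' gr
  have e : (V.refl r v).val = qrefl r.val v.val := by
    funext t
    have := congrFun e' t
    show (V.refl r v).val t = v.val t - ((1 / 2 : ℝ) • qip v.val r.val) * r.val t
    rw [ec, half_smul_add, ← this, V.refl, eh]
    fin_cases t <;> simp [V.val, V.subMul, V.lmul]
  exact ⟨ok_iff.2 (e ▸ qrefl_mem (ok_iff.1 hr) (ok_iff.1 hv)), e⟩

end CfsgLib.J2
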