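import Cfsg.Agent.Lib.Spor.J2.EKData

/-! The scan of triples. -/

set_option autoImplicit false
set_option maxRecDepth 100000

namespace CfsgLib.J2

theorem scan_first : repList.all (fun g => scanRow (mkEK g)) = true := by decide +kernel

theorem scan_second : repList.all (fun y => !Nat.beq (mkEK Q.zero).k (mkEK y).k ||
    ekTab.all fun row => !Nat.beq row.1 (mkEK y).k || lastOK row.2.2 (mkEK Q.zero) (mkEK y) isLine) = true := by
  decide +kernel

theorem scan_third : repList.all (fun z =>
    !((V.mk Q.zero Q.zero z).ok && decide (z.nA = 16) && decide (z.nB = 0)) || isLine ⟨Q.zero, Q.zero, z⟩) =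
    true := by decide +kernel

end CfsgLib.J2
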