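import Cfsg.Agent.Lib.Spor.J2.EKData

/-! The cached table is correct. -/

set_option autoImplicit false
set_option maxRecDepth 100000

namespace CfsgLib.J2

/-- a block of a list -/
def block {α : Type} (l : List α) (i : ℕ) : List α := (l.drop (1531 * i)).take 1531

theorem tab_block0 : block ekList 0 = (block (Q.zero :: shortAll) 0).map mkEK := by decide +kernel

theorem tab_block1 : block ekList 1 = (block (Q.zero :: shortAll) 1).map mkEK := by decide +kernel

theorem tab_block2 : block ekList 2 = (block (Q.zero :: shortAll) 2).map mkEK := by decide +kernel

theorem tab_block3 : block ekList 3 = (block (Q.zero :: shortAll) 3).map mkEK := by decide +kernel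

theorem tab_length : ekList.length = 6121 ∧ (Q.zero :: shortAll).length = 6121 := by decide +kernel

theorem split_blocks {α : Type} (l : List α) (h : l.length ≤ 6124) :
    l = block l 0 ++ block l 1 ++ block l 2 ++ block l 3 := by
  have h3 : block l 3 = l.drop (1531 * 3) :=
    List.take_of_length_le (by simp only [List.length_drop]; omega)
  have e : ∀ i, l.drop (1531 * i) = block l i ++ l.drop (1531 * (i + 1)) := fun i => by
    rw [block, Nat.mul_succ, ← List.drop_drop]
    exact (List.take_append_drop _ _).symm
  rw [h3, List.append_assoc, List.append_assoc, ← e 2, ← e 1, ← e 0]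
  simp

theorem tab_eq : ekList = (Q.zero :: shortAll).map mkEK := by
  rw [split_blocks ekList (by rw [tab_length.1]; norm_num),
    split_blocks (Q.zero :: shortAll) (by rw [tab_length.2]; norm_num)]
  simp only [List.map_append, ← tab_block0, ← tab_block1, ← tab_block2, ← tab_block3]

theorem tab_classes : ekList.all (fun e => kVals.any (Nat.beq e.k) && kwVals.any (Nat.beq e.kw)) = true := by
  decide +kernel

end CfsgLib.J2
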