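import Cfsg.Agent.Lib.Spor.J2.MinDec
import Cfsg.Agent.Lib.Spor.J2.MinTab
import Cfsg.Agent.Lib.Spor.J2.MinScan
import Cfsg.Agent.Lib.Spor.J2.GramCheck

/-!
The minimal vectors are exactly the 37800 unit multiples of the 315 lines, and the lines give
315 distinct reflections.
-/

set_option autoImplicit false
set_option maxRecDepth 100000

namespace CfsgLib.J2

open Quaternion Cfsg.Spor

theorem lineList_length : lineList.length = 315 := by decide +kernel

theorem unitList_nodup : unitList.Nodup := by decide +kernel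

theorem unitList_length : unitList.length = 120 := by decide +kernel

theorem four_val : (⟨8, 0, 0, 0, 0, 0, 0, 0⟩ : Q).val = 4 := by
  rw [show (⟨8, 0, 0, 0, 0, 0, 0, 0⟩ : Q) = Q.two.add Q.two by rfl, val_add, val_two]; norm_num

theorem ok_good' {v : V} (h : v.ok = true) : v.good = true := by
  obtain ⟨a, b, c⟩ := ok_good h; simp [V.good, a, b, c]

theorem qip_four_iff {v : V} (h : v.ok = true) :
    qip v.val v.val = 4 ↔ v.dot v = ⟨8, 0, 0, 0, 0, 0, 0, 0⟩ := by
  rw [(qip_val (ok_good' h) (ok_good' h)).1, ← four_val]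
  exact CfsgLib.J2.val_injective.eq_iff

/-! ### Norm arithmetic -/

theorem sq_form (a b : ℤ) :
    ((a * a + b * b : ℤ) : ℝ) + ((2 * a * b + b * b : ℤ) : ℝ) * tau = ((a : ℝ) + b * tau) ^ 2 := by
  push_cast
  linear_combination (-(b : ℝ) * b) * tau_sq

theorem sq_form' (a b : ℤ) :
    ((a * a + b * b : ℤ) : ℝ) + ((2 * a * b + b * b : ℤ) : ℝ) * (1 - tau) = ((a : ℝ) + b * (1 - tau)) ^ 2 := by
  push_cast
  linear_combination (-(b : ℝ) * b) * tau_sq

theorem norm_nonneg_pos (x : Q) :
    0 ≤ (x.nA : ℝ) + x.nB * tau ∧ 0 ≤ (x.nA : ℝ) + x.nB * (1 - tau) := by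
  obtain ⟨a0, b0, a1, b1, a2, b2, a3, b3⟩ := x
  have e0 := sq_form a0 b0; have e1 := sq_form a1 b1; have e2 := sq_form a2 b2; have e3 := sq_form a3 b3
  have f0 := sq_form' a0 b0; have f1 := sq_form' a1 b1; have f2 := sq_form' a2 b2; have f3 := sq_form' a3 b3
  simp only [Q.nA, Q.nB]
  push_cast at *
  constructor
  · nlinarith [sq_nonneg ((a0 : ℝ) + b0 * tau), sq_nonneg ((a1 : ℝ) + b1 * tau),
      sq_nonneg ((a2 : ℝ) + b2 * tau), sq_nonneg ((a3 : ℝ) + b3 * tau)]
  · nlinarith [sq_nonneg ((a0 : ℝ) + b0 * (1 - tau)), sq_nonneg ((a1 : ℝ) + b1 * (1 - tau)),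
      sq_nonneg ((a2 : ℝ) + b2 * (1 - tau)), sq_nonneg ((a3 : ℝ) + b3 * (1 - tau))]

theorem feas_of_sum {x y z : Q} (hA : x.nA + y.nA + z.nA = 16) (hB : x.nB + y.nB + z.nB = 0) :
    feas x.nA x.nB = true := by
  obtain ⟨y1, y2⟩ := norm_nonneg_pos y
  obtain ⟨z1, z2⟩ := norm_nonneg_pos z
  have eA : (x.nA : ℝ) + y.nA + z.nA = 16 := by exact_mod_cast hA
  have eB : (x.nB : ℝ) + y.nB + z.nB = 0 := by exact_mod_cast hB
  have p : 0 ≤ (16 - (x.nA : ℝ)) + -(x.nB : ℝ) * tau := by
    have : (16 - (x.nA : ℝ)) + -(x.nB : ℝ) * tau = (y.nA + y.nB * tau) + (z.nA + z.nB * tau) := by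
      linear_combination (-1 : ℝ) * eA - tau * eB
    linarith
  have q : 0 ≤ (16 - (x.nA : ℝ)) + -(x.nB : ℝ) * (1 - tau) := by
    have : (16 - (x.nA : ℝ)) + -(x.nB : ℝ) * (1 - tau) =
        (y.nA + y.nB * (1 - tau)) + (z.nA + z.nB * (1 - tau)) := by
      linear_combination (-1 : ℝ) * eA - (1 - tau) * eB
    linarith
  have h1 : 2 * (x.nA : ℝ) + x.nB ≤ 32 := by linarith
  have e : ((16 - (x.nA : ℝ)) + -(x.nB : ℝ) * tau) * ((16 - (x.nA : ℝ)) + -(x.nB : ℝ) * (1 - tau)) =
      (16 - (x.nA : ℝ)) * (16 - x.nA) - (16 - (x.nA : ℝ)) * x.nB - x.nB * x.nB := by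
    linear_combination (-(x.nB : ℝ) * x.nB) * tau_sq
  have h2 : 0 ≤ (16 - (x.nA : ℝ)) * (16 - x.nA) - (16 - (x.nA : ℝ)) * x.nB - x.nB * x.nB :=
    e ▸ mul_nonneg p q
  simp only [feas, Bool.and_eq_true, decide_eq_true_eq]
  constructor
  · exact_mod_cast h1
  · exact_mod_cast h2

/-- norms of the coordinates of a norm `4` vector -/
theorem dot_self {r : V} (h : r.ok = true) (h4 : r.dot r = ⟨8, 0, 0, 0, 0, 0, 0, 0⟩) :
    r.x.nA + r.y.nA + r.z.nA = 16 ∧ r.x.nB + r.y.nB + r.z.nB = 0 := by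
  obtain ⟨hx, hy, hz⟩ := ok_good h
  obtain ⟨ex, x1, x2⟩ := mul_conj hx
  obtain ⟨ey, y1, y2⟩ := mul_conj hy
  obtain ⟨ez, z1, z2⟩ := mul_conj hz
  rw [V.dot, ex, ey, ez] at h4
  simp only [Q.add, Q.mk.injEq] at h4
  omega

/-- the coordinates are short -/
theorem coord_cases {r : V} (h : r.ok = true) (h4 : r.dot r = ⟨8, 0, 0, 0, 0, 0, 0, 0⟩) :
    (r.x = Q.zero ∨ (∃ u ∈ unitList, ∃ g ∈ repList, r.x = Q.mul u g) ∧ r.x ∈ shortAll) ∧
    (r.y = Q.zero ∨ (∃ u ∈ unitList, ∃ g ∈ repList, r.y = Q.mul u g) ∧ r.y ∈ shortAll) ∧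
    (r.z = Q.zero ∨ (∃ u ∈ unitList, ∃ g ∈ repList, r.z = Q.mul u g) ∧ r.z ∈ shortAll) := by
  obtain ⟨hA, hB⟩ := dot_self h h4
  obtain ⟨hx, hy, hz⟩ := ok_good h
  exact ⟨short_cases hx (feas_of_sum hA hB), short_cases hy (feas_of_sum (x := r.y) (y := r.x) (z := r.z)
    (by omega) (by omega)), short_cases hz (feas_of_sum (x := r.z) (y := r.x) (z := r.y) (by omega) (by omega))⟩

theorem mem_ek {x : Q} (h : x = Q.zero ∨ x ∈ shortAll) : mkEK x ∈ ekList := by
  rw [tab_eq]
  exact List.mem_map_of_mem (List.mem_cons.2 h)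

theorem cls_k {x y : Q} (hx : x.good = true) (hy : y.good = true) (h : congH (x.sub y) = true) :
    (mkEK x).k = (mkEK y).k := by
  simp only [mkEK, mulHs_eq']
  obtain ⟨ex, gx⟩ := good_mul hx (show Q.hs.good = true by decide)
  obtain ⟨ey, gy⟩ := good_mul hy (show Q.hs.good = true by decide)
  obtain ⟨ed, -⟩ := good_mul (good_sub hx hy) (show Q.hs.good = true by decide)
  refine cls_congr gx gy ?_
  rw [show (Q.mul x Q.hs).sub (Q.mul y Q.hs) = Q.mul (x.sub y) Q.hs from
    CfsgLib.J2.val_injective (by rw [val_sub, ex, ey, ed, val_sub, sub_mul])]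
  exact h
where
  mulHs_eq' : ∀ {x : Q}, x.mulHs = Q.mul x Q.hs := Q.mulHs_eq _

theorem cls_kw {x y z : Q} (hx : x.good = true) (hy : y.good = true) (hz : z.good = true)
    (h : congHs ((x.add y).add z) = true) : (mkEK z).kw = (mkEK x).kw ^^^ (mkEK y).kw := by
  simp only [mkEK, Q.mulH_eq]
  obtain ⟨ex, gx⟩ := good_mul hx (show Q.h.good = true by decide)
  obtain ⟨ey, gy⟩ := good_mul hy (show Q.h.good = true by decide)
  obtain ⟨ez, gz⟩ := good_mul hz (show Q.h.good = true by decide)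
  obtain ⟨es, gs⟩ := good_mul (good_add (good_add hx hy) hz) (show Q.h.good = true by decide)
  rw [← cls_add_neg gx gy]
  have gn : ((Q.mul x Q.h).add (Q.mul y Q.h)).neg.good = true := by
    rw [← val_mem_icosians, val_neg, val_add]
    exact neg_mem (add_mem (val_mem_icosians.2 gx) (val_mem_icosians.2 gy))
  refine cls_congr gz gn ?_
  rw [show (Q.mul z Q.h).sub ((Q.mul x Q.h).add (Q.mul y Q.h)).neg = Q.mul ((x.add y).add z) Q.h from
    CfsgLib.J2.val_injective (by
      rw [val_sub, val_neg, val_add, ex, ey, ez, es, val_add, val_add, add_mul, add_mul]; abel)]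
  exact h

theorem last_ok {x y z : Q} (hz : z = Q.zero ∨ z ∈ shortAll) (hok : (V.mk x y z).ok = true)
    (hN : (mkEK x).N + (mkEK y).N + (mkEK z).N = 1120) {a : ℕ} {l : List EK} {sub : List (ℕ × List EK)}
    (hrow : (a, l, sub) ∈ ekTab) (ha : Nat.beq a (mkEK y).k = true)
    (hall : lastOK sub (mkEK x) (mkEK y) isLine = true) : isLine ⟨x, y, z⟩ = true := by
  obtain ⟨hx, hy, hz'⟩ := ok_good hok
  simp only [V.ok, Bool.and_eq_true] at hok
  have hk := cls_k hy hz' hok.1.2
  have hkw := cls_kw hx hy hz' hok.2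
  have hmem := mem_ek hz
  have htot := List.all_eq_true.1 tab_classes _ hmem
  simp only [Bool.and_eq_true, List.any_eq_true] at htot
  obtain ⟨-, b, hb, hbe⟩ := htot
  simp only [ekTab, List.mem_map] at hrow
  obtain ⟨a', -, e⟩ := hrow
  simp only [Prod.mk.injEq] at e
  obtain ⟨rfl, -, rfl⟩ := e
  simp only [lastOK, Bool.or_eq_true, Bool.not_eq_true', Nat.ble_eq] at hall
  rcases hall with h | h
  · have : (mkEK x).N + (mkEK y).N ≤ 1120 := by omega
    rw [← Nat.ble_eq] at this
    rw [this] at h; exact absurd h (by simp)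
  · have hb' : b = (mkEK x).kw ^^^ (mkEK y).kw := by
      rw [← hkw]; exact (Nat.eq_of_beq_eq_true hbe).symm
    have := List.all_eq_true.1 h _ (List.mem_map.2 ⟨b, hb, rfl⟩)
    simp only [Bool.or_eq_true, Bool.not_eq_true'] at this
    rcases this with h' | h'
    · subst hb'
      rw [show Nat.xor (mkEK x).kw (mkEK y).kw = (mkEK x).kw ^^^ (mkEK y).kw from rfl] at h'
      simp at h'
    · have hm : mkEK z ∈ ((ekList.filter fun e => Nat.beq e.k a').filter fun e => Nat.beq e.kw b) := by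
        simp only [List.mem_filter]
        exact ⟨⟨hmem, by rw [← hk, Nat.eq_of_beq_eq_true ha]; exact Nat.beq_refl _⟩, hbe⟩
      have := List.all_eq_true.1 h' _ hm
      simp only [Bool.or_eq_true, Bool.not_eq_true'] at this
      rcases this with h'' | h''
      · rw [hN] at h''; exact absurd h'' (by decide)
      · exact h''

theorem exists_row {x : Q} (h : x = Q.zero ∨ x ∈ shortAll) :
    ∃ a l sub, (a, l, sub) ∈ ekTab ∧ Nat.beq a (mkEK x).k = true ∧
      l = ekList.filter fun e => Nat.beq e.k a := by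
  have htot := List.all_eq_true.1 tab_classes _ (mem_ek h)
  simp only [Bool.and_eq_true, List.any_eq_true] at htot
  obtain ⟨⟨a, ha, hae⟩, -⟩ := htot
  refine ⟨a, _, _, List.mem_map.2 ⟨a, ha, rfl⟩, ?_, rfl⟩
  rw [Nat.eq_of_beq_eq_true hae]; exact Nat.beq_refl _

theorem N_sum {x y z : Q} (hA : x.nA + y.nA + z.nA = 16)
    (hB : x.nB + y.nB + z.nB = 0) : (mkEK x).N + (mkEK y).N + (mkEK z).N = 1120 := by
  obtain ⟨x1, x2⟩ := norm_nonneg_pos x
  obtain ⟨y1, y2⟩ := norm_nonneg_pos y
  obtain ⟨z1, z2⟩ := norm_nonneg_pos z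
  have key : ∀ A B : ℤ, 0 ≤ (A : ℝ) + B * tau → 0 ≤ (A : ℝ) + B * (1 - tau) → 0 ≤ A * 64 + B + 32 := by
    intro A B h1 h2
    have hA0 : 0 ≤ 2 * A + B := by
      have : (0 : ℝ) ≤ 2 * A + B := by nlinarith
      exact_mod_cast this
    have hn : 0 ≤ A * A + A * B - B * B := by
      have e : ((A : ℝ) + B * tau) * ((A : ℝ) + B * (1 - tau)) = A * A + A * B - B * B := by
        linear_combination (-(B : ℝ) * B) * tau_sq
      have : (0 : ℝ) ≤ A * A + A * B - B * B := e ▸ mul_nonneg h1 h2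
      exact_mod_cast this
    nlinarith
  have := key _ _ x1 x2; have := key _ _ y1 y2; have := key _ _ z1 z2
  simp only [mkEK]
  omega

theorem isLine_iff {v : V} (h : isLine v = true) : v ∈ lineList := by
  simp only [isLine, List.any_eq_true, decide_eq_true_eq] at h
  obtain ⟨w, hw, rfl⟩ := h; exact hw

theorem lmul_ok {u : Q} {v : V} (hu : u.good = true) (hv : v.ok = true) :
    (V.lmul u v).ok = true ∧ (V.lmul u v).val = fun t => u.val * v.val t := by
  obtain ⟨e, -⟩ := lmul_val hu (ok_good' hv)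
  refine ⟨ok_iff.2 ?_, e⟩
  have h0 : (fun _ => (0 : ℍ[ℝ])) ∈ icoLeech :=
    ⟨fun _ => zero_mem _, ⟨0, zero_mem _, by simp⟩, ⟨0, zero_mem _, by simp⟩, ⟨0, zero_mem _, by simp⟩⟩
  have := icoLeech_smul_add h0 (ok_iff.1 hv) (val_mem_icosians.2 hu)
  simpa [e] using this

theorem qip_lmul (a : ℍ[ℝ]) (v : Fin 3 → ℍ[ℝ]) :
    qip (fun t => a * v t) (fun t => a * v t) = a * qip v v * star a := by
  simp [qip, Finset.mul_sum, Finset.sum_mul, mul_assoc]

/-- a normalised minimal vector is listed -/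
theorem norm_rep {r : V} (h : r.ok = true) (h4 : r.dot r = ⟨8, 0, 0, 0, 0, 0, 0, 0⟩)
    (hn : r.x ∈ repList ∨ r.x = Q.zero ∧ r.y ∈ repList ∨ r.x = Q.zero ∧ r.y = Q.zero ∧ r.z ∈ repList) :
    r ∈ lineList := by
  obtain ⟨hA, hB⟩ := dot_self h h4
  obtain ⟨cx, cy, cz⟩ := coord_cases h h4
  have mx := cx.imp id And.right
  have my := cy.imp id And.right
  have mz := cz.imp id And.right
  obtain ⟨x, y, z⟩ := r
  apply isLine_iff
  have hk : congH (x.sub y) = true := by simp only [V.ok, Bool.and_eq_true] at h; exact h.1.1.2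
  obtain ⟨gx, gy, gz⟩ := ok_good h
  have hxy := cls_k gx gy hk
  rcases hn with hx | ⟨hx, hy⟩ | ⟨hx, hy, hz⟩
  · have := List.all_eq_true.1 scan_first _ hx
    obtain ⟨a, l, sub, hrow, ha, rfl⟩ := exists_row my
    have h1 := List.all_eq_true.1 this _ hrow
    simp only [Bool.or_eq_true, Bool.not_eq_true'] at h1
    rcases h1 with h1 | h1
    · rw [hxy] at h1; rw [ha] at h1; simp at h1
    have h2 := List.all_eq_true.1 h1 (mkEK y) (List.mem_filter.2 ⟨mem_ek my, by
      rw [← Nat.eq_of_beq_eq_true ha]; exact Nat.beq_refl _⟩)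
    exact last_ok mz h (N_sum hA hB) hrow ha h2
  · dsimp only at hx hy
    subst hx
    have := List.all_eq_true.1 scan_second _ hy
    simp only [Bool.or_eq_true, Bool.not_eq_true'] at this
    rcases this with h1 | h1
    · rw [hxy, Nat.beq_refl] at h1; simp at h1
    obtain ⟨a, l, sub, hrow, ha, rfl⟩ := exists_row my
    have h2 := List.all_eq_true.1 h1 _ hrow
    simp only [Bool.or_eq_true, Bool.not_eq_true'] at h2
    rcases h2 with h2 | h2
    · rw [ha] at h2; simp at h2
    exact last_ok mz h (N_sum hA hB) hrow ha h2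
  · dsimp only at hx hy hz
    subst hx hy
    have hz0 : Q.zero.nA = 0 ∧ Q.zero.nB = 0 := by decide
    simp only [hz0.1, hz0.2] at hA hB
    have := List.all_eq_true.1 scan_third _ hz
    have e1 : z.nA = 16 := by omega
    have e2 : z.nB = 0 := by omega
    simpa [h, e1, e2] using this

/-- every minimal vector is a unit multiple of a listed line -/
theorem min_cases {r : V} (h : r.ok = true) (h4 : r.dot r = ⟨8, 0, 0, 0, 0, 0, 0, 0⟩) :
    ∃ u ∈ unitList, ∃ v ∈ lineList, r = V.lmul u v := by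
  obtain ⟨cx, cy, cz⟩ := coord_cases h h4
  have main : ∀ u ∈ unitList, ((V.lmul u.conj r).x ∈ repList ∨ (V.lmul u.conj r).x = Q.zero ∧
      (V.lmul u.conj r).y ∈ repList ∨ (V.lmul u.conj r).x = Q.zero ∧ (V.lmul u.conj r).y = Q.zero ∧
      (V.lmul u.conj r).z ∈ repList) → ∃ u ∈ unitList, ∃ v ∈ lineList, r = V.lmul u v := by
    intro u hu hn
    obtain ⟨gu, e1, e2⟩ := units_check u hu
    obtain ⟨ok', ev⟩ := lmul_ok (good_conj gu) h
    have hu1 : u.val * u.conj.val = 1 := by rw [← (good_mul gu (good_conj gu)).1, e2, val_one]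
    have hu2 : u.conj.val * u.val = 1 := by rw [← (good_mul (good_conj gu) gu).1, e1, val_one]
    refine ⟨u, hu, _, norm_rep ok' ((qip_four_iff ok').1 ?_) hn, V.val_injective ?_⟩
    · rw [ev, qip_lmul, (qip_four_iff h).2 h4, val_conj, star_star]
      rw [val_conj] at hu2
      rw [show (4 : ℍ[ℝ]) = 1 + 1 + 1 + 1 by norm_num]
      simp only [mul_add, add_mul, mul_one, hu2]
    · rw [(lmul_ok gu ok').2, ev]
      funext t
      rw [← mul_assoc, hu1, one_mul]
  have cancel : ∀ {u g x : Q}, u ∈ unitList → g ∈ repList → x = Q.mul u g → Q.mul u.conj x = g := by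
    intro u g x hu hg e
    obtain ⟨gu, e1, -⟩ := units_check u hu
    have gg := (reps_check g hg).1
    subst e
    obtain ⟨ea, ga⟩ := good_mul gu gg
    obtain ⟨eb, -⟩ := good_mul (good_conj gu) ga
    refine CfsgLib.J2.val_injective ?_
    rw [eb, ea, ← mul_assoc, ← (good_mul (good_conj gu) gu).1, e1, val_one, one_mul]
  have zer : ∀ u : Q, Q.mul u Q.zero = Q.zero := fun u => by
    simp [Q.mul, Q.raw, Q.half, Q.zero, Q.pA, Q.pB]
  rcases cx with ex | ⟨⟨u, hu, g, hg, ex⟩, -⟩
  · rcases cy with ey | ⟨⟨u, hu, g, hg, ey⟩, -⟩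
    · rcases cz with ez | ⟨⟨u, hu, g, hg, ez⟩, -⟩
      · obtain ⟨hA, -⟩ := dot_self h h4
        rw [ex, ey, ez] at hA
        simp [Q.nA, Q.zero] at hA
      · refine main u hu (Or.inr (Or.inr ⟨?_, ?_, ?_⟩))
        · rw [V.lmul, ex]; exact zer _
        · rw [V.lmul, ey]; exact zer _
        · rw [V.lmul, cancel hu hg ez]; exact hg
    · refine main u hu (Or.inr (Or.inl ⟨?_, ?_⟩))
      · rw [V.lmul, ex]; exact zer _
      · rw [V.lmul, cancel hu hg ey]; exact hg
  · exact main u hu (Or.inl (by rw [V.lmul, cancel hu hg ex]; exact hg))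

/-- the `i`-th line -/
def line (i : Fin 315) : V := lineList.get (i.cast lineList_length.symm)

theorem line_mem (i : Fin 315) : line i ∈ lineList := List.get_mem _ _

theorem exists_line {v : V} (h : v ∈ lineList) : ∃ i, line i = v := by
  obtain ⟨n, hn, e⟩ := List.getElem_of_mem h
  exact ⟨⟨n, lineList_length ▸ hn⟩, e⟩

theorem line_ok (i : Fin 315) : (line i).ok = true ∧ qip (line i).val (line i).val = 4 := by
  obtain ⟨h1, h2⟩ := lines_ok _ (line_mem i)
  exact ⟨h1, (qip_four_iff h1).2 h2⟩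

/-- the reflection of a line -/
noncomputable def lineRefl (i : Fin 315) : Equiv.Perm icoLeech :=
  reflPerm (toLeech _ (line_ok i).1) (line_ok i).2

theorem gram_of_refl {r s : Fin 3 → ℍ[ℝ]}
    (h : ∀ t : Fin 3, qrefl r (fun k => if k = t then 2 else 0) = qrefl s (fun k => if k = t then 2 else 0)) :
    ∀ t k, star (r t) * r k = star (s t) * s k := by
  intro t k
  have e := congrFun (h t) k
  have key : ∀ r : Fin 3 → ℍ[ℝ], qip (fun k => if k = t then (2 : ℍ[ℝ]) else 0) r = star (r t) + star (r t) := by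
    intro r
    simp [qip, ite_mul, two_mul]
  simp only [qrefl, key, half_smul_add] at e
  exact sub_right_inj.1 e

theorem lineRefl_injective : Function.Injective lineRefl := by
  intro i j h
  have hmem : ∀ t : Fin 3, (fun k => if k = t then (2 : ℍ[ℝ]) else 0) ∈ icoLeech := by
    intro t
    let v : V := ⟨if (0 : Fin 3) = t then Q.two else Q.zero, if (1 : Fin 3) = t then Q.two else Q.zero,
      if (2 : Fin 3) = t then Q.two else Q.zero⟩
    have hv : v.ok = true := by fin_cases t <;> decide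
    have e : v.val = fun k => if k = t then (2 : ℍ[ℝ]) else 0 := by
      funext k; fin_cases k <;> fin_cases t <;> simp [v, V.val]
    exact e ▸ ok_iff.1 hv
  have hg := gram_of_refl (r := (line i).val) (s := (line j).val) fun t =>
    congrArg Subtype.val (Equiv.ext_iff.1 h ⟨_, hmem t⟩)
  obtain ⟨ix, iy, iz⟩ := ok_good (line_ok i).1
  obtain ⟨jx, jy, jz⟩ := ok_good (line_ok j).1
  have pr : ∀ {a b c d : Q}, a.good = true → b.good = true → c.good = true → d.good = true →
      star a.val * b.val = star c.val * d.val → Q.mul a.conj b = Q.mul c.conj d := by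
    intro a b c d ha hb hc hd e
    refine CfsgLib.J2.val_injective ?_
    rw [(good_mul (good_conj ha) hb).1, (good_mul (good_conj hc) hd).1, val_conj, val_conj, e]
  have hkey : gramKey (line i) = gramKey (line j) := by
    have e00 := pr ix ix jx jx (hg 0 0); have e01 := pr ix iy jx jy (hg 0 1)
    have e02 := pr ix iz jx jz (hg 0 2); have e10 := pr iy ix jy jx (hg 1 0)
    have e11 := pr iy iy jy jy (hg 1 1); have e12 := pr iy iz jy jz (hg 1 2)
    have e20 := pr iz ix jz jx (hg 2 0); have e21 := pr iz iy jz jy (hg 2 1)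
    have e22 := pr iz iz jz jz (hg 2 2)
    simp only [gramKey, e00, e01, e02, e10, e11, e12, e20, e21, e22]
  have hnd : (lineList.map gramKey).Nodup := gram_eq ▸ allDistinct_nodup _ gram_distinct
  have := (List.Nodup.getElem_inj_iff hnd (hi := by simp [lineList_length]) (hj := by simp [lineList_length])).1
    (show (lineList.map gramKey)[i.val] = (lineList.map gramKey)[j.val] by
      simpa [line] using hkey)
  exact Fin.ext this

theorem isIcoReflection_range {f : Equiv.Perm icoLeech} : IsIcoReflection f ↔ ∃ i, f = lineRefl i := by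
  rw [isIcoReflection_iff]
  constructor
  · rintro ⟨⟨v, hv⟩, h4, rfl⟩
    obtain ⟨r, hr, rfl⟩ := exists_model hv
    obtain ⟨u, hu, w, hw, rfl⟩ := min_cases hr ((qip_four_iff hr).1 h4)
    obtain ⟨i, rfl⟩ := exists_line hw
    obtain ⟨gu, e1, -⟩ := units_check u hu
    obtain ⟨-, e⟩ := lmul_ok gu (line_ok i).1
    refine ⟨i, Equiv.ext fun x => Subtype.ext ?_⟩
    show qrefl (V.lmul u (line i)).val x = qrefl (line i).val x
    funext t
    simp only [qrefl, e]
    have hq : qip (x : Fin 3 → ℍ[ℝ]) (fun k => u.val * (line i).val k) = qip x (line i).val * star u.val := by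
      simp [qip, Finset.sum_mul, mul_assoc]
    rw [hq, ← smul_mul_assoc, mul_assoc, ← mul_assoc (star u.val), ← val_conj,
      ← (good_mul (good_conj gu) gu).1, e1, val_one, one_mul]
  · rintro ⟨i, rfl⟩
    exact ⟨_, _, rfl⟩

theorem card_reflections :
    {f : Equiv.Perm icoLeech | IsIcoReflection f}.ncard = 315 := by
  rw [show {f : Equiv.Perm icoLeech | IsIcoReflection f} = Set.range lineRefl by
    ext f; simp [isIcoReflection_range, eq_comm]]
  rw [← Set.image_univ, Set.ncard_image_of_injective _ lineRefl_injective, Set.ncard_univ, Nat.card_fin]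

/-- the `k`-th unit -/
def unit (k : Fin 120) : Q := unitList.get (k.cast unitList_length.symm)

theorem unit_mem (k : Fin 120) : unit k ∈ unitList := List.get_mem _ _

theorem unit_mul_injective : Function.Injective fun p : Fin 120 × Fin 315 => (V.lmul (unit p.1) (line p.2)).val := by
  rintro ⟨k, i⟩ ⟨l, j⟩ h
  obtain ⟨gk, k1, -⟩ := units_check _ (unit_mem k)
  obtain ⟨gl, l1, -⟩ := units_check _ (unit_mem l)
  obtain ⟨ok1, e1⟩ := lmul_ok gk (line_ok i).1
  obtain ⟨-, e2⟩ := lmul_ok gl (line_ok j).1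
  simp only at h
  have hij : i = j := by
    apply lineRefl_injective
    refine Equiv.ext fun x => Subtype.ext ?_
    funext t
    show qrefl (line i).val x t = qrefl (line j).val x t
    have key : ∀ {u : Q} {v : V}, u.good = true → Q.mul u.conj u = Q.one → v.ok = true →
        qrefl (V.lmul u v).val x t = qrefl v.val x t := by
      intro u v gu e1 hv
      obtain ⟨-, e⟩ := lmul_ok gu hv
      simp only [qrefl, e]
      have hq : qip (x : Fin 3 → ℍ[ℝ]) (fun k => u.val * v.val k) = qip x v.val * star u.val := by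
        simp [qip, Finset.sum_mul, mul_assoc]
      rw [hq, ← smul_mul_assoc, mul_assoc, ← mul_assoc (star u.val), ← val_conj,
        ← (good_mul (good_conj gu) gu).1, e1, val_one, one_mul]
    rw [← key gk k1 (line_ok i).1, ← key gl l1 (line_ok j).1, h]
  subst hij
  rw [e1, e2] at h
  have hne : ∃ t, (line i).val t ≠ 0 := by
    by_contra hc
    push Not at hc
    have := (line_ok i).2
    rw [show (line i).val = fun _ => 0 from funext hc] at this
    simp [qip] at this
    rw [← four_val] at this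
    have h4 := congrArg QuaternionAlgebra.re this
    simp at h4; norm_num at h4
  obtain ⟨t, ht⟩ := hne
  have hu : unit k = unit l := CfsgLib.J2.val_injective (mul_right_cancel₀ ht (congrFun h t))
  have hkl := unitList_nodup.get_inj_iff.1 hu
  exact Prod.ext (by simpa [Fin.ext_iff] using hkl) rfl

theorem card_min : {r : Fin 3 → ℍ[ℝ] | r ∈ icoLeech ∧ qip r r = 4}.ncard = 37800 := by
  have e : {r : Fin 3 → ℍ[ℝ] | r ∈ icoLeech ∧ qip r r = 4} =
      Set.range fun p : Fin 120 × Fin 315 => (V.lmul (unit p.1) (line p.2)).val := by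
    ext r
    constructor
    · rintro ⟨hr, h4⟩
      obtain ⟨v, hv, rfl⟩ := exists_model hr
      obtain ⟨u, hu, w, hw, rfl⟩ := min_cases hv ((qip_four_iff hv).1 h4)
      obtain ⟨i, rfl⟩ := exists_line hw
      obtain ⟨n, hn, rfl⟩ := List.getElem_of_mem hu
      exact ⟨(⟨n, unitList_length ▸ hn⟩, i), rfl⟩
    · rintro ⟨⟨k, i⟩, rfl⟩
      obtain ⟨gk, k1, k2⟩ := units_check _ (unit_mem k)
      obtain ⟨ok1, e1⟩ := lmul_ok gk (line_ok i).1
      refine ⟨ok_iff.1 ok1, ?_⟩
      show qip (V.lmul (unit k) (line i)).val (V.lmul (unit k) (line i)).val = 4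
      rw [e1, qip_lmul, (line_ok i).2, show (4 : ℍ[ℝ]) = 1 + 1 + 1 + 1 by norm_num]
      have : (unit k).val * star (unit k).val = 1 := by
        rw [← val_conj, ← (good_mul gk (good_conj gk)).1, k2, val_one]
      simp only [mul_add, add_mul, mul_one, this]
  rw [e, ← Set.image_univ, Set.ncard_image_of_injective _ unit_mul_injective, Set.ncard_univ, Nat.card_prod,
    Nat.card_fin, Nat.card_fin]

end CfsgLib.J2
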