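import Cfsg.Agent.Lib.Spor.J2.ShortData

/-!
The minimal vectors of the icosian Leech lattice are the unit multiples of the listed lines.
-/

set_option autoImplicit false
set_option maxRecDepth 100000

namespace CfsgLib.J2

open Quaternion Cfsg.Spor

namespace Q

/-- rational part of four times the norm -/
def nA (x : Q) : ℤ := (x.a0 * x.a0 + x.b0 * x.b0 + x.a1 * x.a1 + x.b1 * x.b1) +
  (x.a2 * x.a2 + x.b2 * x.b2 + x.a3 * x.a3 + x.b3 * x.b3)

/-- `τ`-part of four times the norm -/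
def nB (x : Q) : ℤ := (2 * x.a0 * x.b0 + x.b0 * x.b0 + 2 * x.a1 * x.b1 + x.b1 * x.b1) +
  (2 * x.a2 * x.b2 + x.b2 * x.b2 + 2 * x.a3 * x.b3 + x.b3 * x.b3)

/-- third coordinate -/
def c2 (x : Q) : ℤ := x.a1 - x.a0
/-- fourth coordinate -/
def c3 (x : Q) : ℤ := x.b1 + c2 x
/-- fifth coordinate -/
def c4 (x : Q) : ℤ := (x.a2 - x.a0 - x.b0 - c3 x) / 2
/-- sixth coordinate -/
def c5 (x : Q) : ℤ := (x.b2 + x.b0 - c2 x) / 2
/-- seventh coordinate -/
def c6 (x : Q) : ℤ := (x.a3 - x.a0 - x.b0 - c2 x - c3 x - 2 * c5 x) / 2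
/-- eighth coordinate -/
def c7 (x : Q) : ℤ := (x.b3 + c3 x + 2 * c5 x) / 2

/-- the class modulo `2I` -/
def cls (x : Q) : ℕ :=
  (x.a0 % 2 + 2 * (x.b0 % 2) + 4 * (c2 x % 2) + 8 * (c3 x % 2) + 16 * (c4 x % 2) + 32 * (c5 x % 2) +
    64 * (c6 x % 2) + 128 * (c7 x % 2)).toNat

/-- right multiplication by `h̄` -/
def mulHs (x : Q) : Q := half
  ⟨x.a0 - 2 * x.b0 + x.a1 + x.a2 + x.a3, -2 * x.a0 - x.b0 + x.b1 + x.b2 + x.b3,
   -x.a0 + (x.a1 - 2 * x.b1) - x.a2 + x.a3, -x.b0 + (-2 * x.a1 - x.b1) - x.b2 + x.b3,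
   -x.a0 + x.a1 + (x.a2 - 2 * x.b2) - x.a3, -x.b0 + x.b1 + (-2 * x.a2 - x.b2) - x.b3,
   -x.a0 - x.a1 + x.a2 + (x.a3 - 2 * x.b3), -x.b0 - x.b1 + x.b2 + (-2 * x.a3 - x.b3)⟩

/-- right multiplication by `h` -/
def mulH (x : Q) : Q := half
  ⟨x.a0 - 2 * x.b0 - x.a1 - x.a2 - x.a3, -2 * x.a0 - x.b0 - x.b1 - x.b2 - x.b3,
   x.a0 + (x.a1 - 2 * x.b1) + x.a2 - x.a3, x.b0 + (-2 * x.a1 - x.b1) + x.b2 - x.b3,
   x.a0 - x.a1 + (x.a2 - 2 * x.b2) + x.a3, x.b0 - x.b1 + (-2 * x.a2 - x.b2) + x.b3,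
   x.a0 + x.a1 - x.a2 + (x.a3 - 2 * x.b3), x.b0 + x.b1 - x.b2 + (-2 * x.a3 - x.b3)⟩

theorem mulHs_eq (x : Q) : x.mulHs = Q.mul x Q.hs := by
  rw [mulHs, mul]
  congr 1
  simp only [raw, hs, pA, pB, Q.mk.injEq]
  refine ⟨by ring, by ring, by ring, by ring, by ring, by ring, by ring, by ring⟩

theorem mulH_eq (x : Q) : x.mulH = Q.mul x Q.h := by
  rw [mulH, mul]
  congr 1
  simp only [raw, h, pA, pB, Q.mk.injEq]
  refine ⟨by ring, by ring, by ring, by ring, by ring, by ring, by ring, by ring⟩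

end Q

theorem raw_conj (x : Q) : Q.raw x x.conj = ⟨x.nA, x.nB, 0, 0, 0, 0, 0, 0⟩ := by
  simp only [Q.raw, Q.conj, Q.pA, Q.pB, Q.nA, Q.nB, Q.mk.injEq]
  refine ⟨by ring, by ring, by ring, by ring, by ring, by ring, by ring, by ring⟩

theorem mul_conj {x : Q} (hx : x.good = true) :
    Q.mul x x.conj = ⟨x.nA / 2, x.nB / 2, 0, 0, 0, 0, 0, 0⟩ ∧ x.nA % 2 = 0 ∧ x.nB % 2 = 0 := by
  obtain ⟨e, g⟩ := good_mul hx (good_conj hx)
  have h : Q.raw x x.conj = (Q.mul x x.conj).add (Q.mul x x.conj) :=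
    CfsgLib.J2.val_injective (by rw [val_add, e, val_raw])
  refine ⟨by rw [Q.mul, raw_conj]; rfl, ?_, ?_⟩
  · have := congrArg Q.a0 h
    rw [raw_conj] at this; simp [Q.add] at this; omega
  · have := congrArg Q.b0 h
    rw [raw_conj] at this; simp [Q.add] at this; omega

theorem cls_congr {w w' : Q} (hw : w.good = true) (hw' : w'.good = true) (h : (w.sub w').inTwo = true) :
    w.cls = w'.cls := by
  obtain ⟨b, hb, e⟩ := inTwo_iff.1 h
  rw [good_iff] at hb
  obtain ⟨a0, b0, a1, b1, a2, b2, a3, b3⟩ := w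
  obtain ⟨p0, q0, p1, q1, p2, q2, p3, q3⟩ := w'
  obtain ⟨u0, v0, u1, v1, u2, v2, u3, v3⟩ := b
  simp only [Q.sub, Q.add, Q.mk.injEq] at e hb
  obtain ⟨r0, s0, r1, s1, r2, s2, r3, s3⟩ := e
  obtain ⟨g1, g2, g3, g4⟩ := hb
  obtain rfl : a0 = p0 + 2 * u0 := by omega
  obtain rfl : b0 = q0 + 2 * v0 := by omega
  obtain rfl : a1 = p1 + 2 * u1 := by omega
  obtain rfl : b1 = q1 + 2 * v1 := by omega
  obtain rfl : a2 = p2 + 2 * u2 := by omega
  obtain rfl : b2 = q2 + 2 * v2 := by omega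
  obtain rfl : a3 = p3 + 2 * u3 := by omega
  obtain rfl : b3 = q3 + 2 * v3 := by omega
  clear r0 s0 r1 s1 r2 s2 r3 s3 h hw hw'
  simp only [Q.cls, Q.c2, Q.c3, Q.c4, Q.c5, Q.c6, Q.c7]
  generalize h5 : (q2 + q0 - (p1 - p0)) / 2 = t5
  have e5 : (q2 + 2 * v2 + (q0 + 2 * v0) - (p1 + 2 * u1 - (p0 + 2 * u0))) / 2 = t5 + (v2 + v0 - u1 + u0) := by
    omega
  rw [e5]
  generalize h4 : (p2 - p0 - q0 - (q1 + (p1 - p0))) / 2 = t4
  have e4 : (p2 + 2 * u2 - (p0 + 2 * u0) - (q0 + 2 * v0) - (q1 + 2 * v1 + (p1 + 2 * u1 - (p0 + 2 * u0)))) / 2 =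
      t4 + (u2 - v0 - v1 - u1) := by omega
  rw [e4]
  congr 1
  clear h4 h5 e4 e5
  omega

theorem cls_bits (x : Q) : x.cls = Nat.bit (decide (x.a0 % 2 = 1)) (Nat.bit (decide (x.b0 % 2 = 1))
    (Nat.bit (decide (x.c2 % 2 = 1)) (Nat.bit (decide (x.c3 % 2 = 1)) (Nat.bit (decide (x.c4 % 2 = 1))
    (Nat.bit (decide (x.c5 % 2 = 1)) (Nat.bit (decide (x.c6 % 2 = 1)) (Nat.bit (decide (x.c7 % 2 = 1)) 0))))))) := by
  have key : ∀ (c : ℤ) (n : ℕ), Nat.bit (decide (c % 2 = 1)) n = (c % 2).toNat + 2 * n := by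
    intro c n
    rcases Int.emod_two_eq_zero_or_one c with h | h <;> simp [h, Nat.bit_val] <;> omega
  simp only [key, Q.cls]
  omega

theorem cls_add_neg {a b : Q} (ha : a.good = true) (hb : b.good = true) :
    (a.add b).neg.cls = a.cls ^^^ b.cls := by
  rw [good_iff] at ha hb
  obtain ⟨g1, g2, g3, g4⟩ := ha
  obtain ⟨k1, k2, k3, k4⟩ := hb
  have key : ∀ s u v : ℤ, s % 2 = (u + v) % 2 →
      decide (s % 2 = 1) = xor (decide (u % 2 = 1)) (decide (v % 2 = 1)) := by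
    intro s u v h
    rcases Int.emod_two_eq_zero_or_one u with hu | hu <;> rcases Int.emod_two_eq_zero_or_one v with hv | hv <;>
      simp [hu, hv, h, Int.add_emod]
  rw [cls_bits, cls_bits a, cls_bits b]
  simp only [Nat.xor_bit, Nat.xor_self]
  obtain ⟨a0, b0, a1, b1, a2, b2, a3, b3⟩ := a
  obtain ⟨p0, q0, p1, q1, p2, q2, p3, q3⟩ := b
  simp only [Q.add, Q.neg] at *
  congr 1
  · exact key _ _ _ (by omega)
  congr 1
  · exact key _ _ _ (by omega)
  congr 1
  · exact key _ _ _ (by simp only [Q.c2]; omega)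
  congr 1
  · exact key _ _ _ (by simp only [Q.c3, Q.c2]; omega)
  congr 1
  · exact key _ _ _ (by simp only [Q.c4, Q.c3, Q.c2]; omega)
  congr 1
  · exact key _ _ _ (by simp only [Q.c5, Q.c2]; omega)
  congr 1
  · exact key _ _ _ (by simp only [Q.c6, Q.c5, Q.c3, Q.c2]; omega)
  congr 1
  exact key _ _ _ (by simp only [Q.c7, Q.c5, Q.c3, Q.c2]; omega)

/-- feasibility of a norm as part of a norm `4` vector -/
def feas (A B : ℤ) : Bool := decide (2 * A + B ≤ 32) && decide (0 ≤ (16 - A) * (16 - A) - (16 - A) * B - B * B)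

/-- A half of a stored quaternion with its part of the norm. -/
structure HE where
  a : ℤ
  b : ℤ
  c : ℤ
  d : ℤ
  A : ℤ
  B : ℤ
  t : ℕ

/-- the quadratic form -/
def qf (p : ℤ × ℤ) : ℤ := 2 * p.1 * p.1 + 2 * p.1 * p.2 + 3 * p.2 * p.2

/-- coordinate pairs -/
def rList : List (ℤ × ℤ) :=
  ([-4, -3, -2, -1, 0, 1, 2, 3, 4].flatMap fun a => [-3, -2, -1, 0, 1, 2, 3].map fun b => (a, b)).filter
    fun p => decide (qf p ≤ 32)

/-- half vectors -/
def hList : List HE :=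
  rList.flatMap fun p => (rList.filter fun r => decide (qf p + qf r ≤ 32)).map fun r =>
    ⟨p.1, p.2, r.1, r.2, p.1 * p.1 + p.2 * p.2 + r.1 * r.1 + r.2 * r.2,
      2 * p.1 * p.2 + p.2 * p.2 + 2 * r.1 * r.2 + r.2 * r.2, (qf p + qf r).toNat⟩

/-- parity code -/
def HE.code (h : HE) : ℕ := (h.a % 2 + 2 * (h.b % 2) + 4 * (h.c % 2) + 8 * (h.d % 2)).toNat

/-- parity code required of the other half -/
def HE.req (h : HE) : ℕ :=
  ((h.b + h.c + h.d) % 2 + 2 * ((h.a + h.b + h.c) % 2) + 4 * ((h.a + h.b + h.d) % 2) +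
    8 * ((h.a + h.c + h.d) % 2)).toNat

/-- the pairs of one class -/
def joinHalves (ps qs : List HE) : List Q :=
  ps.flatMap fun p => (qs.filter fun q =>
    Nat.ble (p.t + q.t) 32 && (feas (p.A + q.A) (p.B + q.B) && !Nat.beq (p.t + q.t) 0)).map fun q =>
      ⟨p.a, p.b, p.c, p.d, q.a, q.b, q.c, q.d⟩

/-- the short elements of one parity class -/
def shortPart (c : ℕ) : List Q :=
  joinHalves (hList.filter fun p => Nat.beq p.req c) (hList.filter fun q => Nat.beq q.code c)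

/-- the certificate is right -/
def decOK (x : Q) (k : ℕ) : Bool :=
  match unitList[k / 64]?, repList[k % 64]? with
  | some u, some g => decide (Q.mul u g = x)
  | _, _ => false

/-- run through the certificate -/
def decAll : List Q → List ℕ → Bool
  | [], [] => true
  | x :: xs, k :: ks => decOK x k && decAll xs ks
  | _, _ => false

theorem units_check : ∀ u ∈ unitList, u.good = true ∧ Q.mul u.conj u = Q.one ∧ Q.mul u u.conj = Q.one := by
  decide +kernel

theorem reps_check : ∀ g ∈ repList, g.good = true ∧ g ≠ Q.zero := by decide +kernel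

theorem decAll_spec : ∀ (l : List Q) (ks : List ℕ), decAll l ks = true →
    ∀ x ∈ l, ∃ u ∈ unitList, ∃ g ∈ repList, x = Q.mul u g := by
  intro l
  induction l with
  | nil => simp
  | cons a l ih =>
    intro ks h x hx
    cases ks with
    | nil => simp [decAll] at h
    | cons k ks =>
      simp only [decAll, Bool.and_eq_true] at h
      rcases List.mem_cons.1 hx with rfl | hx
      · have h1 := h.1
        unfold decOK at h1
        split at h1
        next u g hu hg =>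
          exact ⟨u, List.mem_of_getElem? hu, g, List.mem_of_getElem? hg, (of_decide_eq_true h1).symm⟩
        next => exact absurd h1 Bool.false_ne_true
      · exact ih ks h.2 x hx

theorem mem_rList {a b : ℤ} (h : qf (a, b) ≤ 32) : (a, b) ∈ rList := by
  simp only [qf] at h
  have ha : a * a ≤ 19 := by nlinarith [sq_nonneg (a + 3 * b)]
  have hb : b * b ≤ 12 := by nlinarith [sq_nonneg (2 * a + b)]
  have : -4 ≤ a ∧ a ≤ 4 ∧ -3 ≤ b ∧ b ≤ 3 := ⟨by nlinarith, by nlinarith, by nlinarith, by nlinarith⟩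
  obtain ⟨h1, h2, h3, h4⟩ := this
  simp only [rList, List.mem_filter, List.mem_flatMap, List.mem_map, decide_eq_true_eq]
  refine ⟨⟨a, ?_, b, ?_, rfl⟩, by simpa [qf] using h⟩
  · simp only [List.mem_cons, List.not_mem_nil, or_false]; omega
  · simp only [List.mem_cons, List.not_mem_nil, or_false]; omega

theorem qf_nonneg (p : ℤ × ℤ) : 0 ≤ qf p := by
  simp only [qf]; nlinarith [sq_nonneg (2 * p.1 + p.2), sq_nonneg p.2]

theorem nA_eq_zero {x : Q} (h : x.nA = 0) : x = Q.zero := by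
  obtain ⟨a0, b0, a1, b1, a2, b2, a3, b3⟩ := x
  simp only [Q.nA] at h
  simp only [Q.zero, Q.mk.injEq]
  have z : ∀ t : ℤ, t * t ≤ 0 → t = 0 := fun t ht => mul_self_eq_zero.1 (le_antisymm ht (mul_self_nonneg t))
  have := mul_self_nonneg a0; have := mul_self_nonneg b0; have := mul_self_nonneg a1
  have := mul_self_nonneg b1; have := mul_self_nonneg a2; have := mul_self_nonneg b2
  have := mul_self_nonneg a3; have := mul_self_nonneg b3
  exact ⟨z _ (by linarith), z _ (by linarith), z _ (by linarith), z _ (by linarith), z _ (by linarith),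
    z _ (by linarith), z _ (by linarith), z _ (by linarith)⟩

theorem mem_shortPart {x : Q} (hx : x.good = true) (hf : feas x.nA x.nB = true) (h0 : x ≠ Q.zero) :
    ∃ c < 16, x ∈ shortPart c := by
  have htr : 2 * x.nA + x.nB ≤ 32 := by
    simp only [feas, Bool.and_eq_true, decide_eq_true_eq] at hf; exact hf.1
  obtain ⟨a0, b0, a1, b1, a2, b2, a3, b3⟩ := x
  have hne := fun e => h0 (nA_eq_zero e)
  simp only [Q.nA, Q.nB] at htr hne hf
  rw [good_iff] at hx
  simp only at hx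
  have hq : qf (a0, b0) + qf (a1, b1) + qf (a2, b2) + qf (a3, b3) ≤ 32 := by simp only [qf]; linarith
  have q0 := qf_nonneg (a0, b0); have q1 := qf_nonneg (a1, b1)
  have q2 := qf_nonneg (a2, b2); have q3 := qf_nonneg (a3, b3)
  let p : HE := ⟨a0, b0, a1, b1, a0 * a0 + b0 * b0 + a1 * a1 + b1 * b1,
    2 * a0 * b0 + b0 * b0 + 2 * a1 * b1 + b1 * b1, (qf (a0, b0) + qf (a1, b1)).toNat⟩
  let q : HE := ⟨a2, b2, a3, b3, a2 * a2 + b2 * b2 + a3 * a3 + b3 * b3,
    2 * a2 * b2 + b2 * b2 + 2 * a3 * b3 + b3 * b3, (qf (a2, b2) + qf (a3, b3)).toNat⟩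
  have hp : p ∈ hList := by
    simp only [hList, List.mem_flatMap, List.mem_map, List.mem_filter, decide_eq_true_eq]
    exact ⟨(a0, b0), mem_rList (by linarith), (a1, b1), ⟨mem_rList (by linarith), by linarith⟩, rfl⟩
  have hq' : q ∈ hList := by
    simp only [hList, List.mem_flatMap, List.mem_map, List.mem_filter, decide_eq_true_eq]
    exact ⟨(a2, b2), mem_rList (by linarith), (a3, b3), ⟨mem_rList (by linarith), by linarith⟩, rfl⟩
  have hreq : p.req = q.code := by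
    have r1 : (b0 + a1 + b1) % 2 = a2 % 2 := by omega
    have r2 : (a0 + b0 + a1) % 2 = b2 % 2 := by omega
    have r3 : (a0 + b0 + b1) % 2 = a3 % 2 := by omega
    have r4 : (a0 + a1 + b1) % 2 = b3 % 2 := by omega
    simp only [HE.req, HE.code, p, q, r1, r2, r3, r4]
  have hc : q.code < 16 := by simp only [HE.code, q]; omega
  have hle : Nat.ble (p.t + q.t) 32 = true := by
    rw [Nat.ble_eq]; simp only [p, q]; omega
  have hz : Nat.beq (p.t + q.t) 0 = false := by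
    rw [Bool.eq_false_iff]
    intro h
    have h' : p.t + q.t = 0 := Nat.eq_of_beq_eq_true h
    simp only [p, q] at h'
    apply h0
    have e : ∀ u v : ℤ, qf (u, v) ≤ 0 → u = 0 ∧ v = 0 := by
      intro u v huv
      simp only [qf] at huv
      have hv : v * v ≤ 0 := by nlinarith [sq_nonneg (2 * u + v)]
      have hv0 : v = 0 := mul_self_eq_zero.1 (le_antisymm hv (mul_self_nonneg v))
      subst hv0
      exact ⟨mul_self_eq_zero.1 (le_antisymm (by linarith) (mul_self_nonneg u)), rfl⟩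
    obtain ⟨rfl, rfl⟩ := e a0 b0 (by omega)
    obtain ⟨rfl, rfl⟩ := e a1 b1 (by omega)
    obtain ⟨rfl, rfl⟩ := e a2 b2 (by omega)
    obtain ⟨rfl, rfl⟩ := e a3 b3 (by omega)
    rfl
  simp only [shortPart, joinHalves, List.mem_flatMap, List.mem_map, List.mem_filter, Bool.and_eq_true,
    Bool.not_eq_true']
  exact ⟨q.code, hc, p, ⟨hp, by rw [hreq]; exact Nat.beq_refl _⟩, q,
    ⟨⟨hq', Nat.beq_refl _⟩, hle, hf, hz⟩, rfl⟩

/-! ### Triples -/

/-- An element with its norm key and two classes. -/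
structure EK where
  x : Q
  N : ℕ
  k : ℕ
  kw : ℕ
deriving DecidableEq

/-- the cached data -/
def mkEK (x : Q) : EK := ⟨x, (x.nA * 64 + x.nB + 32).toNat, x.mulHs.cls, x.mulH.cls⟩

end CfsgLib.J2
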