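import Cfsg.Agent.Lib.Spor.J2.MinBasic

/-! Every short element is a unit times a representative. -/

set_option autoImplicit false
set_option maxRecDepth 100000

namespace CfsgLib.J2

theorem dec_check0 : shortPart 0 = shortData0 ∧ decAll shortData0 decPart0 = true := by decide +kernel

theorem dec_check1 : shortPart 1 = shortData1 ∧ decAll shortData1 decPart1 = true := by decide +kernel

theorem dec_check2 : shortPart 2 = shortData2 ∧ decAll shortData2 decPart2 = true := by decide +kernel

theorem dec_check3 : shortPart 3 = shortData3 ∧ decAll shortData3 decPart3 = true := by decide +kernel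

theorem dec_check4 : shortPart 4 = shortData4 ∧ decAll shortData4 decPart4 = true := by decide +kernel

theorem dec_check5 : shortPart 5 = shortData5 ∧ decAll shortData5 decPart5 = true := by decide +kernel

theorem dec_check6 : shortPart 6 = shortData6 ∧ decAll shortData6 decPart6 = true := by decide +kernel

theorem dec_check7 : shortPart 7 = shortData7 ∧ decAll shortData7 decPart7 = true := by decide +kernel

theorem dec_check8 : shortPart 8 = shortData8 ∧ decAll shortData8 decPart8 = true := by decide +kernel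

theorem dec_check9 : shortPart 9 = shortData9 ∧ decAll shortData9 decPart9 = true := by decide +kernel

theorem dec_check10 : shortPart 10 = shortData10 ∧ decAll shortData10 decPart10 = true := by decide +kernel

theorem dec_check11 : shortPart 11 = shortData11 ∧ decAll shortData11 decPart11 = true := by decide +kernel

theorem dec_check12 : shortPart 12 = shortData12 ∧ decAll shortData12 decPart12 = true := by decide +kernel

theorem dec_check13 : shortPart 13 = shortData13 ∧ decAll shortData13 decPart13 = true := by decide +kernel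

theorem dec_check14 : shortPart 14 = shortData14 ∧ decAll shortData14 decPart14 = true := by decide +kernel

theorem dec_check15 : shortPart 15 = shortData15 ∧ decAll shortData15 decPart15 = true := by decide +kernel

theorem short_cases {x : Q} (hx : x.good = true) (hf : feas x.nA x.nB = true) :
    x = Q.zero ∨ (∃ u ∈ unitList, ∃ g ∈ repList, x = Q.mul u g) ∧ x ∈ shortAll := by
  by_cases h0 : x = Q.zero
  · exact Or.inl h0
  obtain ⟨c, hc, hm⟩ := mem_shortPart hx hf h0
  refine Or.inr ?_
  interval_cases c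
  · exact ⟨decAll_spec _ _ dec_check0.2 x (dec_check0.1 ▸ hm), by simp [shortAll, dec_check0.1 ▸ hm]⟩
  · exact ⟨decAll_spec _ _ dec_check1.2 x (dec_check1.1 ▸ hm), by simp [shortAll, dec_check1.1 ▸ hm]⟩
  · exact ⟨decAll_spec _ _ dec_check2.2 x (dec_check2.1 ▸ hm), by simp [shortAll, dec_check2.1 ▸ hm]⟩
  · exact ⟨decAll_spec _ _ dec_check3.2 x (dec_check3.1 ▸ hm), by simp [shortAll, dec_check3.1 ▸ hm]⟩
  · exact ⟨decAll_spec _ _ dec_check4.2 x (dec_check4.1 ▸ hm), by simp [shortAll, dec_check4.1 ▸ hm]⟩
  · exact ⟨decAll_spec _ _ dec_check5.2 x (dec_check5.1 ▸ hm), by simp [shortAll, dec_check5.1 ▸ hm]⟩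
  · exact ⟨decAll_spec _ _ dec_check6.2 x (dec_check6.1 ▸ hm), by simp [shortAll, dec_check6.1 ▸ hm]⟩
  · exact ⟨decAll_spec _ _ dec_check7.2 x (dec_check7.1 ▸ hm), by simp [shortAll, dec_check7.1 ▸ hm]⟩
  · exact ⟨decAll_spec _ _ dec_check8.2 x (dec_check8.1 ▸ hm), by simp [shortAll, dec_check8.1 ▸ hm]⟩
  · exact ⟨decAll_spec _ _ dec_check9.2 x (dec_check9.1 ▸ hm), by simp [shortAll, dec_check9.1 ▸ hm]⟩
  · exact ⟨decAll_spec _ _ dec_check10.2 x (dec_check10.1 ▸ hm), by simp [shortAll, dec_check10.1 ▸ hm]⟩
  · exact ⟨decAll_spec _ _ dec_check11.2 x (dec_check11.1 ▸ hm), by simp [shortAll, dec_check11.1 ▸ hm]⟩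
  · exact ⟨decAll_spec _ _ dec_check12.2 x (dec_check12.1 ▸ hm), by simp [shortAll, dec_check12.1 ▸ hm]⟩
  · exact ⟨decAll_spec _ _ dec_check13.2 x (dec_check13.1 ▸ hm), by simp [shortAll, dec_check13.1 ▸ hm]⟩
  · exact ⟨decAll_spec _ _ dec_check14.2 x (dec_check14.1 ▸ hm), by simp [shortAll, dec_check14.1 ▸ hm]⟩
  · exact ⟨decAll_spec _ _ dec_check15.2 x (dec_check15.1 ▸ hm), by simp [shortAll, dec_check15.1 ▸ hm]⟩

end CfsgLib.J2
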