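import Cfsg.Agent.Lib.Spor.J2.Centralizer
import Cfsg.Agent.Lib.Spor.J2.OuterCheck
import Cfsg.Agent.Lib.Spor.J2.Sylow
import Cfsg.Prelude.Def_KGroupFacts

/-! The outer automorphism group of the Hall–Janko group has order 2. -/

set_option autoImplicit false
set_option maxRecDepth 100000

namespace CfsgLib.J2

open Subgroup

attribute [local irreducible] reflWord lineT stabWords searchFrom

theorem chainLists_head_eq : chainLists.headD [] = lvl0.trans gens0 := rfl

theorem lineT_rep (i : ℕ) : ∃ τ : imgGen, Rep (τ : Equiv.Perm (Fin 315)) (lineT i) := by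
  rw [lineT]
  have hmem : ∀ a ∈ chainLists.headD [], ∃ σ ∈ imgGen, Rep σ a := fun a ha => by
    rw [chainLists_head_eq] at ha
    obtain ⟨σ, hσ, hr⟩ := (chainLists_reps (lvl0.trans gens0) (by rw [chainLists_cons]; exact List.mem_cons_self)).2 a ha
    exact ⟨σ, range_toLines ▸ hσ, hr⟩
  obtain ⟨σ, hσ, hr⟩ := repIn_getD hmem (lineTIdx.getD i 0)
  exact ⟨⟨σ, hσ⟩, hr⟩

theorem reflImg_conj_eq {σ : imgGen} {i j : Fin 315} (h : (σ : Equiv.Perm (Fin 315)) i = j) :
    σ * reflImg i * σ⁻¹ = reflImg j := by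
  obtain ⟨g, rfl⟩ := toImg_surjective σ
  rw [reflImg_conj]
  exact congrArg reflImg h

theorem reflWord_eval (i : Fin 315) :
    ∀ f : Fin 315, evalW (reflWord i) f = ((reflImg i : imgGen) : Equiv.Perm (Fin 315)) f := by
  have h := List.all_eq_true.1 reflWord_ok (i : ℕ) (List.mem_range.2 i.is_lt)
  simp only [Bool.and_eq_true, decide_eq_true_eq] at h
  obtain ⟨⟨h0, h5⟩, heq⟩ := h
  obtain ⟨σ, hσ⟩ : ∃ σ : imgGen, ∀ f : Fin 315, evalW (reflWord i) f = ((σ : Equiv.Perm (Fin 315)) f : ℕ) := by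
    rw [reflWord] at h5 ⊢; exact chain_word h5
  obtain ⟨τ, hτ⟩ := lineT_rep i
  have hτ0 : (τ : Equiv.Perm (Fin 315)) 0 = i := Fin.ext ((hτ 0).symm.trans (Nat.eq_of_beq_eq_true h0))
  have h1 : ∀ f : Fin 315, evalW [lineT i] f = ((τ : Equiv.Perm (Fin 315)) f : ℕ) := fun f => hτ f
  have h2 : ∀ f : Fin 315, evalW [zPerm] f = ((zEl : Equiv.Perm (Fin 315)) f : ℕ) := by
    obtain ⟨ζ, hζ, hζr⟩ : ∃ ζ ∈ imgGen, Rep ζ zPerm := by
      have hzw := zPerm_word
      rw [Bool.and_eq_true] at hzw
      obtain ⟨ζ, hζ, hζr⟩ := rep_pick_chain hzw.1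
      exact ⟨ζ, hζ, Nat.eq_of_beq_eq_true hzw.2 ▸ hζr⟩
    have e := zEl_base [zPerm] ⟨ζ, hζ⟩ (fun f => hζr f) rfl
    intro f; rw [← e]; exact hζr f
  have e := (eq_of_base (eval_mul hσ h1) (eval_mul h1 h2)).1 heq
  have : σ = reflImg i := by
    rw [← reflImg_conj_eq hτ0, ← zEl_eq, ← e]; group
  exact this ▸ hσ

theorem reflImg_injective : Function.Injective reflImg := by
  intro i j h
  have hb := (eq_of_base (reflWord_eval i) (reflWord_eval j)).2 h
  exact Fin.ext ((List.Nodup.getElem_inj_iff reflWord_nodup (hi := by simp) (hj := by simp)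
    (i := (i : ℕ)) (j := (j : ℕ))).1 (by simpa using hb))

theorem iterW_eval {w : List ℕ} {x : imgGen}
    (hw : ∀ f : Fin 315, evalW w f = ((x : Equiv.Perm (Fin 315)) f : ℕ)) :
    ∀ (n : ℕ) (f : Fin 315), iterW w n f = (((x ^ n : imgGen) : Equiv.Perm (Fin 315)) f : ℕ) := by
  intro n
  induction n with
  | zero => intro f; rfl
  | succ n ih =>
    intro f
    rw [iterW, hw f, ih, pow_succ, Subgroup.coe_mul, Equiv.Perm.mul_apply]

theorem pow_eq_one_iff_base {w : List ℕ} {x : imgGen}
    (hw : ∀ f : Fin 315, evalW w f = ((x : Equiv.Perm (Fin 315)) f : ℕ)) (n : ℕ) :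
    x ^ n = 1 ↔ ∀ f ∈ base5, iterW w n f = f := by
  constructor
  · intro h f hf
    have hf5 : f < 5 := by simp [base5] at hf; omega
    rw [iterW_eval hw n ⟨f, by omega⟩, h]; rfl
  · intro h
    refine Subtype.ext (imgGen_rigid (SetLike.coe_mem _) (one_mem _) fun f hf => Fin.ext ?_)
    rw [← iterW_eval hw n f, h f (by simp [base5]; omega)]; rfl

theorem ordW_iff {w : List ℕ} {x : imgGen}
    (hw : ∀ f : Fin 315, evalW w f = ((x : Equiv.Perm (Fin 315)) f : ℕ)) (n : ℕ) (ds : List ℕ) :
    ordW w n ds = true ↔ x ^ n = 1 ∧ ∀ d ∈ ds, x ^ d ≠ 1 := by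
  simp only [ordW, Bool.and_eq_true, List.all_eq_true, List.any_eq_true, pow_eq_one_iff_base hw, Ne,
    Bool.not_eq_true']
  refine and_congr ⟨fun h f hf => Nat.eq_of_beq_eq_true (h f hf), fun h f hf => natBeq_of_eq (h f hf)⟩
    (forall₂_congr fun d _ => ⟨fun ⟨f, hf, hne⟩ h => ?_, fun h => ?_⟩)
  · rw [natBeq_of_eq (h f hf)] at hne; simp at hne
  · by_contra hc
    push_neg at hc
    exact h fun f hf => Nat.eq_of_beq_eq_true (Bool.eq_true_of_not_eq_false (hc f hf))

/-- a line from a number -/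
def toF (i : ℕ) : Fin 315 := ⟨i % 315, Nat.mod_lt _ (by norm_num)⟩

theorem prod_word (q : List ℕ) (hq : ∀ x ∈ q, x < 315) :
    ∀ (s : List ℕ), (∀ t ∈ s, t < q.length) → ∀ f : Fin 315,
      evalW (s.flatMap fun t => reflWord (q.getD t 0)) f =
        (((s.map fun t => reflImg (toF (q.getD t 0))).prod : imgGen) : Equiv.Perm (Fin 315)) f := by
  intro s
  induction s with
  | nil => intro _ f; rfl
  | cons t s ih =>
    intro hs
    have ht := hs t List.mem_cons_self
    have hlt : q.getD t 0 < 315 := by rw [List.getD_eq_getElem _ _ ht]; exact hq _ (List.getElem_mem _)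
    rw [List.flatMap_cons, List.map_cons, List.prod_cons]
    refine eval_mul (fun f => ?_) (ih fun u hu => hs u (List.mem_cons_of_mem _ hu))
    have e : (toF (q.getD t 0) : ℕ) = q.getD t 0 := Nat.mod_eq_of_lt hlt
    rw [← reflWord_eval, e]

theorem relOK_transport (e : MulAut imgGen) (rel : List (List ℕ × ℕ × List ℕ)) (q q' : List ℕ)
    (hrel : (rel.all fun r => r.1.all fun t => Nat.blt t q.length) = true) (hlen : q'.length = q.length)
    (hq : ∀ x ∈ q, x < 315) (hq' : ∀ x ∈ q', x < 315)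
    (he : ∀ t < q.length, e (reflImg (toF (q.getD t 0))) = reflImg (toF (q'.getD t 0)))
    (h : relOK rel q = true) : relOK rel q' = true := by
  simp only [relOK, List.all_eq_true] at h ⊢
  intro r hr
  have hidx : ∀ t ∈ r.1, t < q.length := fun t ht => by
    have := List.all_eq_true.1 (List.all_eq_true.1 hrel r hr) t ht
    simpa [Nat.blt_eq] using this
  have h1 := (ordW_iff (prod_word q hq r.1 hidx) r.2.1 r.2.2).1 (h r hr)
  refine (ordW_iff (prod_word q' hq' r.1 fun t ht => hlen ▸ hidx t ht) r.2.1 r.2.2).2 ?_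
  have hp : (r.1.map fun t => reflImg (toF (q'.getD t 0))).prod =
      e (r.1.map fun t => reflImg (toF (q.getD t 0))).prod := by
    rw [map_list_prod, List.map_map]
    congr 1
    exact List.map_congr_left fun t ht => (he t (hidx t ht)).symm
  rw [hp]
  refine ⟨by rw [← map_pow, h1.1, map_one], fun d hd h0 => h1.2 d hd ?_⟩
  rw [← map_pow] at h0
  exact e.injective (h0.trans (map_one e).symm)

theorem aut_refl (e : MulAut imgGen) (i : Fin 315) : ∃ j, e (reflImg i) = reflImg j := by
  classical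
  -- the class of reflections is the one with centraliser of order 1920
  have hcent : ∀ x : imgGen, orderOf x = 2 → Nat.card {g : imgGen // g * x = x * g} = 1920 → IsConj (clsRep 7) x := by
    intro x hx hc
    have hx1 : x ≠ 1 := fun h => by rw [h, orderOf_one] at hx; omega
    obtain ⟨k, hk⟩ := census x hx1
    obtain ⟨g, hg⟩ := isConj_iff.1 hk
    have hok : orderOf x = clsOrd k := by
      rw [← hg, ← orderOf_clsRep k]; exact MulEquiv.orderOf_eq (MulAut.conj g) (clsRep k)
    have hle : Nat.card {g : imgGen // g * x = x * g} ≤ centBound k := by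
      refine le_trans (le_of_eq (Nat.card_congr ((MulAut.conj g⁻¹).toEquiv.subtypeEquiv fun y => ?_)))
        (card_cent_clsRep k)
      rw [← hg]
      show _ ↔ g⁻¹ * y * g⁻¹⁻¹ * clsRep k = clsRep k * (g⁻¹ * y * g⁻¹⁻¹)
      constructor
      · intro h
        have := congrArg (fun z => g⁻¹ * z * g) h
        simpa [mul_assoc] using this
      · intro h
        have := congrArg (fun z => g * z * g⁻¹) h
        simpa [mul_assoc] using this
    have key : ∀ k, clsOrd k = 2 → 1920 ≤ centBound k → k = 7 := by decide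
    rw [key k (hok.symm.trans hx) (hc ▸ hle)] at hk
    exact hk
  have h0 : orderOf (reflImg 0) = 2 ∧ Nat.card {g : imgGen // g * reflImg 0 = reflImg 0 * g} = 1920 := by
    refine ⟨orderOf_eq_prime (hp := ⟨Nat.prime_two⟩) ?_ (reflImg_ne_one 0), ?_⟩
    · have hsq : (⟨reflImg 0, reflImg0_mem⟩ : stab0) * ⟨reflImg 0, reflImg0_mem⟩ = 1 := by
        obtain ⟨w, hw, hev⟩ := ker_word ⟨_, reflImg0_ker⟩
        have hker := ker_ok
        simp only [kerOK, List.all_eq_true, Bool.and_eq_true, Bool.or_eq_true, decide_eq_true_eq, List.any_eq_true,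
          Bool.not_eq_true', decide_eq_false_iff_not] at hker
        rcases (hker w hw).1.1.2 with e | e
        · exact Subtype.ext ((eq_of_base (τ := 1) (eval_mul hev hev) (fun f => rfl)).1 e)
        · exfalso
          have e' := zEl_base _ _ (eval_mul hev hev) e
          rw [zEl_eq] at e'
          exact reflImg_ne_one 0 (mul_left_cancel (e'.trans (mul_one _).symm))
      rw [pow_two]
      exact congrArg Subtype.val hsq
    · rw [← card_stab0]
      exact Nat.card_congr (Equiv.subtypeEquivRight fun g => by rw [stab0_eq, mem_centralizer_singleton_iff])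
  have hall : ∀ i, orderOf (reflImg i) = 2 ∧ Nat.card {g : imgGen // g * reflImg i = reflImg i * g} = 1920 := by
    intro i
    obtain ⟨τ, hτ, hτ0⟩ := imgGen_transitive i
    have e := reflImg_conj_eq (σ := ⟨τ, hτ⟩) hτ0
    rw [← e]
    refine ⟨(MulEquiv.orderOf_eq (MulAut.conj ⟨τ, hτ⟩) (reflImg 0)).trans h0.1, ?_⟩
    rw [← h0.2]
    refine (Nat.card_congr ((MulAut.conj (⟨τ, hτ⟩ : imgGen)).toEquiv.subtypeEquiv fun g => ?_)).symm
    show g * reflImg 0 = reflImg 0 * g ↔ MulAut.conj _ g * MulAut.conj _ (reflImg 0) = MulAut.conj _ (reflImg 0) * MulAut.conj _ g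
    rw [← map_mul, ← map_mul, EmbeddingLike.apply_eq_iff_eq]
  have hi := hall i
  have h1 : IsConj (clsRep 7) (e (reflImg i)) := by
    refine hcent _ ((MulEquiv.orderOf_eq e _).trans hi.1) ?_
    rw [← hi.2]
    refine (Nat.card_congr (e.toEquiv.subtypeEquiv fun g => ?_)).symm
    show g * reflImg i = reflImg i * g ↔ e g * e (reflImg i) = e (reflImg i) * e g
    rw [← map_mul, ← map_mul, EmbeddingLike.apply_eq_iff_eq]
  have h2 : IsConj (clsRep 7) (reflImg i) := hcent _ hi.1 hi.2
  obtain ⟨g, hg⟩ := isConj_iff.1 (h2.symm.trans h1)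
  exact ⟨_, hg.symm.trans (reflImg_conj_eq rfl)⟩

theorem reach_spec (K : Subgroup imgGen) : ∀ (r : List (ℕ × ℕ × ℕ)) (known : List ℕ),
    (∀ s ∈ r, s.1 < 315 ∧ s.2.1 < 315 ∧ s.2.2 < 315 ∧
      baseImg (reflWord s.1) = baseImg (reflWord s.2.1 ++ reflWord s.2.2 ++ reflWord s.2.1)) →
    (∀ x ∈ known, reflImg (toF x) ∈ K) → reachOK r known = true → K = ⊤ := by
  intro r
  induction r with
  | nil =>
    intro known _ hk h
    simp only [reachOK, List.all_eq_true, List.any_eq_true, List.mem_range] at h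
    refine reflImg_all fun i => ?_
    obtain ⟨x, hx, he⟩ := h i i.is_lt
    have hxe : toF x = i := by
      rw [← Nat.eq_of_beq_eq_true he]; exact Fin.ext (Nat.mod_eq_of_lt i.is_lt)
    exact hxe ▸ hk x hx
  | cons s r ih =>
    intro known hs hk h
    simp only [reachOK, Bool.and_eq_true, List.any_eq_true] at h
    obtain ⟨⟨⟨x, hx, hxe⟩, ⟨y, hy, hye⟩⟩, hrest⟩ := h
    obtain ⟨l1, l2, l3, he⟩ := hs s List.mem_cons_self
    refine ih _ (fun t ht => hs t (List.mem_cons_of_mem _ ht)) ?_ hrest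
    intro z hz
    rcases List.mem_cons.1 hz with rfl | hz
    · have e2 : ∀ n, n < 315 → ∀ f : Fin 315, evalW (reflWord n) f =
          ((reflImg (toF n) : imgGen) : Equiv.Perm (Fin 315)) f := fun n hn f => by
        have e : (toF n : ℕ) = n := Nat.mod_eq_of_lt hn
        rw [← reflWord_eval, e]
      rw [(eq_of_base (e2 _ l1) (eval_mul (eval_mul (e2 _ l2) (e2 _ l3)) (e2 _ l2))).1 he]
      rw [Nat.eq_of_beq_eq_true hxe, Nat.eq_of_beq_eq_true hye]
      exact mul_mem (mul_mem (hk x hx) (hk y hy)) (hk x hx)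
    · exact hk z hz

theorem aut_ext {e e' : MulAut imgGen}
    (h : ∀ x ∈ [0, selA, selB, selC], e (reflImg (toF x)) = e' (reflImg (toF x))) : e = e' := by
  have htop : e.toMonoidHom.eqLocus e'.toMonoidHom = ⊤ := by
    refine reach_spec _ genSteps _ (fun s hs => ?_) (fun x hx => h x hx) reach_ok
    have := List.all_eq_true.1 genSteps_ok s hs
    simp only [Bool.and_eq_true, Nat.blt_eq, decide_eq_true_eq] at this
    exact ⟨this.1.1.1, this.1.1.2, this.1.2, this.2⟩
  exact MulEquiv.ext fun x => (htop ▸ Subgroup.mem_top x : x ∈ e.toMonoidHom.eqLocus e'.toMonoidHom)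

theorem h160 (k : Fin 160) : ∃ h : imgGen, (h : Equiv.Perm (Fin 315)) 0 = 0 ∧
    (((h : Equiv.Perm (Fin 315)) (toF selA) : Fin 315) : ℕ) = list160.getD k 0 := by
  have hk := List.all_eq_true.1 list160_ok.2 (k : ℕ) (List.mem_range.2 k.is_lt)
  simp only [Bool.and_eq_true] at hk
  obtain ⟨⟨h5, h0⟩, ha⟩ := hk
  obtain ⟨h, hh⟩ := chain_word h5
  refine ⟨h, Fin.ext ((hh 0).symm.trans (Nat.eq_of_beq_eq_true h0)), ?_⟩
  rw [← hh]
  exact Nat.eq_of_beq_eq_true ha

theorem card_aut_le : Nat.card (MulAut imgGen) ≤ 1209600 := by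
  classical
  choose π hπ using aut_refl
  choose g hgm hg using imgGen_transitive
  choose h hh0 hha using h160
  have hlt : selA < 315 ∧ selB < 315 ∧ selC < 315 := by decide
  have inv_apply : ∀ (σ : imgGen) {a b : Fin 315}, (σ : Equiv.Perm (Fin 315)) a = b →
      MulAut.conj σ⁻¹ (reflImg b) = reflImg a := by
    intro σ a b hab
    rw [← reflImg_conj_eq hab, MulAut.conj_apply]; group
  let α0 : MulAut imgGen → MulAut imgGen := fun e =>
    (MulAut.conj (⟨g (π e 0), hgm _⟩ : imgGen)⁻¹) * e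
  have hα0 : ∀ e, α0 e (reflImg 0) = reflImg 0 := fun e => by
    show MulAut.conj _ (e (reflImg 0)) = _
    rw [hπ e 0]; exact inv_apply _ (hg _)
  have hk : ∀ e, ∃ k : Fin 160, (π (α0 e) (toF selA) : ℕ) = list160.getD k 0 := by
    intro e
    have h2 := relOK_transport (α0 e) rel2 [0, selA] [0, (π (α0 e) (toF selA) : ℕ)] (by decide +kernel) rfl
      (by simp [hlt.1]) (by simp) (by
        intro t ht
        simp only [List.length_cons, List.length_nil] at ht
        interval_cases t
        · simpa [toF] using hα0 e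
        · show α0 e (reflImg (toF selA)) = reflImg (toF (π (α0 e) (toF selA) : ℕ))
          rw [hπ (α0 e) (toF selA)]
          exact congrArg reflImg (Fin.ext (Nat.mod_eq_of_lt (Fin.is_lt _)).symm)) sel_ok.1
    have := List.all_eq_true.1 list160_ok.1 (π (α0 e) (toF selA) : ℕ) (List.mem_range.2 (Fin.is_lt _))
    simp only [h2, Bool.not_true, Bool.false_or, List.any_eq_true] at this
    obtain ⟨m, hm, hme⟩ := this
    obtain ⟨n, hn, rfl⟩ := List.getElem_of_mem hm
    refine ⟨⟨n, list160_length.1 ▸ hn⟩, ?_⟩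
    show _ = list160.getD n 0
    rw [List.getD_eq_getElem _ _ hn]
    exact Nat.eq_of_beq_eq_true hme
  choose k hk using hk
  let α1 : MulAut imgGen → MulAut imgGen := fun e => (MulAut.conj (h (k e))⁻¹) * α0 e
  have hα1 : ∀ e, α1 e (reflImg 0) = reflImg 0 ∧ α1 e (reflImg (toF selA)) = reflImg (toF selA) := by
    intro e
    refine ⟨?_, ?_⟩
    · show MulAut.conj _ (α0 e (reflImg 0)) = _
      rw [hα0]; exact inv_apply _ (hh0 _)
    · show MulAut.conj _ (α0 e (reflImg (toF selA))) = _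
      rw [hπ (α0 e) (toF selA)]
      exact inv_apply _ (Fin.ext ((hha (k e)).trans (hk e).symm))
  have hl : ∀ e, ∃ l : Fin 24, list24.getD l (0, 0) = ((π (α1 e) (toF selB) : ℕ), (π (α1 e) (toF selC) : ℕ)) := by
    intro e
    obtain ⟨e0, ea⟩ := hα1 e
    set x := (π (α1 e) (toF selB) : ℕ) with hx
    set y := (π (α1 e) (toF selC) : ℕ) with hy
    have eb : α1 e (reflImg (toF selB)) = reflImg (toF x) := by
      rw [hπ (α1 e) (toF selB)]
      exact congrArg reflImg (Fin.ext (Nat.mod_eq_of_lt (Fin.is_lt _)).symm)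
    have ec : α1 e (reflImg (toF selC)) = reflImg (toF y) := by
      rw [hπ (α1 e) (toF selC)]
      exact congrArg reflImg (Fin.ext (Nat.mod_eq_of_lt (Fin.is_lt _)).symm)
    have h3 := relOK_transport (α1 e) rel3 [0, selA, selB] [0, selA, x] (by decide +kernel) rfl
      (by simp [hlt.1, hlt.2.1]) (by simp [hlt.1, x]) (by
        intro t ht
        simp only [List.length_cons, List.length_nil] at ht
        interval_cases t
        exacts [by simpa [toF] using e0, ea, eb]) sel_ok.2.1
    have h4 := relOK_transport (α1 e) rel4 [0, selA, selB, selC] [0, selA, x, y] (by decide +kernel) rfl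
      (by simp [hlt.1, hlt.2.1, hlt.2.2]) (by simp [hlt.1, x, y]) (by
        intro t ht
        simp only [List.length_cons, List.length_nil] at ht
        interval_cases t
        exacts [by simpa [toF] using e0, ea, eb, ec]) sel_ok.2.2
    have := List.all_eq_true.1 list24_ok x (List.mem_range.2 (Fin.is_lt _))
    simp only [h3, Bool.not_true, Bool.false_or, List.all_eq_true] at this
    have := this y (List.mem_range.2 (Fin.is_lt _))
    simp only [h4, Bool.not_true, Bool.false_or, List.any_eq_true, Bool.and_eq_true] at this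
    obtain ⟨p, hp, hp1, hp2⟩ := this
    obtain ⟨n, hn, rfl⟩ := List.getElem_of_mem hp
    refine ⟨⟨n, list24_length ▸ hn⟩, ?_⟩
    show list24.getD n (0, 0) = _
    rw [List.getD_eq_getElem _ _ hn]
    exact Prod.ext (Nat.eq_of_beq_eq_true hp1) (Nat.eq_of_beq_eq_true hp2)
  choose l hl using hl
  let Φ : MulAut imgGen → Fin 315 × Fin 160 × Fin 24 := fun e => (π e 0, k e, l e)
  have hΦ : Function.Injective Φ := by
    intro e e' he
    have hi : π e 0 = π e' 0 := congrArg Prod.fst he
    have hk' : k e = k e' := congrArg (fun p => p.2.1) he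
    have hl' : l e = l e' := congrArg (fun p => p.2.2) he
    have e1 : α1 e = α1 e' := by
      refine aut_ext fun x hx => ?_
      have hh := (hl e).symm.trans ((congrArg (fun q : Fin 24 => list24.getD q (0, 0)) hl').trans (hl e'))
      simp only [List.mem_cons, List.not_mem_nil, or_false] at hx
      rcases hx with rfl | rfl | rfl | rfl
      · exact (hα1 e).1.trans (hα1 e').1.symm
      · exact (hα1 e).2.trans (hα1 e').2.symm
      · rw [hπ (α1 e), hπ (α1 e'), Fin.ext (congrArg Prod.fst hh)]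
      · rw [hπ (α1 e), hπ (α1 e'), Fin.ext (congrArg Prod.snd hh)]
    have e2 : α0 e = α0 e' := mul_left_cancel (show MulAut.conj (h (k e))⁻¹ * α0 e = MulAut.conj (h (k e))⁻¹ * α0 e' by
      have := e1
      simp only [α1] at this
      rwa [← hk'] at this)
    have e3 : MulAut.conj (⟨g (π e 0), hgm _⟩ : imgGen)⁻¹ * e = MulAut.conj (⟨g (π e 0), hgm _⟩ : imgGen)⁻¹ * e' := by
      have h' := e2
      simp only [α0] at h'
      have hG : (⟨g (π e' 0), hgm _⟩ : imgGen) = ⟨g (π e 0), hgm _⟩ := Subtype.ext (by rw [hi])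
      rwa [hG] at h'
    exact mul_left_cancel e3
  refine (Nat.card_le_card_of_injective Φ hΦ).trans ?_
  rw [Nat.card_prod, Nat.card_prod, Nat.card_fin, Nat.card_fin, Nat.card_fin]

/-- the outer permutation of lines -/
noncomputable def outPerm : Equiv.Perm (Fin 315) where
  toFun i := toF (getP outP i)
  invFun i := toF (getP outQ i)
  left_inv i := by
    have h := List.all_eq_true.1 out_ok.2.1 (i : ℕ) (List.mem_range.2 i.is_lt)
    simp only [Bool.and_eq_true, Nat.blt_eq] at h
    refine Fin.ext ?_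
    show getP outQ (getP outP i % 315) % 315 = i
    rw [Nat.mod_eq_of_lt h.1, Nat.eq_of_beq_eq_true h.2, Nat.mod_eq_of_lt i.is_lt]
  right_inv i := by
    have h := List.all_eq_true.1 out_ok.1 (i : ℕ) (List.mem_range.2 i.is_lt)
    simp only [Bool.and_eq_true, Nat.blt_eq] at h
    refine Fin.ext ?_
    show getP outP (getP outQ i % 315) % 315 = i
    rw [Nat.mod_eq_of_lt h.1, Nat.eq_of_beq_eq_true h.2, Nat.mod_eq_of_lt i.is_lt]

theorem outPerm_map : imgGen.map (MulAut.conj outPerm).toMonoidHom = imgGen := by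
  classical
  refine Subgroup.eq_of_le_of_card_ge ?_ (by
    rw [Subgroup.card_map_of_injective (MulAut.conj outPerm).injective])
  have e : imgGen = Subgroup.closure (repSet gens0) := rfl
  conv_lhs => rw [e]
  rw [MonoidHom.map_closure, Subgroup.closure_le]
  rintro _ ⟨σ, ⟨a, ha, hr⟩, rfl⟩
  obtain ⟨k, hk, rfl⟩ := List.getElem_of_mem ha
  have hk4 : k < 4 := hk
  have h := List.all_eq_true.1 out_ok.2.2 k (List.mem_range.2 hk4)
  simp only [Bool.and_eq_true, List.all_eq_true] at h
  obtain ⟨h5, hall⟩ := h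
  obtain ⟨τ, hτ⟩ := chain_word h5
  suffices (MulAut.conj outPerm) σ = (τ : Equiv.Perm (Fin 315)) by
    show (MulAut.conj outPerm) σ ∈ imgGen
    rw [this]; exact τ.2
  refine Equiv.ext fun f => Fin.ext ?_
  rw [← hτ f, ← Nat.eq_of_beq_eq_true (hall f (List.mem_range.2 f.is_lt)), List.getD_eq_getElem _ _ hk]
  have h1 := List.all_eq_true.1 out_ok.1 (f : ℕ) (List.mem_range.2 f.is_lt)
  simp only [Bool.and_eq_true, Nat.blt_eq] at h1
  have hq : ((outPerm⁻¹ f : Fin 315) : ℕ) = getP outQ f := Nat.mod_eq_of_lt h1.1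
  have h2 := List.all_eq_true.1 out_ok.2.1 ((σ (outPerm⁻¹ f) : Fin 315) : ℕ) (List.mem_range.2 (Fin.is_lt _))
  simp only [Bool.and_eq_true, Nat.blt_eq] at h2
  show ((outPerm (σ (outPerm⁻¹ f)) : Fin 315) : ℕ) = _
  rw [← hq, hr]
  exact Nat.mod_eq_of_lt h2.1

/-- the outer automorphism -/
noncomputable def outAut : MulAut imgGen :=
  ((MulAut.conj outPerm).subgroupMap imgGen).trans (MulEquiv.subgroupCongr outPerm_map)

theorem outAut_val (x : imgGen) :
    ((outAut x : imgGen) : Equiv.Perm (Fin 315)) = outPerm * x * outPerm⁻¹ := rfl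

theorem outAut_not_inner : outAut ∉ Cfsg.Inn imgGen := by
  rintro ⟨g, hg⟩
  set d : Equiv.Perm (Fin 315) := (g : Equiv.Perm (Fin 315))⁻¹ * outPerm with hd
  have hcomm : ∀ x : imgGen, d * x = x * d := by
    intro x
    have h := congrArg Subtype.val (DFunLike.congr_fun hg x)
    rw [outAut_val] at h
    have h' : (g : Equiv.Perm (Fin 315)) * x * (g : Equiv.Perm (Fin 315))⁻¹ = outPerm * x * outPerm⁻¹ := h
    calc d * x = (g : Equiv.Perm (Fin 315))⁻¹ * (outPerm * x * outPerm⁻¹) * outPerm := by rw [hd]; group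
      _ = x * d := by rw [← h', hd]; group
  have h0 : d 0 = 0 := by
    have hmv := List.all_eq_true.1 tail_moves ((d 0 : Fin 315) : ℕ) (List.mem_range.2 (Fin.is_lt _))
    simp only [Bool.or_eq_true, List.any_eq_true, Bool.not_eq_true'] at hmv
    rcases hmv with h | ⟨T, hT, t, ht, hne⟩
    · exact Fin.ext (Nat.eq_of_beq_eq_true h)
    · exfalso
      obtain ⟨τ, hτ, hr⟩ := (chainLists_reps T (List.mem_of_mem_tail hT)).2 t ht
      obtain ⟨j, hj⟩ := List.mem_iff_getElem?.1 hT
      have hfix : getP t 0 = 0 :=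
        chainLists_fix (j := j + 1) (T := T) (by rw [chainLists_cons]; simpa using hj) ht (by omega)
      have hτ0 : τ 0 = 0 := Fin.ext ((hr 0).symm.trans hfix)
      have h := congrArg (fun σ : Equiv.Perm (Fin 315) => σ 0) (hcomm ⟨τ, range_toLines ▸ hτ⟩)
      simp only [Equiv.Perm.mul_apply, hτ0] at h
      rw [natBeq_of_eq ((hr (d 0)).trans (congrArg Fin.val h.symm))] at hne
      simp at hne
  have hd1 : d = 1 := Equiv.ext fun i => by
    obtain ⟨σ, hσ, he⟩ := imgGen_transitive i
    have h := congrArg (fun s : Equiv.Perm (Fin 315) => s 0) (hcomm ⟨σ, hσ⟩)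
    simp only [Equiv.Perm.mul_apply, h0] at h
    rw [he] at h
    simpa using h
  have hg' : (g : Equiv.Perm (Fin 315)) = outPerm := inv_mul_eq_one.1 hd1
  have hg0 : g ∈ stab0 := by
    show (g : Equiv.Perm (Fin 315)) 0 = 0
    rw [hg']
    exact Fin.ext ((congrArg (· % 315) out_notin.2).trans (Nat.zero_mod _))
  obtain ⟨w, hw, hev⟩ := stab0_word ⟨g, hg0⟩
  have := List.all_eq_true.1 out_notin.1 w hw
  simp only [Bool.not_eq_true', decide_eq_false_iff_not] at this
  refine this (List.map_congr_left fun f hf => ?_)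
  have hf5 : f < 5 := by simp [base5] at hf; omega
  refine (hev ⟨f, by omega⟩).trans ?_
  show ((g : Equiv.Perm (Fin 315)) ⟨f, _⟩ : ℕ) = getP outP f
  rw [hg']
  have h2 := List.all_eq_true.1 out_ok.2.1 f (List.mem_range.2 (by omega))
  simp only [Bool.and_eq_true, Nat.blt_eq] at h2
  exact Nat.mod_eq_of_lt h2.1

theorem card_out_j2 : Nat.card (Cfsg.Out Cfsg.Spor.J2) = 2 := by
  classical
  haveI hs : IsSimpleGroup Cfsg.Spor.J2 := j2_simple
  have hc : Subgroup.center Cfsg.Spor.J2 = ⊥ := by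
    refine (Subgroup.Normal.eq_bot_or_eq_top inferInstance).resolve_right fun h => ?_
    obtain ⟨a, b, hab⟩ := j2_nonabelian
    exact hab ((Subgroup.mem_center_iff.1 (h ▸ Subgroup.mem_top a) b).symm)
  have hinj : Function.Injective (MulAut.conj : Cfsg.Spor.J2 →* MulAut Cfsg.Spor.J2) := by
    rw [injective_iff_map_eq_one]
    intro a ha
    have : a ∈ Subgroup.center Cfsg.Spor.J2 := Subgroup.mem_center_iff.2 fun b => by
      have := DFunLike.congr_fun ha b
      rw [MulAut.conj_apply, MulAut.one_apply, mul_inv_eq_iff_eq_mul] at this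
      exact this.symm
    rwa [hc, Subgroup.mem_bot] at this
  have hinn : Nat.card (Cfsg.Inn Cfsg.Spor.J2) = 604800 := by
    rw [← Nat.card_congr (MonoidHom.ofInjective hinj).toEquiv, card_J2]
  haveI : Finite (MulAut imgGen) := inferInstance
  have hA : Nat.card (MulAut Cfsg.Spor.J2) ≤ 1209600 := by
    rw [Nat.card_congr (MulAut.congr j2Equiv).toEquiv]; exact card_aut_le
  haveI : Finite (MulAut Cfsg.Spor.J2) := Finite.of_equiv _ (MulAut.congr j2Equiv).symm.toEquiv
  have hmul := Subgroup.card_mul_index (Cfsg.Inn Cfsg.Spor.J2)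
  rw [hinn] at hmul
  have hne : (Cfsg.Inn Cfsg.Spor.J2).index ≠ 1 := by
    intro h
    rw [Subgroup.index_eq_one] at h
    obtain ⟨a, ha⟩ : (MulAut.congr j2Equiv).symm outAut ∈ Cfsg.Inn Cfsg.Spor.J2 := h ▸ Subgroup.mem_top _
    refine outAut_not_inner ⟨j2Equiv a, MulEquiv.ext fun x => ?_⟩
    have := congrArg j2Equiv (DFunLike.congr_fun ha (j2Equiv.symm x))
    simpa [MulAut.congr, MulAut.conj_apply] using this
  have hpos : (Cfsg.Inn Cfsg.Spor.J2).index ≠ 0 := Subgroup.index_ne_zero_of_finite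
  show (Cfsg.Inn Cfsg.Spor.J2).index = 2
  omega

end CfsgLib.J2
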