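import Cfsg.Agent.Lib.Spor.J2.ChainLevels

/-!
An exhaustive search, pruned along the stabiliser chain, for the group elements that conjugate
one packed permutation to another.
-/

set_option autoImplicit false

namespace CfsgLib.J2

/-- the transversals of the whole group -/
def chainLists : List (List ℕ) := chainTrans gens0 [lvl0, lvl1, lvl2, lvl3, lvl4]

/-- `n` iterates, starting with the point -/
def orbitL (y : ℕ) : ℕ → ℕ → List ℕ
  | 0, _ => []
  | n + 1, b => b :: orbitL y n (getP y b)

/-- the `n`-th iterate -/
def iterP (y : ℕ) : ℕ → ℕ → ℕ
  | 0, b => b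
  | n + 1, b => iterP y n (getP y b)

/-- the images of the base points chosen so far are consistent -/
def preOK (y z : ℕ) (im : List ℕ) (k : ℕ) : Bool :=
  (List.range (k + 1)).all fun f =>
    let g := getP y f
    Nat.blt k g || (Nat.blt f k && Nat.blt g k) || Nat.beq (getP z (im.getD f 0)) (im.getD g 0)

/-- a full product is consistent on the base -/
def leafOK (y z : ℕ) (w im : List ℕ) : Bool :=
  base5.all fun f => Nat.beq (getP z (im.getD f 0)) (evalW w (getP y f))

/-- all products through the given lists that pass the tests -/
def searchW (y z : ℕ) : List (List ℕ) → ℕ → List ℕ → List ℕ → List (List ℕ)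
  | [], _, w, im => if leafOK y z w im then [w] else []
  | T :: r, k, w, im => T.flatMap fun t =>
      let w' := w ++ [t]
      let im' := im ++ [evalW w' k]
      if preOK y z im' k then searchW y z r (k + 1) w' im' else []

/-- the search with the first image restricted to the given points -/
def searchFrom (y z : ℕ) (B : List ℕ) : List (List ℕ) :=
  match chainLists with
  | T :: r => searchW y z ((T.filter fun t => B.any (Nat.beq (getP t 0))) :: r) 0 [] []
  | [] => []

/-- a class representative with the data of its centraliser -/
structure Cls where
  idx : List ℕ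
  y : ℕ
  cyc : ℕ
  starts : List ℕ
  found : ℕ
  ord : ℕ
  fixd : ℕ

/-- the product of a list of packed permutations -/
def foldP : List ℕ → ℕ
  | [] => idP
  | a :: r => compP a (foldP r)

/-- the starting points meet every cycle of the given length -/
def coverOK (z L : ℕ) (B : List ℕ) : Bool :=
  pts.all fun b =>
    !(Nat.beq (iterP z L b) b) || (orbitL z (L - 1) (getP z b)).any (Nat.beq b) ||
      (orbitL z L b).any fun c => B.any (Nat.beq c)

/-- the representative is the stated product with the stated cycle at 0, order and fixed points -/
def Cls.baseOK (c : Cls) : Bool :=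
  Nat.beq (pick chainLists c.idx).length 5 && Nat.beq (foldP (pick chainLists c.idx)) c.y &&
    Nat.beq (iterP c.y c.cyc 0) 0 && Nat.blt 0 c.cyc &&
    !((orbitL c.y (c.cyc - 1) (getP c.y 0)).any (Nat.beq 0)) &&
    base5.all (fun f => Nat.beq (iterP c.y c.ord f) f) && Nat.blt 0 c.ord &&
    (List.range' 1 (c.ord - 1)).all (fun m => base5.any fun f => !(Nat.beq (iterP c.y m f) f)) &&
    Nat.beq (pts.filter fun b => Nat.beq (getP c.y b) b).length c.fixd &&
    coverOK c.y c.cyc c.starts

/-- the centraliser is no larger than stated -/
def Cls.centOK (c : Cls) : Bool :=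
  Nat.ble (searchFrom c.y c.y c.starts).length c.found

end CfsgLib.J2
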