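import Cfsg.Agent.Lib.Spor.J2.Order
import Cfsg.Agent.Lib.Spor.J2.Search

/-! The search finds every conjugating element. -/

set_option autoImplicit false
set_option maxRecDepth 100000

namespace CfsgLib.J2

theorem natBeq_of_eq {m n : ℕ} (h : m = n) : Nat.beq m n = true := by
  subst h; simp

/-- a permutation of the lines as a function on numbers -/
def natFun (σ : Equiv.Perm (Fin 315)) (f : ℕ) : ℕ := if h : f < 315 then (σ ⟨f, h⟩ : ℕ) else 0

theorem natFun_fin (σ : Equiv.Perm (Fin 315)) (f : Fin 315) : natFun σ f = (σ f : ℕ) := dif_pos f.is_lt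

theorem evalW_append : ∀ (w : List ℕ) (t x : ℕ), evalW (w ++ [t]) x = evalW w (getP t x) := by
  intro w
  induction w with
  | nil => intro t x; rfl
  | cons a w ih => intro t x; simp only [List.cons_append, evalW]; rw [ih]

theorem chainLists_eq : chainLists = chainTrans gens0 levels := rfl

theorem chainLists_reps : ∀ T ∈ chainLists, idP ∈ T ∧ ∀ a ∈ T, ∃ σ ∈ toLines.range, Rep σ a :=
  chainLists_eq ▸ chain_facts.2.2

theorem mem_imgGen_iff {σ : Equiv.Perm (Fin 315)} : σ ∈ imgGen ↔ σ ∈ prodSet chainLists := by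
  rw [← SetLike.mem_coe, chain_facts.1, chainLists_eq]

theorem imgGen_rigid {σ τ : Equiv.Perm (Fin 315)} (hσ : σ ∈ imgGen) (hτ : τ ∈ imgGen)
    (h : ∀ f : Fin 315, (f : ℕ) < 5 → σ f = τ f) : σ = τ := by
  rw [← range_toLines] at hσ hτ
  obtain ⟨g, rfl⟩ := hσ
  obtain ⟨g', rfl⟩ := hτ
  exact rigid h

/-- the transversal of level `j` fixes the first `j` base points -/
theorem chainLists_fix_all : (chainLists.zipIdx.all fun p => p.1.all fun t =>
    (List.range p.2).all fun f => Nat.beq (getP t f) f) = true := by decide +kernel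

theorem chainLists_fix {j : ℕ} {T : List ℕ} (h : chainLists[j]? = some T) {t : ℕ} (ht : t ∈ T)
    {f : ℕ} (hf : f < j) : getP t f = f := by
  have := List.all_eq_true.1 chainLists_fix_all (T, j) (List.mem_zipIdx_iff_getElem?.2 h)
  exact Nat.eq_of_beq_eq_true (List.all_eq_true.1 (List.all_eq_true.1 this t ht) f (List.mem_range.2 hf))

variable {σ a b : Equiv.Perm (Fin 315)} {y z : ℕ}

theorem searchW_spec (ha : Rep a y) (hb : Rep b z) (he : σ * a = b * σ) :
    ∀ (r : List (List ℕ)) (k : ℕ) (w : List ℕ), k + r.length = 5 →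
      (∀ j T, r[j]? = some T → ∀ t ∈ T, ∀ f, f < k + j → getP t f = f) →
      ∀ ρ ∈ prodSet r, (∀ g : Fin 315, evalW w (ρ g) = (σ g : ℕ)) →
      ∃ w' ∈ searchW y z r k w ((List.range k).map (natFun σ)), ∀ g : Fin 315, evalW w' g = (σ g : ℕ) := by
  have him : ∀ (k f : ℕ), f < k → ((List.range k).map (natFun σ)).getD f 0 = natFun σ f := by
    intro k f hf
    rw [List.getD_eq_getElem _ _ (by simpa using hf)]
    simp
  have hz : ∀ f : Fin 315, getP z (natFun σ f) = natFun σ (getP y f) := by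
    intro f
    rw [natFun_fin, hb, ha, natFun_fin, ← Equiv.Perm.mul_apply, ← he, Equiv.Perm.mul_apply]
  intro r
  induction r with
  | nil =>
    intro k w hk _ ρ hρ hev
    rw [Set.mem_singleton_iff.1 hρ] at hev
    refine ⟨w, ?_, hev⟩
    have hleaf : leafOK y z w ((List.range k).map (natFun σ)) = true := by
      simp only [leafOK, List.all_eq_true]
      intro f hf
      have hf5 : f < 5 := by simp [base5] at hf; omega
      simp only [List.length_nil, add_zero] at hk
      rw [him k f (by omega), hz ⟨f, by omega⟩, ha ⟨f, by omega⟩, natFun_fin]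
      exact natBeq_of_eq (hev _).symm
    simp [searchW, hleaf]
  | cons T r ih =>
    rintro k w hk hfix ρ ⟨t, ht, τ, hτ, ρ', hρ', rfl⟩ hev
    simp only [List.length_cons] at hk
    have hev' : ∀ g : Fin 315, evalW (w ++ [t]) (ρ' g) = (σ g : ℕ) := fun g => by
      rw [evalW_append, hτ, ← Equiv.Perm.mul_apply, hev g]
    have hdeep : ∀ T' ∈ r, ∀ a' ∈ T', getP a' k = k := by
      intro T' hT' a' ha'
      obtain ⟨j, hj⟩ := List.mem_iff_getElem?.1 hT'
      exact hfix (j + 1) T' (by simpa using hj) a' ha' k (by omega)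
    have hk315 : k < 315 := by omega
    have hρk : ρ' ⟨k, hk315⟩ = ⟨k, hk315⟩ := prodSet_fix r k hk315 hdeep ρ' hρ'
    have himk : evalW (w ++ [t]) k = natFun σ k := by
      have := hev' ⟨k, hk315⟩
      rw [hρk] at this
      rw [this, ← natFun_fin]
    obtain ⟨w', hw', hev''⟩ := ih (k + 1) (w ++ [t]) (by omega)
      (fun j T' hj t' ht' f hf => hfix (j + 1) T' (by simpa using hj) t' ht' f (by omega)) ρ' hρ' hev'
    refine ⟨w', ?_, hev''⟩
    simp only [searchW, List.mem_flatMap]
    refine ⟨t, ht, ?_⟩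
    have hlist : (List.range k).map (natFun σ) ++ [evalW (w ++ [t]) k] = (List.range (k + 1)).map (natFun σ) := by
      rw [himk, List.range_succ, List.map_append]; rfl
    rw [hlist]
    have hpre : preOK y z ((List.range (k + 1)).map (natFun σ)) k = true := by
      simp only [preOK, List.all_eq_true, List.mem_range, Bool.or_eq_true, Nat.blt_eq]
      intro f hf
      by_cases hg : k < getP y f
      · exact Or.inl (Or.inl hg)
      · refine Or.inr ?_
        rw [him (k + 1) f hf, him (k + 1) _ (by omega)]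
        exact natBeq_of_eq (hz ⟨f, by omega⟩)
    rw [if_pos hpre]
    exact hw'

theorem searchFrom_spec (ha : Rep a y) (hb : Rep b z) (he : σ * a = b * σ) (hσ : σ ∈ imgGen) (B : List ℕ)
    (h0 : (σ 0 : ℕ) ∈ B) : ∃ w ∈ searchFrom y z B, ∀ g : Fin 315, evalW w g = (σ g : ℕ) := by
  rw [mem_imgGen_iff] at hσ
  obtain ⟨T, r, e⟩ : ∃ T r, chainLists = T :: r := ⟨_, _, rfl⟩
  have hfix : ∀ j T', (T :: r)[j]? = some T' → ∀ t ∈ T', ∀ f, f < j → getP t f = f :=
    fun j T' hj t ht f hf => chainLists_fix (e ▸ hj) ht hf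
  have hlen : (T :: r).length = 5 := by rw [← e]; decide +kernel
  rw [e] at hσ
  obtain ⟨t, ht, τ, hτ, ρ, hρ, rfl⟩ := hσ
  have ht' : t ∈ T.filter fun t => B.any (Nat.beq (getP t 0)) := by
    refine List.mem_filter.2 ⟨ht, List.any_eq_true.2 ⟨_, h0, ?_⟩⟩
    have h00 : ρ 0 = 0 := prodSet_fix r 0 (by norm_num) (fun T' hT' a' ha' => by
      obtain ⟨j, hj⟩ := List.mem_iff_getElem?.1 hT'
      exact hfix (j + 1) T' (by simpa using hj) a' ha' 0 (by omega)) ρ hρ
    rw [Equiv.Perm.mul_apply, h00]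
    exact natBeq_of_eq (hτ 0)
  have h := searchW_spec ha hb he ((T.filter fun t => B.any (Nat.beq (getP t 0))) :: r) 0 []
    (by simpa using hlen) (fun j T' hj t'' ht'' f hf => by
      rw [zero_add] at hf
      cases j with
      | zero => omega
      | succ j => exact hfix (j + 1) T' (by simpa using hj) t'' ht'' f hf)
    _ ⟨t, ht', τ, hτ, ρ, hρ, rfl⟩ (fun g => rfl)
  simpa only [searchFrom, e, List.range_zero, List.map_nil] using h

theorem mem_orbitL : ∀ {L : ℕ} {c f : ℕ}, c ∈ orbitL y L f ↔ ∃ j < L, c = iterP y j f := by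
  intro L
  induction L with
  | zero => intro c f; simp [orbitL]
  | succ L ih =>
    intro c f
    simp only [orbitL, List.mem_cons, ih]
    constructor
    · rintro (rfl | ⟨j, hj, rfl⟩)
      · exact ⟨0, by omega, rfl⟩
      · exact ⟨j + 1, by omega, rfl⟩
    · rintro ⟨j, hj, rfl⟩
      cases j with
      | zero => exact Or.inl rfl
      | succ j => exact Or.inr ⟨j, by omega, rfl⟩

theorem iterP_rep (ha : Rep a y) : ∀ (n : ℕ) (f : Fin 315), iterP y n f = ((a ^ n) f : ℕ) := by
  intro n
  induction n with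
  | zero => intro f; rfl
  | succ n ih => intro f; rw [iterP, ha f, ih (a f), pow_succ, Equiv.Perm.mul_apply]

theorem rep_pick : ∀ (lists : List (List ℕ)) (is : List ℕ), (pick lists is).length = lists.length →
    (∀ T ∈ lists, idP ∈ T ∧ ∀ a ∈ T, ∃ σ, Rep σ a) →
    ∃ σ ∈ prodSet lists, Rep σ (foldP (pick lists is)) := by
  intro lists
  induction lists with
  | nil => intro is _ _; exact ⟨1, rfl, by simpa [pick, foldP] using rep_one⟩
  | cons T r ih =>
    intro is hlen hT
    cases is with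
    | nil => simp [pick] at hlen
    | cons i is =>
      simp only [pick, List.length_cons, Nat.succ.injEq] at hlen
      obtain ⟨ρ, hρ, hr⟩ := ih is hlen fun T' h' => hT T' (List.mem_cons_of_mem _ h')
      have hmem : T.getD i idP ∈ T := by
        by_cases hi : i < T.length
        · rw [List.getD_eq_getElem _ _ hi]; exact List.getElem_mem hi
        · rw [List.getD_eq_default _ _ (by omega)]; exact (hT T List.mem_cons_self).1
      obtain ⟨τ, hτ⟩ := (hT T List.mem_cons_self).2 _ hmem
      exact ⟨τ * ρ, ⟨_, hmem, τ, hτ, ρ, hρ, rfl⟩, hτ.mul hr⟩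

theorem rep_pick_chain {is : List ℕ} (h : Nat.beq (pick chainLists is).length 5 = true) :
    ∃ σ ∈ imgGen, Rep σ (foldP (pick chainLists is)) := by
  have hlen : chainLists.length = 5 := by decide +kernel
  obtain ⟨σ, hσ, hr⟩ := rep_pick chainLists is ((Nat.eq_of_beq_eq_true h).trans hlen.symm)
    fun T hT => ⟨(chainLists_reps T hT).1, fun a ha => ((chainLists_reps T hT).2 a ha).imp fun _ h => h.2⟩
  exact ⟨σ, mem_imgGen_iff.2 hσ, hr⟩

theorem rep_foldP_replicate (ha : Rep a y) : ∀ e : ℕ, Rep (a ^ e) (foldP (List.replicate e y)) := by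
  intro e
  induction e with
  | zero => exact rep_one
  | succ e ih => rw [pow_succ', List.replicate_succ]; exact ha.mul ih

/-- an element with the given cycle can be moved so that its image of 0 is a starting point -/
theorem cover_spec (ha : Rep a y) (hb : Rep b z) (he : σ * a = b * σ) {L : ℕ} {B : List ℕ} (hL : 0 < L)
    (hcyc : iterP y L 0 = 0) (hmin : (orbitL y (L - 1) (getP y 0)).any (Nat.beq 0) = false)
    (hcov : coverOK z L B = true) : ∃ j < L, ((b ^ j * σ) 0 : ℕ) ∈ B := by
  have hpow : ∀ n, σ * a ^ n = b ^ n * σ := by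
    intro n
    induction n with
    | zero => simp
    | succ n ih => rw [pow_succ, ← mul_assoc, ih, mul_assoc, he, ← mul_assoc, ← pow_succ]
  have hit : ∀ n, iterP z n (σ 0 : ℕ) = (σ ((a ^ n) 0) : ℕ) := by
    intro n; rw [iterP_rep hb, ← Equiv.Perm.mul_apply, ← hpow, Equiv.Perm.mul_apply]
  have h := List.all_eq_true.1 hcov (σ 0 : ℕ) (List.mem_range.2 (Fin.is_lt _))
  simp only [Bool.or_eq_true, Bool.not_eq_true', List.any_eq_true, mem_orbitL] at h
  rcases h with (h | ⟨c, ⟨j, hj, rfl⟩, hc⟩) | ⟨c, ⟨j, hj, rfl⟩, c', hc', hcc⟩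
  · exfalso
    have e0 : (a ^ L) 0 = 0 := Fin.ext ((iterP_rep ha L 0).symm.trans hcyc)
    rw [hit, e0] at h
    simp at h
  · exfalso
    have e1 : iterP z j (getP z (σ 0 : ℕ)) = iterP z (j + 1) (σ 0 : ℕ) := rfl
    rw [e1, hit] at hc
    have e2 : (a ^ (j + 1)) 0 = 0 := σ.injective (Fin.ext (Nat.eq_of_beq_eq_true hc).symm)
    rw [List.any_eq_false] at hmin
    refine hmin (iterP y j (getP y 0)) (mem_orbitL.2 ⟨j, hj, rfl⟩) ?_
    show Nat.beq 0 (iterP y (j + 1) 0) = true
    rw [show (0 : ℕ) = ((0 : Fin 315) : ℕ) from rfl, iterP_rep ha, e2]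
    rfl
  · refine ⟨j, hj, ?_⟩
    rw [Equiv.Perm.mul_apply, ← iterP_rep hb, Nat.eq_of_beq_eq_true hcc]
    exact hc'

end CfsgLib.J2
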