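import Cfsg.Agent.Lib.Spor.J2.Data

/-! The nonzero short elements of the icosian ring, by parity class. -/

set_option autoImplicit false
set_option maxRecDepth 100000

namespace CfsgLib.J2

def shortChunk0_0 : List Q :=
  [⟨-4,0,0,0,0,0,0,0⟩,
   ⟨-2,0,-2,0,-2,0,-2,0⟩,
   ⟨-2,0,-2,0,-2,0,0,0⟩,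
   ⟨-2,0,-2,0,-2,0,2,0⟩,
   ⟨-2,0,-2,0,0,0,-2,0⟩,
   ⟨-2,0,-2,0,0,0,0,0⟩,
   ⟨-2,0,-2,0,0,0,2,0⟩,
   ⟨-2,0,-2,0,2,0,-2,0⟩,
   ⟨-2,0,-2,0,2,0,0,0⟩,
   ⟨-2,0,-2,0,2,0,2,0⟩,
   ⟨-2,0,-2,2,0,-2,0,0⟩,
   ⟨-2,0,-2,2,0,0,0,-2⟩,
   ⟨-2,0,-2,2,0,0,0,0⟩,
   ⟨-2,0,-2,2,0,0,0,2⟩,
   ⟨-2,0,-2,2,0,2,0,0⟩,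
   ⟨-2,0,0,-2,-2,2,0,0⟩,
   ⟨-2,0,0,-2,0,0,-2,2⟩,
   ⟨-2,0,0,-2,0,0,0,0⟩,
   ⟨-2,0,0,-2,0,0,2,-2⟩,
   ⟨-2,0,0,-2,2,-2,0,0⟩,
   ⟨-2,0,0,0,-2,0,-2,0⟩,
   ⟨-2,0,0,0,-2,0,0,0⟩,
   ⟨-2,0,0,0,-2,0,2,0⟩,
   ⟨-2,0,0,0,-2,2,0,-2⟩,
   ⟨-2,0,0,0,-2,2,0,0⟩,
   ⟨-2,0,0,0,-2,2,0,2⟩,
   ⟨-2,0,0,0,0,-2,-2,2⟩,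
   ⟨-2,0,0,0,0,-2,0,0⟩,
   ⟨-2,0,0,0,0,-2,2,-2⟩,
   ⟨-2,0,0,0,0,0,-2,0⟩,
   ⟨-2,0,0,0,0,0,-2,2⟩,
   ⟨-2,0,0,0,0,0,0,-2⟩,
   ⟨-2,0,0,0,0,0,0,0⟩,
   ⟨-2,0,0,0,0,0,0,2⟩,
   ⟨-2,0,0,0,0,0,2,-2⟩,
   ⟨-2,0,0,0,0,0,2,0⟩,
   ⟨-2,0,0,0,0,2,-2,2⟩,
   ⟨-2,0,0,0,0,2,0,0⟩,
   ⟨-2,0,0,0,0,2,2,-2⟩,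
   ⟨-2,0,0,0,2,-2,0,-2⟩,
   ⟨-2,0,0,0,2,-2,0,0⟩,
   ⟨-2,0,0,0,2,-2,0,2⟩,
   ⟨-2,0,0,0,2,0,-2,0⟩,
   ⟨-2,0,0,0,2,0,0,0⟩,
   ⟨-2,0,0,0,2,0,2,0⟩,
   ⟨-2,0,0,2,-2,2,0,0⟩,
   ⟨-2,0,0,2,0,0,-2,2⟩,
   ⟨-2,0,0,2,0,0,0,0⟩,
   ⟨-2,0,0,2,0,0,2,-2⟩,
   ⟨-2,0,0,2,2,-2,0,0⟩,
   ⟨-2,0,2,-2,0,-2,0,0⟩,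
   ⟨-2,0,2,-2,0,0,0,-2⟩,
   ⟨-2,0,2,-2,0,0,0,0⟩,
   ⟨-2,0,2,-2,0,0,0,2⟩,
   ⟨-2,0,2,-2,0,2,0,0⟩,
   ⟨-2,0,2,0,-2,0,-2,0⟩,
   ⟨-2,0,2,0,-2,0,0,0⟩,
   ⟨-2,0,2,0,-2,0,2,0⟩,
   ⟨-2,0,2,0,0,0,-2,0⟩,
   ⟨-2,0,2,0,0,0,0,0⟩,
   ⟨-2,0,2,0,0,0,2,0⟩,
   ⟨-2,0,2,0,2,0,-2,0⟩,
   ⟨-2,0,2,0,2,0,0,0⟩,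
   ⟨-2,0,2,0,2,0,2,0⟩,
   ⟨-2,2,-2,0,0,-2,0,0⟩,
   ⟨-2,2,-2,0,0,0,0,-2⟩,
   ⟨-2,2,-2,0,0,0,0,0⟩,
   ⟨-2,2,-2,0,0,0,0,2⟩,
   ⟨-2,2,-2,0,0,2,0,0⟩,
   ⟨-2,2,0,-2,-2,0,0,0⟩,
   ⟨-2,2,0,-2,0,0,-2,0⟩,
   ⟨-2,2,0,-2,0,0,0,0⟩,
   ⟨-2,2,0,-2,0,0,2,0⟩,
   ⟨-2,2,0,-2,2,0,0,0⟩,
   ⟨-2,2,0,0,-2,0,0,-2⟩,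
   ⟨-2,2,0,0,-2,0,0,0⟩,
   ⟨-2,2,0,0,-2,0,0,2⟩,
   ⟨-2,2,0,0,0,-2,-2,0⟩,
   ⟨-2,2,0,0,0,-2,0,0⟩,
   ⟨-2,2,0,0,0,-2,2,0⟩,
   ⟨-2,2,0,0,0,0,-2,0⟩,
   ⟨-2,2,0,0,0,0,0,-2⟩,
   ⟨-2,2,0,0,0,0,0,0⟩,
   ⟨-2,2,0,0,0,0,0,2⟩,
   ⟨-2,2,0,0,0,0,2,0⟩,
   ⟨-2,2,0,0,0,2,-2,0⟩,
   ⟨-2,2,0,0,0,2,0,0⟩,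
   ⟨-2,2,0,0,0,2,2,0⟩,
   ⟨-2,2,0,0,2,0,0,-2⟩,
   ⟨-2,2,0,0,2,0,0,0⟩,
   ⟨-2,2,0,0,2,0,0,2⟩,
   ⟨-2,2,0,2,-2,0,0,0⟩,
   ⟨-2,2,0,2,0,0,-2,0⟩,
   ⟨-2,2,0,2,0,0,0,0⟩,
   ⟨-2,2,0,2,0,0,2,0⟩,
   ⟨-2,2,0,2,2,0,0,0⟩,
   ⟨-2,2,2,0,0,-2,0,0⟩,
   ⟨-2,2,2,0,0,0,0,-2⟩,
   ⟨-2,2,2,0,0,0,0,0⟩,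
   ⟨-2,2,2,0,0,0,0,2⟩,
   ⟨-2,2,2,0,0,2,0,0⟩,
   ⟨0,-2,-2,0,-2,2,0,0⟩,
   ⟨0,-2,-2,0,0,0,-2,2⟩,
   ⟨0,-2,-2,0,0,0,0,0⟩,
   ⟨0,-2,-2,0,0,0,2,-2⟩,
   ⟨0,-2,-2,0,2,-2,0,0⟩,
   ⟨0,-2,-2,2,-2,0,0,0⟩,
   ⟨0,-2,-2,2,0,0,-2,0⟩,
   ⟨0,-2,-2,2,0,0,0,0⟩,
   ⟨0,-2,-2,2,0,0,2,0⟩,
   ⟨0,-2,-2,2,2,0,0,0⟩,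
   ⟨0,-2,0,0,-2,0,-2,2⟩,
   ⟨0,-2,0,0,-2,0,0,0⟩,
   ⟨0,-2,0,0,-2,0,2,-2⟩,
   ⟨0,-2,0,0,-2,2,-2,0⟩,
   ⟨0,-2,0,0,-2,2,0,0⟩,
   ⟨0,-2,0,0,-2,2,2,0⟩,
   ⟨0,-2,0,0,0,0,-2,0⟩,
   ⟨0,-2,0,0,0,0,-2,2⟩,
   ⟨0,-2,0,0,0,0,0,0⟩,
   ⟨0,-2,0,0,0,0,2,-2⟩,
   ⟨0,-2,0,0,0,0,2,0⟩,
   ⟨0,-2,0,0,2,-2,-2,0⟩,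
   ⟨0,-2,0,0,2,-2,0,0⟩,
   ⟨0,-2,0,0,2,-2,2,0⟩,
   ⟨0,-2,0,0,2,0,-2,2⟩,
   ⟨0,-2,0,0,2,0,0,0⟩,
   ⟨0,-2,0,0,2,0,2,-2⟩,
   ⟨0,-2,2,-2,-2,0,0,0⟩,
   ⟨0,-2,2,-2,0,0,-2,0⟩,
   ⟨0,-2,2,-2,0,0,0,0⟩,
   ⟨0,-2,2,-2,0,0,2,0⟩,
   ⟨0,-2,2,-2,2,0,0,0⟩,
   ⟨0,-2,2,0,-2,2,0,0⟩,
   ⟨0,-2,2,0,0,0,-2,2⟩,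
   ⟨0,-2,2,0,0,0,0,0⟩,
   ⟨0,-2,2,0,0,0,2,-2⟩,
   ⟨0,-2,2,0,2,-2,0,0⟩,
   ⟨0,0,-4,0,0,0,0,0⟩,
   ⟨0,0,-2,0,-2,0,-2,0⟩,
   ⟨0,0,-2,0,-2,0,0,0⟩,
   ⟨0,0,-2,0,-2,0,2,0⟩,
   ⟨0,0,-2,0,-2,2,0,-2⟩,
   ⟨0,0,-2,0,-2,2,0,0⟩,
   ⟨0,0,-2,0,-2,2,0,2⟩,
   ⟨0,0,-2,0,0,-2,-2,2⟩,
   ⟨0,0,-2,0,0,-2,0,0⟩,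
   ⟨0,0,-2,0,0,-2,2,-2⟩,
   ⟨0,0,-2,0,0,0,-2,0⟩,
   ⟨0,0,-2,0,0,0,-2,2⟩]

def shortChunk0_1 : List Q :=
  [⟨0,0,-2,0,0,0,0,-2⟩,
   ⟨0,0,-2,0,0,0,0,0⟩,
   ⟨0,0,-2,0,0,0,0,2⟩,
   ⟨0,0,-2,0,0,0,2,-2⟩,
   ⟨0,0,-2,0,0,0,2,0⟩,
   ⟨0,0,-2,0,0,2,-2,2⟩,
   ⟨0,0,-2,0,0,2,0,0⟩,
   ⟨0,0,-2,0,0,2,2,-2⟩,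
   ⟨0,0,-2,0,2,-2,0,-2⟩,
   ⟨0,0,-2,0,2,-2,0,0⟩,
   ⟨0,0,-2,0,2,-2,0,2⟩,
   ⟨0,0,-2,0,2,0,-2,0⟩,
   ⟨0,0,-2,0,2,0,0,0⟩,
   ⟨0,0,-2,0,2,0,2,0⟩,
   ⟨0,0,-2,2,-2,0,0,-2⟩,
   ⟨0,0,-2,2,-2,0,0,0⟩,
   ⟨0,0,-2,2,-2,0,0,2⟩,
   ⟨0,0,-2,2,0,-2,-2,0⟩,
   ⟨0,0,-2,2,0,-2,0,0⟩,
   ⟨0,0,-2,2,0,-2,2,0⟩,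
   ⟨0,0,-2,2,0,0,-2,0⟩,
   ⟨0,0,-2,2,0,0,0,-2⟩,
   ⟨0,0,-2,2,0,0,0,0⟩,
   ⟨0,0,-2,2,0,0,0,2⟩,
   ⟨0,0,-2,2,0,0,2,0⟩,
   ⟨0,0,-2,2,0,2,-2,0⟩,
   ⟨0,0,-2,2,0,2,0,0⟩,
   ⟨0,0,-2,2,0,2,2,0⟩,
   ⟨0,0,-2,2,2,0,0,-2⟩,
   ⟨0,0,-2,2,2,0,0,0⟩,
   ⟨0,0,-2,2,2,0,0,2⟩,
   ⟨0,0,0,-2,-2,0,-2,2⟩,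
   ⟨0,0,0,-2,-2,0,0,0⟩,
   ⟨0,0,0,-2,-2,0,2,-2⟩,
   ⟨0,0,0,-2,-2,2,-2,0⟩,
   ⟨0,0,0,-2,-2,2,0,0⟩,
   ⟨0,0,0,-2,-2,2,2,0⟩,
   ⟨0,0,0,-2,0,0,-2,0⟩,
   ⟨0,0,0,-2,0,0,-2,2⟩,
   ⟨0,0,0,-2,0,0,0,0⟩,
   ⟨0,0,0,-2,0,0,2,-2⟩,
   ⟨0,0,0,-2,0,0,2,0⟩,
   ⟨0,0,0,-2,2,-2,-2,0⟩,
   ⟨0,0,0,-2,2,-2,0,0⟩,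
   ⟨0,0,0,-2,2,-2,2,0⟩,
   ⟨0,0,0,-2,2,0,-2,2⟩,
   ⟨0,0,0,-2,2,0,0,0⟩,
   ⟨0,0,0,-2,2,0,2,-2⟩,
   ⟨0,0,0,0,-4,0,0,0⟩,
   ⟨0,0,0,0,-2,0,-2,0⟩,
   ⟨0,0,0,0,-2,0,-2,2⟩,
   ⟨0,0,0,0,-2,0,0,-2⟩,
   ⟨0,0,0,0,-2,0,0,0⟩,
   ⟨0,0,0,0,-2,0,0,2⟩,
   ⟨0,0,0,0,-2,0,2,-2⟩,
   ⟨0,0,0,0,-2,0,2,0⟩,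
   ⟨0,0,0,0,-2,2,-2,0⟩,
   ⟨0,0,0,0,-2,2,0,-2⟩,
   ⟨0,0,0,0,-2,2,0,0⟩,
   ⟨0,0,0,0,-2,2,0,2⟩,
   ⟨0,0,0,0,-2,2,2,0⟩,
   ⟨0,0,0,0,0,-2,-2,0⟩,
   ⟨0,0,0,0,0,-2,-2,2⟩,
   ⟨0,0,0,0,0,-2,0,0⟩,
   ⟨0,0,0,0,0,-2,2,-2⟩,
   ⟨0,0,0,0,0,-2,2,0⟩,
   ⟨0,0,0,0,0,0,-4,0⟩,
   ⟨0,0,0,0,0,0,-2,0⟩,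
   ⟨0,0,0,0,0,0,-2,2⟩,
   ⟨0,0,0,0,0,0,0,-2⟩,
   ⟨0,0,0,0,0,0,0,2⟩,
   ⟨0,0,0,0,0,0,2,-2⟩,
   ⟨0,0,0,0,0,0,2,0⟩,
   ⟨0,0,0,0,0,0,4,0⟩,
   ⟨0,0,0,0,0,2,-2,0⟩,
   ⟨0,0,0,0,0,2,-2,2⟩,
   ⟨0,0,0,0,0,2,0,0⟩,
   ⟨0,0,0,0,0,2,2,-2⟩,
   ⟨0,0,0,0,0,2,2,0⟩,
   ⟨0,0,0,0,2,-2,-2,0⟩,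
   ⟨0,0,0,0,2,-2,0,-2⟩,
   ⟨0,0,0,0,2,-2,0,0⟩,
   ⟨0,0,0,0,2,-2,0,2⟩,
   ⟨0,0,0,0,2,-2,2,0⟩,
   ⟨0,0,0,0,2,0,-2,0⟩,
   ⟨0,0,0,0,2,0,-2,2⟩,
   ⟨0,0,0,0,2,0,0,-2⟩,
   ⟨0,0,0,0,2,0,0,0⟩,
   ⟨0,0,0,0,2,0,0,2⟩,
   ⟨0,0,0,0,2,0,2,-2⟩,
   ⟨0,0,0,0,2,0,2,0⟩,
   ⟨0,0,0,0,4,0,0,0⟩,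
   ⟨0,0,0,2,-2,0,-2,2⟩,
   ⟨0,0,0,2,-2,0,0,0⟩,
   ⟨0,0,0,2,-2,0,2,-2⟩,
   ⟨0,0,0,2,-2,2,-2,0⟩,
   ⟨0,0,0,2,-2,2,0,0⟩,
   ⟨0,0,0,2,-2,2,2,0⟩,
   ⟨0,0,0,2,0,0,-2,0⟩,
   ⟨0,0,0,2,0,0,-2,2⟩,
   ⟨0,0,0,2,0,0,0,0⟩,
   ⟨0,0,0,2,0,0,2,-2⟩,
   ⟨0,0,0,2,0,0,2,0⟩,
   ⟨0,0,0,2,2,-2,-2,0⟩,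
   ⟨0,0,0,2,2,-2,0,0⟩,
   ⟨0,0,0,2,2,-2,2,0⟩,
   ⟨0,0,0,2,2,0,-2,2⟩,
   ⟨0,0,0,2,2,0,0,0⟩,
   ⟨0,0,0,2,2,0,2,-2⟩,
   ⟨0,0,2,-2,-2,0,0,-2⟩,
   ⟨0,0,2,-2,-2,0,0,0⟩,
   ⟨0,0,2,-2,-2,0,0,2⟩,
   ⟨0,0,2,-2,0,-2,-2,0⟩,
   ⟨0,0,2,-2,0,-2,0,0⟩,
   ⟨0,0,2,-2,0,-2,2,0⟩,
   ⟨0,0,2,-2,0,0,-2,0⟩,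
   ⟨0,0,2,-2,0,0,0,-2⟩,
   ⟨0,0,2,-2,0,0,0,0⟩,
   ⟨0,0,2,-2,0,0,0,2⟩,
   ⟨0,0,2,-2,0,0,2,0⟩,
   ⟨0,0,2,-2,0,2,-2,0⟩,
   ⟨0,0,2,-2,0,2,0,0⟩,
   ⟨0,0,2,-2,0,2,2,0⟩,
   ⟨0,0,2,-2,2,0,0,-2⟩,
   ⟨0,0,2,-2,2,0,0,0⟩,
   ⟨0,0,2,-2,2,0,0,2⟩,
   ⟨0,0,2,0,-2,0,-2,0⟩,
   ⟨0,0,2,0,-2,0,0,0⟩,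
   ⟨0,0,2,0,-2,0,2,0⟩,
   ⟨0,0,2,0,-2,2,0,-2⟩,
   ⟨0,0,2,0,-2,2,0,0⟩,
   ⟨0,0,2,0,-2,2,0,2⟩,
   ⟨0,0,2,0,0,-2,-2,2⟩,
   ⟨0,0,2,0,0,-2,0,0⟩,
   ⟨0,0,2,0,0,-2,2,-2⟩,
   ⟨0,0,2,0,0,0,-2,0⟩,
   ⟨0,0,2,0,0,0,-2,2⟩,
   ⟨0,0,2,0,0,0,0,-2⟩,
   ⟨0,0,2,0,0,0,0,0⟩,
   ⟨0,0,2,0,0,0,0,2⟩,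
   ⟨0,0,2,0,0,0,2,-2⟩,
   ⟨0,0,2,0,0,0,2,0⟩,
   ⟨0,0,2,0,0,2,-2,2⟩,
   ⟨0,0,2,0,0,2,0,0⟩,
   ⟨0,0,2,0,0,2,2,-2⟩,
   ⟨0,0,2,0,2,-2,0,-2⟩,
   ⟨0,0,2,0,2,-2,0,0⟩,
   ⟨0,0,2,0,2,-2,0,2⟩,
   ⟨0,0,2,0,2,0,-2,0⟩,
   ⟨0,0,2,0,2,0,0,0⟩]

def shortChunk0_2 : List Q :=
  [⟨0,0,2,0,2,0,2,0⟩,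
   ⟨0,0,4,0,0,0,0,0⟩,
   ⟨0,2,-2,0,-2,2,0,0⟩,
   ⟨0,2,-2,0,0,0,-2,2⟩,
   ⟨0,2,-2,0,0,0,0,0⟩,
   ⟨0,2,-2,0,0,0,2,-2⟩,
   ⟨0,2,-2,0,2,-2,0,0⟩,
   ⟨0,2,-2,2,-2,0,0,0⟩,
   ⟨0,2,-2,2,0,0,-2,0⟩,
   ⟨0,2,-2,2,0,0,0,0⟩,
   ⟨0,2,-2,2,0,0,2,0⟩,
   ⟨0,2,-2,2,2,0,0,0⟩,
   ⟨0,2,0,0,-2,0,-2,2⟩,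
   ⟨0,2,0,0,-2,0,0,0⟩,
   ⟨0,2,0,0,-2,0,2,-2⟩,
   ⟨0,2,0,0,-2,2,-2,0⟩,
   ⟨0,2,0,0,-2,2,0,0⟩,
   ⟨0,2,0,0,-2,2,2,0⟩,
   ⟨0,2,0,0,0,0,-2,0⟩,
   ⟨0,2,0,0,0,0,-2,2⟩,
   ⟨0,2,0,0,0,0,0,0⟩,
   ⟨0,2,0,0,0,0,2,-2⟩,
   ⟨0,2,0,0,0,0,2,0⟩,
   ⟨0,2,0,0,2,-2,-2,0⟩,
   ⟨0,2,0,0,2,-2,0,0⟩,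
   ⟨0,2,0,0,2,-2,2,0⟩,
   ⟨0,2,0,0,2,0,-2,2⟩,
   ⟨0,2,0,0,2,0,0,0⟩,
   ⟨0,2,0,0,2,0,2,-2⟩,
   ⟨0,2,2,-2,-2,0,0,0⟩,
   ⟨0,2,2,-2,0,0,-2,0⟩,
   ⟨0,2,2,-2,0,0,0,0⟩,
   ⟨0,2,2,-2,0,0,2,0⟩,
   ⟨0,2,2,-2,2,0,0,0⟩,
   ⟨0,2,2,0,-2,2,0,0⟩,
   ⟨0,2,2,0,0,0,-2,2⟩,
   ⟨0,2,2,0,0,0,0,0⟩,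
   ⟨0,2,2,0,0,0,2,-2⟩,
   ⟨0,2,2,0,2,-2,0,0⟩,
   ⟨2,-2,-2,0,0,-2,0,0⟩,
   ⟨2,-2,-2,0,0,0,0,-2⟩,
   ⟨2,-2,-2,0,0,0,0,0⟩,
   ⟨2,-2,-2,0,0,0,0,2⟩,
   ⟨2,-2,-2,0,0,2,0,0⟩,
   ⟨2,-2,0,-2,-2,0,0,0⟩,
   ⟨2,-2,0,-2,0,0,-2,0⟩,
   ⟨2,-2,0,-2,0,0,0,0⟩,
   ⟨2,-2,0,-2,0,0,2,0⟩,
   ⟨2,-2,0,-2,2,0,0,0⟩,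
   ⟨2,-2,0,0,-2,0,0,-2⟩,
   ⟨2,-2,0,0,-2,0,0,0⟩,
   ⟨2,-2,0,0,-2,0,0,2⟩,
   ⟨2,-2,0,0,0,-2,-2,0⟩,
   ⟨2,-2,0,0,0,-2,0,0⟩,
   ⟨2,-2,0,0,0,-2,2,0⟩,
   ⟨2,-2,0,0,0,0,-2,0⟩,
   ⟨2,-2,0,0,0,0,0,-2⟩,
   ⟨2,-2,0,0,0,0,0,0⟩,
   ⟨2,-2,0,0,0,0,0,2⟩,
   ⟨2,-2,0,0,0,0,2,0⟩,
   ⟨2,-2,0,0,0,2,-2,0⟩,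
   ⟨2,-2,0,0,0,2,0,0⟩,
   ⟨2,-2,0,0,0,2,2,0⟩,
   ⟨2,-2,0,0,2,0,0,-2⟩,
   ⟨2,-2,0,0,2,0,0,0⟩,
   ⟨2,-2,0,0,2,0,0,2⟩,
   ⟨2,-2,0,2,-2,0,0,0⟩,
   ⟨2,-2,0,2,0,0,-2,0⟩,
   ⟨2,-2,0,2,0,0,0,0⟩,
   ⟨2,-2,0,2,0,0,2,0⟩,
   ⟨2,-2,0,2,2,0,0,0⟩,
   ⟨2,-2,2,0,0,-2,0,0⟩,
   ⟨2,-2,2,0,0,0,0,-2⟩,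
   ⟨2,-2,2,0,0,0,0,0⟩,
   ⟨2,-2,2,0,0,0,0,2⟩,
   ⟨2,-2,2,0,0,2,0,0⟩,
   ⟨2,0,-2,0,-2,0,-2,0⟩,
   ⟨2,0,-2,0,-2,0,0,0⟩,
   ⟨2,0,-2,0,-2,0,2,0⟩,
   ⟨2,0,-2,0,0,0,-2,0⟩,
   ⟨2,0,-2,0,0,0,0,0⟩,
   ⟨2,0,-2,0,0,0,2,0⟩,
   ⟨2,0,-2,0,2,0,-2,0⟩,
   ⟨2,0,-2,0,2,0,0,0⟩,
   ⟨2,0,-2,0,2,0,2,0⟩,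
   ⟨2,0,-2,2,0,-2,0,0⟩,
   ⟨2,0,-2,2,0,0,0,-2⟩,
   ⟨2,0,-2,2,0,0,0,0⟩,
   ⟨2,0,-2,2,0,0,0,2⟩,
   ⟨2,0,-2,2,0,2,0,0⟩,
   ⟨2,0,0,-2,-2,2,0,0⟩,
   ⟨2,0,0,-2,0,0,-2,2⟩,
   ⟨2,0,0,-2,0,0,0,0⟩,
   ⟨2,0,0,-2,0,0,2,-2⟩,
   ⟨2,0,0,-2,2,-2,0,0⟩,
   ⟨2,0,0,0,-2,0,-2,0⟩,
   ⟨2,0,0,0,-2,0,0,0⟩,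
   ⟨2,0,0,0,-2,0,2,0⟩,
   ⟨2,0,0,0,-2,2,0,-2⟩,
   ⟨2,0,0,0,-2,2,0,0⟩,
   ⟨2,0,0,0,-2,2,0,2⟩,
   ⟨2,0,0,0,0,-2,-2,2⟩,
   ⟨2,0,0,0,0,-2,0,0⟩,
   ⟨2,0,0,0,0,-2,2,-2⟩,
   ⟨2,0,0,0,0,0,-2,0⟩,
   ⟨2,0,0,0,0,0,-2,2⟩,
   ⟨2,0,0,0,0,0,0,-2⟩,
   ⟨2,0,0,0,0,0,0,0⟩,
   ⟨2,0,0,0,0,0,0,2⟩,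
   ⟨2,0,0,0,0,0,2,-2⟩,
   ⟨2,0,0,0,0,0,2,0⟩,
   ⟨2,0,0,0,0,2,-2,2⟩,
   ⟨2,0,0,0,0,2,0,0⟩,
   ⟨2,0,0,0,0,2,2,-2⟩,
   ⟨2,0,0,0,2,-2,0,-2⟩,
   ⟨2,0,0,0,2,-2,0,0⟩,
   ⟨2,0,0,0,2,-2,0,2⟩,
   ⟨2,0,0,0,2,0,-2,0⟩,
   ⟨2,0,0,0,2,0,0,0⟩,
   ⟨2,0,0,0,2,0,2,0⟩,
   ⟨2,0,0,2,-2,2,0,0⟩,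
   ⟨2,0,0,2,0,0,-2,2⟩,
   ⟨2,0,0,2,0,0,0,0⟩,
   ⟨2,0,0,2,0,0,2,-2⟩,
   ⟨2,0,0,2,2,-2,0,0⟩,
   ⟨2,0,2,-2,0,-2,0,0⟩,
   ⟨2,0,2,-2,0,0,0,-2⟩,
   ⟨2,0,2,-2,0,0,0,0⟩,
   ⟨2,0,2,-2,0,0,0,2⟩,
   ⟨2,0,2,-2,0,2,0,0⟩,
   ⟨2,0,2,0,-2,0,-2,0⟩,
   ⟨2,0,2,0,-2,0,0,0⟩,
   ⟨2,0,2,0,-2,0,2,0⟩,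
   ⟨2,0,2,0,0,0,-2,0⟩,
   ⟨2,0,2,0,0,0,0,0⟩,
   ⟨2,0,2,0,0,0,2,0⟩,
   ⟨2,0,2,0,2,0,-2,0⟩,
   ⟨2,0,2,0,2,0,0,0⟩,
   ⟨2,0,2,0,2,0,2,0⟩,
   ⟨4,0,0,0,0,0,0,0⟩]

/-- the short elements of parity class 0 -/
def shortData0 : List Q := shortChunk0_0 ++ shortChunk0_1 ++ shortChunk0_2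

def shortChunk1_0 : List Q :=
  [⟨-2,-1,-3,1,-1,0,0,0⟩,
   ⟨-2,-1,-3,1,1,0,0,0⟩,
   ⟨-2,-1,-1,1,-1,0,-2,2⟩,
   ⟨-2,-1,-1,1,-1,0,0,0⟩,
   ⟨-2,-1,-1,1,-1,0,2,-2⟩,
   ⟨-2,-1,-1,1,1,0,-2,2⟩,
   ⟨-2,-1,-1,1,1,0,0,0⟩,
   ⟨-2,-1,-1,1,1,0,2,-2⟩,
   ⟨-2,-1,1,-1,-1,0,-2,2⟩,
   ⟨-2,-1,1,-1,-1,0,0,0⟩,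
   ⟨-2,-1,1,-1,-1,0,2,-2⟩,
   ⟨-2,-1,1,-1,1,0,-2,2⟩,
   ⟨-2,-1,1,-1,1,0,0,0⟩,
   ⟨-2,-1,1,-1,1,0,2,-2⟩,
   ⟨-2,-1,3,-1,-1,0,0,0⟩,
   ⟨-2,-1,3,-1,1,0,0,0⟩,
   ⟨-2,1,-1,-1,-3,0,0,0⟩,
   ⟨-2,1,-1,-1,-1,0,-2,0⟩,
   ⟨-2,1,-1,-1,-1,0,0,0⟩,
   ⟨-2,1,-1,-1,-1,0,2,0⟩,
   ⟨-2,1,-1,-1,-1,2,-2,0⟩,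
   ⟨-2,1,-1,-1,-1,2,0,0⟩,
   ⟨-2,1,-1,-1,-1,2,2,0⟩,
   ⟨-2,1,-1,-1,1,-2,-2,0⟩,
   ⟨-2,1,-1,-1,1,-2,0,0⟩,
   ⟨-2,1,-1,-1,1,-2,2,0⟩,
   ⟨-2,1,-1,-1,1,0,-2,0⟩,
   ⟨-2,1,-1,-1,1,0,0,0⟩,
   ⟨-2,1,-1,-1,1,0,2,0⟩,
   ⟨-2,1,-1,-1,3,0,0,0⟩,
   ⟨-2,1,-1,1,-1,0,-2,0⟩,
   ⟨-2,1,-1,1,-1,0,0,-2⟩,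
   ⟨-2,1,-1,1,-1,0,0,0⟩,
   ⟨-2,1,-1,1,-1,0,0,2⟩,
   ⟨-2,1,-1,1,-1,0,2,0⟩,
   ⟨-2,1,-1,1,-1,2,0,-2⟩,
   ⟨-2,1,-1,1,-1,2,0,0⟩,
   ⟨-2,1,-1,1,-1,2,0,2⟩,
   ⟨-2,1,-1,1,1,-2,0,-2⟩,
   ⟨-2,1,-1,1,1,-2,0,0⟩,
   ⟨-2,1,-1,1,1,-2,0,2⟩,
   ⟨-2,1,-1,1,1,0,-2,0⟩,
   ⟨-2,1,-1,1,1,0,0,-2⟩,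
   ⟨-2,1,-1,1,1,0,0,0⟩,
   ⟨-2,1,-1,1,1,0,0,2⟩,
   ⟨-2,1,-1,1,1,0,2,0⟩,
   ⟨-2,1,-1,3,-1,0,0,0⟩,
   ⟨-2,1,-1,3,1,0,0,0⟩,
   ⟨-2,1,1,-3,-1,0,0,0⟩,
   ⟨-2,1,1,-3,1,0,0,0⟩,
   ⟨-2,1,1,-1,-1,0,-2,0⟩,
   ⟨-2,1,1,-1,-1,0,0,-2⟩,
   ⟨-2,1,1,-1,-1,0,0,0⟩,
   ⟨-2,1,1,-1,-1,0,0,2⟩,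
   ⟨-2,1,1,-1,-1,0,2,0⟩,
   ⟨-2,1,1,-1,-1,2,0,-2⟩,
   ⟨-2,1,1,-1,-1,2,0,0⟩,
   ⟨-2,1,1,-1,-1,2,0,2⟩,
   ⟨-2,1,1,-1,1,-2,0,-2⟩,
   ⟨-2,1,1,-1,1,-2,0,0⟩,
   ⟨-2,1,1,-1,1,-2,0,2⟩,
   ⟨-2,1,1,-1,1,0,-2,0⟩,
   ⟨-2,1,1,-1,1,0,0,-2⟩,
   ⟨-2,1,1,-1,1,0,0,0⟩,
   ⟨-2,1,1,-1,1,0,0,2⟩,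
   ⟨-2,1,1,-1,1,0,2,0⟩,
   ⟨-2,1,1,1,-3,0,0,0⟩,
   ⟨-2,1,1,1,-1,0,-2,0⟩,
   ⟨-2,1,1,1,-1,0,0,0⟩,
   ⟨-2,1,1,1,-1,0,2,0⟩,
   ⟨-2,1,1,1,-1,2,-2,0⟩,
   ⟨-2,1,1,1,-1,2,0,0⟩,
   ⟨-2,1,1,1,-1,2,2,0⟩,
   ⟨-2,1,1,1,1,-2,-2,0⟩,
   ⟨-2,1,1,1,1,-2,0,0⟩,
   ⟨-2,1,1,1,1,-2,2,0⟩,
   ⟨-2,1,1,1,1,0,-2,0⟩,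
   ⟨-2,1,1,1,1,0,0,0⟩,
   ⟨-2,1,1,1,1,0,2,0⟩,
   ⟨-2,1,1,1,3,0,0,0⟩,
   ⟨-2,3,-1,-1,-1,0,0,0⟩,
   ⟨-2,3,-1,-1,1,0,0,0⟩,
   ⟨-2,3,1,1,-1,0,0,0⟩,
   ⟨-2,3,1,1,1,0,0,0⟩,
   ⟨0,-1,-3,1,-1,0,0,-2⟩,
   ⟨0,-1,-3,1,-1,0,0,0⟩,
   ⟨0,-1,-3,1,-1,0,0,2⟩,
   ⟨0,-1,-3,1,1,0,0,-2⟩,
   ⟨0,-1,-3,1,1,0,0,0⟩,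
   ⟨0,-1,-3,1,1,0,0,2⟩,
   ⟨0,-1,-1,-1,-1,0,-2,0⟩,
   ⟨0,-1,-1,-1,-1,0,-2,2⟩,
   ⟨0,-1,-1,-1,-1,0,0,0⟩,
   ⟨0,-1,-1,-1,-1,0,2,-2⟩,
   ⟨0,-1,-1,-1,-1,0,2,0⟩,
   ⟨0,-1,-1,-1,-1,2,-2,2⟩,
   ⟨0,-1,-1,-1,-1,2,0,0⟩,
   ⟨0,-1,-1,-1,-1,2,2,-2⟩,
   ⟨0,-1,-1,-1,1,-2,-2,2⟩,
   ⟨0,-1,-1,-1,1,-2,0,0⟩,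
   ⟨0,-1,-1,-1,1,-2,2,-2⟩,
   ⟨0,-1,-1,-1,1,0,-2,0⟩,
   ⟨0,-1,-1,-1,1,0,-2,2⟩,
   ⟨0,-1,-1,-1,1,0,0,0⟩,
   ⟨0,-1,-1,-1,1,0,2,-2⟩,
   ⟨0,-1,-1,-1,1,0,2,0⟩,
   ⟨0,-1,-1,1,-3,0,-2,0⟩,
   ⟨0,-1,-1,1,-3,0,0,0⟩,
   ⟨0,-1,-1,1,-3,0,2,0⟩,
   ⟨0,-1,-1,1,-1,0,-2,0⟩,
   ⟨0,-1,-1,1,-1,0,-2,2⟩,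
   ⟨0,-1,-1,1,-1,0,0,-2⟩,
   ⟨0,-1,-1,1,-1,0,0,0⟩,
   ⟨0,-1,-1,1,-1,0,0,2⟩,
   ⟨0,-1,-1,1,-1,0,2,-2⟩,
   ⟨0,-1,-1,1,-1,0,2,0⟩,
   ⟨0,-1,-1,1,-1,2,-2,0⟩,
   ⟨0,-1,-1,1,-1,2,0,0⟩,
   ⟨0,-1,-1,1,-1,2,2,0⟩,
   ⟨0,-1,-1,1,1,-2,-2,0⟩,
   ⟨0,-1,-1,1,1,-2,0,0⟩,
   ⟨0,-1,-1,1,1,-2,2,0⟩,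
   ⟨0,-1,-1,1,1,0,-2,0⟩,
   ⟨0,-1,-1,1,1,0,-2,2⟩,
   ⟨0,-1,-1,1,1,0,0,-2⟩,
   ⟨0,-1,-1,1,1,0,0,0⟩,
   ⟨0,-1,-1,1,1,0,0,2⟩,
   ⟨0,-1,-1,1,1,0,2,-2⟩,
   ⟨0,-1,-1,1,1,0,2,0⟩,
   ⟨0,-1,-1,1,3,0,-2,0⟩,
   ⟨0,-1,-1,1,3,0,0,0⟩,
   ⟨0,-1,-1,1,3,0,2,0⟩,
   ⟨0,-1,1,-1,-3,0,-2,0⟩,
   ⟨0,-1,1,-1,-3,0,0,0⟩,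
   ⟨0,-1,1,-1,-3,0,2,0⟩,
   ⟨0,-1,1,-1,-1,0,-2,0⟩,
   ⟨0,-1,1,-1,-1,0,-2,2⟩,
   ⟨0,-1,1,-1,-1,0,0,-2⟩,
   ⟨0,-1,1,-1,-1,0,0,0⟩,
   ⟨0,-1,1,-1,-1,0,0,2⟩,
   ⟨0,-1,1,-1,-1,0,2,-2⟩,
   ⟨0,-1,1,-1,-1,0,2,0⟩,
   ⟨0,-1,1,-1,-1,2,-2,0⟩,
   ⟨0,-1,1,-1,-1,2,0,0⟩,
   ⟨0,-1,1,-1,-1,2,2,0⟩,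
   ⟨0,-1,1,-1,1,-2,-2,0⟩,
   ⟨0,-1,1,-1,1,-2,0,0⟩,
   ⟨0,-1,1,-1,1,-2,2,0⟩,
   ⟨0,-1,1,-1,1,0,-2,0⟩,
   ⟨0,-1,1,-1,1,0,-2,2⟩]

def shortChunk1_1 : List Q :=
  [⟨0,-1,1,-1,1,0,0,-2⟩,
   ⟨0,-1,1,-1,1,0,0,0⟩,
   ⟨0,-1,1,-1,1,0,0,2⟩,
   ⟨0,-1,1,-1,1,0,2,-2⟩,
   ⟨0,-1,1,-1,1,0,2,0⟩,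
   ⟨0,-1,1,-1,3,0,-2,0⟩,
   ⟨0,-1,1,-1,3,0,0,0⟩,
   ⟨0,-1,1,-1,3,0,2,0⟩,
   ⟨0,-1,1,1,-1,0,-2,0⟩,
   ⟨0,-1,1,1,-1,0,-2,2⟩,
   ⟨0,-1,1,1,-1,0,0,0⟩,
   ⟨0,-1,1,1,-1,0,2,-2⟩,
   ⟨0,-1,1,1,-1,0,2,0⟩,
   ⟨0,-1,1,1,-1,2,-2,2⟩,
   ⟨0,-1,1,1,-1,2,0,0⟩,
   ⟨0,-1,1,1,-1,2,2,-2⟩,
   ⟨0,-1,1,1,1,-2,-2,2⟩,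
   ⟨0,-1,1,1,1,-2,0,0⟩,
   ⟨0,-1,1,1,1,-2,2,-2⟩,
   ⟨0,-1,1,1,1,0,-2,0⟩,
   ⟨0,-1,1,1,1,0,-2,2⟩,
   ⟨0,-1,1,1,1,0,0,0⟩,
   ⟨0,-1,1,1,1,0,2,-2⟩,
   ⟨0,-1,1,1,1,0,2,0⟩,
   ⟨0,-1,3,-1,-1,0,0,-2⟩,
   ⟨0,-1,3,-1,-1,0,0,0⟩,
   ⟨0,-1,3,-1,-1,0,0,2⟩,
   ⟨0,-1,3,-1,1,0,0,-2⟩,
   ⟨0,-1,3,-1,1,0,0,0⟩,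
   ⟨0,-1,3,-1,1,0,0,2⟩,
   ⟨0,1,-3,1,-1,0,0,-2⟩,
   ⟨0,1,-3,1,-1,0,0,0⟩,
   ⟨0,1,-3,1,-1,0,0,2⟩,
   ⟨0,1,-3,1,1,0,0,-2⟩,
   ⟨0,1,-3,1,1,0,0,0⟩,
   ⟨0,1,-3,1,1,0,0,2⟩,
   ⟨0,1,-1,-1,-1,0,-2,0⟩,
   ⟨0,1,-1,-1,-1,0,-2,2⟩,
   ⟨0,1,-1,-1,-1,0,0,0⟩,
   ⟨0,1,-1,-1,-1,0,2,-2⟩,
   ⟨0,1,-1,-1,-1,0,2,0⟩,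
   ⟨0,1,-1,-1,-1,2,-2,2⟩,
   ⟨0,1,-1,-1,-1,2,0,0⟩,
   ⟨0,1,-1,-1,-1,2,2,-2⟩,
   ⟨0,1,-1,-1,1,-2,-2,2⟩,
   ⟨0,1,-1,-1,1,-2,0,0⟩,
   ⟨0,1,-1,-1,1,-2,2,-2⟩,
   ⟨0,1,-1,-1,1,0,-2,0⟩,
   ⟨0,1,-1,-1,1,0,-2,2⟩,
   ⟨0,1,-1,-1,1,0,0,0⟩,
   ⟨0,1,-1,-1,1,0,2,-2⟩,
   ⟨0,1,-1,-1,1,0,2,0⟩,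
   ⟨0,1,-1,1,-3,0,-2,0⟩,
   ⟨0,1,-1,1,-3,0,0,0⟩,
   ⟨0,1,-1,1,-3,0,2,0⟩,
   ⟨0,1,-1,1,-1,0,-2,0⟩,
   ⟨0,1,-1,1,-1,0,-2,2⟩,
   ⟨0,1,-1,1,-1,0,0,-2⟩,
   ⟨0,1,-1,1,-1,0,0,0⟩,
   ⟨0,1,-1,1,-1,0,0,2⟩,
   ⟨0,1,-1,1,-1,0,2,-2⟩,
   ⟨0,1,-1,1,-1,0,2,0⟩,
   ⟨0,1,-1,1,-1,2,-2,0⟩,
   ⟨0,1,-1,1,-1,2,0,0⟩,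
   ⟨0,1,-1,1,-1,2,2,0⟩,
   ⟨0,1,-1,1,1,-2,-2,0⟩,
   ⟨0,1,-1,1,1,-2,0,0⟩,
   ⟨0,1,-1,1,1,-2,2,0⟩,
   ⟨0,1,-1,1,1,0,-2,0⟩,
   ⟨0,1,-1,1,1,0,-2,2⟩,
   ⟨0,1,-1,1,1,0,0,-2⟩,
   ⟨0,1,-1,1,1,0,0,0⟩,
   ⟨0,1,-1,1,1,0,0,2⟩,
   ⟨0,1,-1,1,1,0,2,-2⟩,
   ⟨0,1,-1,1,1,0,2,0⟩,
   ⟨0,1,-1,1,3,0,-2,0⟩,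
   ⟨0,1,-1,1,3,0,0,0⟩,
   ⟨0,1,-1,1,3,0,2,0⟩,
   ⟨0,1,1,-1,-3,0,-2,0⟩,
   ⟨0,1,1,-1,-3,0,0,0⟩,
   ⟨0,1,1,-1,-3,0,2,0⟩,
   ⟨0,1,1,-1,-1,0,-2,0⟩,
   ⟨0,1,1,-1,-1,0,-2,2⟩,
   ⟨0,1,1,-1,-1,0,0,-2⟩,
   ⟨0,1,1,-1,-1,0,0,0⟩,
   ⟨0,1,1,-1,-1,0,0,2⟩,
   ⟨0,1,1,-1,-1,0,2,-2⟩,
   ⟨0,1,1,-1,-1,0,2,0⟩,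
   ⟨0,1,1,-1,-1,2,-2,0⟩,
   ⟨0,1,1,-1,-1,2,0,0⟩,
   ⟨0,1,1,-1,-1,2,2,0⟩,
   ⟨0,1,1,-1,1,-2,-2,0⟩,
   ⟨0,1,1,-1,1,-2,0,0⟩,
   ⟨0,1,1,-1,1,-2,2,0⟩,
   ⟨0,1,1,-1,1,0,-2,0⟩,
   ⟨0,1,1,-1,1,0,-2,2⟩,
   ⟨0,1,1,-1,1,0,0,-2⟩,
   ⟨0,1,1,-1,1,0,0,0⟩,
   ⟨0,1,1,-1,1,0,0,2⟩,
   ⟨0,1,1,-1,1,0,2,-2⟩,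
   ⟨0,1,1,-1,1,0,2,0⟩,
   ⟨0,1,1,-1,3,0,-2,0⟩,
   ⟨0,1,1,-1,3,0,0,0⟩,
   ⟨0,1,1,-1,3,0,2,0⟩,
   ⟨0,1,1,1,-1,0,-2,0⟩,
   ⟨0,1,1,1,-1,0,-2,2⟩,
   ⟨0,1,1,1,-1,0,0,0⟩,
   ⟨0,1,1,1,-1,0,2,-2⟩,
   ⟨0,1,1,1,-1,0,2,0⟩,
   ⟨0,1,1,1,-1,2,-2,2⟩,
   ⟨0,1,1,1,-1,2,0,0⟩,
   ⟨0,1,1,1,-1,2,2,-2⟩,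
   ⟨0,1,1,1,1,-2,-2,2⟩,
   ⟨0,1,1,1,1,-2,0,0⟩,
   ⟨0,1,1,1,1,-2,2,-2⟩,
   ⟨0,1,1,1,1,0,-2,0⟩,
   ⟨0,1,1,1,1,0,-2,2⟩,
   ⟨0,1,1,1,1,0,0,0⟩,
   ⟨0,1,1,1,1,0,2,-2⟩,
   ⟨0,1,1,1,1,0,2,0⟩,
   ⟨0,1,3,-1,-1,0,0,-2⟩,
   ⟨0,1,3,-1,-1,0,0,0⟩,
   ⟨0,1,3,-1,-1,0,0,2⟩,
   ⟨0,1,3,-1,1,0,0,-2⟩,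
   ⟨0,1,3,-1,1,0,0,0⟩,
   ⟨0,1,3,-1,1,0,0,2⟩,
   ⟨2,-3,-1,-1,-1,0,0,0⟩,
   ⟨2,-3,-1,-1,1,0,0,0⟩,
   ⟨2,-3,1,1,-1,0,0,0⟩,
   ⟨2,-3,1,1,1,0,0,0⟩,
   ⟨2,-1,-1,-1,-3,0,0,0⟩,
   ⟨2,-1,-1,-1,-1,0,-2,0⟩,
   ⟨2,-1,-1,-1,-1,0,0,0⟩,
   ⟨2,-1,-1,-1,-1,0,2,0⟩,
   ⟨2,-1,-1,-1,-1,2,-2,0⟩,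
   ⟨2,-1,-1,-1,-1,2,0,0⟩,
   ⟨2,-1,-1,-1,-1,2,2,0⟩,
   ⟨2,-1,-1,-1,1,-2,-2,0⟩,
   ⟨2,-1,-1,-1,1,-2,0,0⟩,
   ⟨2,-1,-1,-1,1,-2,2,0⟩,
   ⟨2,-1,-1,-1,1,0,-2,0⟩,
   ⟨2,-1,-1,-1,1,0,0,0⟩,
   ⟨2,-1,-1,-1,1,0,2,0⟩,
   ⟨2,-1,-1,-1,3,0,0,0⟩,
   ⟨2,-1,-1,1,-1,0,-2,0⟩,
   ⟨2,-1,-1,1,-1,0,0,-2⟩,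
   ⟨2,-1,-1,1,-1,0,0,0⟩,
   ⟨2,-1,-1,1,-1,0,0,2⟩,
   ⟨2,-1,-1,1,-1,0,2,0⟩,
   ⟨2,-1,-1,1,-1,2,0,-2⟩]

def shortChunk1_2 : List Q :=
  [⟨2,-1,-1,1,-1,2,0,0⟩,
   ⟨2,-1,-1,1,-1,2,0,2⟩,
   ⟨2,-1,-1,1,1,-2,0,-2⟩,
   ⟨2,-1,-1,1,1,-2,0,0⟩,
   ⟨2,-1,-1,1,1,-2,0,2⟩,
   ⟨2,-1,-1,1,1,0,-2,0⟩,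
   ⟨2,-1,-1,1,1,0,0,-2⟩,
   ⟨2,-1,-1,1,1,0,0,0⟩,
   ⟨2,-1,-1,1,1,0,0,2⟩,
   ⟨2,-1,-1,1,1,0,2,0⟩,
   ⟨2,-1,-1,3,-1,0,0,0⟩,
   ⟨2,-1,-1,3,1,0,0,0⟩,
   ⟨2,-1,1,-3,-1,0,0,0⟩,
   ⟨2,-1,1,-3,1,0,0,0⟩,
   ⟨2,-1,1,-1,-1,0,-2,0⟩,
   ⟨2,-1,1,-1,-1,0,0,-2⟩,
   ⟨2,-1,1,-1,-1,0,0,0⟩,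
   ⟨2,-1,1,-1,-1,0,0,2⟩,
   ⟨2,-1,1,-1,-1,0,2,0⟩,
   ⟨2,-1,1,-1,-1,2,0,-2⟩,
   ⟨2,-1,1,-1,-1,2,0,0⟩,
   ⟨2,-1,1,-1,-1,2,0,2⟩,
   ⟨2,-1,1,-1,1,-2,0,-2⟩,
   ⟨2,-1,1,-1,1,-2,0,0⟩,
   ⟨2,-1,1,-1,1,-2,0,2⟩,
   ⟨2,-1,1,-1,1,0,-2,0⟩,
   ⟨2,-1,1,-1,1,0,0,-2⟩,
   ⟨2,-1,1,-1,1,0,0,0⟩,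
   ⟨2,-1,1,-1,1,0,0,2⟩,
   ⟨2,-1,1,-1,1,0,2,0⟩,
   ⟨2,-1,1,1,-3,0,0,0⟩,
   ⟨2,-1,1,1,-1,0,-2,0⟩,
   ⟨2,-1,1,1,-1,0,0,0⟩,
   ⟨2,-1,1,1,-1,0,2,0⟩,
   ⟨2,-1,1,1,-1,2,-2,0⟩,
   ⟨2,-1,1,1,-1,2,0,0⟩,
   ⟨2,-1,1,1,-1,2,2,0⟩,
   ⟨2,-1,1,1,1,-2,-2,0⟩,
   ⟨2,-1,1,1,1,-2,0,0⟩,
   ⟨2,-1,1,1,1,-2,2,0⟩,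
   ⟨2,-1,1,1,1,0,-2,0⟩,
   ⟨2,-1,1,1,1,0,0,0⟩,
   ⟨2,-1,1,1,1,0,2,0⟩,
   ⟨2,-1,1,1,3,0,0,0⟩,
   ⟨2,1,-3,1,-1,0,0,0⟩,
   ⟨2,1,-3,1,1,0,0,0⟩,
   ⟨2,1,-1,1,-1,0,-2,2⟩,
   ⟨2,1,-1,1,-1,0,0,0⟩,
   ⟨2,1,-1,1,-1,0,2,-2⟩,
   ⟨2,1,-1,1,1,0,-2,2⟩,
   ⟨2,1,-1,1,1,0,0,0⟩,
   ⟨2,1,-1,1,1,0,2,-2⟩,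
   ⟨2,1,1,-1,-1,0,-2,2⟩,
   ⟨2,1,1,-1,-1,0,0,0⟩,
   ⟨2,1,1,-1,-1,0,2,-2⟩,
   ⟨2,1,1,-1,1,0,-2,2⟩,
   ⟨2,1,1,-1,1,0,0,0⟩,
   ⟨2,1,1,-1,1,0,2,-2⟩,
   ⟨2,1,3,-1,-1,0,0,0⟩,
   ⟨2,1,3,-1,1,0,0,0⟩]

/-- the short elements of parity class 1 -/
def shortData1 : List Q := shortChunk1_0 ++ shortChunk1_1 ++ shortChunk1_2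

def shortChunk2_0 : List Q :=
  [⟨-3,1,-1,0,-2,-1,0,0⟩,
   ⟨-3,1,-1,0,0,-1,0,-2⟩,
   ⟨-3,1,-1,0,0,-1,0,0⟩,
   ⟨-3,1,-1,0,0,-1,0,2⟩,
   ⟨-3,1,-1,0,0,1,0,-2⟩,
   ⟨-3,1,-1,0,0,1,0,0⟩,
   ⟨-3,1,-1,0,0,1,0,2⟩,
   ⟨-3,1,-1,0,2,1,0,0⟩,
   ⟨-3,1,1,0,-2,-1,0,0⟩,
   ⟨-3,1,1,0,0,-1,0,-2⟩,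
   ⟨-3,1,1,0,0,-1,0,0⟩,
   ⟨-3,1,1,0,0,-1,0,2⟩,
   ⟨-3,1,1,0,0,1,0,-2⟩,
   ⟨-3,1,1,0,0,1,0,0⟩,
   ⟨-3,1,1,0,0,1,0,2⟩,
   ⟨-3,1,1,0,2,1,0,0⟩,
   ⟨-1,-1,-3,0,-2,1,0,0⟩,
   ⟨-1,-1,-3,0,2,-1,0,0⟩,
   ⟨-1,-1,-1,0,-2,1,-2,0⟩,
   ⟨-1,-1,-1,0,-2,1,0,0⟩,
   ⟨-1,-1,-1,0,-2,1,2,0⟩,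
   ⟨-1,-1,-1,0,-2,3,0,0⟩,
   ⟨-1,-1,-1,0,0,-1,-2,0⟩,
   ⟨-1,-1,-1,0,0,-1,-2,2⟩,
   ⟨-1,-1,-1,0,0,-1,0,0⟩,
   ⟨-1,-1,-1,0,0,-1,2,-2⟩,
   ⟨-1,-1,-1,0,0,-1,2,0⟩,
   ⟨-1,-1,-1,0,0,1,-2,0⟩,
   ⟨-1,-1,-1,0,0,1,-2,2⟩,
   ⟨-1,-1,-1,0,0,1,0,0⟩,
   ⟨-1,-1,-1,0,0,1,2,-2⟩,
   ⟨-1,-1,-1,0,0,1,2,0⟩,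
   ⟨-1,-1,-1,0,2,-3,0,0⟩,
   ⟨-1,-1,-1,0,2,-1,-2,0⟩,
   ⟨-1,-1,-1,0,2,-1,0,0⟩,
   ⟨-1,-1,-1,0,2,-1,2,0⟩,
   ⟨-1,-1,-1,2,-2,1,-2,0⟩,
   ⟨-1,-1,-1,2,-2,1,0,0⟩,
   ⟨-1,-1,-1,2,-2,1,2,0⟩,
   ⟨-1,-1,-1,2,0,-1,-2,2⟩,
   ⟨-1,-1,-1,2,0,-1,0,0⟩,
   ⟨-1,-1,-1,2,0,-1,2,-2⟩,
   ⟨-1,-1,-1,2,0,1,-2,2⟩,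
   ⟨-1,-1,-1,2,0,1,0,0⟩,
   ⟨-1,-1,-1,2,0,1,2,-2⟩,
   ⟨-1,-1,-1,2,2,-1,-2,0⟩,
   ⟨-1,-1,-1,2,2,-1,0,0⟩,
   ⟨-1,-1,-1,2,2,-1,2,0⟩,
   ⟨-1,-1,1,-2,-2,1,-2,0⟩,
   ⟨-1,-1,1,-2,-2,1,0,0⟩,
   ⟨-1,-1,1,-2,-2,1,2,0⟩,
   ⟨-1,-1,1,-2,0,-1,-2,2⟩,
   ⟨-1,-1,1,-2,0,-1,0,0⟩,
   ⟨-1,-1,1,-2,0,-1,2,-2⟩,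
   ⟨-1,-1,1,-2,0,1,-2,2⟩,
   ⟨-1,-1,1,-2,0,1,0,0⟩,
   ⟨-1,-1,1,-2,0,1,2,-2⟩,
   ⟨-1,-1,1,-2,2,-1,-2,0⟩,
   ⟨-1,-1,1,-2,2,-1,0,0⟩,
   ⟨-1,-1,1,-2,2,-1,2,0⟩,
   ⟨-1,-1,1,0,-2,1,-2,0⟩,
   ⟨-1,-1,1,0,-2,1,0,0⟩,
   ⟨-1,-1,1,0,-2,1,2,0⟩,
   ⟨-1,-1,1,0,-2,3,0,0⟩,
   ⟨-1,-1,1,0,0,-1,-2,0⟩,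
   ⟨-1,-1,1,0,0,-1,-2,2⟩,
   ⟨-1,-1,1,0,0,-1,0,0⟩,
   ⟨-1,-1,1,0,0,-1,2,-2⟩,
   ⟨-1,-1,1,0,0,-1,2,0⟩,
   ⟨-1,-1,1,0,0,1,-2,0⟩,
   ⟨-1,-1,1,0,0,1,-2,2⟩,
   ⟨-1,-1,1,0,0,1,0,0⟩,
   ⟨-1,-1,1,0,0,1,2,-2⟩,
   ⟨-1,-1,1,0,0,1,2,0⟩,
   ⟨-1,-1,1,0,2,-3,0,0⟩,
   ⟨-1,-1,1,0,2,-1,-2,0⟩,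
   ⟨-1,-1,1,0,2,-1,0,0⟩,
   ⟨-1,-1,1,0,2,-1,2,0⟩,
   ⟨-1,-1,3,0,-2,1,0,0⟩,
   ⟨-1,-1,3,0,2,-1,0,0⟩,
   ⟨-1,1,-3,0,0,-1,-2,0⟩,
   ⟨-1,1,-3,0,0,-1,0,0⟩,
   ⟨-1,1,-3,0,0,-1,2,0⟩,
   ⟨-1,1,-3,0,0,1,-2,0⟩,
   ⟨-1,1,-3,0,0,1,0,0⟩,
   ⟨-1,1,-3,0,0,1,2,0⟩,
   ⟨-1,1,-1,0,-2,-1,-2,2⟩,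
   ⟨-1,1,-1,0,-2,-1,0,0⟩,
   ⟨-1,1,-1,0,-2,-1,2,-2⟩,
   ⟨-1,1,-1,0,-2,1,-2,0⟩,
   ⟨-1,1,-1,0,-2,1,0,-2⟩,
   ⟨-1,1,-1,0,-2,1,0,0⟩,
   ⟨-1,1,-1,0,-2,1,0,2⟩,
   ⟨-1,1,-1,0,-2,1,2,0⟩,
   ⟨-1,1,-1,0,0,-1,-2,0⟩,
   ⟨-1,1,-1,0,0,-1,-2,2⟩,
   ⟨-1,1,-1,0,0,-1,0,-2⟩,
   ⟨-1,1,-1,0,0,-1,0,0⟩,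
   ⟨-1,1,-1,0,0,-1,0,2⟩,
   ⟨-1,1,-1,0,0,-1,2,-2⟩,
   ⟨-1,1,-1,0,0,-1,2,0⟩,
   ⟨-1,1,-1,0,0,1,-2,0⟩,
   ⟨-1,1,-1,0,0,1,-2,2⟩,
   ⟨-1,1,-1,0,0,1,0,-2⟩,
   ⟨-1,1,-1,0,0,1,0,0⟩,
   ⟨-1,1,-1,0,0,1,0,2⟩,
   ⟨-1,1,-1,0,0,1,2,-2⟩,
   ⟨-1,1,-1,0,0,1,2,0⟩,
   ⟨-1,1,-1,0,2,-1,-2,0⟩,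
   ⟨-1,1,-1,0,2,-1,0,-2⟩,
   ⟨-1,1,-1,0,2,-1,0,0⟩,
   ⟨-1,1,-1,0,2,-1,0,2⟩,
   ⟨-1,1,-1,0,2,-1,2,0⟩,
   ⟨-1,1,-1,0,2,1,-2,2⟩,
   ⟨-1,1,-1,0,2,1,0,0⟩,
   ⟨-1,1,-1,0,2,1,2,-2⟩,
   ⟨-1,1,-1,2,-2,1,0,-2⟩,
   ⟨-1,1,-1,2,-2,1,0,0⟩,
   ⟨-1,1,-1,2,-2,1,0,2⟩,
   ⟨-1,1,-1,2,0,-1,-2,0⟩,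
   ⟨-1,1,-1,2,0,-1,0,0⟩,
   ⟨-1,1,-1,2,0,-1,2,0⟩,
   ⟨-1,1,-1,2,0,1,-2,0⟩,
   ⟨-1,1,-1,2,0,1,0,0⟩,
   ⟨-1,1,-1,2,0,1,2,0⟩,
   ⟨-1,1,-1,2,2,-1,0,-2⟩,
   ⟨-1,1,-1,2,2,-1,0,0⟩,
   ⟨-1,1,-1,2,2,-1,0,2⟩,
   ⟨-1,1,1,-2,-2,1,0,-2⟩,
   ⟨-1,1,1,-2,-2,1,0,0⟩,
   ⟨-1,1,1,-2,-2,1,0,2⟩,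
   ⟨-1,1,1,-2,0,-1,-2,0⟩,
   ⟨-1,1,1,-2,0,-1,0,0⟩,
   ⟨-1,1,1,-2,0,-1,2,0⟩,
   ⟨-1,1,1,-2,0,1,-2,0⟩,
   ⟨-1,1,1,-2,0,1,0,0⟩,
   ⟨-1,1,1,-2,0,1,2,0⟩,
   ⟨-1,1,1,-2,2,-1,0,-2⟩,
   ⟨-1,1,1,-2,2,-1,0,0⟩,
   ⟨-1,1,1,-2,2,-1,0,2⟩,
   ⟨-1,1,1,0,-2,-1,-2,2⟩,
   ⟨-1,1,1,0,-2,-1,0,0⟩,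
   ⟨-1,1,1,0,-2,-1,2,-2⟩,
   ⟨-1,1,1,0,-2,1,-2,0⟩,
   ⟨-1,1,1,0,-2,1,0,-2⟩,
   ⟨-1,1,1,0,-2,1,0,0⟩,
   ⟨-1,1,1,0,-2,1,0,2⟩,
   ⟨-1,1,1,0,-2,1,2,0⟩,
   ⟨-1,1,1,0,0,-1,-2,0⟩,
   ⟨-1,1,1,0,0,-1,-2,2⟩]

def shortChunk2_1 : List Q :=
  [⟨-1,1,1,0,0,-1,0,-2⟩,
   ⟨-1,1,1,0,0,-1,0,0⟩,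
   ⟨-1,1,1,0,0,-1,0,2⟩,
   ⟨-1,1,1,0,0,-1,2,-2⟩,
   ⟨-1,1,1,0,0,-1,2,0⟩,
   ⟨-1,1,1,0,0,1,-2,0⟩,
   ⟨-1,1,1,0,0,1,-2,2⟩,
   ⟨-1,1,1,0,0,1,0,-2⟩,
   ⟨-1,1,1,0,0,1,0,0⟩,
   ⟨-1,1,1,0,0,1,0,2⟩,
   ⟨-1,1,1,0,0,1,2,-2⟩,
   ⟨-1,1,1,0,0,1,2,0⟩,
   ⟨-1,1,1,0,2,-1,-2,0⟩,
   ⟨-1,1,1,0,2,-1,0,-2⟩,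
   ⟨-1,1,1,0,2,-1,0,0⟩,
   ⟨-1,1,1,0,2,-1,0,2⟩,
   ⟨-1,1,1,0,2,-1,2,0⟩,
   ⟨-1,1,1,0,2,1,-2,2⟩,
   ⟨-1,1,1,0,2,1,0,0⟩,
   ⟨-1,1,1,0,2,1,2,-2⟩,
   ⟨-1,1,3,0,0,-1,-2,0⟩,
   ⟨-1,1,3,0,0,-1,0,0⟩,
   ⟨-1,1,3,0,0,-1,2,0⟩,
   ⟨-1,1,3,0,0,1,-2,0⟩,
   ⟨-1,1,3,0,0,1,0,0⟩,
   ⟨-1,1,3,0,0,1,2,0⟩,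
   ⟨-1,3,-1,0,-2,1,0,0⟩,
   ⟨-1,3,-1,0,2,-1,0,0⟩,
   ⟨-1,3,1,0,-2,1,0,0⟩,
   ⟨-1,3,1,0,2,-1,0,0⟩,
   ⟨1,-3,-1,0,-2,1,0,0⟩,
   ⟨1,-3,-1,0,2,-1,0,0⟩,
   ⟨1,-3,1,0,-2,1,0,0⟩,
   ⟨1,-3,1,0,2,-1,0,0⟩,
   ⟨1,-1,-3,0,0,-1,-2,0⟩,
   ⟨1,-1,-3,0,0,-1,0,0⟩,
   ⟨1,-1,-3,0,0,-1,2,0⟩,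
   ⟨1,-1,-3,0,0,1,-2,0⟩,
   ⟨1,-1,-3,0,0,1,0,0⟩,
   ⟨1,-1,-3,0,0,1,2,0⟩,
   ⟨1,-1,-1,0,-2,-1,-2,2⟩,
   ⟨1,-1,-1,0,-2,-1,0,0⟩,
   ⟨1,-1,-1,0,-2,-1,2,-2⟩,
   ⟨1,-1,-1,0,-2,1,-2,0⟩,
   ⟨1,-1,-1,0,-2,1,0,-2⟩,
   ⟨1,-1,-1,0,-2,1,0,0⟩,
   ⟨1,-1,-1,0,-2,1,0,2⟩,
   ⟨1,-1,-1,0,-2,1,2,0⟩,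
   ⟨1,-1,-1,0,0,-1,-2,0⟩,
   ⟨1,-1,-1,0,0,-1,-2,2⟩,
   ⟨1,-1,-1,0,0,-1,0,-2⟩,
   ⟨1,-1,-1,0,0,-1,0,0⟩,
   ⟨1,-1,-1,0,0,-1,0,2⟩,
   ⟨1,-1,-1,0,0,-1,2,-2⟩,
   ⟨1,-1,-1,0,0,-1,2,0⟩,
   ⟨1,-1,-1,0,0,1,-2,0⟩,
   ⟨1,-1,-1,0,0,1,-2,2⟩,
   ⟨1,-1,-1,0,0,1,0,-2⟩,
   ⟨1,-1,-1,0,0,1,0,0⟩,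
   ⟨1,-1,-1,0,0,1,0,2⟩,
   ⟨1,-1,-1,0,0,1,2,-2⟩,
   ⟨1,-1,-1,0,0,1,2,0⟩,
   ⟨1,-1,-1,0,2,-1,-2,0⟩,
   ⟨1,-1,-1,0,2,-1,0,-2⟩,
   ⟨1,-1,-1,0,2,-1,0,0⟩,
   ⟨1,-1,-1,0,2,-1,0,2⟩,
   ⟨1,-1,-1,0,2,-1,2,0⟩,
   ⟨1,-1,-1,0,2,1,-2,2⟩,
   ⟨1,-1,-1,0,2,1,0,0⟩,
   ⟨1,-1,-1,0,2,1,2,-2⟩,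
   ⟨1,-1,-1,2,-2,1,0,-2⟩,
   ⟨1,-1,-1,2,-2,1,0,0⟩,
   ⟨1,-1,-1,2,-2,1,0,2⟩,
   ⟨1,-1,-1,2,0,-1,-2,0⟩,
   ⟨1,-1,-1,2,0,-1,0,0⟩,
   ⟨1,-1,-1,2,0,-1,2,0⟩,
   ⟨1,-1,-1,2,0,1,-2,0⟩,
   ⟨1,-1,-1,2,0,1,0,0⟩,
   ⟨1,-1,-1,2,0,1,2,0⟩,
   ⟨1,-1,-1,2,2,-1,0,-2⟩,
   ⟨1,-1,-1,2,2,-1,0,0⟩,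
   ⟨1,-1,-1,2,2,-1,0,2⟩,
   ⟨1,-1,1,-2,-2,1,0,-2⟩,
   ⟨1,-1,1,-2,-2,1,0,0⟩,
   ⟨1,-1,1,-2,-2,1,0,2⟩,
   ⟨1,-1,1,-2,0,-1,-2,0⟩,
   ⟨1,-1,1,-2,0,-1,0,0⟩,
   ⟨1,-1,1,-2,0,-1,2,0⟩,
   ⟨1,-1,1,-2,0,1,-2,0⟩,
   ⟨1,-1,1,-2,0,1,0,0⟩,
   ⟨1,-1,1,-2,0,1,2,0⟩,
   ⟨1,-1,1,-2,2,-1,0,-2⟩,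
   ⟨1,-1,1,-2,2,-1,0,0⟩,
   ⟨1,-1,1,-2,2,-1,0,2⟩,
   ⟨1,-1,1,0,-2,-1,-2,2⟩,
   ⟨1,-1,1,0,-2,-1,0,0⟩,
   ⟨1,-1,1,0,-2,-1,2,-2⟩,
   ⟨1,-1,1,0,-2,1,-2,0⟩,
   ⟨1,-1,1,0,-2,1,0,-2⟩,
   ⟨1,-1,1,0,-2,1,0,0⟩,
   ⟨1,-1,1,0,-2,1,0,2⟩,
   ⟨1,-1,1,0,-2,1,2,0⟩,
   ⟨1,-1,1,0,0,-1,-2,0⟩,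
   ⟨1,-1,1,0,0,-1,-2,2⟩,
   ⟨1,-1,1,0,0,-1,0,-2⟩,
   ⟨1,-1,1,0,0,-1,0,0⟩,
   ⟨1,-1,1,0,0,-1,0,2⟩,
   ⟨1,-1,1,0,0,-1,2,-2⟩,
   ⟨1,-1,1,0,0,-1,2,0⟩,
   ⟨1,-1,1,0,0,1,-2,0⟩,
   ⟨1,-1,1,0,0,1,-2,2⟩,
   ⟨1,-1,1,0,0,1,0,-2⟩,
   ⟨1,-1,1,0,0,1,0,0⟩,
   ⟨1,-1,1,0,0,1,0,2⟩,
   ⟨1,-1,1,0,0,1,2,-2⟩,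
   ⟨1,-1,1,0,0,1,2,0⟩,
   ⟨1,-1,1,0,2,-1,-2,0⟩,
   ⟨1,-1,1,0,2,-1,0,-2⟩,
   ⟨1,-1,1,0,2,-1,0,0⟩,
   ⟨1,-1,1,0,2,-1,0,2⟩,
   ⟨1,-1,1,0,2,-1,2,0⟩,
   ⟨1,-1,1,0,2,1,-2,2⟩,
   ⟨1,-1,1,0,2,1,0,0⟩,
   ⟨1,-1,1,0,2,1,2,-2⟩,
   ⟨1,-1,3,0,0,-1,-2,0⟩,
   ⟨1,-1,3,0,0,-1,0,0⟩,
   ⟨1,-1,3,0,0,-1,2,0⟩,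
   ⟨1,-1,3,0,0,1,-2,0⟩,
   ⟨1,-1,3,0,0,1,0,0⟩,
   ⟨1,-1,3,0,0,1,2,0⟩,
   ⟨1,1,-3,0,-2,1,0,0⟩,
   ⟨1,1,-3,0,2,-1,0,0⟩,
   ⟨1,1,-1,0,-2,1,-2,0⟩,
   ⟨1,1,-1,0,-2,1,0,0⟩,
   ⟨1,1,-1,0,-2,1,2,0⟩,
   ⟨1,1,-1,0,-2,3,0,0⟩,
   ⟨1,1,-1,0,0,-1,-2,0⟩,
   ⟨1,1,-1,0,0,-1,-2,2⟩,
   ⟨1,1,-1,0,0,-1,0,0⟩,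
   ⟨1,1,-1,0,0,-1,2,-2⟩,
   ⟨1,1,-1,0,0,-1,2,0⟩,
   ⟨1,1,-1,0,0,1,-2,0⟩,
   ⟨1,1,-1,0,0,1,-2,2⟩,
   ⟨1,1,-1,0,0,1,0,0⟩,
   ⟨1,1,-1,0,0,1,2,-2⟩,
   ⟨1,1,-1,0,0,1,2,0⟩,
   ⟨1,1,-1,0,2,-3,0,0⟩,
   ⟨1,1,-1,0,2,-1,-2,0⟩,
   ⟨1,1,-1,0,2,-1,0,0⟩,
   ⟨1,1,-1,0,2,-1,2,0⟩]

def shortChunk2_2 : List Q :=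
  [⟨1,1,-1,2,-2,1,-2,0⟩,
   ⟨1,1,-1,2,-2,1,0,0⟩,
   ⟨1,1,-1,2,-2,1,2,0⟩,
   ⟨1,1,-1,2,0,-1,-2,2⟩,
   ⟨1,1,-1,2,0,-1,0,0⟩,
   ⟨1,1,-1,2,0,-1,2,-2⟩,
   ⟨1,1,-1,2,0,1,-2,2⟩,
   ⟨1,1,-1,2,0,1,0,0⟩,
   ⟨1,1,-1,2,0,1,2,-2⟩,
   ⟨1,1,-1,2,2,-1,-2,0⟩,
   ⟨1,1,-1,2,2,-1,0,0⟩,
   ⟨1,1,-1,2,2,-1,2,0⟩,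
   ⟨1,1,1,-2,-2,1,-2,0⟩,
   ⟨1,1,1,-2,-2,1,0,0⟩,
   ⟨1,1,1,-2,-2,1,2,0⟩,
   ⟨1,1,1,-2,0,-1,-2,2⟩,
   ⟨1,1,1,-2,0,-1,0,0⟩,
   ⟨1,1,1,-2,0,-1,2,-2⟩,
   ⟨1,1,1,-2,0,1,-2,2⟩,
   ⟨1,1,1,-2,0,1,0,0⟩,
   ⟨1,1,1,-2,0,1,2,-2⟩,
   ⟨1,1,1,-2,2,-1,-2,0⟩,
   ⟨1,1,1,-2,2,-1,0,0⟩,
   ⟨1,1,1,-2,2,-1,2,0⟩,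
   ⟨1,1,1,0,-2,1,-2,0⟩,
   ⟨1,1,1,0,-2,1,0,0⟩,
   ⟨1,1,1,0,-2,1,2,0⟩,
   ⟨1,1,1,0,-2,3,0,0⟩,
   ⟨1,1,1,0,0,-1,-2,0⟩,
   ⟨1,1,1,0,0,-1,-2,2⟩,
   ⟨1,1,1,0,0,-1,0,0⟩,
   ⟨1,1,1,0,0,-1,2,-2⟩,
   ⟨1,1,1,0,0,-1,2,0⟩,
   ⟨1,1,1,0,0,1,-2,0⟩,
   ⟨1,1,1,0,0,1,-2,2⟩,
   ⟨1,1,1,0,0,1,0,0⟩,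
   ⟨1,1,1,0,0,1,2,-2⟩,
   ⟨1,1,1,0,0,1,2,0⟩,
   ⟨1,1,1,0,2,-3,0,0⟩,
   ⟨1,1,1,0,2,-1,-2,0⟩,
   ⟨1,1,1,0,2,-1,0,0⟩,
   ⟨1,1,1,0,2,-1,2,0⟩,
   ⟨1,1,3,0,-2,1,0,0⟩,
   ⟨1,1,3,0,2,-1,0,0⟩,
   ⟨3,-1,-1,0,-2,-1,0,0⟩,
   ⟨3,-1,-1,0,0,-1,0,-2⟩,
   ⟨3,-1,-1,0,0,-1,0,0⟩,
   ⟨3,-1,-1,0,0,-1,0,2⟩,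
   ⟨3,-1,-1,0,0,1,0,-2⟩,
   ⟨3,-1,-1,0,0,1,0,0⟩,
   ⟨3,-1,-1,0,0,1,0,2⟩,
   ⟨3,-1,-1,0,2,1,0,0⟩,
   ⟨3,-1,1,0,-2,-1,0,0⟩,
   ⟨3,-1,1,0,0,-1,0,-2⟩,
   ⟨3,-1,1,0,0,-1,0,0⟩,
   ⟨3,-1,1,0,0,-1,0,2⟩,
   ⟨3,-1,1,0,0,1,0,-2⟩,
   ⟨3,-1,1,0,0,1,0,0⟩,
   ⟨3,-1,1,0,0,1,0,2⟩,
   ⟨3,-1,1,0,2,1,0,0⟩]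

/-- the short elements of parity class 2 -/
def shortData2 : List Q := shortChunk2_0 ++ shortChunk2_1 ++ shortChunk2_2

def shortChunk3_0 : List Q :=
  [⟨-3,0,-2,1,-1,-1,0,0⟩,
   ⟨-3,0,-2,1,1,1,0,0⟩,
   ⟨-3,0,0,-1,-1,1,-2,0⟩,
   ⟨-3,0,0,-1,-1,1,0,0⟩,
   ⟨-3,0,0,-1,-1,1,2,0⟩,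
   ⟨-3,0,0,-1,1,-1,-2,0⟩,
   ⟨-3,0,0,-1,1,-1,0,0⟩,
   ⟨-3,0,0,-1,1,-1,2,0⟩,
   ⟨-3,0,0,1,-1,1,-2,0⟩,
   ⟨-3,0,0,1,-1,1,0,0⟩,
   ⟨-3,0,0,1,-1,1,2,0⟩,
   ⟨-3,0,0,1,1,-1,-2,0⟩,
   ⟨-3,0,0,1,1,-1,0,0⟩,
   ⟨-3,0,0,1,1,-1,2,0⟩,
   ⟨-3,0,2,-1,-1,-1,0,0⟩,
   ⟨-3,0,2,-1,1,1,0,0⟩,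
   ⟨-1,0,-2,-1,-3,1,0,0⟩,
   ⟨-1,0,-2,-1,-1,1,-2,2⟩,
   ⟨-1,0,-2,-1,-1,1,0,0⟩,
   ⟨-1,0,-2,-1,-1,1,2,-2⟩,
   ⟨-1,0,-2,-1,1,-1,-2,2⟩,
   ⟨-1,0,-2,-1,1,-1,0,0⟩,
   ⟨-1,0,-2,-1,1,-1,2,-2⟩,
   ⟨-1,0,-2,-1,3,-1,0,0⟩,
   ⟨-1,0,-2,1,-1,-1,-2,0⟩,
   ⟨-1,0,-2,1,-1,-1,0,0⟩,
   ⟨-1,0,-2,1,-1,-1,2,0⟩,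
   ⟨-1,0,-2,1,-1,1,-2,0⟩,
   ⟨-1,0,-2,1,-1,1,0,-2⟩,
   ⟨-1,0,-2,1,-1,1,0,0⟩,
   ⟨-1,0,-2,1,-1,1,0,2⟩,
   ⟨-1,0,-2,1,-1,1,2,0⟩,
   ⟨-1,0,-2,1,-1,3,0,0⟩,
   ⟨-1,0,-2,1,1,-3,0,0⟩,
   ⟨-1,0,-2,1,1,-1,-2,0⟩,
   ⟨-1,0,-2,1,1,-1,0,-2⟩,
   ⟨-1,0,-2,1,1,-1,0,0⟩,
   ⟨-1,0,-2,1,1,-1,0,2⟩,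
   ⟨-1,0,-2,1,1,-1,2,0⟩,
   ⟨-1,0,-2,1,1,1,-2,0⟩,
   ⟨-1,0,-2,1,1,1,0,0⟩,
   ⟨-1,0,-2,1,1,1,2,0⟩,
   ⟨-1,0,-2,3,-1,-1,0,0⟩,
   ⟨-1,0,-2,3,1,1,0,0⟩,
   ⟨-1,0,0,-1,-3,1,0,-2⟩,
   ⟨-1,0,0,-1,-3,1,0,0⟩,
   ⟨-1,0,0,-1,-3,1,0,2⟩,
   ⟨-1,0,0,-1,-1,-1,-2,0⟩,
   ⟨-1,0,0,-1,-1,-1,-2,2⟩,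
   ⟨-1,0,0,-1,-1,-1,0,0⟩,
   ⟨-1,0,0,-1,-1,-1,2,-2⟩,
   ⟨-1,0,0,-1,-1,-1,2,0⟩,
   ⟨-1,0,0,-1,-1,1,-2,0⟩,
   ⟨-1,0,0,-1,-1,1,-2,2⟩,
   ⟨-1,0,0,-1,-1,1,0,-2⟩,
   ⟨-1,0,0,-1,-1,1,0,0⟩,
   ⟨-1,0,0,-1,-1,1,0,2⟩,
   ⟨-1,0,0,-1,-1,1,2,-2⟩,
   ⟨-1,0,0,-1,-1,1,2,0⟩,
   ⟨-1,0,0,-1,1,-1,-2,0⟩,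
   ⟨-1,0,0,-1,1,-1,-2,2⟩,
   ⟨-1,0,0,-1,1,-1,0,-2⟩,
   ⟨-1,0,0,-1,1,-1,0,0⟩,
   ⟨-1,0,0,-1,1,-1,0,2⟩,
   ⟨-1,0,0,-1,1,-1,2,-2⟩,
   ⟨-1,0,0,-1,1,-1,2,0⟩,
   ⟨-1,0,0,-1,1,1,-2,0⟩,
   ⟨-1,0,0,-1,1,1,-2,2⟩,
   ⟨-1,0,0,-1,1,1,0,0⟩,
   ⟨-1,0,0,-1,1,1,2,-2⟩,
   ⟨-1,0,0,-1,1,1,2,0⟩,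
   ⟨-1,0,0,-1,3,-1,0,-2⟩,
   ⟨-1,0,0,-1,3,-1,0,0⟩,
   ⟨-1,0,0,-1,3,-1,0,2⟩,
   ⟨-1,0,0,1,-3,1,0,-2⟩,
   ⟨-1,0,0,1,-3,1,0,0⟩,
   ⟨-1,0,0,1,-3,1,0,2⟩,
   ⟨-1,0,0,1,-1,-1,-2,0⟩,
   ⟨-1,0,0,1,-1,-1,-2,2⟩,
   ⟨-1,0,0,1,-1,-1,0,0⟩,
   ⟨-1,0,0,1,-1,-1,2,-2⟩,
   ⟨-1,0,0,1,-1,-1,2,0⟩,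
   ⟨-1,0,0,1,-1,1,-2,0⟩,
   ⟨-1,0,0,1,-1,1,-2,2⟩,
   ⟨-1,0,0,1,-1,1,0,-2⟩,
   ⟨-1,0,0,1,-1,1,0,0⟩,
   ⟨-1,0,0,1,-1,1,0,2⟩,
   ⟨-1,0,0,1,-1,1,2,-2⟩,
   ⟨-1,0,0,1,-1,1,2,0⟩,
   ⟨-1,0,0,1,1,-1,-2,0⟩,
   ⟨-1,0,0,1,1,-1,-2,2⟩,
   ⟨-1,0,0,1,1,-1,0,-2⟩,
   ⟨-1,0,0,1,1,-1,0,0⟩,
   ⟨-1,0,0,1,1,-1,0,2⟩,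
   ⟨-1,0,0,1,1,-1,2,-2⟩,
   ⟨-1,0,0,1,1,-1,2,0⟩,
   ⟨-1,0,0,1,1,1,-2,0⟩,
   ⟨-1,0,0,1,1,1,-2,2⟩,
   ⟨-1,0,0,1,1,1,0,0⟩,
   ⟨-1,0,0,1,1,1,2,-2⟩,
   ⟨-1,0,0,1,1,1,2,0⟩,
   ⟨-1,0,0,1,3,-1,0,-2⟩,
   ⟨-1,0,0,1,3,-1,0,0⟩,
   ⟨-1,0,0,1,3,-1,0,2⟩,
   ⟨-1,0,2,-3,-1,-1,0,0⟩,
   ⟨-1,0,2,-3,1,1,0,0⟩,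
   ⟨-1,0,2,-1,-1,-1,-2,0⟩,
   ⟨-1,0,2,-1,-1,-1,0,0⟩,
   ⟨-1,0,2,-1,-1,-1,2,0⟩,
   ⟨-1,0,2,-1,-1,1,-2,0⟩,
   ⟨-1,0,2,-1,-1,1,0,-2⟩,
   ⟨-1,0,2,-1,-1,1,0,0⟩,
   ⟨-1,0,2,-1,-1,1,0,2⟩,
   ⟨-1,0,2,-1,-1,1,2,0⟩,
   ⟨-1,0,2,-1,-1,3,0,0⟩,
   ⟨-1,0,2,-1,1,-3,0,0⟩,
   ⟨-1,0,2,-1,1,-1,-2,0⟩,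
   ⟨-1,0,2,-1,1,-1,0,-2⟩,
   ⟨-1,0,2,-1,1,-1,0,0⟩,
   ⟨-1,0,2,-1,1,-1,0,2⟩,
   ⟨-1,0,2,-1,1,-1,2,0⟩,
   ⟨-1,0,2,-1,1,1,-2,0⟩,
   ⟨-1,0,2,-1,1,1,0,0⟩,
   ⟨-1,0,2,-1,1,1,2,0⟩,
   ⟨-1,0,2,1,-3,1,0,0⟩,
   ⟨-1,0,2,1,-1,1,-2,2⟩,
   ⟨-1,0,2,1,-1,1,0,0⟩,
   ⟨-1,0,2,1,-1,1,2,-2⟩,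
   ⟨-1,0,2,1,1,-1,-2,2⟩,
   ⟨-1,0,2,1,1,-1,0,0⟩,
   ⟨-1,0,2,1,1,-1,2,-2⟩,
   ⟨-1,0,2,1,3,-1,0,0⟩,
   ⟨-1,2,-2,1,-1,-1,-2,0⟩,
   ⟨-1,2,-2,1,-1,-1,0,0⟩,
   ⟨-1,2,-2,1,-1,-1,2,0⟩,
   ⟨-1,2,-2,1,-1,1,0,-2⟩,
   ⟨-1,2,-2,1,-1,1,0,0⟩,
   ⟨-1,2,-2,1,-1,1,0,2⟩,
   ⟨-1,2,-2,1,1,-1,0,-2⟩,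
   ⟨-1,2,-2,1,1,-1,0,0⟩,
   ⟨-1,2,-2,1,1,-1,0,2⟩,
   ⟨-1,2,-2,1,1,1,-2,0⟩,
   ⟨-1,2,-2,1,1,1,0,0⟩,
   ⟨-1,2,-2,1,1,1,2,0⟩,
   ⟨-1,2,0,-1,-1,-1,-2,2⟩,
   ⟨-1,2,0,-1,-1,-1,0,0⟩,
   ⟨-1,2,0,-1,-1,-1,2,-2⟩,
   ⟨-1,2,0,-1,-1,1,-2,0⟩,
   ⟨-1,2,0,-1,-1,1,0,0⟩,
   ⟨-1,2,0,-1,-1,1,2,0⟩]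

def shortChunk3_1 : List Q :=
  [⟨-1,2,0,-1,1,-1,-2,0⟩,
   ⟨-1,2,0,-1,1,-1,0,0⟩,
   ⟨-1,2,0,-1,1,-1,2,0⟩,
   ⟨-1,2,0,-1,1,1,-2,2⟩,
   ⟨-1,2,0,-1,1,1,0,0⟩,
   ⟨-1,2,0,-1,1,1,2,-2⟩,
   ⟨-1,2,0,1,-1,-1,-2,2⟩,
   ⟨-1,2,0,1,-1,-1,0,0⟩,
   ⟨-1,2,0,1,-1,-1,2,-2⟩,
   ⟨-1,2,0,1,-1,1,-2,0⟩,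
   ⟨-1,2,0,1,-1,1,0,0⟩,
   ⟨-1,2,0,1,-1,1,2,0⟩,
   ⟨-1,2,0,1,1,-1,-2,0⟩,
   ⟨-1,2,0,1,1,-1,0,0⟩,
   ⟨-1,2,0,1,1,-1,2,0⟩,
   ⟨-1,2,0,1,1,1,-2,2⟩,
   ⟨-1,2,0,1,1,1,0,0⟩,
   ⟨-1,2,0,1,1,1,2,-2⟩,
   ⟨-1,2,2,-1,-1,-1,-2,0⟩,
   ⟨-1,2,2,-1,-1,-1,0,0⟩,
   ⟨-1,2,2,-1,-1,-1,2,0⟩,
   ⟨-1,2,2,-1,-1,1,0,-2⟩,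
   ⟨-1,2,2,-1,-1,1,0,0⟩,
   ⟨-1,2,2,-1,-1,1,0,2⟩,
   ⟨-1,2,2,-1,1,-1,0,-2⟩,
   ⟨-1,2,2,-1,1,-1,0,0⟩,
   ⟨-1,2,2,-1,1,-1,0,2⟩,
   ⟨-1,2,2,-1,1,1,-2,0⟩,
   ⟨-1,2,2,-1,1,1,0,0⟩,
   ⟨-1,2,2,-1,1,1,2,0⟩,
   ⟨1,-2,-2,1,-1,-1,-2,0⟩,
   ⟨1,-2,-2,1,-1,-1,0,0⟩,
   ⟨1,-2,-2,1,-1,-1,2,0⟩,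
   ⟨1,-2,-2,1,-1,1,0,-2⟩,
   ⟨1,-2,-2,1,-1,1,0,0⟩,
   ⟨1,-2,-2,1,-1,1,0,2⟩,
   ⟨1,-2,-2,1,1,-1,0,-2⟩,
   ⟨1,-2,-2,1,1,-1,0,0⟩,
   ⟨1,-2,-2,1,1,-1,0,2⟩,
   ⟨1,-2,-2,1,1,1,-2,0⟩,
   ⟨1,-2,-2,1,1,1,0,0⟩,
   ⟨1,-2,-2,1,1,1,2,0⟩,
   ⟨1,-2,0,-1,-1,-1,-2,2⟩,
   ⟨1,-2,0,-1,-1,-1,0,0⟩,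
   ⟨1,-2,0,-1,-1,-1,2,-2⟩,
   ⟨1,-2,0,-1,-1,1,-2,0⟩,
   ⟨1,-2,0,-1,-1,1,0,0⟩,
   ⟨1,-2,0,-1,-1,1,2,0⟩,
   ⟨1,-2,0,-1,1,-1,-2,0⟩,
   ⟨1,-2,0,-1,1,-1,0,0⟩,
   ⟨1,-2,0,-1,1,-1,2,0⟩,
   ⟨1,-2,0,-1,1,1,-2,2⟩,
   ⟨1,-2,0,-1,1,1,0,0⟩,
   ⟨1,-2,0,-1,1,1,2,-2⟩,
   ⟨1,-2,0,1,-1,-1,-2,2⟩,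
   ⟨1,-2,0,1,-1,-1,0,0⟩,
   ⟨1,-2,0,1,-1,-1,2,-2⟩,
   ⟨1,-2,0,1,-1,1,-2,0⟩,
   ⟨1,-2,0,1,-1,1,0,0⟩,
   ⟨1,-2,0,1,-1,1,2,0⟩,
   ⟨1,-2,0,1,1,-1,-2,0⟩,
   ⟨1,-2,0,1,1,-1,0,0⟩,
   ⟨1,-2,0,1,1,-1,2,0⟩,
   ⟨1,-2,0,1,1,1,-2,2⟩,
   ⟨1,-2,0,1,1,1,0,0⟩,
   ⟨1,-2,0,1,1,1,2,-2⟩,
   ⟨1,-2,2,-1,-1,-1,-2,0⟩,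
   ⟨1,-2,2,-1,-1,-1,0,0⟩,
   ⟨1,-2,2,-1,-1,-1,2,0⟩,
   ⟨1,-2,2,-1,-1,1,0,-2⟩,
   ⟨1,-2,2,-1,-1,1,0,0⟩,
   ⟨1,-2,2,-1,-1,1,0,2⟩,
   ⟨1,-2,2,-1,1,-1,0,-2⟩,
   ⟨1,-2,2,-1,1,-1,0,0⟩,
   ⟨1,-2,2,-1,1,-1,0,2⟩,
   ⟨1,-2,2,-1,1,1,-2,0⟩,
   ⟨1,-2,2,-1,1,1,0,0⟩,
   ⟨1,-2,2,-1,1,1,2,0⟩,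
   ⟨1,0,-2,-1,-3,1,0,0⟩,
   ⟨1,0,-2,-1,-1,1,-2,2⟩,
   ⟨1,0,-2,-1,-1,1,0,0⟩,
   ⟨1,0,-2,-1,-1,1,2,-2⟩,
   ⟨1,0,-2,-1,1,-1,-2,2⟩,
   ⟨1,0,-2,-1,1,-1,0,0⟩,
   ⟨1,0,-2,-1,1,-1,2,-2⟩,
   ⟨1,0,-2,-1,3,-1,0,0⟩,
   ⟨1,0,-2,1,-1,-1,-2,0⟩,
   ⟨1,0,-2,1,-1,-1,0,0⟩,
   ⟨1,0,-2,1,-1,-1,2,0⟩,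
   ⟨1,0,-2,1,-1,1,-2,0⟩,
   ⟨1,0,-2,1,-1,1,0,-2⟩,
   ⟨1,0,-2,1,-1,1,0,0⟩,
   ⟨1,0,-2,1,-1,1,0,2⟩,
   ⟨1,0,-2,1,-1,1,2,0⟩,
   ⟨1,0,-2,1,-1,3,0,0⟩,
   ⟨1,0,-2,1,1,-3,0,0⟩,
   ⟨1,0,-2,1,1,-1,-2,0⟩,
   ⟨1,0,-2,1,1,-1,0,-2⟩,
   ⟨1,0,-2,1,1,-1,0,0⟩,
   ⟨1,0,-2,1,1,-1,0,2⟩,
   ⟨1,0,-2,1,1,-1,2,0⟩,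
   ⟨1,0,-2,1,1,1,-2,0⟩,
   ⟨1,0,-2,1,1,1,0,0⟩,
   ⟨1,0,-2,1,1,1,2,0⟩,
   ⟨1,0,-2,3,-1,-1,0,0⟩,
   ⟨1,0,-2,3,1,1,0,0⟩,
   ⟨1,0,0,-1,-3,1,0,-2⟩,
   ⟨1,0,0,-1,-3,1,0,0⟩,
   ⟨1,0,0,-1,-3,1,0,2⟩,
   ⟨1,0,0,-1,-1,-1,-2,0⟩,
   ⟨1,0,0,-1,-1,-1,-2,2⟩,
   ⟨1,0,0,-1,-1,-1,0,0⟩,
   ⟨1,0,0,-1,-1,-1,2,-2⟩,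
   ⟨1,0,0,-1,-1,-1,2,0⟩,
   ⟨1,0,0,-1,-1,1,-2,0⟩,
   ⟨1,0,0,-1,-1,1,-2,2⟩,
   ⟨1,0,0,-1,-1,1,0,-2⟩,
   ⟨1,0,0,-1,-1,1,0,0⟩,
   ⟨1,0,0,-1,-1,1,0,2⟩,
   ⟨1,0,0,-1,-1,1,2,-2⟩,
   ⟨1,0,0,-1,-1,1,2,0⟩,
   ⟨1,0,0,-1,1,-1,-2,0⟩,
   ⟨1,0,0,-1,1,-1,-2,2⟩,
   ⟨1,0,0,-1,1,-1,0,-2⟩,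
   ⟨1,0,0,-1,1,-1,0,0⟩,
   ⟨1,0,0,-1,1,-1,0,2⟩,
   ⟨1,0,0,-1,1,-1,2,-2⟩,
   ⟨1,0,0,-1,1,-1,2,0⟩,
   ⟨1,0,0,-1,1,1,-2,0⟩,
   ⟨1,0,0,-1,1,1,-2,2⟩,
   ⟨1,0,0,-1,1,1,0,0⟩,
   ⟨1,0,0,-1,1,1,2,-2⟩,
   ⟨1,0,0,-1,1,1,2,0⟩,
   ⟨1,0,0,-1,3,-1,0,-2⟩,
   ⟨1,0,0,-1,3,-1,0,0⟩,
   ⟨1,0,0,-1,3,-1,0,2⟩,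
   ⟨1,0,0,1,-3,1,0,-2⟩,
   ⟨1,0,0,1,-3,1,0,0⟩,
   ⟨1,0,0,1,-3,1,0,2⟩,
   ⟨1,0,0,1,-1,-1,-2,0⟩,
   ⟨1,0,0,1,-1,-1,-2,2⟩,
   ⟨1,0,0,1,-1,-1,0,0⟩,
   ⟨1,0,0,1,-1,-1,2,-2⟩,
   ⟨1,0,0,1,-1,-1,2,0⟩,
   ⟨1,0,0,1,-1,1,-2,0⟩,
   ⟨1,0,0,1,-1,1,-2,2⟩,
   ⟨1,0,0,1,-1,1,0,-2⟩,
   ⟨1,0,0,1,-1,1,0,0⟩,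
   ⟨1,0,0,1,-1,1,0,2⟩,
   ⟨1,0,0,1,-1,1,2,-2⟩]

def shortChunk3_2 : List Q :=
  [⟨1,0,0,1,-1,1,2,0⟩,
   ⟨1,0,0,1,1,-1,-2,0⟩,
   ⟨1,0,0,1,1,-1,-2,2⟩,
   ⟨1,0,0,1,1,-1,0,-2⟩,
   ⟨1,0,0,1,1,-1,0,0⟩,
   ⟨1,0,0,1,1,-1,0,2⟩,
   ⟨1,0,0,1,1,-1,2,-2⟩,
   ⟨1,0,0,1,1,-1,2,0⟩,
   ⟨1,0,0,1,1,1,-2,0⟩,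
   ⟨1,0,0,1,1,1,-2,2⟩,
   ⟨1,0,0,1,1,1,0,0⟩,
   ⟨1,0,0,1,1,1,2,-2⟩,
   ⟨1,0,0,1,1,1,2,0⟩,
   ⟨1,0,0,1,3,-1,0,-2⟩,
   ⟨1,0,0,1,3,-1,0,0⟩,
   ⟨1,0,0,1,3,-1,0,2⟩,
   ⟨1,0,2,-3,-1,-1,0,0⟩,
   ⟨1,0,2,-3,1,1,0,0⟩,
   ⟨1,0,2,-1,-1,-1,-2,0⟩,
   ⟨1,0,2,-1,-1,-1,0,0⟩,
   ⟨1,0,2,-1,-1,-1,2,0⟩,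
   ⟨1,0,2,-1,-1,1,-2,0⟩,
   ⟨1,0,2,-1,-1,1,0,-2⟩,
   ⟨1,0,2,-1,-1,1,0,0⟩,
   ⟨1,0,2,-1,-1,1,0,2⟩,
   ⟨1,0,2,-1,-1,1,2,0⟩,
   ⟨1,0,2,-1,-1,3,0,0⟩,
   ⟨1,0,2,-1,1,-3,0,0⟩,
   ⟨1,0,2,-1,1,-1,-2,0⟩,
   ⟨1,0,2,-1,1,-1,0,-2⟩,
   ⟨1,0,2,-1,1,-1,0,0⟩,
   ⟨1,0,2,-1,1,-1,0,2⟩,
   ⟨1,0,2,-1,1,-1,2,0⟩,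
   ⟨1,0,2,-1,1,1,-2,0⟩,
   ⟨1,0,2,-1,1,1,0,0⟩,
   ⟨1,0,2,-1,1,1,2,0⟩,
   ⟨1,0,2,1,-3,1,0,0⟩,
   ⟨1,0,2,1,-1,1,-2,2⟩,
   ⟨1,0,2,1,-1,1,0,0⟩,
   ⟨1,0,2,1,-1,1,2,-2⟩,
   ⟨1,0,2,1,1,-1,-2,2⟩,
   ⟨1,0,2,1,1,-1,0,0⟩,
   ⟨1,0,2,1,1,-1,2,-2⟩,
   ⟨1,0,2,1,3,-1,0,0⟩,
   ⟨3,0,-2,1,-1,-1,0,0⟩,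
   ⟨3,0,-2,1,1,1,0,0⟩,
   ⟨3,0,0,-1,-1,1,-2,0⟩,
   ⟨3,0,0,-1,-1,1,0,0⟩,
   ⟨3,0,0,-1,-1,1,2,0⟩,
   ⟨3,0,0,-1,1,-1,-2,0⟩,
   ⟨3,0,0,-1,1,-1,0,0⟩,
   ⟨3,0,0,-1,1,-1,2,0⟩,
   ⟨3,0,0,1,-1,1,-2,0⟩,
   ⟨3,0,0,1,-1,1,0,0⟩,
   ⟨3,0,0,1,-1,1,2,0⟩,
   ⟨3,0,0,1,1,-1,-2,0⟩,
   ⟨3,0,0,1,1,-1,0,0⟩,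
   ⟨3,0,0,1,1,-1,2,0⟩,
   ⟨3,0,2,-1,-1,-1,0,0⟩,
   ⟨3,0,2,-1,1,1,0,0⟩]

/-- the short elements of parity class 3 -/
def shortData3 : List Q := shortChunk3_0 ++ shortChunk3_1 ++ shortChunk3_2

def shortChunk4_0 : List Q :=
  [⟨-3,1,-2,-1,0,0,-1,0⟩,
   ⟨-3,1,-2,-1,0,0,1,0⟩,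
   ⟨-3,1,0,-1,0,-2,-1,0⟩,
   ⟨-3,1,0,-1,0,-2,1,0⟩,
   ⟨-3,1,0,-1,0,0,-1,0⟩,
   ⟨-3,1,0,-1,0,0,1,0⟩,
   ⟨-3,1,0,-1,0,2,-1,0⟩,
   ⟨-3,1,0,-1,0,2,1,0⟩,
   ⟨-3,1,0,1,0,-2,-1,0⟩,
   ⟨-3,1,0,1,0,-2,1,0⟩,
   ⟨-3,1,0,1,0,0,-1,0⟩,
   ⟨-3,1,0,1,0,0,1,0⟩,
   ⟨-3,1,0,1,0,2,-1,0⟩,
   ⟨-3,1,0,1,0,2,1,0⟩,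
   ⟨-3,1,2,1,0,0,-1,0⟩,
   ⟨-3,1,2,1,0,0,1,0⟩,
   ⟨-1,-1,-2,1,-2,0,-1,0⟩,
   ⟨-1,-1,-2,1,-2,0,-1,2⟩,
   ⟨-1,-1,-2,1,-2,0,1,-2⟩,
   ⟨-1,-1,-2,1,-2,0,1,0⟩,
   ⟨-1,-1,-2,1,0,0,-3,0⟩,
   ⟨-1,-1,-2,1,0,0,-1,0⟩,
   ⟨-1,-1,-2,1,0,0,-1,2⟩,
   ⟨-1,-1,-2,1,0,0,1,-2⟩,
   ⟨-1,-1,-2,1,0,0,1,0⟩,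
   ⟨-1,-1,-2,1,0,0,3,0⟩,
   ⟨-1,-1,-2,1,2,0,-1,0⟩,
   ⟨-1,-1,-2,1,2,0,-1,2⟩,
   ⟨-1,-1,-2,1,2,0,1,-2⟩,
   ⟨-1,-1,-2,1,2,0,1,0⟩,
   ⟨-1,-1,-2,3,0,0,-1,0⟩,
   ⟨-1,-1,-2,3,0,0,1,0⟩,
   ⟨-1,-1,0,-1,-2,0,-1,0⟩,
   ⟨-1,-1,0,-1,-2,0,1,0⟩,
   ⟨-1,-1,0,-1,-2,2,-1,0⟩,
   ⟨-1,-1,0,-1,-2,2,-1,2⟩,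
   ⟨-1,-1,0,-1,-2,2,1,-2⟩,
   ⟨-1,-1,0,-1,-2,2,1,0⟩,
   ⟨-1,-1,0,-1,0,0,-1,0⟩,
   ⟨-1,-1,0,-1,0,0,-1,2⟩,
   ⟨-1,-1,0,-1,0,0,1,-2⟩,
   ⟨-1,-1,0,-1,0,0,1,0⟩,
   ⟨-1,-1,0,-1,2,-2,-1,0⟩,
   ⟨-1,-1,0,-1,2,-2,-1,2⟩,
   ⟨-1,-1,0,-1,2,-2,1,-2⟩,
   ⟨-1,-1,0,-1,2,-2,1,0⟩,
   ⟨-1,-1,0,-1,2,0,-1,0⟩,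
   ⟨-1,-1,0,-1,2,0,1,0⟩,
   ⟨-1,-1,0,1,-2,0,-1,0⟩,
   ⟨-1,-1,0,1,-2,0,1,0⟩,
   ⟨-1,-1,0,1,-2,2,-1,0⟩,
   ⟨-1,-1,0,1,-2,2,-1,2⟩,
   ⟨-1,-1,0,1,-2,2,1,-2⟩,
   ⟨-1,-1,0,1,-2,2,1,0⟩,
   ⟨-1,-1,0,1,0,0,-1,0⟩,
   ⟨-1,-1,0,1,0,0,-1,2⟩,
   ⟨-1,-1,0,1,0,0,1,-2⟩,
   ⟨-1,-1,0,1,0,0,1,0⟩,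
   ⟨-1,-1,0,1,2,-2,-1,0⟩,
   ⟨-1,-1,0,1,2,-2,-1,2⟩,
   ⟨-1,-1,0,1,2,-2,1,-2⟩,
   ⟨-1,-1,0,1,2,-2,1,0⟩,
   ⟨-1,-1,0,1,2,0,-1,0⟩,
   ⟨-1,-1,0,1,2,0,1,0⟩,
   ⟨-1,-1,2,-3,0,0,-1,0⟩,
   ⟨-1,-1,2,-3,0,0,1,0⟩,
   ⟨-1,-1,2,-1,-2,0,-1,0⟩,
   ⟨-1,-1,2,-1,-2,0,-1,2⟩,
   ⟨-1,-1,2,-1,-2,0,1,-2⟩,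
   ⟨-1,-1,2,-1,-2,0,1,0⟩,
   ⟨-1,-1,2,-1,0,0,-3,0⟩,
   ⟨-1,-1,2,-1,0,0,-1,0⟩,
   ⟨-1,-1,2,-1,0,0,-1,2⟩,
   ⟨-1,-1,2,-1,0,0,1,-2⟩,
   ⟨-1,-1,2,-1,0,0,1,0⟩,
   ⟨-1,-1,2,-1,0,0,3,0⟩,
   ⟨-1,-1,2,-1,2,0,-1,0⟩,
   ⟨-1,-1,2,-1,2,0,-1,2⟩,
   ⟨-1,-1,2,-1,2,0,1,-2⟩,
   ⟨-1,-1,2,-1,2,0,1,0⟩,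
   ⟨-1,1,-2,-1,-2,2,-1,0⟩,
   ⟨-1,1,-2,-1,-2,2,1,0⟩,
   ⟨-1,1,-2,-1,0,0,-1,0⟩,
   ⟨-1,1,-2,-1,0,0,1,0⟩,
   ⟨-1,1,-2,-1,2,-2,-1,0⟩,
   ⟨-1,1,-2,-1,2,-2,1,0⟩,
   ⟨-1,1,-2,1,-2,0,-1,0⟩,
   ⟨-1,1,-2,1,-2,0,1,0⟩,
   ⟨-1,1,-2,1,0,-2,-1,0⟩,
   ⟨-1,1,-2,1,0,-2,-1,2⟩,
   ⟨-1,1,-2,1,0,-2,1,-2⟩,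
   ⟨-1,1,-2,1,0,-2,1,0⟩,
   ⟨-1,1,-2,1,0,0,-1,0⟩,
   ⟨-1,1,-2,1,0,0,-1,2⟩,
   ⟨-1,1,-2,1,0,0,1,-2⟩,
   ⟨-1,1,-2,1,0,0,1,0⟩,
   ⟨-1,1,-2,1,0,2,-1,0⟩,
   ⟨-1,1,-2,1,0,2,-1,2⟩,
   ⟨-1,1,-2,1,0,2,1,-2⟩,
   ⟨-1,1,-2,1,0,2,1,0⟩,
   ⟨-1,1,-2,1,2,0,-1,0⟩,
   ⟨-1,1,-2,1,2,0,1,0⟩,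
   ⟨-1,1,0,-1,-2,0,-3,0⟩,
   ⟨-1,1,0,-1,-2,0,-1,0⟩,
   ⟨-1,1,0,-1,-2,0,-1,2⟩,
   ⟨-1,1,0,-1,-2,0,1,-2⟩,
   ⟨-1,1,0,-1,-2,0,1,0⟩,
   ⟨-1,1,0,-1,-2,0,3,0⟩,
   ⟨-1,1,0,-1,-2,2,-1,0⟩,
   ⟨-1,1,0,-1,-2,2,1,0⟩,
   ⟨-1,1,0,-1,0,-2,-1,0⟩,
   ⟨-1,1,0,-1,0,-2,1,0⟩,
   ⟨-1,1,0,-1,0,0,-3,0⟩,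
   ⟨-1,1,0,-1,0,0,-1,0⟩,
   ⟨-1,1,0,-1,0,0,-1,2⟩,
   ⟨-1,1,0,-1,0,0,1,-2⟩,
   ⟨-1,1,0,-1,0,0,1,0⟩,
   ⟨-1,1,0,-1,0,0,3,0⟩,
   ⟨-1,1,0,-1,0,2,-1,0⟩,
   ⟨-1,1,0,-1,0,2,1,0⟩,
   ⟨-1,1,0,-1,2,-2,-1,0⟩,
   ⟨-1,1,0,-1,2,-2,1,0⟩,
   ⟨-1,1,0,-1,2,0,-3,0⟩,
   ⟨-1,1,0,-1,2,0,-1,0⟩,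
   ⟨-1,1,0,-1,2,0,-1,2⟩,
   ⟨-1,1,0,-1,2,0,1,-2⟩,
   ⟨-1,1,0,-1,2,0,1,0⟩,
   ⟨-1,1,0,-1,2,0,3,0⟩,
   ⟨-1,1,0,1,-2,0,-3,0⟩,
   ⟨-1,1,0,1,-2,0,-1,0⟩,
   ⟨-1,1,0,1,-2,0,-1,2⟩,
   ⟨-1,1,0,1,-2,0,1,-2⟩,
   ⟨-1,1,0,1,-2,0,1,0⟩,
   ⟨-1,1,0,1,-2,0,3,0⟩,
   ⟨-1,1,0,1,-2,2,-1,0⟩,
   ⟨-1,1,0,1,-2,2,1,0⟩,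
   ⟨-1,1,0,1,0,-2,-1,0⟩,
   ⟨-1,1,0,1,0,-2,1,0⟩,
   ⟨-1,1,0,1,0,0,-3,0⟩,
   ⟨-1,1,0,1,0,0,-1,0⟩,
   ⟨-1,1,0,1,0,0,-1,2⟩,
   ⟨-1,1,0,1,0,0,1,-2⟩,
   ⟨-1,1,0,1,0,0,1,0⟩,
   ⟨-1,1,0,1,0,0,3,0⟩,
   ⟨-1,1,0,1,0,2,-1,0⟩,
   ⟨-1,1,0,1,0,2,1,0⟩,
   ⟨-1,1,0,1,2,-2,-1,0⟩,
   ⟨-1,1,0,1,2,-2,1,0⟩,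
   ⟨-1,1,0,1,2,0,-3,0⟩,
   ⟨-1,1,0,1,2,0,-1,0⟩]

def shortChunk4_1 : List Q :=
  [⟨-1,1,0,1,2,0,-1,2⟩,
   ⟨-1,1,0,1,2,0,1,-2⟩,
   ⟨-1,1,0,1,2,0,1,0⟩,
   ⟨-1,1,0,1,2,0,3,0⟩,
   ⟨-1,1,2,-1,-2,0,-1,0⟩,
   ⟨-1,1,2,-1,-2,0,1,0⟩,
   ⟨-1,1,2,-1,0,-2,-1,0⟩,
   ⟨-1,1,2,-1,0,-2,-1,2⟩,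
   ⟨-1,1,2,-1,0,-2,1,-2⟩,
   ⟨-1,1,2,-1,0,-2,1,0⟩,
   ⟨-1,1,2,-1,0,0,-1,0⟩,
   ⟨-1,1,2,-1,0,0,-1,2⟩,
   ⟨-1,1,2,-1,0,0,1,-2⟩,
   ⟨-1,1,2,-1,0,0,1,0⟩,
   ⟨-1,1,2,-1,0,2,-1,0⟩,
   ⟨-1,1,2,-1,0,2,-1,2⟩,
   ⟨-1,1,2,-1,0,2,1,-2⟩,
   ⟨-1,1,2,-1,0,2,1,0⟩,
   ⟨-1,1,2,-1,2,0,-1,0⟩,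
   ⟨-1,1,2,-1,2,0,1,0⟩,
   ⟨-1,1,2,1,-2,2,-1,0⟩,
   ⟨-1,1,2,1,-2,2,1,0⟩,
   ⟨-1,1,2,1,0,0,-1,0⟩,
   ⟨-1,1,2,1,0,0,1,0⟩,
   ⟨-1,1,2,1,2,-2,-1,0⟩,
   ⟨-1,1,2,1,2,-2,1,0⟩,
   ⟨-1,3,-2,1,0,0,-1,0⟩,
   ⟨-1,3,-2,1,0,0,1,0⟩,
   ⟨-1,3,2,-1,0,0,-1,0⟩,
   ⟨-1,3,2,-1,0,0,1,0⟩,
   ⟨1,-3,-2,1,0,0,-1,0⟩,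
   ⟨1,-3,-2,1,0,0,1,0⟩,
   ⟨1,-3,2,-1,0,0,-1,0⟩,
   ⟨1,-3,2,-1,0,0,1,0⟩,
   ⟨1,-1,-2,-1,-2,2,-1,0⟩,
   ⟨1,-1,-2,-1,-2,2,1,0⟩,
   ⟨1,-1,-2,-1,0,0,-1,0⟩,
   ⟨1,-1,-2,-1,0,0,1,0⟩,
   ⟨1,-1,-2,-1,2,-2,-1,0⟩,
   ⟨1,-1,-2,-1,2,-2,1,0⟩,
   ⟨1,-1,-2,1,-2,0,-1,0⟩,
   ⟨1,-1,-2,1,-2,0,1,0⟩,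
   ⟨1,-1,-2,1,0,-2,-1,0⟩,
   ⟨1,-1,-2,1,0,-2,-1,2⟩,
   ⟨1,-1,-2,1,0,-2,1,-2⟩,
   ⟨1,-1,-2,1,0,-2,1,0⟩,
   ⟨1,-1,-2,1,0,0,-1,0⟩,
   ⟨1,-1,-2,1,0,0,-1,2⟩,
   ⟨1,-1,-2,1,0,0,1,-2⟩,
   ⟨1,-1,-2,1,0,0,1,0⟩,
   ⟨1,-1,-2,1,0,2,-1,0⟩,
   ⟨1,-1,-2,1,0,2,-1,2⟩,
   ⟨1,-1,-2,1,0,2,1,-2⟩,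
   ⟨1,-1,-2,1,0,2,1,0⟩,
   ⟨1,-1,-2,1,2,0,-1,0⟩,
   ⟨1,-1,-2,1,2,0,1,0⟩,
   ⟨1,-1,0,-1,-2,0,-3,0⟩,
   ⟨1,-1,0,-1,-2,0,-1,0⟩,
   ⟨1,-1,0,-1,-2,0,-1,2⟩,
   ⟨1,-1,0,-1,-2,0,1,-2⟩,
   ⟨1,-1,0,-1,-2,0,1,0⟩,
   ⟨1,-1,0,-1,-2,0,3,0⟩,
   ⟨1,-1,0,-1,-2,2,-1,0⟩,
   ⟨1,-1,0,-1,-2,2,1,0⟩,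
   ⟨1,-1,0,-1,0,-2,-1,0⟩,
   ⟨1,-1,0,-1,0,-2,1,0⟩,
   ⟨1,-1,0,-1,0,0,-3,0⟩,
   ⟨1,-1,0,-1,0,0,-1,0⟩,
   ⟨1,-1,0,-1,0,0,-1,2⟩,
   ⟨1,-1,0,-1,0,0,1,-2⟩,
   ⟨1,-1,0,-1,0,0,1,0⟩,
   ⟨1,-1,0,-1,0,0,3,0⟩,
   ⟨1,-1,0,-1,0,2,-1,0⟩,
   ⟨1,-1,0,-1,0,2,1,0⟩,
   ⟨1,-1,0,-1,2,-2,-1,0⟩,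
   ⟨1,-1,0,-1,2,-2,1,0⟩,
   ⟨1,-1,0,-1,2,0,-3,0⟩,
   ⟨1,-1,0,-1,2,0,-1,0⟩,
   ⟨1,-1,0,-1,2,0,-1,2⟩,
   ⟨1,-1,0,-1,2,0,1,-2⟩,
   ⟨1,-1,0,-1,2,0,1,0⟩,
   ⟨1,-1,0,-1,2,0,3,0⟩,
   ⟨1,-1,0,1,-2,0,-3,0⟩,
   ⟨1,-1,0,1,-2,0,-1,0⟩,
   ⟨1,-1,0,1,-2,0,-1,2⟩,
   ⟨1,-1,0,1,-2,0,1,-2⟩,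
   ⟨1,-1,0,1,-2,0,1,0⟩,
   ⟨1,-1,0,1,-2,0,3,0⟩,
   ⟨1,-1,0,1,-2,2,-1,0⟩,
   ⟨1,-1,0,1,-2,2,1,0⟩,
   ⟨1,-1,0,1,0,-2,-1,0⟩,
   ⟨1,-1,0,1,0,-2,1,0⟩,
   ⟨1,-1,0,1,0,0,-3,0⟩,
   ⟨1,-1,0,1,0,0,-1,0⟩,
   ⟨1,-1,0,1,0,0,-1,2⟩,
   ⟨1,-1,0,1,0,0,1,-2⟩,
   ⟨1,-1,0,1,0,0,1,0⟩,
   ⟨1,-1,0,1,0,0,3,0⟩,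
   ⟨1,-1,0,1,0,2,-1,0⟩,
   ⟨1,-1,0,1,0,2,1,0⟩,
   ⟨1,-1,0,1,2,-2,-1,0⟩,
   ⟨1,-1,0,1,2,-2,1,0⟩,
   ⟨1,-1,0,1,2,0,-3,0⟩,
   ⟨1,-1,0,1,2,0,-1,0⟩,
   ⟨1,-1,0,1,2,0,-1,2⟩,
   ⟨1,-1,0,1,2,0,1,-2⟩,
   ⟨1,-1,0,1,2,0,1,0⟩,
   ⟨1,-1,0,1,2,0,3,0⟩,
   ⟨1,-1,2,-1,-2,0,-1,0⟩,
   ⟨1,-1,2,-1,-2,0,1,0⟩,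
   ⟨1,-1,2,-1,0,-2,-1,0⟩,
   ⟨1,-1,2,-1,0,-2,-1,2⟩,
   ⟨1,-1,2,-1,0,-2,1,-2⟩,
   ⟨1,-1,2,-1,0,-2,1,0⟩,
   ⟨1,-1,2,-1,0,0,-1,0⟩,
   ⟨1,-1,2,-1,0,0,-1,2⟩,
   ⟨1,-1,2,-1,0,0,1,-2⟩,
   ⟨1,-1,2,-1,0,0,1,0⟩,
   ⟨1,-1,2,-1,0,2,-1,0⟩,
   ⟨1,-1,2,-1,0,2,-1,2⟩,
   ⟨1,-1,2,-1,0,2,1,-2⟩,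
   ⟨1,-1,2,-1,0,2,1,0⟩,
   ⟨1,-1,2,-1,2,0,-1,0⟩,
   ⟨1,-1,2,-1,2,0,1,0⟩,
   ⟨1,-1,2,1,-2,2,-1,0⟩,
   ⟨1,-1,2,1,-2,2,1,0⟩,
   ⟨1,-1,2,1,0,0,-1,0⟩,
   ⟨1,-1,2,1,0,0,1,0⟩,
   ⟨1,-1,2,1,2,-2,-1,0⟩,
   ⟨1,-1,2,1,2,-2,1,0⟩,
   ⟨1,1,-2,1,-2,0,-1,0⟩,
   ⟨1,1,-2,1,-2,0,-1,2⟩,
   ⟨1,1,-2,1,-2,0,1,-2⟩,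
   ⟨1,1,-2,1,-2,0,1,0⟩,
   ⟨1,1,-2,1,0,0,-3,0⟩,
   ⟨1,1,-2,1,0,0,-1,0⟩,
   ⟨1,1,-2,1,0,0,-1,2⟩,
   ⟨1,1,-2,1,0,0,1,-2⟩,
   ⟨1,1,-2,1,0,0,1,0⟩,
   ⟨1,1,-2,1,0,0,3,0⟩,
   ⟨1,1,-2,1,2,0,-1,0⟩,
   ⟨1,1,-2,1,2,0,-1,2⟩,
   ⟨1,1,-2,1,2,0,1,-2⟩,
   ⟨1,1,-2,1,2,0,1,0⟩,
   ⟨1,1,-2,3,0,0,-1,0⟩,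
   ⟨1,1,-2,3,0,0,1,0⟩,
   ⟨1,1,0,-1,-2,0,-1,0⟩,
   ⟨1,1,0,-1,-2,0,1,0⟩,
   ⟨1,1,0,-1,-2,2,-1,0⟩,
   ⟨1,1,0,-1,-2,2,-1,2⟩]

def shortChunk4_2 : List Q :=
  [⟨1,1,0,-1,-2,2,1,-2⟩,
   ⟨1,1,0,-1,-2,2,1,0⟩,
   ⟨1,1,0,-1,0,0,-1,0⟩,
   ⟨1,1,0,-1,0,0,-1,2⟩,
   ⟨1,1,0,-1,0,0,1,-2⟩,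
   ⟨1,1,0,-1,0,0,1,0⟩,
   ⟨1,1,0,-1,2,-2,-1,0⟩,
   ⟨1,1,0,-1,2,-2,-1,2⟩,
   ⟨1,1,0,-1,2,-2,1,-2⟩,
   ⟨1,1,0,-1,2,-2,1,0⟩,
   ⟨1,1,0,-1,2,0,-1,0⟩,
   ⟨1,1,0,-1,2,0,1,0⟩,
   ⟨1,1,0,1,-2,0,-1,0⟩,
   ⟨1,1,0,1,-2,0,1,0⟩,
   ⟨1,1,0,1,-2,2,-1,0⟩,
   ⟨1,1,0,1,-2,2,-1,2⟩,
   ⟨1,1,0,1,-2,2,1,-2⟩,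
   ⟨1,1,0,1,-2,2,1,0⟩,
   ⟨1,1,0,1,0,0,-1,0⟩,
   ⟨1,1,0,1,0,0,-1,2⟩,
   ⟨1,1,0,1,0,0,1,-2⟩,
   ⟨1,1,0,1,0,0,1,0⟩,
   ⟨1,1,0,1,2,-2,-1,0⟩,
   ⟨1,1,0,1,2,-2,-1,2⟩,
   ⟨1,1,0,1,2,-2,1,-2⟩,
   ⟨1,1,0,1,2,-2,1,0⟩,
   ⟨1,1,0,1,2,0,-1,0⟩,
   ⟨1,1,0,1,2,0,1,0⟩,
   ⟨1,1,2,-3,0,0,-1,0⟩,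
   ⟨1,1,2,-3,0,0,1,0⟩,
   ⟨1,1,2,-1,-2,0,-1,0⟩,
   ⟨1,1,2,-1,-2,0,-1,2⟩,
   ⟨1,1,2,-1,-2,0,1,-2⟩,
   ⟨1,1,2,-1,-2,0,1,0⟩,
   ⟨1,1,2,-1,0,0,-3,0⟩,
   ⟨1,1,2,-1,0,0,-1,0⟩,
   ⟨1,1,2,-1,0,0,-1,2⟩,
   ⟨1,1,2,-1,0,0,1,-2⟩,
   ⟨1,1,2,-1,0,0,1,0⟩,
   ⟨1,1,2,-1,0,0,3,0⟩,
   ⟨1,1,2,-1,2,0,-1,0⟩,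
   ⟨1,1,2,-1,2,0,-1,2⟩,
   ⟨1,1,2,-1,2,0,1,-2⟩,
   ⟨1,1,2,-1,2,0,1,0⟩,
   ⟨3,-1,-2,-1,0,0,-1,0⟩,
   ⟨3,-1,-2,-1,0,0,1,0⟩,
   ⟨3,-1,0,-1,0,-2,-1,0⟩,
   ⟨3,-1,0,-1,0,-2,1,0⟩,
   ⟨3,-1,0,-1,0,0,-1,0⟩,
   ⟨3,-1,0,-1,0,0,1,0⟩,
   ⟨3,-1,0,-1,0,2,-1,0⟩,
   ⟨3,-1,0,-1,0,2,1,0⟩,
   ⟨3,-1,0,1,0,-2,-1,0⟩,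
   ⟨3,-1,0,1,0,-2,1,0⟩,
   ⟨3,-1,0,1,0,0,-1,0⟩,
   ⟨3,-1,0,1,0,0,1,0⟩,
   ⟨3,-1,0,1,0,2,-1,0⟩,
   ⟨3,-1,0,1,0,2,1,0⟩,
   ⟨3,-1,2,1,0,0,-1,0⟩,
   ⟨3,-1,2,1,0,0,1,0⟩]

/-- the short elements of parity class 4 -/
def shortData4 : List Q := shortChunk4_0 ++ shortChunk4_1 ++ shortChunk4_2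

def shortChunk5_0 : List Q :=
  [⟨-3,0,-1,0,-1,0,-1,0⟩,
   ⟨-3,0,-1,0,-1,0,-1,2⟩,
   ⟨-3,0,-1,0,-1,0,1,-2⟩,
   ⟨-3,0,-1,0,-1,0,1,0⟩,
   ⟨-3,0,-1,0,-1,2,-1,0⟩,
   ⟨-3,0,-1,0,-1,2,1,0⟩,
   ⟨-3,0,-1,0,1,-2,-1,0⟩,
   ⟨-3,0,-1,0,1,-2,1,0⟩,
   ⟨-3,0,-1,0,1,0,-1,0⟩,
   ⟨-3,0,-1,0,1,0,-1,2⟩,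
   ⟨-3,0,-1,0,1,0,1,-2⟩,
   ⟨-3,0,-1,0,1,0,1,0⟩,
   ⟨-3,0,-1,2,-1,0,-1,0⟩,
   ⟨-3,0,-1,2,-1,0,1,0⟩,
   ⟨-3,0,-1,2,1,0,-1,0⟩,
   ⟨-3,0,-1,2,1,0,1,0⟩,
   ⟨-3,0,1,-2,-1,0,-1,0⟩,
   ⟨-3,0,1,-2,-1,0,1,0⟩,
   ⟨-3,0,1,-2,1,0,-1,0⟩,
   ⟨-3,0,1,-2,1,0,1,0⟩,
   ⟨-3,0,1,0,-1,0,-1,0⟩,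
   ⟨-3,0,1,0,-1,0,-1,2⟩,
   ⟨-3,0,1,0,-1,0,1,-2⟩,
   ⟨-3,0,1,0,-1,0,1,0⟩,
   ⟨-3,0,1,0,-1,2,-1,0⟩,
   ⟨-3,0,1,0,-1,2,1,0⟩,
   ⟨-3,0,1,0,1,-2,-1,0⟩,
   ⟨-3,0,1,0,1,-2,1,0⟩,
   ⟨-3,0,1,0,1,0,-1,0⟩,
   ⟨-3,0,1,0,1,0,-1,2⟩,
   ⟨-3,0,1,0,1,0,1,-2⟩,
   ⟨-3,0,1,0,1,0,1,0⟩,
   ⟨-1,0,-3,0,-1,0,-1,0⟩,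
   ⟨-1,0,-3,0,-1,0,-1,2⟩,
   ⟨-1,0,-3,0,-1,0,1,-2⟩,
   ⟨-1,0,-3,0,-1,0,1,0⟩,
   ⟨-1,0,-3,0,-1,2,-1,0⟩,
   ⟨-1,0,-3,0,-1,2,1,0⟩,
   ⟨-1,0,-3,0,1,-2,-1,0⟩,
   ⟨-1,0,-3,0,1,-2,1,0⟩,
   ⟨-1,0,-3,0,1,0,-1,0⟩,
   ⟨-1,0,-3,0,1,0,-1,2⟩,
   ⟨-1,0,-3,0,1,0,1,-2⟩,
   ⟨-1,0,-3,0,1,0,1,0⟩,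
   ⟨-1,0,-1,0,-3,0,-1,0⟩,
   ⟨-1,0,-1,0,-3,0,-1,2⟩,
   ⟨-1,0,-1,0,-3,0,1,-2⟩,
   ⟨-1,0,-1,0,-3,0,1,0⟩,
   ⟨-1,0,-1,0,-1,0,-3,0⟩,
   ⟨-1,0,-1,0,-1,0,-1,0⟩,
   ⟨-1,0,-1,0,-1,0,-1,2⟩,
   ⟨-1,0,-1,0,-1,0,1,-2⟩,
   ⟨-1,0,-1,0,-1,0,1,0⟩,
   ⟨-1,0,-1,0,-1,0,3,0⟩,
   ⟨-1,0,-1,0,-1,2,-3,0⟩,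
   ⟨-1,0,-1,0,-1,2,-1,0⟩,
   ⟨-1,0,-1,0,-1,2,-1,2⟩,
   ⟨-1,0,-1,0,-1,2,1,-2⟩,
   ⟨-1,0,-1,0,-1,2,1,0⟩,
   ⟨-1,0,-1,0,-1,2,3,0⟩,
   ⟨-1,0,-1,0,1,-2,-3,0⟩,
   ⟨-1,0,-1,0,1,-2,-1,0⟩,
   ⟨-1,0,-1,0,1,-2,-1,2⟩,
   ⟨-1,0,-1,0,1,-2,1,-2⟩,
   ⟨-1,0,-1,0,1,-2,1,0⟩,
   ⟨-1,0,-1,0,1,-2,3,0⟩,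
   ⟨-1,0,-1,0,1,0,-3,0⟩,
   ⟨-1,0,-1,0,1,0,-1,0⟩,
   ⟨-1,0,-1,0,1,0,-1,2⟩,
   ⟨-1,0,-1,0,1,0,1,-2⟩,
   ⟨-1,0,-1,0,1,0,1,0⟩,
   ⟨-1,0,-1,0,1,0,3,0⟩,
   ⟨-1,0,-1,0,3,0,-1,0⟩,
   ⟨-1,0,-1,0,3,0,-1,2⟩,
   ⟨-1,0,-1,0,3,0,1,-2⟩,
   ⟨-1,0,-1,0,3,0,1,0⟩,
   ⟨-1,0,-1,2,-3,0,-1,0⟩,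
   ⟨-1,0,-1,2,-3,0,1,0⟩,
   ⟨-1,0,-1,2,-1,0,-3,0⟩,
   ⟨-1,0,-1,2,-1,0,-1,0⟩,
   ⟨-1,0,-1,2,-1,0,-1,2⟩,
   ⟨-1,0,-1,2,-1,0,1,-2⟩,
   ⟨-1,0,-1,2,-1,0,1,0⟩,
   ⟨-1,0,-1,2,-1,0,3,0⟩,
   ⟨-1,0,-1,2,-1,2,-1,0⟩,
   ⟨-1,0,-1,2,-1,2,-1,2⟩,
   ⟨-1,0,-1,2,-1,2,1,-2⟩,
   ⟨-1,0,-1,2,-1,2,1,0⟩,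
   ⟨-1,0,-1,2,1,-2,-1,0⟩,
   ⟨-1,0,-1,2,1,-2,-1,2⟩,
   ⟨-1,0,-1,2,1,-2,1,-2⟩,
   ⟨-1,0,-1,2,1,-2,1,0⟩,
   ⟨-1,0,-1,2,1,0,-3,0⟩,
   ⟨-1,0,-1,2,1,0,-1,0⟩,
   ⟨-1,0,-1,2,1,0,-1,2⟩,
   ⟨-1,0,-1,2,1,0,1,-2⟩,
   ⟨-1,0,-1,2,1,0,1,0⟩,
   ⟨-1,0,-1,2,1,0,3,0⟩,
   ⟨-1,0,-1,2,3,0,-1,0⟩,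
   ⟨-1,0,-1,2,3,0,1,0⟩,
   ⟨-1,0,1,-2,-3,0,-1,0⟩,
   ⟨-1,0,1,-2,-3,0,1,0⟩,
   ⟨-1,0,1,-2,-1,0,-3,0⟩,
   ⟨-1,0,1,-2,-1,0,-1,0⟩,
   ⟨-1,0,1,-2,-1,0,-1,2⟩,
   ⟨-1,0,1,-2,-1,0,1,-2⟩,
   ⟨-1,0,1,-2,-1,0,1,0⟩,
   ⟨-1,0,1,-2,-1,0,3,0⟩,
   ⟨-1,0,1,-2,-1,2,-1,0⟩,
   ⟨-1,0,1,-2,-1,2,-1,2⟩,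
   ⟨-1,0,1,-2,-1,2,1,-2⟩,
   ⟨-1,0,1,-2,-1,2,1,0⟩,
   ⟨-1,0,1,-2,1,-2,-1,0⟩,
   ⟨-1,0,1,-2,1,-2,-1,2⟩,
   ⟨-1,0,1,-2,1,-2,1,-2⟩,
   ⟨-1,0,1,-2,1,-2,1,0⟩,
   ⟨-1,0,1,-2,1,0,-3,0⟩,
   ⟨-1,0,1,-2,1,0,-1,0⟩,
   ⟨-1,0,1,-2,1,0,-1,2⟩,
   ⟨-1,0,1,-2,1,0,1,-2⟩,
   ⟨-1,0,1,-2,1,0,1,0⟩,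
   ⟨-1,0,1,-2,1,0,3,0⟩,
   ⟨-1,0,1,-2,3,0,-1,0⟩,
   ⟨-1,0,1,-2,3,0,1,0⟩,
   ⟨-1,0,1,0,-3,0,-1,0⟩,
   ⟨-1,0,1,0,-3,0,-1,2⟩,
   ⟨-1,0,1,0,-3,0,1,-2⟩,
   ⟨-1,0,1,0,-3,0,1,0⟩,
   ⟨-1,0,1,0,-1,0,-3,0⟩,
   ⟨-1,0,1,0,-1,0,-1,0⟩,
   ⟨-1,0,1,0,-1,0,-1,2⟩,
   ⟨-1,0,1,0,-1,0,1,-2⟩,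
   ⟨-1,0,1,0,-1,0,1,0⟩,
   ⟨-1,0,1,0,-1,0,3,0⟩,
   ⟨-1,0,1,0,-1,2,-3,0⟩,
   ⟨-1,0,1,0,-1,2,-1,0⟩,
   ⟨-1,0,1,0,-1,2,-1,2⟩,
   ⟨-1,0,1,0,-1,2,1,-2⟩,
   ⟨-1,0,1,0,-1,2,1,0⟩,
   ⟨-1,0,1,0,-1,2,3,0⟩,
   ⟨-1,0,1,0,1,-2,-3,0⟩,
   ⟨-1,0,1,0,1,-2,-1,0⟩,
   ⟨-1,0,1,0,1,-2,-1,2⟩,
   ⟨-1,0,1,0,1,-2,1,-2⟩,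
   ⟨-1,0,1,0,1,-2,1,0⟩,
   ⟨-1,0,1,0,1,-2,3,0⟩,
   ⟨-1,0,1,0,1,0,-3,0⟩,
   ⟨-1,0,1,0,1,0,-1,0⟩,
   ⟨-1,0,1,0,1,0,-1,2⟩,
   ⟨-1,0,1,0,1,0,1,-2⟩]

def shortChunk5_1 : List Q :=
  [⟨-1,0,1,0,1,0,1,0⟩,
   ⟨-1,0,1,0,1,0,3,0⟩,
   ⟨-1,0,1,0,3,0,-1,0⟩,
   ⟨-1,0,1,0,3,0,-1,2⟩,
   ⟨-1,0,1,0,3,0,1,-2⟩,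
   ⟨-1,0,1,0,3,0,1,0⟩,
   ⟨-1,0,3,0,-1,0,-1,0⟩,
   ⟨-1,0,3,0,-1,0,-1,2⟩,
   ⟨-1,0,3,0,-1,0,1,-2⟩,
   ⟨-1,0,3,0,-1,0,1,0⟩,
   ⟨-1,0,3,0,-1,2,-1,0⟩,
   ⟨-1,0,3,0,-1,2,1,0⟩,
   ⟨-1,0,3,0,1,-2,-1,0⟩,
   ⟨-1,0,3,0,1,-2,1,0⟩,
   ⟨-1,0,3,0,1,0,-1,0⟩,
   ⟨-1,0,3,0,1,0,-1,2⟩,
   ⟨-1,0,3,0,1,0,1,-2⟩,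
   ⟨-1,0,3,0,1,0,1,0⟩,
   ⟨-1,2,-3,0,-1,0,-1,0⟩,
   ⟨-1,2,-3,0,-1,0,1,0⟩,
   ⟨-1,2,-3,0,1,0,-1,0⟩,
   ⟨-1,2,-3,0,1,0,1,0⟩,
   ⟨-1,2,-1,0,-3,0,-1,0⟩,
   ⟨-1,2,-1,0,-3,0,1,0⟩,
   ⟨-1,2,-1,0,-1,0,-3,0⟩,
   ⟨-1,2,-1,0,-1,0,-1,0⟩,
   ⟨-1,2,-1,0,-1,0,-1,2⟩,
   ⟨-1,2,-1,0,-1,0,1,-2⟩,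
   ⟨-1,2,-1,0,-1,0,1,0⟩,
   ⟨-1,2,-1,0,-1,0,3,0⟩,
   ⟨-1,2,-1,0,-1,2,-1,0⟩,
   ⟨-1,2,-1,0,-1,2,-1,2⟩,
   ⟨-1,2,-1,0,-1,2,1,-2⟩,
   ⟨-1,2,-1,0,-1,2,1,0⟩,
   ⟨-1,2,-1,0,1,-2,-1,0⟩,
   ⟨-1,2,-1,0,1,-2,-1,2⟩,
   ⟨-1,2,-1,0,1,-2,1,-2⟩,
   ⟨-1,2,-1,0,1,-2,1,0⟩,
   ⟨-1,2,-1,0,1,0,-3,0⟩,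
   ⟨-1,2,-1,0,1,0,-1,0⟩,
   ⟨-1,2,-1,0,1,0,-1,2⟩,
   ⟨-1,2,-1,0,1,0,1,-2⟩,
   ⟨-1,2,-1,0,1,0,1,0⟩,
   ⟨-1,2,-1,0,1,0,3,0⟩,
   ⟨-1,2,-1,0,3,0,-1,0⟩,
   ⟨-1,2,-1,0,3,0,1,0⟩,
   ⟨-1,2,-1,2,-1,0,-1,0⟩,
   ⟨-1,2,-1,2,-1,0,-1,2⟩,
   ⟨-1,2,-1,2,-1,0,1,-2⟩,
   ⟨-1,2,-1,2,-1,0,1,0⟩,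
   ⟨-1,2,-1,2,-1,2,-1,0⟩,
   ⟨-1,2,-1,2,-1,2,1,0⟩,
   ⟨-1,2,-1,2,1,-2,-1,0⟩,
   ⟨-1,2,-1,2,1,-2,1,0⟩,
   ⟨-1,2,-1,2,1,0,-1,0⟩,
   ⟨-1,2,-1,2,1,0,-1,2⟩,
   ⟨-1,2,-1,2,1,0,1,-2⟩,
   ⟨-1,2,-1,2,1,0,1,0⟩,
   ⟨-1,2,1,-2,-1,0,-1,0⟩,
   ⟨-1,2,1,-2,-1,0,-1,2⟩,
   ⟨-1,2,1,-2,-1,0,1,-2⟩,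
   ⟨-1,2,1,-2,-1,0,1,0⟩,
   ⟨-1,2,1,-2,-1,2,-1,0⟩,
   ⟨-1,2,1,-2,-1,2,1,0⟩,
   ⟨-1,2,1,-2,1,-2,-1,0⟩,
   ⟨-1,2,1,-2,1,-2,1,0⟩,
   ⟨-1,2,1,-2,1,0,-1,0⟩,
   ⟨-1,2,1,-2,1,0,-1,2⟩,
   ⟨-1,2,1,-2,1,0,1,-2⟩,
   ⟨-1,2,1,-2,1,0,1,0⟩,
   ⟨-1,2,1,0,-3,0,-1,0⟩,
   ⟨-1,2,1,0,-3,0,1,0⟩,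
   ⟨-1,2,1,0,-1,0,-3,0⟩,
   ⟨-1,2,1,0,-1,0,-1,0⟩,
   ⟨-1,2,1,0,-1,0,-1,2⟩,
   ⟨-1,2,1,0,-1,0,1,-2⟩,
   ⟨-1,2,1,0,-1,0,1,0⟩,
   ⟨-1,2,1,0,-1,0,3,0⟩,
   ⟨-1,2,1,0,-1,2,-1,0⟩,
   ⟨-1,2,1,0,-1,2,-1,2⟩,
   ⟨-1,2,1,0,-1,2,1,-2⟩,
   ⟨-1,2,1,0,-1,2,1,0⟩,
   ⟨-1,2,1,0,1,-2,-1,0⟩,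
   ⟨-1,2,1,0,1,-2,-1,2⟩,
   ⟨-1,2,1,0,1,-2,1,-2⟩,
   ⟨-1,2,1,0,1,-2,1,0⟩,
   ⟨-1,2,1,0,1,0,-3,0⟩,
   ⟨-1,2,1,0,1,0,-1,0⟩,
   ⟨-1,2,1,0,1,0,-1,2⟩,
   ⟨-1,2,1,0,1,0,1,-2⟩,
   ⟨-1,2,1,0,1,0,1,0⟩,
   ⟨-1,2,1,0,1,0,3,0⟩,
   ⟨-1,2,1,0,3,0,-1,0⟩,
   ⟨-1,2,1,0,3,0,1,0⟩,
   ⟨-1,2,3,0,-1,0,-1,0⟩,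
   ⟨-1,2,3,0,-1,0,1,0⟩,
   ⟨-1,2,3,0,1,0,-1,0⟩,
   ⟨-1,2,3,0,1,0,1,0⟩,
   ⟨1,-2,-3,0,-1,0,-1,0⟩,
   ⟨1,-2,-3,0,-1,0,1,0⟩,
   ⟨1,-2,-3,0,1,0,-1,0⟩,
   ⟨1,-2,-3,0,1,0,1,0⟩,
   ⟨1,-2,-1,0,-3,0,-1,0⟩,
   ⟨1,-2,-1,0,-3,0,1,0⟩,
   ⟨1,-2,-1,0,-1,0,-3,0⟩,
   ⟨1,-2,-1,0,-1,0,-1,0⟩,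
   ⟨1,-2,-1,0,-1,0,-1,2⟩,
   ⟨1,-2,-1,0,-1,0,1,-2⟩,
   ⟨1,-2,-1,0,-1,0,1,0⟩,
   ⟨1,-2,-1,0,-1,0,3,0⟩,
   ⟨1,-2,-1,0,-1,2,-1,0⟩,
   ⟨1,-2,-1,0,-1,2,-1,2⟩,
   ⟨1,-2,-1,0,-1,2,1,-2⟩,
   ⟨1,-2,-1,0,-1,2,1,0⟩,
   ⟨1,-2,-1,0,1,-2,-1,0⟩,
   ⟨1,-2,-1,0,1,-2,-1,2⟩,
   ⟨1,-2,-1,0,1,-2,1,-2⟩,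
   ⟨1,-2,-1,0,1,-2,1,0⟩,
   ⟨1,-2,-1,0,1,0,-3,0⟩,
   ⟨1,-2,-1,0,1,0,-1,0⟩,
   ⟨1,-2,-1,0,1,0,-1,2⟩,
   ⟨1,-2,-1,0,1,0,1,-2⟩,
   ⟨1,-2,-1,0,1,0,1,0⟩,
   ⟨1,-2,-1,0,1,0,3,0⟩,
   ⟨1,-2,-1,0,3,0,-1,0⟩,
   ⟨1,-2,-1,0,3,0,1,0⟩,
   ⟨1,-2,-1,2,-1,0,-1,0⟩,
   ⟨1,-2,-1,2,-1,0,-1,2⟩,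
   ⟨1,-2,-1,2,-1,0,1,-2⟩,
   ⟨1,-2,-1,2,-1,0,1,0⟩,
   ⟨1,-2,-1,2,-1,2,-1,0⟩,
   ⟨1,-2,-1,2,-1,2,1,0⟩,
   ⟨1,-2,-1,2,1,-2,-1,0⟩,
   ⟨1,-2,-1,2,1,-2,1,0⟩,
   ⟨1,-2,-1,2,1,0,-1,0⟩,
   ⟨1,-2,-1,2,1,0,-1,2⟩,
   ⟨1,-2,-1,2,1,0,1,-2⟩,
   ⟨1,-2,-1,2,1,0,1,0⟩,
   ⟨1,-2,1,-2,-1,0,-1,0⟩,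
   ⟨1,-2,1,-2,-1,0,-1,2⟩,
   ⟨1,-2,1,-2,-1,0,1,-2⟩,
   ⟨1,-2,1,-2,-1,0,1,0⟩,
   ⟨1,-2,1,-2,-1,2,-1,0⟩,
   ⟨1,-2,1,-2,-1,2,1,0⟩,
   ⟨1,-2,1,-2,1,-2,-1,0⟩,
   ⟨1,-2,1,-2,1,-2,1,0⟩,
   ⟨1,-2,1,-2,1,0,-1,0⟩,
   ⟨1,-2,1,-2,1,0,-1,2⟩,
   ⟨1,-2,1,-2,1,0,1,-2⟩,
   ⟨1,-2,1,-2,1,0,1,0⟩]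

def shortChunk5_2 : List Q :=
  [⟨1,-2,1,0,-3,0,-1,0⟩,
   ⟨1,-2,1,0,-3,0,1,0⟩,
   ⟨1,-2,1,0,-1,0,-3,0⟩,
   ⟨1,-2,1,0,-1,0,-1,0⟩,
   ⟨1,-2,1,0,-1,0,-1,2⟩,
   ⟨1,-2,1,0,-1,0,1,-2⟩,
   ⟨1,-2,1,0,-1,0,1,0⟩,
   ⟨1,-2,1,0,-1,0,3,0⟩,
   ⟨1,-2,1,0,-1,2,-1,0⟩,
   ⟨1,-2,1,0,-1,2,-1,2⟩,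
   ⟨1,-2,1,0,-1,2,1,-2⟩,
   ⟨1,-2,1,0,-1,2,1,0⟩,
   ⟨1,-2,1,0,1,-2,-1,0⟩,
   ⟨1,-2,1,0,1,-2,-1,2⟩,
   ⟨1,-2,1,0,1,-2,1,-2⟩,
   ⟨1,-2,1,0,1,-2,1,0⟩,
   ⟨1,-2,1,0,1,0,-3,0⟩,
   ⟨1,-2,1,0,1,0,-1,0⟩,
   ⟨1,-2,1,0,1,0,-1,2⟩,
   ⟨1,-2,1,0,1,0,1,-2⟩,
   ⟨1,-2,1,0,1,0,1,0⟩,
   ⟨1,-2,1,0,1,0,3,0⟩,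
   ⟨1,-2,1,0,3,0,-1,0⟩,
   ⟨1,-2,1,0,3,0,1,0⟩,
   ⟨1,-2,3,0,-1,0,-1,0⟩,
   ⟨1,-2,3,0,-1,0,1,0⟩,
   ⟨1,-2,3,0,1,0,-1,0⟩,
   ⟨1,-2,3,0,1,0,1,0⟩,
   ⟨1,0,-3,0,-1,0,-1,0⟩,
   ⟨1,0,-3,0,-1,0,-1,2⟩,
   ⟨1,0,-3,0,-1,0,1,-2⟩,
   ⟨1,0,-3,0,-1,0,1,0⟩,
   ⟨1,0,-3,0,-1,2,-1,0⟩,
   ⟨1,0,-3,0,-1,2,1,0⟩,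
   ⟨1,0,-3,0,1,-2,-1,0⟩,
   ⟨1,0,-3,0,1,-2,1,0⟩,
   ⟨1,0,-3,0,1,0,-1,0⟩,
   ⟨1,0,-3,0,1,0,-1,2⟩,
   ⟨1,0,-3,0,1,0,1,-2⟩,
   ⟨1,0,-3,0,1,0,1,0⟩,
   ⟨1,0,-1,0,-3,0,-1,0⟩,
   ⟨1,0,-1,0,-3,0,-1,2⟩,
   ⟨1,0,-1,0,-3,0,1,-2⟩,
   ⟨1,0,-1,0,-3,0,1,0⟩,
   ⟨1,0,-1,0,-1,0,-3,0⟩,
   ⟨1,0,-1,0,-1,0,-1,0⟩,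
   ⟨1,0,-1,0,-1,0,-1,2⟩,
   ⟨1,0,-1,0,-1,0,1,-2⟩,
   ⟨1,0,-1,0,-1,0,1,0⟩,
   ⟨1,0,-1,0,-1,0,3,0⟩,
   ⟨1,0,-1,0,-1,2,-3,0⟩,
   ⟨1,0,-1,0,-1,2,-1,0⟩,
   ⟨1,0,-1,0,-1,2,-1,2⟩,
   ⟨1,0,-1,0,-1,2,1,-2⟩,
   ⟨1,0,-1,0,-1,2,1,0⟩,
   ⟨1,0,-1,0,-1,2,3,0⟩,
   ⟨1,0,-1,0,1,-2,-3,0⟩,
   ⟨1,0,-1,0,1,-2,-1,0⟩,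
   ⟨1,0,-1,0,1,-2,-1,2⟩,
   ⟨1,0,-1,0,1,-2,1,-2⟩,
   ⟨1,0,-1,0,1,-2,1,0⟩,
   ⟨1,0,-1,0,1,-2,3,0⟩,
   ⟨1,0,-1,0,1,0,-3,0⟩,
   ⟨1,0,-1,0,1,0,-1,0⟩,
   ⟨1,0,-1,0,1,0,-1,2⟩,
   ⟨1,0,-1,0,1,0,1,-2⟩,
   ⟨1,0,-1,0,1,0,1,0⟩,
   ⟨1,0,-1,0,1,0,3,0⟩,
   ⟨1,0,-1,0,3,0,-1,0⟩,
   ⟨1,0,-1,0,3,0,-1,2⟩,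
   ⟨1,0,-1,0,3,0,1,-2⟩,
   ⟨1,0,-1,0,3,0,1,0⟩,
   ⟨1,0,-1,2,-3,0,-1,0⟩,
   ⟨1,0,-1,2,-3,0,1,0⟩,
   ⟨1,0,-1,2,-1,0,-3,0⟩,
   ⟨1,0,-1,2,-1,0,-1,0⟩,
   ⟨1,0,-1,2,-1,0,-1,2⟩,
   ⟨1,0,-1,2,-1,0,1,-2⟩,
   ⟨1,0,-1,2,-1,0,1,0⟩,
   ⟨1,0,-1,2,-1,0,3,0⟩,
   ⟨1,0,-1,2,-1,2,-1,0⟩,
   ⟨1,0,-1,2,-1,2,-1,2⟩,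
   ⟨1,0,-1,2,-1,2,1,-2⟩,
   ⟨1,0,-1,2,-1,2,1,0⟩,
   ⟨1,0,-1,2,1,-2,-1,0⟩,
   ⟨1,0,-1,2,1,-2,-1,2⟩,
   ⟨1,0,-1,2,1,-2,1,-2⟩,
   ⟨1,0,-1,2,1,-2,1,0⟩,
   ⟨1,0,-1,2,1,0,-3,0⟩,
   ⟨1,0,-1,2,1,0,-1,0⟩,
   ⟨1,0,-1,2,1,0,-1,2⟩,
   ⟨1,0,-1,2,1,0,1,-2⟩,
   ⟨1,0,-1,2,1,0,1,0⟩,
   ⟨1,0,-1,2,1,0,3,0⟩,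
   ⟨1,0,-1,2,3,0,-1,0⟩,
   ⟨1,0,-1,2,3,0,1,0⟩,
   ⟨1,0,1,-2,-3,0,-1,0⟩,
   ⟨1,0,1,-2,-3,0,1,0⟩,
   ⟨1,0,1,-2,-1,0,-3,0⟩,
   ⟨1,0,1,-2,-1,0,-1,0⟩,
   ⟨1,0,1,-2,-1,0,-1,2⟩,
   ⟨1,0,1,-2,-1,0,1,-2⟩,
   ⟨1,0,1,-2,-1,0,1,0⟩,
   ⟨1,0,1,-2,-1,0,3,0⟩,
   ⟨1,0,1,-2,-1,2,-1,0⟩,
   ⟨1,0,1,-2,-1,2,-1,2⟩,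
   ⟨1,0,1,-2,-1,2,1,-2⟩,
   ⟨1,0,1,-2,-1,2,1,0⟩,
   ⟨1,0,1,-2,1,-2,-1,0⟩,
   ⟨1,0,1,-2,1,-2,-1,2⟩,
   ⟨1,0,1,-2,1,-2,1,-2⟩,
   ⟨1,0,1,-2,1,-2,1,0⟩,
   ⟨1,0,1,-2,1,0,-3,0⟩,
   ⟨1,0,1,-2,1,0,-1,0⟩,
   ⟨1,0,1,-2,1,0,-1,2⟩,
   ⟨1,0,1,-2,1,0,1,-2⟩,
   ⟨1,0,1,-2,1,0,1,0⟩,
   ⟨1,0,1,-2,1,0,3,0⟩,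
   ⟨1,0,1,-2,3,0,-1,0⟩,
   ⟨1,0,1,-2,3,0,1,0⟩,
   ⟨1,0,1,0,-3,0,-1,0⟩,
   ⟨1,0,1,0,-3,0,-1,2⟩,
   ⟨1,0,1,0,-3,0,1,-2⟩,
   ⟨1,0,1,0,-3,0,1,0⟩,
   ⟨1,0,1,0,-1,0,-3,0⟩,
   ⟨1,0,1,0,-1,0,-1,0⟩,
   ⟨1,0,1,0,-1,0,-1,2⟩,
   ⟨1,0,1,0,-1,0,1,-2⟩,
   ⟨1,0,1,0,-1,0,1,0⟩,
   ⟨1,0,1,0,-1,0,3,0⟩,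
   ⟨1,0,1,0,-1,2,-3,0⟩,
   ⟨1,0,1,0,-1,2,-1,0⟩,
   ⟨1,0,1,0,-1,2,-1,2⟩,
   ⟨1,0,1,0,-1,2,1,-2⟩,
   ⟨1,0,1,0,-1,2,1,0⟩,
   ⟨1,0,1,0,-1,2,3,0⟩,
   ⟨1,0,1,0,1,-2,-3,0⟩,
   ⟨1,0,1,0,1,-2,-1,0⟩,
   ⟨1,0,1,0,1,-2,-1,2⟩,
   ⟨1,0,1,0,1,-2,1,-2⟩,
   ⟨1,0,1,0,1,-2,1,0⟩,
   ⟨1,0,1,0,1,-2,3,0⟩,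
   ⟨1,0,1,0,1,0,-3,0⟩,
   ⟨1,0,1,0,1,0,-1,0⟩,
   ⟨1,0,1,0,1,0,-1,2⟩,
   ⟨1,0,1,0,1,0,1,-2⟩,
   ⟨1,0,1,0,1,0,1,0⟩,
   ⟨1,0,1,0,1,0,3,0⟩,
   ⟨1,0,1,0,3,0,-1,0⟩,
   ⟨1,0,1,0,3,0,-1,2⟩]

def shortChunk5_3 : List Q :=
  [⟨1,0,1,0,3,0,1,-2⟩,
   ⟨1,0,1,0,3,0,1,0⟩,
   ⟨1,0,3,0,-1,0,-1,0⟩,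
   ⟨1,0,3,0,-1,0,-1,2⟩,
   ⟨1,0,3,0,-1,0,1,-2⟩,
   ⟨1,0,3,0,-1,0,1,0⟩,
   ⟨1,0,3,0,-1,2,-1,0⟩,
   ⟨1,0,3,0,-1,2,1,0⟩,
   ⟨1,0,3,0,1,-2,-1,0⟩,
   ⟨1,0,3,0,1,-2,1,0⟩,
   ⟨1,0,3,0,1,0,-1,0⟩,
   ⟨1,0,3,0,1,0,-1,2⟩,
   ⟨1,0,3,0,1,0,1,-2⟩,
   ⟨1,0,3,0,1,0,1,0⟩,
   ⟨3,0,-1,0,-1,0,-1,0⟩,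
   ⟨3,0,-1,0,-1,0,-1,2⟩,
   ⟨3,0,-1,0,-1,0,1,-2⟩,
   ⟨3,0,-1,0,-1,0,1,0⟩,
   ⟨3,0,-1,0,-1,2,-1,0⟩,
   ⟨3,0,-1,0,-1,2,1,0⟩,
   ⟨3,0,-1,0,1,-2,-1,0⟩,
   ⟨3,0,-1,0,1,-2,1,0⟩,
   ⟨3,0,-1,0,1,0,-1,0⟩,
   ⟨3,0,-1,0,1,0,-1,2⟩,
   ⟨3,0,-1,0,1,0,1,-2⟩,
   ⟨3,0,-1,0,1,0,1,0⟩,
   ⟨3,0,-1,2,-1,0,-1,0⟩,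
   ⟨3,0,-1,2,-1,0,1,0⟩,
   ⟨3,0,-1,2,1,0,-1,0⟩,
   ⟨3,0,-1,2,1,0,1,0⟩,
   ⟨3,0,1,-2,-1,0,-1,0⟩,
   ⟨3,0,1,-2,-1,0,1,0⟩,
   ⟨3,0,1,-2,1,0,-1,0⟩,
   ⟨3,0,1,-2,1,0,1,0⟩,
   ⟨3,0,1,0,-1,0,-1,0⟩,
   ⟨3,0,1,0,-1,0,-1,2⟩,
   ⟨3,0,1,0,-1,0,1,-2⟩,
   ⟨3,0,1,0,-1,0,1,0⟩,
   ⟨3,0,1,0,-1,2,-1,0⟩,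
   ⟨3,0,1,0,-1,2,1,0⟩,
   ⟨3,0,1,0,1,-2,-1,0⟩,
   ⟨3,0,1,0,1,-2,1,0⟩,
   ⟨3,0,1,0,1,0,-1,0⟩,
   ⟨3,0,1,0,1,0,-1,2⟩,
   ⟨3,0,1,0,1,0,1,-2⟩,
   ⟨3,0,1,0,1,0,1,0⟩]

/-- the short elements of parity class 5 -/
def shortData5 : List Q := shortChunk5_0 ++ shortChunk5_1 ++ shortChunk5_2 ++ shortChunk5_3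

def shortChunk6_0 : List Q :=
  [⟨-2,0,-1,-1,-2,1,-1,0⟩,
   ⟨-2,0,-1,-1,-2,1,-1,2⟩,
   ⟨-2,0,-1,-1,-2,1,1,-2⟩,
   ⟨-2,0,-1,-1,-2,1,1,0⟩,
   ⟨-2,0,-1,-1,0,-1,-1,0⟩,
   ⟨-2,0,-1,-1,0,-1,1,0⟩,
   ⟨-2,0,-1,-1,0,1,-1,0⟩,
   ⟨-2,0,-1,-1,0,1,1,0⟩,
   ⟨-2,0,-1,-1,2,-1,-1,0⟩,
   ⟨-2,0,-1,-1,2,-1,-1,2⟩,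
   ⟨-2,0,-1,-1,2,-1,1,-2⟩,
   ⟨-2,0,-1,-1,2,-1,1,0⟩,
   ⟨-2,0,-1,1,-2,1,-1,0⟩,
   ⟨-2,0,-1,1,-2,1,1,0⟩,
   ⟨-2,0,-1,1,0,-1,-3,0⟩,
   ⟨-2,0,-1,1,0,-1,-1,0⟩,
   ⟨-2,0,-1,1,0,-1,-1,2⟩,
   ⟨-2,0,-1,1,0,-1,1,-2⟩,
   ⟨-2,0,-1,1,0,-1,1,0⟩,
   ⟨-2,0,-1,1,0,-1,3,0⟩,
   ⟨-2,0,-1,1,0,1,-3,0⟩,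
   ⟨-2,0,-1,1,0,1,-1,0⟩,
   ⟨-2,0,-1,1,0,1,-1,2⟩,
   ⟨-2,0,-1,1,0,1,1,-2⟩,
   ⟨-2,0,-1,1,0,1,1,0⟩,
   ⟨-2,0,-1,1,0,1,3,0⟩,
   ⟨-2,0,-1,1,2,-1,-1,0⟩,
   ⟨-2,0,-1,1,2,-1,1,0⟩,
   ⟨-2,0,1,-1,-2,1,-1,0⟩,
   ⟨-2,0,1,-1,-2,1,1,0⟩,
   ⟨-2,0,1,-1,0,-1,-3,0⟩,
   ⟨-2,0,1,-1,0,-1,-1,0⟩,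
   ⟨-2,0,1,-1,0,-1,-1,2⟩,
   ⟨-2,0,1,-1,0,-1,1,-2⟩,
   ⟨-2,0,1,-1,0,-1,1,0⟩,
   ⟨-2,0,1,-1,0,-1,3,0⟩,
   ⟨-2,0,1,-1,0,1,-3,0⟩,
   ⟨-2,0,1,-1,0,1,-1,0⟩,
   ⟨-2,0,1,-1,0,1,-1,2⟩,
   ⟨-2,0,1,-1,0,1,1,-2⟩,
   ⟨-2,0,1,-1,0,1,1,0⟩,
   ⟨-2,0,1,-1,0,1,3,0⟩,
   ⟨-2,0,1,-1,2,-1,-1,0⟩,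
   ⟨-2,0,1,-1,2,-1,1,0⟩,
   ⟨-2,0,1,1,-2,1,-1,0⟩,
   ⟨-2,0,1,1,-2,1,-1,2⟩,
   ⟨-2,0,1,1,-2,1,1,-2⟩,
   ⟨-2,0,1,1,-2,1,1,0⟩,
   ⟨-2,0,1,1,0,-1,-1,0⟩,
   ⟨-2,0,1,1,0,-1,1,0⟩,
   ⟨-2,0,1,1,0,1,-1,0⟩,
   ⟨-2,0,1,1,0,1,1,0⟩,
   ⟨-2,0,1,1,2,-1,-1,0⟩,
   ⟨-2,0,1,1,2,-1,-1,2⟩,
   ⟨-2,0,1,1,2,-1,1,-2⟩,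
   ⟨-2,0,1,1,2,-1,1,0⟩,
   ⟨-2,2,-1,-1,0,-1,-1,0⟩,
   ⟨-2,2,-1,-1,0,-1,-1,2⟩,
   ⟨-2,2,-1,-1,0,-1,1,-2⟩,
   ⟨-2,2,-1,-1,0,-1,1,0⟩,
   ⟨-2,2,-1,-1,0,1,-1,0⟩,
   ⟨-2,2,-1,-1,0,1,-1,2⟩,
   ⟨-2,2,-1,-1,0,1,1,-2⟩,
   ⟨-2,2,-1,-1,0,1,1,0⟩,
   ⟨-2,2,-1,1,-2,-1,-1,0⟩,
   ⟨-2,2,-1,1,-2,-1,1,0⟩,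
   ⟨-2,2,-1,1,0,-1,-1,0⟩,
   ⟨-2,2,-1,1,0,-1,1,0⟩,
   ⟨-2,2,-1,1,0,1,-1,0⟩,
   ⟨-2,2,-1,1,0,1,1,0⟩,
   ⟨-2,2,-1,1,2,1,-1,0⟩,
   ⟨-2,2,-1,1,2,1,1,0⟩,
   ⟨-2,2,1,-1,-2,-1,-1,0⟩,
   ⟨-2,2,1,-1,-2,-1,1,0⟩,
   ⟨-2,2,1,-1,0,-1,-1,0⟩,
   ⟨-2,2,1,-1,0,-1,1,0⟩,
   ⟨-2,2,1,-1,0,1,-1,0⟩,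
   ⟨-2,2,1,-1,0,1,1,0⟩,
   ⟨-2,2,1,-1,2,1,-1,0⟩,
   ⟨-2,2,1,-1,2,1,1,0⟩,
   ⟨-2,2,1,1,0,-1,-1,0⟩,
   ⟨-2,2,1,1,0,-1,-1,2⟩,
   ⟨-2,2,1,1,0,-1,1,-2⟩,
   ⟨-2,2,1,1,0,-1,1,0⟩,
   ⟨-2,2,1,1,0,1,-1,0⟩,
   ⟨-2,2,1,1,0,1,-1,2⟩,
   ⟨-2,2,1,1,0,1,1,-2⟩,
   ⟨-2,2,1,1,0,1,1,0⟩,
   ⟨0,-2,-3,1,0,-1,-1,0⟩,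
   ⟨0,-2,-3,1,0,-1,1,0⟩,
   ⟨0,-2,-3,1,0,1,-1,0⟩,
   ⟨0,-2,-3,1,0,1,1,0⟩,
   ⟨0,-2,-1,1,-2,1,-1,0⟩,
   ⟨0,-2,-1,1,-2,1,-1,2⟩,
   ⟨0,-2,-1,1,-2,1,1,-2⟩,
   ⟨0,-2,-1,1,-2,1,1,0⟩,
   ⟨0,-2,-1,1,0,-1,-1,0⟩,
   ⟨0,-2,-1,1,0,-1,1,0⟩,
   ⟨0,-2,-1,1,0,1,-1,0⟩,
   ⟨0,-2,-1,1,0,1,1,0⟩,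
   ⟨0,-2,-1,1,2,-1,-1,0⟩,
   ⟨0,-2,-1,1,2,-1,-1,2⟩,
   ⟨0,-2,-1,1,2,-1,1,-2⟩,
   ⟨0,-2,-1,1,2,-1,1,0⟩,
   ⟨0,-2,1,-1,-2,1,-1,0⟩,
   ⟨0,-2,1,-1,-2,1,-1,2⟩,
   ⟨0,-2,1,-1,-2,1,1,-2⟩,
   ⟨0,-2,1,-1,-2,1,1,0⟩,
   ⟨0,-2,1,-1,0,-1,-1,0⟩,
   ⟨0,-2,1,-1,0,-1,1,0⟩,
   ⟨0,-2,1,-1,0,1,-1,0⟩,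
   ⟨0,-2,1,-1,0,1,1,0⟩,
   ⟨0,-2,1,-1,2,-1,-1,0⟩,
   ⟨0,-2,1,-1,2,-1,-1,2⟩,
   ⟨0,-2,1,-1,2,-1,1,-2⟩,
   ⟨0,-2,1,-1,2,-1,1,0⟩,
   ⟨0,-2,3,-1,0,-1,-1,0⟩,
   ⟨0,-2,3,-1,0,-1,1,0⟩,
   ⟨0,-2,3,-1,0,1,-1,0⟩,
   ⟨0,-2,3,-1,0,1,1,0⟩,
   ⟨0,0,-3,1,-2,-1,-1,0⟩,
   ⟨0,0,-3,1,-2,-1,1,0⟩,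
   ⟨0,0,-3,1,0,-1,-1,0⟩,
   ⟨0,0,-3,1,0,-1,1,0⟩,
   ⟨0,0,-3,1,0,1,-1,0⟩,
   ⟨0,0,-3,1,0,1,1,0⟩,
   ⟨0,0,-3,1,2,1,-1,0⟩,
   ⟨0,0,-3,1,2,1,1,0⟩,
   ⟨0,0,-1,-1,-2,1,-3,0⟩,
   ⟨0,0,-1,-1,-2,1,-1,0⟩,
   ⟨0,0,-1,-1,-2,1,-1,2⟩,
   ⟨0,0,-1,-1,-2,1,1,-2⟩,
   ⟨0,0,-1,-1,-2,1,1,0⟩,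
   ⟨0,0,-1,-1,-2,1,3,0⟩,
   ⟨0,0,-1,-1,-2,3,-1,0⟩,
   ⟨0,0,-1,-1,-2,3,1,0⟩,
   ⟨0,0,-1,-1,0,-1,-1,0⟩,
   ⟨0,0,-1,-1,0,-1,-1,2⟩,
   ⟨0,0,-1,-1,0,-1,1,-2⟩,
   ⟨0,0,-1,-1,0,-1,1,0⟩,
   ⟨0,0,-1,-1,0,1,-1,0⟩,
   ⟨0,0,-1,-1,0,1,-1,2⟩,
   ⟨0,0,-1,-1,0,1,1,-2⟩,
   ⟨0,0,-1,-1,0,1,1,0⟩,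
   ⟨0,0,-1,-1,2,-3,-1,0⟩,
   ⟨0,0,-1,-1,2,-3,1,0⟩,
   ⟨0,0,-1,-1,2,-1,-3,0⟩,
   ⟨0,0,-1,-1,2,-1,-1,0⟩,
   ⟨0,0,-1,-1,2,-1,-1,2⟩,
   ⟨0,0,-1,-1,2,-1,1,-2⟩]

def shortChunk6_1 : List Q :=
  [⟨0,0,-1,-1,2,-1,1,0⟩,
   ⟨0,0,-1,-1,2,-1,3,0⟩,
   ⟨0,0,-1,1,-2,-1,-1,0⟩,
   ⟨0,0,-1,1,-2,-1,1,0⟩,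
   ⟨0,0,-1,1,-2,1,-1,0⟩,
   ⟨0,0,-1,1,-2,1,-1,2⟩,
   ⟨0,0,-1,1,-2,1,1,-2⟩,
   ⟨0,0,-1,1,-2,1,1,0⟩,
   ⟨0,0,-1,1,0,-1,-3,0⟩,
   ⟨0,0,-1,1,0,-1,-1,0⟩,
   ⟨0,0,-1,1,0,-1,-1,2⟩,
   ⟨0,0,-1,1,0,-1,1,-2⟩,
   ⟨0,0,-1,1,0,-1,1,0⟩,
   ⟨0,0,-1,1,0,-1,3,0⟩,
   ⟨0,0,-1,1,0,1,-3,0⟩,
   ⟨0,0,-1,1,0,1,-1,0⟩,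
   ⟨0,0,-1,1,0,1,-1,2⟩,
   ⟨0,0,-1,1,0,1,1,-2⟩,
   ⟨0,0,-1,1,0,1,1,0⟩,
   ⟨0,0,-1,1,0,1,3,0⟩,
   ⟨0,0,-1,1,2,-1,-1,0⟩,
   ⟨0,0,-1,1,2,-1,-1,2⟩,
   ⟨0,0,-1,1,2,-1,1,-2⟩,
   ⟨0,0,-1,1,2,-1,1,0⟩,
   ⟨0,0,-1,1,2,1,-1,0⟩,
   ⟨0,0,-1,1,2,1,1,0⟩,
   ⟨0,0,-1,3,-2,1,-1,0⟩,
   ⟨0,0,-1,3,-2,1,1,0⟩,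
   ⟨0,0,-1,3,2,-1,-1,0⟩,
   ⟨0,0,-1,3,2,-1,1,0⟩,
   ⟨0,0,1,-3,-2,1,-1,0⟩,
   ⟨0,0,1,-3,-2,1,1,0⟩,
   ⟨0,0,1,-3,2,-1,-1,0⟩,
   ⟨0,0,1,-3,2,-1,1,0⟩,
   ⟨0,0,1,-1,-2,-1,-1,0⟩,
   ⟨0,0,1,-1,-2,-1,1,0⟩,
   ⟨0,0,1,-1,-2,1,-1,0⟩,
   ⟨0,0,1,-1,-2,1,-1,2⟩,
   ⟨0,0,1,-1,-2,1,1,-2⟩,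
   ⟨0,0,1,-1,-2,1,1,0⟩,
   ⟨0,0,1,-1,0,-1,-3,0⟩,
   ⟨0,0,1,-1,0,-1,-1,0⟩,
   ⟨0,0,1,-1,0,-1,-1,2⟩,
   ⟨0,0,1,-1,0,-1,1,-2⟩,
   ⟨0,0,1,-1,0,-1,1,0⟩,
   ⟨0,0,1,-1,0,-1,3,0⟩,
   ⟨0,0,1,-1,0,1,-3,0⟩,
   ⟨0,0,1,-1,0,1,-1,0⟩,
   ⟨0,0,1,-1,0,1,-1,2⟩,
   ⟨0,0,1,-1,0,1,1,-2⟩,
   ⟨0,0,1,-1,0,1,1,0⟩,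
   ⟨0,0,1,-1,0,1,3,0⟩,
   ⟨0,0,1,-1,2,-1,-1,0⟩,
   ⟨0,0,1,-1,2,-1,-1,2⟩,
   ⟨0,0,1,-1,2,-1,1,-2⟩,
   ⟨0,0,1,-1,2,-1,1,0⟩,
   ⟨0,0,1,-1,2,1,-1,0⟩,
   ⟨0,0,1,-1,2,1,1,0⟩,
   ⟨0,0,1,1,-2,1,-3,0⟩,
   ⟨0,0,1,1,-2,1,-1,0⟩,
   ⟨0,0,1,1,-2,1,-1,2⟩,
   ⟨0,0,1,1,-2,1,1,-2⟩,
   ⟨0,0,1,1,-2,1,1,0⟩,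
   ⟨0,0,1,1,-2,1,3,0⟩,
   ⟨0,0,1,1,-2,3,-1,0⟩,
   ⟨0,0,1,1,-2,3,1,0⟩,
   ⟨0,0,1,1,0,-1,-1,0⟩,
   ⟨0,0,1,1,0,-1,-1,2⟩,
   ⟨0,0,1,1,0,-1,1,-2⟩,
   ⟨0,0,1,1,0,-1,1,0⟩,
   ⟨0,0,1,1,0,1,-1,0⟩,
   ⟨0,0,1,1,0,1,-1,2⟩,
   ⟨0,0,1,1,0,1,1,-2⟩,
   ⟨0,0,1,1,0,1,1,0⟩,
   ⟨0,0,1,1,2,-3,-1,0⟩,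
   ⟨0,0,1,1,2,-3,1,0⟩,
   ⟨0,0,1,1,2,-1,-3,0⟩,
   ⟨0,0,1,1,2,-1,-1,0⟩,
   ⟨0,0,1,1,2,-1,-1,2⟩,
   ⟨0,0,1,1,2,-1,1,-2⟩,
   ⟨0,0,1,1,2,-1,1,0⟩,
   ⟨0,0,1,1,2,-1,3,0⟩,
   ⟨0,0,3,-1,-2,-1,-1,0⟩,
   ⟨0,0,3,-1,-2,-1,1,0⟩,
   ⟨0,0,3,-1,0,-1,-1,0⟩,
   ⟨0,0,3,-1,0,-1,1,0⟩,
   ⟨0,0,3,-1,0,1,-1,0⟩,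
   ⟨0,0,3,-1,0,1,1,0⟩,
   ⟨0,0,3,-1,2,1,-1,0⟩,
   ⟨0,0,3,-1,2,1,1,0⟩,
   ⟨0,2,-3,1,0,-1,-1,0⟩,
   ⟨0,2,-3,1,0,-1,1,0⟩,
   ⟨0,2,-3,1,0,1,-1,0⟩,
   ⟨0,2,-3,1,0,1,1,0⟩,
   ⟨0,2,-1,1,-2,1,-1,0⟩,
   ⟨0,2,-1,1,-2,1,-1,2⟩,
   ⟨0,2,-1,1,-2,1,1,-2⟩,
   ⟨0,2,-1,1,-2,1,1,0⟩,
   ⟨0,2,-1,1,0,-1,-1,0⟩,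
   ⟨0,2,-1,1,0,-1,1,0⟩,
   ⟨0,2,-1,1,0,1,-1,0⟩,
   ⟨0,2,-1,1,0,1,1,0⟩,
   ⟨0,2,-1,1,2,-1,-1,0⟩,
   ⟨0,2,-1,1,2,-1,-1,2⟩,
   ⟨0,2,-1,1,2,-1,1,-2⟩,
   ⟨0,2,-1,1,2,-1,1,0⟩,
   ⟨0,2,1,-1,-2,1,-1,0⟩,
   ⟨0,2,1,-1,-2,1,-1,2⟩,
   ⟨0,2,1,-1,-2,1,1,-2⟩,
   ⟨0,2,1,-1,-2,1,1,0⟩,
   ⟨0,2,1,-1,0,-1,-1,0⟩,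
   ⟨0,2,1,-1,0,-1,1,0⟩,
   ⟨0,2,1,-1,0,1,-1,0⟩,
   ⟨0,2,1,-1,0,1,1,0⟩,
   ⟨0,2,1,-1,2,-1,-1,0⟩,
   ⟨0,2,1,-1,2,-1,-1,2⟩,
   ⟨0,2,1,-1,2,-1,1,-2⟩,
   ⟨0,2,1,-1,2,-1,1,0⟩,
   ⟨0,2,3,-1,0,-1,-1,0⟩,
   ⟨0,2,3,-1,0,-1,1,0⟩,
   ⟨0,2,3,-1,0,1,-1,0⟩,
   ⟨0,2,3,-1,0,1,1,0⟩,
   ⟨2,-2,-1,-1,0,-1,-1,0⟩,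
   ⟨2,-2,-1,-1,0,-1,-1,2⟩,
   ⟨2,-2,-1,-1,0,-1,1,-2⟩,
   ⟨2,-2,-1,-1,0,-1,1,0⟩,
   ⟨2,-2,-1,-1,0,1,-1,0⟩,
   ⟨2,-2,-1,-1,0,1,-1,2⟩,
   ⟨2,-2,-1,-1,0,1,1,-2⟩,
   ⟨2,-2,-1,-1,0,1,1,0⟩,
   ⟨2,-2,-1,1,-2,-1,-1,0⟩,
   ⟨2,-2,-1,1,-2,-1,1,0⟩,
   ⟨2,-2,-1,1,0,-1,-1,0⟩,
   ⟨2,-2,-1,1,0,-1,1,0⟩,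
   ⟨2,-2,-1,1,0,1,-1,0⟩,
   ⟨2,-2,-1,1,0,1,1,0⟩,
   ⟨2,-2,-1,1,2,1,-1,0⟩,
   ⟨2,-2,-1,1,2,1,1,0⟩,
   ⟨2,-2,1,-1,-2,-1,-1,0⟩,
   ⟨2,-2,1,-1,-2,-1,1,0⟩,
   ⟨2,-2,1,-1,0,-1,-1,0⟩,
   ⟨2,-2,1,-1,0,-1,1,0⟩,
   ⟨2,-2,1,-1,0,1,-1,0⟩,
   ⟨2,-2,1,-1,0,1,1,0⟩,
   ⟨2,-2,1,-1,2,1,-1,0⟩,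
   ⟨2,-2,1,-1,2,1,1,0⟩,
   ⟨2,-2,1,1,0,-1,-1,0⟩,
   ⟨2,-2,1,1,0,-1,-1,2⟩,
   ⟨2,-2,1,1,0,-1,1,-2⟩,
   ⟨2,-2,1,1,0,-1,1,0⟩]

def shortChunk6_2 : List Q :=
  [⟨2,-2,1,1,0,1,-1,0⟩,
   ⟨2,-2,1,1,0,1,-1,2⟩,
   ⟨2,-2,1,1,0,1,1,-2⟩,
   ⟨2,-2,1,1,0,1,1,0⟩,
   ⟨2,0,-1,-1,-2,1,-1,0⟩,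
   ⟨2,0,-1,-1,-2,1,-1,2⟩,
   ⟨2,0,-1,-1,-2,1,1,-2⟩,
   ⟨2,0,-1,-1,-2,1,1,0⟩,
   ⟨2,0,-1,-1,0,-1,-1,0⟩,
   ⟨2,0,-1,-1,0,-1,1,0⟩,
   ⟨2,0,-1,-1,0,1,-1,0⟩,
   ⟨2,0,-1,-1,0,1,1,0⟩,
   ⟨2,0,-1,-1,2,-1,-1,0⟩,
   ⟨2,0,-1,-1,2,-1,-1,2⟩,
   ⟨2,0,-1,-1,2,-1,1,-2⟩,
   ⟨2,0,-1,-1,2,-1,1,0⟩,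
   ⟨2,0,-1,1,-2,1,-1,0⟩,
   ⟨2,0,-1,1,-2,1,1,0⟩,
   ⟨2,0,-1,1,0,-1,-3,0⟩,
   ⟨2,0,-1,1,0,-1,-1,0⟩,
   ⟨2,0,-1,1,0,-1,-1,2⟩,
   ⟨2,0,-1,1,0,-1,1,-2⟩,
   ⟨2,0,-1,1,0,-1,1,0⟩,
   ⟨2,0,-1,1,0,-1,3,0⟩,
   ⟨2,0,-1,1,0,1,-3,0⟩,
   ⟨2,0,-1,1,0,1,-1,0⟩,
   ⟨2,0,-1,1,0,1,-1,2⟩,
   ⟨2,0,-1,1,0,1,1,-2⟩,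
   ⟨2,0,-1,1,0,1,1,0⟩,
   ⟨2,0,-1,1,0,1,3,0⟩,
   ⟨2,0,-1,1,2,-1,-1,0⟩,
   ⟨2,0,-1,1,2,-1,1,0⟩,
   ⟨2,0,1,-1,-2,1,-1,0⟩,
   ⟨2,0,1,-1,-2,1,1,0⟩,
   ⟨2,0,1,-1,0,-1,-3,0⟩,
   ⟨2,0,1,-1,0,-1,-1,0⟩,
   ⟨2,0,1,-1,0,-1,-1,2⟩,
   ⟨2,0,1,-1,0,-1,1,-2⟩,
   ⟨2,0,1,-1,0,-1,1,0⟩,
   ⟨2,0,1,-1,0,-1,3,0⟩,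
   ⟨2,0,1,-1,0,1,-3,0⟩,
   ⟨2,0,1,-1,0,1,-1,0⟩,
   ⟨2,0,1,-1,0,1,-1,2⟩,
   ⟨2,0,1,-1,0,1,1,-2⟩,
   ⟨2,0,1,-1,0,1,1,0⟩,
   ⟨2,0,1,-1,0,1,3,0⟩,
   ⟨2,0,1,-1,2,-1,-1,0⟩,
   ⟨2,0,1,-1,2,-1,1,0⟩,
   ⟨2,0,1,1,-2,1,-1,0⟩,
   ⟨2,0,1,1,-2,1,-1,2⟩,
   ⟨2,0,1,1,-2,1,1,-2⟩,
   ⟨2,0,1,1,-2,1,1,0⟩,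
   ⟨2,0,1,1,0,-1,-1,0⟩,
   ⟨2,0,1,1,0,-1,1,0⟩,
   ⟨2,0,1,1,0,1,-1,0⟩,
   ⟨2,0,1,1,0,1,1,0⟩,
   ⟨2,0,1,1,2,-1,-1,0⟩,
   ⟨2,0,1,1,2,-1,-1,2⟩,
   ⟨2,0,1,1,2,-1,1,-2⟩,
   ⟨2,0,1,1,2,-1,1,0⟩]

/-- the short elements of parity class 6 -/
def shortData6 : List Q := shortChunk6_0 ++ shortChunk6_1 ++ shortChunk6_2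

def shortChunk7_0 : List Q :=
  [⟨-2,-1,-2,2,-1,1,-1,0⟩,
   ⟨-2,-1,-2,2,-1,1,1,0⟩,
   ⟨-2,-1,-2,2,1,-1,-1,0⟩,
   ⟨-2,-1,-2,2,1,-1,1,0⟩,
   ⟨-2,-1,0,0,-3,1,-1,0⟩,
   ⟨-2,-1,0,0,-3,1,1,0⟩,
   ⟨-2,-1,0,0,-1,1,-1,0⟩,
   ⟨-2,-1,0,0,-1,1,1,0⟩,
   ⟨-2,-1,0,0,1,-1,-1,0⟩,
   ⟨-2,-1,0,0,1,-1,1,0⟩,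
   ⟨-2,-1,0,0,3,-1,-1,0⟩,
   ⟨-2,-1,0,0,3,-1,1,0⟩,
   ⟨-2,-1,2,-2,-1,1,-1,0⟩,
   ⟨-2,-1,2,-2,-1,1,1,0⟩,
   ⟨-2,-1,2,-2,1,-1,-1,0⟩,
   ⟨-2,-1,2,-2,1,-1,1,0⟩,
   ⟨-2,1,-2,0,-1,-1,-1,0⟩,
   ⟨-2,1,-2,0,-1,-1,-1,2⟩,
   ⟨-2,1,-2,0,-1,-1,1,-2⟩,
   ⟨-2,1,-2,0,-1,-1,1,0⟩,
   ⟨-2,1,-2,0,-1,1,-1,0⟩,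
   ⟨-2,1,-2,0,-1,1,1,0⟩,
   ⟨-2,1,-2,0,1,-1,-1,0⟩,
   ⟨-2,1,-2,0,1,-1,1,0⟩,
   ⟨-2,1,-2,0,1,1,-1,0⟩,
   ⟨-2,1,-2,0,1,1,-1,2⟩,
   ⟨-2,1,-2,0,1,1,1,-2⟩,
   ⟨-2,1,-2,0,1,1,1,0⟩,
   ⟨-2,1,0,-2,-1,1,-1,0⟩,
   ⟨-2,1,0,-2,-1,1,-1,2⟩,
   ⟨-2,1,0,-2,-1,1,1,-2⟩,
   ⟨-2,1,0,-2,-1,1,1,0⟩,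
   ⟨-2,1,0,-2,1,-1,-1,0⟩,
   ⟨-2,1,0,-2,1,-1,-1,2⟩,
   ⟨-2,1,0,-2,1,-1,1,-2⟩,
   ⟨-2,1,0,-2,1,-1,1,0⟩,
   ⟨-2,1,0,0,-1,-1,-3,0⟩,
   ⟨-2,1,0,0,-1,-1,-1,0⟩,
   ⟨-2,1,0,0,-1,-1,-1,2⟩,
   ⟨-2,1,0,0,-1,-1,1,-2⟩,
   ⟨-2,1,0,0,-1,-1,1,0⟩,
   ⟨-2,1,0,0,-1,-1,3,0⟩,
   ⟨-2,1,0,0,-1,1,-1,0⟩,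
   ⟨-2,1,0,0,-1,1,-1,2⟩,
   ⟨-2,1,0,0,-1,1,1,-2⟩,
   ⟨-2,1,0,0,-1,1,1,0⟩,
   ⟨-2,1,0,0,-1,3,-1,0⟩,
   ⟨-2,1,0,0,-1,3,1,0⟩,
   ⟨-2,1,0,0,1,-3,-1,0⟩,
   ⟨-2,1,0,0,1,-3,1,0⟩,
   ⟨-2,1,0,0,1,-1,-1,0⟩,
   ⟨-2,1,0,0,1,-1,-1,2⟩,
   ⟨-2,1,0,0,1,-1,1,-2⟩,
   ⟨-2,1,0,0,1,-1,1,0⟩,
   ⟨-2,1,0,0,1,1,-3,0⟩,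
   ⟨-2,1,0,0,1,1,-1,0⟩,
   ⟨-2,1,0,0,1,1,-1,2⟩,
   ⟨-2,1,0,0,1,1,1,-2⟩,
   ⟨-2,1,0,0,1,1,1,0⟩,
   ⟨-2,1,0,0,1,1,3,0⟩,
   ⟨-2,1,0,2,-1,1,-1,0⟩,
   ⟨-2,1,0,2,-1,1,-1,2⟩,
   ⟨-2,1,0,2,-1,1,1,-2⟩,
   ⟨-2,1,0,2,-1,1,1,0⟩,
   ⟨-2,1,0,2,1,-1,-1,0⟩,
   ⟨-2,1,0,2,1,-1,-1,2⟩,
   ⟨-2,1,0,2,1,-1,1,-2⟩,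
   ⟨-2,1,0,2,1,-1,1,0⟩,
   ⟨-2,1,2,0,-1,-1,-1,0⟩,
   ⟨-2,1,2,0,-1,-1,-1,2⟩,
   ⟨-2,1,2,0,-1,-1,1,-2⟩,
   ⟨-2,1,2,0,-1,-1,1,0⟩,
   ⟨-2,1,2,0,-1,1,-1,0⟩,
   ⟨-2,1,2,0,-1,1,1,0⟩,
   ⟨-2,1,2,0,1,-1,-1,0⟩,
   ⟨-2,1,2,0,1,-1,1,0⟩,
   ⟨-2,1,2,0,1,1,-1,0⟩,
   ⟨-2,1,2,0,1,1,-1,2⟩,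
   ⟨-2,1,2,0,1,1,1,-2⟩,
   ⟨-2,1,2,0,1,1,1,0⟩,
   ⟨-2,3,0,0,-1,-1,-1,0⟩,
   ⟨-2,3,0,0,-1,-1,1,0⟩,
   ⟨-2,3,0,0,1,1,-1,0⟩,
   ⟨-2,3,0,0,1,1,1,0⟩,
   ⟨0,-1,-2,0,-1,-1,-1,0⟩,
   ⟨0,-1,-2,0,-1,-1,1,0⟩,
   ⟨0,-1,-2,0,-1,1,-3,0⟩,
   ⟨0,-1,-2,0,-1,1,-1,0⟩,
   ⟨0,-1,-2,0,-1,1,-1,2⟩,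
   ⟨0,-1,-2,0,-1,1,1,-2⟩,
   ⟨0,-1,-2,0,-1,1,1,0⟩,
   ⟨0,-1,-2,0,-1,1,3,0⟩,
   ⟨0,-1,-2,0,1,-1,-3,0⟩,
   ⟨0,-1,-2,0,1,-1,-1,0⟩,
   ⟨0,-1,-2,0,1,-1,-1,2⟩,
   ⟨0,-1,-2,0,1,-1,1,-2⟩,
   ⟨0,-1,-2,0,1,-1,1,0⟩,
   ⟨0,-1,-2,0,1,-1,3,0⟩,
   ⟨0,-1,-2,0,1,1,-1,0⟩,
   ⟨0,-1,-2,0,1,1,1,0⟩,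
   ⟨0,-1,-2,2,-1,-1,-1,0⟩,
   ⟨0,-1,-2,2,-1,-1,-1,2⟩,
   ⟨0,-1,-2,2,-1,-1,1,-2⟩,
   ⟨0,-1,-2,2,-1,-1,1,0⟩,
   ⟨0,-1,-2,2,-1,1,-1,0⟩,
   ⟨0,-1,-2,2,-1,1,1,0⟩,
   ⟨0,-1,-2,2,1,-1,-1,0⟩,
   ⟨0,-1,-2,2,1,-1,1,0⟩,
   ⟨0,-1,-2,2,1,1,-1,0⟩,
   ⟨0,-1,-2,2,1,1,-1,2⟩,
   ⟨0,-1,-2,2,1,1,1,-2⟩,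
   ⟨0,-1,-2,2,1,1,1,0⟩,
   ⟨0,-1,0,-2,-3,1,-1,0⟩,
   ⟨0,-1,0,-2,-3,1,1,0⟩,
   ⟨0,-1,0,-2,-1,1,-1,0⟩,
   ⟨0,-1,0,-2,-1,1,1,0⟩,
   ⟨0,-1,0,-2,1,-1,-1,0⟩,
   ⟨0,-1,0,-2,1,-1,1,0⟩,
   ⟨0,-1,0,-2,3,-1,-1,0⟩,
   ⟨0,-1,0,-2,3,-1,1,0⟩,
   ⟨0,-1,0,0,-3,1,-1,0⟩,
   ⟨0,-1,0,0,-3,1,1,0⟩,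
   ⟨0,-1,0,0,-1,-1,-1,0⟩,
   ⟨0,-1,0,0,-1,-1,-1,2⟩,
   ⟨0,-1,0,0,-1,-1,1,-2⟩,
   ⟨0,-1,0,0,-1,-1,1,0⟩,
   ⟨0,-1,0,0,-1,1,-3,0⟩,
   ⟨0,-1,0,0,-1,1,-1,0⟩,
   ⟨0,-1,0,0,-1,1,-1,2⟩,
   ⟨0,-1,0,0,-1,1,1,-2⟩,
   ⟨0,-1,0,0,-1,1,1,0⟩,
   ⟨0,-1,0,0,-1,1,3,0⟩,
   ⟨0,-1,0,0,1,-1,-3,0⟩,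
   ⟨0,-1,0,0,1,-1,-1,0⟩,
   ⟨0,-1,0,0,1,-1,-1,2⟩,
   ⟨0,-1,0,0,1,-1,1,-2⟩,
   ⟨0,-1,0,0,1,-1,1,0⟩,
   ⟨0,-1,0,0,1,-1,3,0⟩,
   ⟨0,-1,0,0,1,1,-1,0⟩,
   ⟨0,-1,0,0,1,1,-1,2⟩,
   ⟨0,-1,0,0,1,1,1,-2⟩,
   ⟨0,-1,0,0,1,1,1,0⟩,
   ⟨0,-1,0,0,3,-1,-1,0⟩,
   ⟨0,-1,0,0,3,-1,1,0⟩,
   ⟨0,-1,0,2,-3,1,-1,0⟩,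
   ⟨0,-1,0,2,-3,1,1,0⟩,
   ⟨0,-1,0,2,-1,1,-1,0⟩,
   ⟨0,-1,0,2,-1,1,1,0⟩,
   ⟨0,-1,0,2,1,-1,-1,0⟩,
   ⟨0,-1,0,2,1,-1,1,0⟩]

def shortChunk7_1 : List Q :=
  [⟨0,-1,0,2,3,-1,-1,0⟩,
   ⟨0,-1,0,2,3,-1,1,0⟩,
   ⟨0,-1,2,-2,-1,-1,-1,0⟩,
   ⟨0,-1,2,-2,-1,-1,-1,2⟩,
   ⟨0,-1,2,-2,-1,-1,1,-2⟩,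
   ⟨0,-1,2,-2,-1,-1,1,0⟩,
   ⟨0,-1,2,-2,-1,1,-1,0⟩,
   ⟨0,-1,2,-2,-1,1,1,0⟩,
   ⟨0,-1,2,-2,1,-1,-1,0⟩,
   ⟨0,-1,2,-2,1,-1,1,0⟩,
   ⟨0,-1,2,-2,1,1,-1,0⟩,
   ⟨0,-1,2,-2,1,1,-1,2⟩,
   ⟨0,-1,2,-2,1,1,1,-2⟩,
   ⟨0,-1,2,-2,1,1,1,0⟩,
   ⟨0,-1,2,0,-1,-1,-1,0⟩,
   ⟨0,-1,2,0,-1,-1,1,0⟩,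
   ⟨0,-1,2,0,-1,1,-3,0⟩,
   ⟨0,-1,2,0,-1,1,-1,0⟩,
   ⟨0,-1,2,0,-1,1,-1,2⟩,
   ⟨0,-1,2,0,-1,1,1,-2⟩,
   ⟨0,-1,2,0,-1,1,1,0⟩,
   ⟨0,-1,2,0,-1,1,3,0⟩,
   ⟨0,-1,2,0,1,-1,-3,0⟩,
   ⟨0,-1,2,0,1,-1,-1,0⟩,
   ⟨0,-1,2,0,1,-1,-1,2⟩,
   ⟨0,-1,2,0,1,-1,1,-2⟩,
   ⟨0,-1,2,0,1,-1,1,0⟩,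
   ⟨0,-1,2,0,1,-1,3,0⟩,
   ⟨0,-1,2,0,1,1,-1,0⟩,
   ⟨0,-1,2,0,1,1,1,0⟩,
   ⟨0,1,-2,0,-1,-1,-1,0⟩,
   ⟨0,1,-2,0,-1,-1,1,0⟩,
   ⟨0,1,-2,0,-1,1,-3,0⟩,
   ⟨0,1,-2,0,-1,1,-1,0⟩,
   ⟨0,1,-2,0,-1,1,-1,2⟩,
   ⟨0,1,-2,0,-1,1,1,-2⟩,
   ⟨0,1,-2,0,-1,1,1,0⟩,
   ⟨0,1,-2,0,-1,1,3,0⟩,
   ⟨0,1,-2,0,1,-1,-3,0⟩,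
   ⟨0,1,-2,0,1,-1,-1,0⟩,
   ⟨0,1,-2,0,1,-1,-1,2⟩,
   ⟨0,1,-2,0,1,-1,1,-2⟩,
   ⟨0,1,-2,0,1,-1,1,0⟩,
   ⟨0,1,-2,0,1,-1,3,0⟩,
   ⟨0,1,-2,0,1,1,-1,0⟩,
   ⟨0,1,-2,0,1,1,1,0⟩,
   ⟨0,1,-2,2,-1,-1,-1,0⟩,
   ⟨0,1,-2,2,-1,-1,-1,2⟩,
   ⟨0,1,-2,2,-1,-1,1,-2⟩,
   ⟨0,1,-2,2,-1,-1,1,0⟩,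
   ⟨0,1,-2,2,-1,1,-1,0⟩,
   ⟨0,1,-2,2,-1,1,1,0⟩,
   ⟨0,1,-2,2,1,-1,-1,0⟩,
   ⟨0,1,-2,2,1,-1,1,0⟩,
   ⟨0,1,-2,2,1,1,-1,0⟩,
   ⟨0,1,-2,2,1,1,-1,2⟩,
   ⟨0,1,-2,2,1,1,1,-2⟩,
   ⟨0,1,-2,2,1,1,1,0⟩,
   ⟨0,1,0,-2,-3,1,-1,0⟩,
   ⟨0,1,0,-2,-3,1,1,0⟩,
   ⟨0,1,0,-2,-1,1,-1,0⟩,
   ⟨0,1,0,-2,-1,1,1,0⟩,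
   ⟨0,1,0,-2,1,-1,-1,0⟩,
   ⟨0,1,0,-2,1,-1,1,0⟩,
   ⟨0,1,0,-2,3,-1,-1,0⟩,
   ⟨0,1,0,-2,3,-1,1,0⟩,
   ⟨0,1,0,0,-3,1,-1,0⟩,
   ⟨0,1,0,0,-3,1,1,0⟩,
   ⟨0,1,0,0,-1,-1,-1,0⟩,
   ⟨0,1,0,0,-1,-1,-1,2⟩,
   ⟨0,1,0,0,-1,-1,1,-2⟩,
   ⟨0,1,0,0,-1,-1,1,0⟩,
   ⟨0,1,0,0,-1,1,-3,0⟩,
   ⟨0,1,0,0,-1,1,-1,0⟩,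
   ⟨0,1,0,0,-1,1,-1,2⟩,
   ⟨0,1,0,0,-1,1,1,-2⟩,
   ⟨0,1,0,0,-1,1,1,0⟩,
   ⟨0,1,0,0,-1,1,3,0⟩,
   ⟨0,1,0,0,1,-1,-3,0⟩,
   ⟨0,1,0,0,1,-1,-1,0⟩,
   ⟨0,1,0,0,1,-1,-1,2⟩,
   ⟨0,1,0,0,1,-1,1,-2⟩,
   ⟨0,1,0,0,1,-1,1,0⟩,
   ⟨0,1,0,0,1,-1,3,0⟩,
   ⟨0,1,0,0,1,1,-1,0⟩,
   ⟨0,1,0,0,1,1,-1,2⟩,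
   ⟨0,1,0,0,1,1,1,-2⟩,
   ⟨0,1,0,0,1,1,1,0⟩,
   ⟨0,1,0,0,3,-1,-1,0⟩,
   ⟨0,1,0,0,3,-1,1,0⟩,
   ⟨0,1,0,2,-3,1,-1,0⟩,
   ⟨0,1,0,2,-3,1,1,0⟩,
   ⟨0,1,0,2,-1,1,-1,0⟩,
   ⟨0,1,0,2,-1,1,1,0⟩,
   ⟨0,1,0,2,1,-1,-1,0⟩,
   ⟨0,1,0,2,1,-1,1,0⟩,
   ⟨0,1,0,2,3,-1,-1,0⟩,
   ⟨0,1,0,2,3,-1,1,0⟩,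
   ⟨0,1,2,-2,-1,-1,-1,0⟩,
   ⟨0,1,2,-2,-1,-1,-1,2⟩,
   ⟨0,1,2,-2,-1,-1,1,-2⟩,
   ⟨0,1,2,-2,-1,-1,1,0⟩,
   ⟨0,1,2,-2,-1,1,-1,0⟩,
   ⟨0,1,2,-2,-1,1,1,0⟩,
   ⟨0,1,2,-2,1,-1,-1,0⟩,
   ⟨0,1,2,-2,1,-1,1,0⟩,
   ⟨0,1,2,-2,1,1,-1,0⟩,
   ⟨0,1,2,-2,1,1,-1,2⟩,
   ⟨0,1,2,-2,1,1,1,-2⟩,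
   ⟨0,1,2,-2,1,1,1,0⟩,
   ⟨0,1,2,0,-1,-1,-1,0⟩,
   ⟨0,1,2,0,-1,-1,1,0⟩,
   ⟨0,1,2,0,-1,1,-3,0⟩,
   ⟨0,1,2,0,-1,1,-1,0⟩,
   ⟨0,1,2,0,-1,1,-1,2⟩,
   ⟨0,1,2,0,-1,1,1,-2⟩,
   ⟨0,1,2,0,-1,1,1,0⟩,
   ⟨0,1,2,0,-1,1,3,0⟩,
   ⟨0,1,2,0,1,-1,-3,0⟩,
   ⟨0,1,2,0,1,-1,-1,0⟩,
   ⟨0,1,2,0,1,-1,-1,2⟩,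
   ⟨0,1,2,0,1,-1,1,-2⟩,
   ⟨0,1,2,0,1,-1,1,0⟩,
   ⟨0,1,2,0,1,-1,3,0⟩,
   ⟨0,1,2,0,1,1,-1,0⟩,
   ⟨0,1,2,0,1,1,1,0⟩,
   ⟨2,-3,0,0,-1,-1,-1,0⟩,
   ⟨2,-3,0,0,-1,-1,1,0⟩,
   ⟨2,-3,0,0,1,1,-1,0⟩,
   ⟨2,-3,0,0,1,1,1,0⟩,
   ⟨2,-1,-2,0,-1,-1,-1,0⟩,
   ⟨2,-1,-2,0,-1,-1,-1,2⟩,
   ⟨2,-1,-2,0,-1,-1,1,-2⟩,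
   ⟨2,-1,-2,0,-1,-1,1,0⟩,
   ⟨2,-1,-2,0,-1,1,-1,0⟩,
   ⟨2,-1,-2,0,-1,1,1,0⟩,
   ⟨2,-1,-2,0,1,-1,-1,0⟩,
   ⟨2,-1,-2,0,1,-1,1,0⟩,
   ⟨2,-1,-2,0,1,1,-1,0⟩,
   ⟨2,-1,-2,0,1,1,-1,2⟩,
   ⟨2,-1,-2,0,1,1,1,-2⟩,
   ⟨2,-1,-2,0,1,1,1,0⟩,
   ⟨2,-1,0,-2,-1,1,-1,0⟩,
   ⟨2,-1,0,-2,-1,1,-1,2⟩,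
   ⟨2,-1,0,-2,-1,1,1,-2⟩,
   ⟨2,-1,0,-2,-1,1,1,0⟩,
   ⟨2,-1,0,-2,1,-1,-1,0⟩,
   ⟨2,-1,0,-2,1,-1,-1,2⟩,
   ⟨2,-1,0,-2,1,-1,1,-2⟩,
   ⟨2,-1,0,-2,1,-1,1,0⟩]

def shortChunk7_2 : List Q :=
  [⟨2,-1,0,0,-1,-1,-3,0⟩,
   ⟨2,-1,0,0,-1,-1,-1,0⟩,
   ⟨2,-1,0,0,-1,-1,-1,2⟩,
   ⟨2,-1,0,0,-1,-1,1,-2⟩,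
   ⟨2,-1,0,0,-1,-1,1,0⟩,
   ⟨2,-1,0,0,-1,-1,3,0⟩,
   ⟨2,-1,0,0,-1,1,-1,0⟩,
   ⟨2,-1,0,0,-1,1,-1,2⟩,
   ⟨2,-1,0,0,-1,1,1,-2⟩,
   ⟨2,-1,0,0,-1,1,1,0⟩,
   ⟨2,-1,0,0,-1,3,-1,0⟩,
   ⟨2,-1,0,0,-1,3,1,0⟩,
   ⟨2,-1,0,0,1,-3,-1,0⟩,
   ⟨2,-1,0,0,1,-3,1,0⟩,
   ⟨2,-1,0,0,1,-1,-1,0⟩,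
   ⟨2,-1,0,0,1,-1,-1,2⟩,
   ⟨2,-1,0,0,1,-1,1,-2⟩,
   ⟨2,-1,0,0,1,-1,1,0⟩,
   ⟨2,-1,0,0,1,1,-3,0⟩,
   ⟨2,-1,0,0,1,1,-1,0⟩,
   ⟨2,-1,0,0,1,1,-1,2⟩,
   ⟨2,-1,0,0,1,1,1,-2⟩,
   ⟨2,-1,0,0,1,1,1,0⟩,
   ⟨2,-1,0,0,1,1,3,0⟩,
   ⟨2,-1,0,2,-1,1,-1,0⟩,
   ⟨2,-1,0,2,-1,1,-1,2⟩,
   ⟨2,-1,0,2,-1,1,1,-2⟩,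
   ⟨2,-1,0,2,-1,1,1,0⟩,
   ⟨2,-1,0,2,1,-1,-1,0⟩,
   ⟨2,-1,0,2,1,-1,-1,2⟩,
   ⟨2,-1,0,2,1,-1,1,-2⟩,
   ⟨2,-1,0,2,1,-1,1,0⟩,
   ⟨2,-1,2,0,-1,-1,-1,0⟩,
   ⟨2,-1,2,0,-1,-1,-1,2⟩,
   ⟨2,-1,2,0,-1,-1,1,-2⟩,
   ⟨2,-1,2,0,-1,-1,1,0⟩,
   ⟨2,-1,2,0,-1,1,-1,0⟩,
   ⟨2,-1,2,0,-1,1,1,0⟩,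
   ⟨2,-1,2,0,1,-1,-1,0⟩,
   ⟨2,-1,2,0,1,-1,1,0⟩,
   ⟨2,-1,2,0,1,1,-1,0⟩,
   ⟨2,-1,2,0,1,1,-1,2⟩,
   ⟨2,-1,2,0,1,1,1,-2⟩,
   ⟨2,-1,2,0,1,1,1,0⟩,
   ⟨2,1,-2,2,-1,1,-1,0⟩,
   ⟨2,1,-2,2,-1,1,1,0⟩,
   ⟨2,1,-2,2,1,-1,-1,0⟩,
   ⟨2,1,-2,2,1,-1,1,0⟩,
   ⟨2,1,0,0,-3,1,-1,0⟩,
   ⟨2,1,0,0,-3,1,1,0⟩,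
   ⟨2,1,0,0,-1,1,-1,0⟩,
   ⟨2,1,0,0,-1,1,1,0⟩,
   ⟨2,1,0,0,1,-1,-1,0⟩,
   ⟨2,1,0,0,1,-1,1,0⟩,
   ⟨2,1,0,0,3,-1,-1,0⟩,
   ⟨2,1,0,0,3,-1,1,0⟩,
   ⟨2,1,2,-2,-1,1,-1,0⟩,
   ⟨2,1,2,-2,-1,1,1,0⟩,
   ⟨2,1,2,-2,1,-1,-1,0⟩,
   ⟨2,1,2,-2,1,-1,1,0⟩]

/-- the short elements of parity class 7 -/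
def shortData7 : List Q := shortChunk7_0 ++ shortChunk7_1 ++ shortChunk7_2

def shortChunk8_0 : List Q :=
  [⟨-3,0,-1,-1,0,0,-2,1⟩,
   ⟨-3,0,-1,-1,0,0,2,-1⟩,
   ⟨-3,0,-1,1,-2,0,0,-1⟩,
   ⟨-3,0,-1,1,-2,0,0,1⟩,
   ⟨-3,0,-1,1,0,0,0,-1⟩,
   ⟨-3,0,-1,1,0,0,0,1⟩,
   ⟨-3,0,-1,1,2,0,0,-1⟩,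
   ⟨-3,0,-1,1,2,0,0,1⟩,
   ⟨-3,0,1,-1,-2,0,0,-1⟩,
   ⟨-3,0,1,-1,-2,0,0,1⟩,
   ⟨-3,0,1,-1,0,0,0,-1⟩,
   ⟨-3,0,1,-1,0,0,0,1⟩,
   ⟨-3,0,1,-1,2,0,0,-1⟩,
   ⟨-3,0,1,-1,2,0,0,1⟩,
   ⟨-3,0,1,1,0,0,-2,1⟩,
   ⟨-3,0,1,1,0,0,2,-1⟩,
   ⟨-1,0,-3,1,0,-2,0,-1⟩,
   ⟨-1,0,-3,1,0,-2,0,1⟩,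
   ⟨-1,0,-3,1,0,0,-2,-1⟩,
   ⟨-1,0,-3,1,0,0,0,-1⟩,
   ⟨-1,0,-3,1,0,0,0,1⟩,
   ⟨-1,0,-3,1,0,0,2,1⟩,
   ⟨-1,0,-3,1,0,2,0,-1⟩,
   ⟨-1,0,-3,1,0,2,0,1⟩,
   ⟨-1,0,-1,-1,-2,0,-2,1⟩,
   ⟨-1,0,-1,-1,-2,0,0,-1⟩,
   ⟨-1,0,-1,-1,-2,0,0,1⟩,
   ⟨-1,0,-1,-1,-2,0,2,-1⟩,
   ⟨-1,0,-1,-1,-2,2,0,-1⟩,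
   ⟨-1,0,-1,-1,-2,2,0,1⟩,
   ⟨-1,0,-1,-1,0,0,-2,1⟩,
   ⟨-1,0,-1,-1,0,0,-2,3⟩,
   ⟨-1,0,-1,-1,0,0,0,-1⟩,
   ⟨-1,0,-1,-1,0,0,0,1⟩,
   ⟨-1,0,-1,-1,0,0,2,-3⟩,
   ⟨-1,0,-1,-1,0,0,2,-1⟩,
   ⟨-1,0,-1,-1,2,-2,0,-1⟩,
   ⟨-1,0,-1,-1,2,-2,0,1⟩,
   ⟨-1,0,-1,-1,2,0,-2,1⟩,
   ⟨-1,0,-1,-1,2,0,0,-1⟩,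
   ⟨-1,0,-1,-1,2,0,0,1⟩,
   ⟨-1,0,-1,-1,2,0,2,-1⟩,
   ⟨-1,0,-1,1,-2,0,-2,1⟩,
   ⟨-1,0,-1,1,-2,0,0,-1⟩,
   ⟨-1,0,-1,1,-2,0,0,1⟩,
   ⟨-1,0,-1,1,-2,0,2,-1⟩,
   ⟨-1,0,-1,1,-2,2,-2,-1⟩,
   ⟨-1,0,-1,1,-2,2,0,-1⟩,
   ⟨-1,0,-1,1,-2,2,0,1⟩,
   ⟨-1,0,-1,1,-2,2,2,1⟩,
   ⟨-1,0,-1,1,0,-2,-2,1⟩,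
   ⟨-1,0,-1,1,0,-2,0,-1⟩,
   ⟨-1,0,-1,1,0,-2,0,1⟩,
   ⟨-1,0,-1,1,0,-2,2,-1⟩,
   ⟨-1,0,-1,1,0,0,-2,-1⟩,
   ⟨-1,0,-1,1,0,0,-2,1⟩,
   ⟨-1,0,-1,1,0,0,0,-1⟩,
   ⟨-1,0,-1,1,0,0,0,1⟩,
   ⟨-1,0,-1,1,0,0,2,-1⟩,
   ⟨-1,0,-1,1,0,0,2,1⟩,
   ⟨-1,0,-1,1,0,2,-2,1⟩,
   ⟨-1,0,-1,1,0,2,0,-1⟩,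
   ⟨-1,0,-1,1,0,2,0,1⟩,
   ⟨-1,0,-1,1,0,2,2,-1⟩,
   ⟨-1,0,-1,1,2,-2,-2,-1⟩,
   ⟨-1,0,-1,1,2,-2,0,-1⟩,
   ⟨-1,0,-1,1,2,-2,0,1⟩,
   ⟨-1,0,-1,1,2,-2,2,1⟩,
   ⟨-1,0,-1,1,2,0,-2,1⟩,
   ⟨-1,0,-1,1,2,0,0,-1⟩,
   ⟨-1,0,-1,1,2,0,0,1⟩,
   ⟨-1,0,-1,1,2,0,2,-1⟩,
   ⟨-1,0,-1,3,0,0,-2,1⟩,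
   ⟨-1,0,-1,3,0,0,2,-1⟩,
   ⟨-1,0,1,-3,0,0,-2,1⟩,
   ⟨-1,0,1,-3,0,0,2,-1⟩,
   ⟨-1,0,1,-1,-2,0,-2,1⟩,
   ⟨-1,0,1,-1,-2,0,0,-1⟩,
   ⟨-1,0,1,-1,-2,0,0,1⟩,
   ⟨-1,0,1,-1,-2,0,2,-1⟩,
   ⟨-1,0,1,-1,-2,2,-2,-1⟩,
   ⟨-1,0,1,-1,-2,2,0,-1⟩,
   ⟨-1,0,1,-1,-2,2,0,1⟩,
   ⟨-1,0,1,-1,-2,2,2,1⟩,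
   ⟨-1,0,1,-1,0,-2,-2,1⟩,
   ⟨-1,0,1,-1,0,-2,0,-1⟩,
   ⟨-1,0,1,-1,0,-2,0,1⟩,
   ⟨-1,0,1,-1,0,-2,2,-1⟩,
   ⟨-1,0,1,-1,0,0,-2,-1⟩,
   ⟨-1,0,1,-1,0,0,-2,1⟩,
   ⟨-1,0,1,-1,0,0,0,-1⟩,
   ⟨-1,0,1,-1,0,0,0,1⟩,
   ⟨-1,0,1,-1,0,0,2,-1⟩,
   ⟨-1,0,1,-1,0,0,2,1⟩,
   ⟨-1,0,1,-1,0,2,-2,1⟩,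
   ⟨-1,0,1,-1,0,2,0,-1⟩,
   ⟨-1,0,1,-1,0,2,0,1⟩,
   ⟨-1,0,1,-1,0,2,2,-1⟩,
   ⟨-1,0,1,-1,2,-2,-2,-1⟩,
   ⟨-1,0,1,-1,2,-2,0,-1⟩,
   ⟨-1,0,1,-1,2,-2,0,1⟩,
   ⟨-1,0,1,-1,2,-2,2,1⟩,
   ⟨-1,0,1,-1,2,0,-2,1⟩,
   ⟨-1,0,1,-1,2,0,0,-1⟩,
   ⟨-1,0,1,-1,2,0,0,1⟩,
   ⟨-1,0,1,-1,2,0,2,-1⟩,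
   ⟨-1,0,1,1,-2,0,-2,1⟩,
   ⟨-1,0,1,1,-2,0,0,-1⟩,
   ⟨-1,0,1,1,-2,0,0,1⟩,
   ⟨-1,0,1,1,-2,0,2,-1⟩,
   ⟨-1,0,1,1,-2,2,0,-1⟩,
   ⟨-1,0,1,1,-2,2,0,1⟩,
   ⟨-1,0,1,1,0,0,-2,1⟩,
   ⟨-1,0,1,1,0,0,-2,3⟩,
   ⟨-1,0,1,1,0,0,0,-1⟩,
   ⟨-1,0,1,1,0,0,0,1⟩,
   ⟨-1,0,1,1,0,0,2,-3⟩,
   ⟨-1,0,1,1,0,0,2,-1⟩,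
   ⟨-1,0,1,1,2,-2,0,-1⟩,
   ⟨-1,0,1,1,2,-2,0,1⟩,
   ⟨-1,0,1,1,2,0,-2,1⟩,
   ⟨-1,0,1,1,2,0,0,-1⟩,
   ⟨-1,0,1,1,2,0,0,1⟩,
   ⟨-1,0,1,1,2,0,2,-1⟩,
   ⟨-1,0,3,-1,0,-2,0,-1⟩,
   ⟨-1,0,3,-1,0,-2,0,1⟩,
   ⟨-1,0,3,-1,0,0,-2,-1⟩,
   ⟨-1,0,3,-1,0,0,0,-1⟩,
   ⟨-1,0,3,-1,0,0,0,1⟩,
   ⟨-1,0,3,-1,0,0,2,1⟩,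
   ⟨-1,0,3,-1,0,2,0,-1⟩,
   ⟨-1,0,3,-1,0,2,0,1⟩,
   ⟨-1,2,-1,-1,-2,0,-2,1⟩,
   ⟨-1,2,-1,-1,-2,0,2,-1⟩,
   ⟨-1,2,-1,-1,-2,2,0,-1⟩,
   ⟨-1,2,-1,-1,-2,2,0,1⟩,
   ⟨-1,2,-1,-1,0,0,-2,1⟩,
   ⟨-1,2,-1,-1,0,0,0,-1⟩,
   ⟨-1,2,-1,-1,0,0,0,1⟩,
   ⟨-1,2,-1,-1,0,0,2,-1⟩,
   ⟨-1,2,-1,-1,2,-2,0,-1⟩,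
   ⟨-1,2,-1,-1,2,-2,0,1⟩,
   ⟨-1,2,-1,-1,2,0,-2,1⟩,
   ⟨-1,2,-1,-1,2,0,2,-1⟩,
   ⟨-1,2,-1,1,-2,0,0,-1⟩,
   ⟨-1,2,-1,1,-2,0,0,1⟩,
   ⟨-1,2,-1,1,0,-2,-2,1⟩,
   ⟨-1,2,-1,1,0,-2,2,-1⟩,
   ⟨-1,2,-1,1,0,0,-2,1⟩,
   ⟨-1,2,-1,1,0,0,0,-1⟩]

def shortChunk8_1 : List Q :=
  [⟨-1,2,-1,1,0,0,0,1⟩,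
   ⟨-1,2,-1,1,0,0,2,-1⟩,
   ⟨-1,2,-1,1,0,2,-2,1⟩,
   ⟨-1,2,-1,1,0,2,2,-1⟩,
   ⟨-1,2,-1,1,2,0,0,-1⟩,
   ⟨-1,2,-1,1,2,0,0,1⟩,
   ⟨-1,2,1,-1,-2,0,0,-1⟩,
   ⟨-1,2,1,-1,-2,0,0,1⟩,
   ⟨-1,2,1,-1,0,-2,-2,1⟩,
   ⟨-1,2,1,-1,0,-2,2,-1⟩,
   ⟨-1,2,1,-1,0,0,-2,1⟩,
   ⟨-1,2,1,-1,0,0,0,-1⟩,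
   ⟨-1,2,1,-1,0,0,0,1⟩,
   ⟨-1,2,1,-1,0,0,2,-1⟩,
   ⟨-1,2,1,-1,0,2,-2,1⟩,
   ⟨-1,2,1,-1,0,2,2,-1⟩,
   ⟨-1,2,1,-1,2,0,0,-1⟩,
   ⟨-1,2,1,-1,2,0,0,1⟩,
   ⟨-1,2,1,1,-2,0,-2,1⟩,
   ⟨-1,2,1,1,-2,0,2,-1⟩,
   ⟨-1,2,1,1,-2,2,0,-1⟩,
   ⟨-1,2,1,1,-2,2,0,1⟩,
   ⟨-1,2,1,1,0,0,-2,1⟩,
   ⟨-1,2,1,1,0,0,0,-1⟩,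
   ⟨-1,2,1,1,0,0,0,1⟩,
   ⟨-1,2,1,1,0,0,2,-1⟩,
   ⟨-1,2,1,1,2,-2,0,-1⟩,
   ⟨-1,2,1,1,2,-2,0,1⟩,
   ⟨-1,2,1,1,2,0,-2,1⟩,
   ⟨-1,2,1,1,2,0,2,-1⟩,
   ⟨1,-2,-1,-1,-2,0,-2,1⟩,
   ⟨1,-2,-1,-1,-2,0,2,-1⟩,
   ⟨1,-2,-1,-1,-2,2,0,-1⟩,
   ⟨1,-2,-1,-1,-2,2,0,1⟩,
   ⟨1,-2,-1,-1,0,0,-2,1⟩,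
   ⟨1,-2,-1,-1,0,0,0,-1⟩,
   ⟨1,-2,-1,-1,0,0,0,1⟩,
   ⟨1,-2,-1,-1,0,0,2,-1⟩,
   ⟨1,-2,-1,-1,2,-2,0,-1⟩,
   ⟨1,-2,-1,-1,2,-2,0,1⟩,
   ⟨1,-2,-1,-1,2,0,-2,1⟩,
   ⟨1,-2,-1,-1,2,0,2,-1⟩,
   ⟨1,-2,-1,1,-2,0,0,-1⟩,
   ⟨1,-2,-1,1,-2,0,0,1⟩,
   ⟨1,-2,-1,1,0,-2,-2,1⟩,
   ⟨1,-2,-1,1,0,-2,2,-1⟩,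
   ⟨1,-2,-1,1,0,0,-2,1⟩,
   ⟨1,-2,-1,1,0,0,0,-1⟩,
   ⟨1,-2,-1,1,0,0,0,1⟩,
   ⟨1,-2,-1,1,0,0,2,-1⟩,
   ⟨1,-2,-1,1,0,2,-2,1⟩,
   ⟨1,-2,-1,1,0,2,2,-1⟩,
   ⟨1,-2,-1,1,2,0,0,-1⟩,
   ⟨1,-2,-1,1,2,0,0,1⟩,
   ⟨1,-2,1,-1,-2,0,0,-1⟩,
   ⟨1,-2,1,-1,-2,0,0,1⟩,
   ⟨1,-2,1,-1,0,-2,-2,1⟩,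
   ⟨1,-2,1,-1,0,-2,2,-1⟩,
   ⟨1,-2,1,-1,0,0,-2,1⟩,
   ⟨1,-2,1,-1,0,0,0,-1⟩,
   ⟨1,-2,1,-1,0,0,0,1⟩,
   ⟨1,-2,1,-1,0,0,2,-1⟩,
   ⟨1,-2,1,-1,0,2,-2,1⟩,
   ⟨1,-2,1,-1,0,2,2,-1⟩,
   ⟨1,-2,1,-1,2,0,0,-1⟩,
   ⟨1,-2,1,-1,2,0,0,1⟩,
   ⟨1,-2,1,1,-2,0,-2,1⟩,
   ⟨1,-2,1,1,-2,0,2,-1⟩,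
   ⟨1,-2,1,1,-2,2,0,-1⟩,
   ⟨1,-2,1,1,-2,2,0,1⟩,
   ⟨1,-2,1,1,0,0,-2,1⟩,
   ⟨1,-2,1,1,0,0,0,-1⟩,
   ⟨1,-2,1,1,0,0,0,1⟩,
   ⟨1,-2,1,1,0,0,2,-1⟩,
   ⟨1,-2,1,1,2,-2,0,-1⟩,
   ⟨1,-2,1,1,2,-2,0,1⟩,
   ⟨1,-2,1,1,2,0,-2,1⟩,
   ⟨1,-2,1,1,2,0,2,-1⟩,
   ⟨1,0,-3,1,0,-2,0,-1⟩,
   ⟨1,0,-3,1,0,-2,0,1⟩,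
   ⟨1,0,-3,1,0,0,-2,-1⟩,
   ⟨1,0,-3,1,0,0,0,-1⟩,
   ⟨1,0,-3,1,0,0,0,1⟩,
   ⟨1,0,-3,1,0,0,2,1⟩,
   ⟨1,0,-3,1,0,2,0,-1⟩,
   ⟨1,0,-3,1,0,2,0,1⟩,
   ⟨1,0,-1,-1,-2,0,-2,1⟩,
   ⟨1,0,-1,-1,-2,0,0,-1⟩,
   ⟨1,0,-1,-1,-2,0,0,1⟩,
   ⟨1,0,-1,-1,-2,0,2,-1⟩,
   ⟨1,0,-1,-1,-2,2,0,-1⟩,
   ⟨1,0,-1,-1,-2,2,0,1⟩,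
   ⟨1,0,-1,-1,0,0,-2,1⟩,
   ⟨1,0,-1,-1,0,0,-2,3⟩,
   ⟨1,0,-1,-1,0,0,0,-1⟩,
   ⟨1,0,-1,-1,0,0,0,1⟩,
   ⟨1,0,-1,-1,0,0,2,-3⟩,
   ⟨1,0,-1,-1,0,0,2,-1⟩,
   ⟨1,0,-1,-1,2,-2,0,-1⟩,
   ⟨1,0,-1,-1,2,-2,0,1⟩,
   ⟨1,0,-1,-1,2,0,-2,1⟩,
   ⟨1,0,-1,-1,2,0,0,-1⟩,
   ⟨1,0,-1,-1,2,0,0,1⟩,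
   ⟨1,0,-1,-1,2,0,2,-1⟩,
   ⟨1,0,-1,1,-2,0,-2,1⟩,
   ⟨1,0,-1,1,-2,0,0,-1⟩,
   ⟨1,0,-1,1,-2,0,0,1⟩,
   ⟨1,0,-1,1,-2,0,2,-1⟩,
   ⟨1,0,-1,1,-2,2,-2,-1⟩,
   ⟨1,0,-1,1,-2,2,0,-1⟩,
   ⟨1,0,-1,1,-2,2,0,1⟩,
   ⟨1,0,-1,1,-2,2,2,1⟩,
   ⟨1,0,-1,1,0,-2,-2,1⟩,
   ⟨1,0,-1,1,0,-2,0,-1⟩,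
   ⟨1,0,-1,1,0,-2,0,1⟩,
   ⟨1,0,-1,1,0,-2,2,-1⟩,
   ⟨1,0,-1,1,0,0,-2,-1⟩,
   ⟨1,0,-1,1,0,0,-2,1⟩,
   ⟨1,0,-1,1,0,0,0,-1⟩,
   ⟨1,0,-1,1,0,0,0,1⟩,
   ⟨1,0,-1,1,0,0,2,-1⟩,
   ⟨1,0,-1,1,0,0,2,1⟩,
   ⟨1,0,-1,1,0,2,-2,1⟩,
   ⟨1,0,-1,1,0,2,0,-1⟩,
   ⟨1,0,-1,1,0,2,0,1⟩,
   ⟨1,0,-1,1,0,2,2,-1⟩,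
   ⟨1,0,-1,1,2,-2,-2,-1⟩,
   ⟨1,0,-1,1,2,-2,0,-1⟩,
   ⟨1,0,-1,1,2,-2,0,1⟩,
   ⟨1,0,-1,1,2,-2,2,1⟩,
   ⟨1,0,-1,1,2,0,-2,1⟩,
   ⟨1,0,-1,1,2,0,0,-1⟩,
   ⟨1,0,-1,1,2,0,0,1⟩,
   ⟨1,0,-1,1,2,0,2,-1⟩,
   ⟨1,0,-1,3,0,0,-2,1⟩,
   ⟨1,0,-1,3,0,0,2,-1⟩,
   ⟨1,0,1,-3,0,0,-2,1⟩,
   ⟨1,0,1,-3,0,0,2,-1⟩,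
   ⟨1,0,1,-1,-2,0,-2,1⟩,
   ⟨1,0,1,-1,-2,0,0,-1⟩,
   ⟨1,0,1,-1,-2,0,0,1⟩,
   ⟨1,0,1,-1,-2,0,2,-1⟩,
   ⟨1,0,1,-1,-2,2,-2,-1⟩,
   ⟨1,0,1,-1,-2,2,0,-1⟩,
   ⟨1,0,1,-1,-2,2,0,1⟩,
   ⟨1,0,1,-1,-2,2,2,1⟩,
   ⟨1,0,1,-1,0,-2,-2,1⟩,
   ⟨1,0,1,-1,0,-2,0,-1⟩,
   ⟨1,0,1,-1,0,-2,0,1⟩,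
   ⟨1,0,1,-1,0,-2,2,-1⟩]

def shortChunk8_2 : List Q :=
  [⟨1,0,1,-1,0,0,-2,-1⟩,
   ⟨1,0,1,-1,0,0,-2,1⟩,
   ⟨1,0,1,-1,0,0,0,-1⟩,
   ⟨1,0,1,-1,0,0,0,1⟩,
   ⟨1,0,1,-1,0,0,2,-1⟩,
   ⟨1,0,1,-1,0,0,2,1⟩,
   ⟨1,0,1,-1,0,2,-2,1⟩,
   ⟨1,0,1,-1,0,2,0,-1⟩,
   ⟨1,0,1,-1,0,2,0,1⟩,
   ⟨1,0,1,-1,0,2,2,-1⟩,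
   ⟨1,0,1,-1,2,-2,-2,-1⟩,
   ⟨1,0,1,-1,2,-2,0,-1⟩,
   ⟨1,0,1,-1,2,-2,0,1⟩,
   ⟨1,0,1,-1,2,-2,2,1⟩,
   ⟨1,0,1,-1,2,0,-2,1⟩,
   ⟨1,0,1,-1,2,0,0,-1⟩,
   ⟨1,0,1,-1,2,0,0,1⟩,
   ⟨1,0,1,-1,2,0,2,-1⟩,
   ⟨1,0,1,1,-2,0,-2,1⟩,
   ⟨1,0,1,1,-2,0,0,-1⟩,
   ⟨1,0,1,1,-2,0,0,1⟩,
   ⟨1,0,1,1,-2,0,2,-1⟩,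
   ⟨1,0,1,1,-2,2,0,-1⟩,
   ⟨1,0,1,1,-2,2,0,1⟩,
   ⟨1,0,1,1,0,0,-2,1⟩,
   ⟨1,0,1,1,0,0,-2,3⟩,
   ⟨1,0,1,1,0,0,0,-1⟩,
   ⟨1,0,1,1,0,0,0,1⟩,
   ⟨1,0,1,1,0,0,2,-3⟩,
   ⟨1,0,1,1,0,0,2,-1⟩,
   ⟨1,0,1,1,2,-2,0,-1⟩,
   ⟨1,0,1,1,2,-2,0,1⟩,
   ⟨1,0,1,1,2,0,-2,1⟩,
   ⟨1,0,1,1,2,0,0,-1⟩,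
   ⟨1,0,1,1,2,0,0,1⟩,
   ⟨1,0,1,1,2,0,2,-1⟩,
   ⟨1,0,3,-1,0,-2,0,-1⟩,
   ⟨1,0,3,-1,0,-2,0,1⟩,
   ⟨1,0,3,-1,0,0,-2,-1⟩,
   ⟨1,0,3,-1,0,0,0,-1⟩,
   ⟨1,0,3,-1,0,0,0,1⟩,
   ⟨1,0,3,-1,0,0,2,1⟩,
   ⟨1,0,3,-1,0,2,0,-1⟩,
   ⟨1,0,3,-1,0,2,0,1⟩,
   ⟨3,0,-1,-1,0,0,-2,1⟩,
   ⟨3,0,-1,-1,0,0,2,-1⟩,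
   ⟨3,0,-1,1,-2,0,0,-1⟩,
   ⟨3,0,-1,1,-2,0,0,1⟩,
   ⟨3,0,-1,1,0,0,0,-1⟩,
   ⟨3,0,-1,1,0,0,0,1⟩,
   ⟨3,0,-1,1,2,0,0,-1⟩,
   ⟨3,0,-1,1,2,0,0,1⟩,
   ⟨3,0,1,-1,-2,0,0,-1⟩,
   ⟨3,0,1,-1,-2,0,0,1⟩,
   ⟨3,0,1,-1,0,0,0,-1⟩,
   ⟨3,0,1,-1,0,0,0,1⟩,
   ⟨3,0,1,-1,2,0,0,-1⟩,
   ⟨3,0,1,-1,2,0,0,1⟩,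
   ⟨3,0,1,1,0,0,-2,1⟩,
   ⟨3,0,1,1,0,0,2,-1⟩]

/-- the short elements of parity class 8 -/
def shortData8 : List Q := shortChunk8_0 ++ shortChunk8_1 ++ shortChunk8_2

def shortChunk9_0 : List Q :=
  [⟨-3,1,0,-2,-1,0,0,-1⟩,
   ⟨-3,1,0,-2,-1,0,0,1⟩,
   ⟨-3,1,0,-2,1,0,0,-1⟩,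
   ⟨-3,1,0,-2,1,0,0,1⟩,
   ⟨-3,1,0,0,-1,0,-2,-1⟩,
   ⟨-3,1,0,0,-1,0,0,-1⟩,
   ⟨-3,1,0,0,-1,0,0,1⟩,
   ⟨-3,1,0,0,-1,0,2,1⟩,
   ⟨-3,1,0,0,1,0,-2,-1⟩,
   ⟨-3,1,0,0,1,0,0,-1⟩,
   ⟨-3,1,0,0,1,0,0,1⟩,
   ⟨-3,1,0,0,1,0,2,1⟩,
   ⟨-3,1,0,2,-1,0,0,-1⟩,
   ⟨-3,1,0,2,-1,0,0,1⟩,
   ⟨-3,1,0,2,1,0,0,-1⟩,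
   ⟨-3,1,0,2,1,0,0,1⟩,
   ⟨-1,-1,-2,0,-1,0,-2,1⟩,
   ⟨-1,-1,-2,0,-1,0,0,-1⟩,
   ⟨-1,-1,-2,0,-1,0,0,1⟩,
   ⟨-1,-1,-2,0,-1,0,2,-1⟩,
   ⟨-1,-1,-2,0,-1,2,-2,1⟩,
   ⟨-1,-1,-2,0,-1,2,2,-1⟩,
   ⟨-1,-1,-2,0,1,-2,-2,1⟩,
   ⟨-1,-1,-2,0,1,-2,2,-1⟩,
   ⟨-1,-1,-2,0,1,0,-2,1⟩,
   ⟨-1,-1,-2,0,1,0,0,-1⟩,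
   ⟨-1,-1,-2,0,1,0,0,1⟩,
   ⟨-1,-1,-2,0,1,0,2,-1⟩,
   ⟨-1,-1,-2,2,-1,0,0,-1⟩,
   ⟨-1,-1,-2,2,-1,0,0,1⟩,
   ⟨-1,-1,-2,2,-1,2,0,-1⟩,
   ⟨-1,-1,-2,2,-1,2,0,1⟩,
   ⟨-1,-1,-2,2,1,-2,0,-1⟩,
   ⟨-1,-1,-2,2,1,-2,0,1⟩,
   ⟨-1,-1,-2,2,1,0,0,-1⟩,
   ⟨-1,-1,-2,2,1,0,0,1⟩,
   ⟨-1,-1,0,0,-3,0,-2,1⟩,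
   ⟨-1,-1,0,0,-3,0,2,-1⟩,
   ⟨-1,-1,0,0,-1,0,-2,1⟩,
   ⟨-1,-1,0,0,-1,0,-2,3⟩,
   ⟨-1,-1,0,0,-1,0,0,-1⟩,
   ⟨-1,-1,0,0,-1,0,0,1⟩,
   ⟨-1,-1,0,0,-1,0,2,-3⟩,
   ⟨-1,-1,0,0,-1,0,2,-1⟩,
   ⟨-1,-1,0,0,-1,2,-2,1⟩,
   ⟨-1,-1,0,0,-1,2,0,-1⟩,
   ⟨-1,-1,0,0,-1,2,0,1⟩,
   ⟨-1,-1,0,0,-1,2,2,-1⟩,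
   ⟨-1,-1,0,0,1,-2,-2,1⟩,
   ⟨-1,-1,0,0,1,-2,0,-1⟩,
   ⟨-1,-1,0,0,1,-2,0,1⟩,
   ⟨-1,-1,0,0,1,-2,2,-1⟩,
   ⟨-1,-1,0,0,1,0,-2,1⟩,
   ⟨-1,-1,0,0,1,0,-2,3⟩,
   ⟨-1,-1,0,0,1,0,0,-1⟩,
   ⟨-1,-1,0,0,1,0,0,1⟩,
   ⟨-1,-1,0,0,1,0,2,-3⟩,
   ⟨-1,-1,0,0,1,0,2,-1⟩,
   ⟨-1,-1,0,0,3,0,-2,1⟩,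
   ⟨-1,-1,0,0,3,0,2,-1⟩,
   ⟨-1,-1,2,-2,-1,0,0,-1⟩,
   ⟨-1,-1,2,-2,-1,0,0,1⟩,
   ⟨-1,-1,2,-2,-1,2,0,-1⟩,
   ⟨-1,-1,2,-2,-1,2,0,1⟩,
   ⟨-1,-1,2,-2,1,-2,0,-1⟩,
   ⟨-1,-1,2,-2,1,-2,0,1⟩,
   ⟨-1,-1,2,-2,1,0,0,-1⟩,
   ⟨-1,-1,2,-2,1,0,0,1⟩,
   ⟨-1,-1,2,0,-1,0,-2,1⟩,
   ⟨-1,-1,2,0,-1,0,0,-1⟩,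
   ⟨-1,-1,2,0,-1,0,0,1⟩,
   ⟨-1,-1,2,0,-1,0,2,-1⟩,
   ⟨-1,-1,2,0,-1,2,-2,1⟩,
   ⟨-1,-1,2,0,-1,2,2,-1⟩,
   ⟨-1,-1,2,0,1,-2,-2,1⟩,
   ⟨-1,-1,2,0,1,-2,2,-1⟩,
   ⟨-1,-1,2,0,1,0,-2,1⟩,
   ⟨-1,-1,2,0,1,0,0,-1⟩,
   ⟨-1,-1,2,0,1,0,0,1⟩,
   ⟨-1,-1,2,0,1,0,2,-1⟩,
   ⟨-1,1,-2,0,-3,0,0,-1⟩,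
   ⟨-1,1,-2,0,-3,0,0,1⟩,
   ⟨-1,1,-2,0,-1,0,-2,1⟩,
   ⟨-1,1,-2,0,-1,0,0,-1⟩,
   ⟨-1,1,-2,0,-1,0,0,1⟩,
   ⟨-1,1,-2,0,-1,0,2,-1⟩,
   ⟨-1,1,-2,0,-1,2,0,-1⟩,
   ⟨-1,1,-2,0,-1,2,0,1⟩,
   ⟨-1,1,-2,0,1,-2,0,-1⟩,
   ⟨-1,1,-2,0,1,-2,0,1⟩,
   ⟨-1,1,-2,0,1,0,-2,1⟩,
   ⟨-1,1,-2,0,1,0,0,-1⟩,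
   ⟨-1,1,-2,0,1,0,0,1⟩,
   ⟨-1,1,-2,0,1,0,2,-1⟩,
   ⟨-1,1,-2,0,3,0,0,-1⟩,
   ⟨-1,1,-2,0,3,0,0,1⟩,
   ⟨-1,1,-2,2,-1,0,-2,-1⟩,
   ⟨-1,1,-2,2,-1,0,0,-1⟩,
   ⟨-1,1,-2,2,-1,0,0,1⟩,
   ⟨-1,1,-2,2,-1,0,2,1⟩,
   ⟨-1,1,-2,2,1,0,-2,-1⟩,
   ⟨-1,1,-2,2,1,0,0,-1⟩,
   ⟨-1,1,-2,2,1,0,0,1⟩,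
   ⟨-1,1,-2,2,1,0,2,1⟩,
   ⟨-1,1,0,-2,-1,0,-2,1⟩,
   ⟨-1,1,0,-2,-1,0,0,-1⟩,
   ⟨-1,1,0,-2,-1,0,0,1⟩,
   ⟨-1,1,0,-2,-1,0,2,-1⟩,
   ⟨-1,1,0,-2,-1,2,-2,1⟩,
   ⟨-1,1,0,-2,-1,2,2,-1⟩,
   ⟨-1,1,0,-2,1,-2,-2,1⟩,
   ⟨-1,1,0,-2,1,-2,2,-1⟩,
   ⟨-1,1,0,-2,1,0,-2,1⟩,
   ⟨-1,1,0,-2,1,0,0,-1⟩,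
   ⟨-1,1,0,-2,1,0,0,1⟩,
   ⟨-1,1,0,-2,1,0,2,-1⟩,
   ⟨-1,1,0,0,-3,0,0,-1⟩,
   ⟨-1,1,0,0,-3,0,0,1⟩,
   ⟨-1,1,0,0,-1,0,-2,-1⟩,
   ⟨-1,1,0,0,-1,0,-2,1⟩,
   ⟨-1,1,0,0,-1,0,0,-1⟩,
   ⟨-1,1,0,0,-1,0,0,1⟩,
   ⟨-1,1,0,0,-1,0,2,-1⟩,
   ⟨-1,1,0,0,-1,0,2,1⟩,
   ⟨-1,1,0,0,-1,2,-2,1⟩,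
   ⟨-1,1,0,0,-1,2,0,-1⟩,
   ⟨-1,1,0,0,-1,2,0,1⟩,
   ⟨-1,1,0,0,-1,2,2,-1⟩,
   ⟨-1,1,0,0,1,-2,-2,1⟩,
   ⟨-1,1,0,0,1,-2,0,-1⟩,
   ⟨-1,1,0,0,1,-2,0,1⟩,
   ⟨-1,1,0,0,1,-2,2,-1⟩,
   ⟨-1,1,0,0,1,0,-2,-1⟩,
   ⟨-1,1,0,0,1,0,-2,1⟩,
   ⟨-1,1,0,0,1,0,0,-1⟩,
   ⟨-1,1,0,0,1,0,0,1⟩,
   ⟨-1,1,0,0,1,0,2,-1⟩,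
   ⟨-1,1,0,0,1,0,2,1⟩,
   ⟨-1,1,0,0,3,0,0,-1⟩,
   ⟨-1,1,0,0,3,0,0,1⟩,
   ⟨-1,1,0,2,-1,0,-2,1⟩,
   ⟨-1,1,0,2,-1,0,0,-1⟩,
   ⟨-1,1,0,2,-1,0,0,1⟩,
   ⟨-1,1,0,2,-1,0,2,-1⟩,
   ⟨-1,1,0,2,-1,2,-2,1⟩,
   ⟨-1,1,0,2,-1,2,2,-1⟩,
   ⟨-1,1,0,2,1,-2,-2,1⟩,
   ⟨-1,1,0,2,1,-2,2,-1⟩,
   ⟨-1,1,0,2,1,0,-2,1⟩,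
   ⟨-1,1,0,2,1,0,0,-1⟩]

def shortChunk9_1 : List Q :=
  [⟨-1,1,0,2,1,0,0,1⟩,
   ⟨-1,1,0,2,1,0,2,-1⟩,
   ⟨-1,1,2,-2,-1,0,-2,-1⟩,
   ⟨-1,1,2,-2,-1,0,0,-1⟩,
   ⟨-1,1,2,-2,-1,0,0,1⟩,
   ⟨-1,1,2,-2,-1,0,2,1⟩,
   ⟨-1,1,2,-2,1,0,-2,-1⟩,
   ⟨-1,1,2,-2,1,0,0,-1⟩,
   ⟨-1,1,2,-2,1,0,0,1⟩,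
   ⟨-1,1,2,-2,1,0,2,1⟩,
   ⟨-1,1,2,0,-3,0,0,-1⟩,
   ⟨-1,1,2,0,-3,0,0,1⟩,
   ⟨-1,1,2,0,-1,0,-2,1⟩,
   ⟨-1,1,2,0,-1,0,0,-1⟩,
   ⟨-1,1,2,0,-1,0,0,1⟩,
   ⟨-1,1,2,0,-1,0,2,-1⟩,
   ⟨-1,1,2,0,-1,2,0,-1⟩,
   ⟨-1,1,2,0,-1,2,0,1⟩,
   ⟨-1,1,2,0,1,-2,0,-1⟩,
   ⟨-1,1,2,0,1,-2,0,1⟩,
   ⟨-1,1,2,0,1,0,-2,1⟩,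
   ⟨-1,1,2,0,1,0,0,-1⟩,
   ⟨-1,1,2,0,1,0,0,1⟩,
   ⟨-1,1,2,0,1,0,2,-1⟩,
   ⟨-1,1,2,0,3,0,0,-1⟩,
   ⟨-1,1,2,0,3,0,0,1⟩,
   ⟨-1,3,0,0,-1,0,-2,1⟩,
   ⟨-1,3,0,0,-1,0,2,-1⟩,
   ⟨-1,3,0,0,1,0,-2,1⟩,
   ⟨-1,3,0,0,1,0,2,-1⟩,
   ⟨1,-3,0,0,-1,0,-2,1⟩,
   ⟨1,-3,0,0,-1,0,2,-1⟩,
   ⟨1,-3,0,0,1,0,-2,1⟩,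
   ⟨1,-3,0,0,1,0,2,-1⟩,
   ⟨1,-1,-2,0,-3,0,0,-1⟩,
   ⟨1,-1,-2,0,-3,0,0,1⟩,
   ⟨1,-1,-2,0,-1,0,-2,1⟩,
   ⟨1,-1,-2,0,-1,0,0,-1⟩,
   ⟨1,-1,-2,0,-1,0,0,1⟩,
   ⟨1,-1,-2,0,-1,0,2,-1⟩,
   ⟨1,-1,-2,0,-1,2,0,-1⟩,
   ⟨1,-1,-2,0,-1,2,0,1⟩,
   ⟨1,-1,-2,0,1,-2,0,-1⟩,
   ⟨1,-1,-2,0,1,-2,0,1⟩,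
   ⟨1,-1,-2,0,1,0,-2,1⟩,
   ⟨1,-1,-2,0,1,0,0,-1⟩,
   ⟨1,-1,-2,0,1,0,0,1⟩,
   ⟨1,-1,-2,0,1,0,2,-1⟩,
   ⟨1,-1,-2,0,3,0,0,-1⟩,
   ⟨1,-1,-2,0,3,0,0,1⟩,
   ⟨1,-1,-2,2,-1,0,-2,-1⟩,
   ⟨1,-1,-2,2,-1,0,0,-1⟩,
   ⟨1,-1,-2,2,-1,0,0,1⟩,
   ⟨1,-1,-2,2,-1,0,2,1⟩,
   ⟨1,-1,-2,2,1,0,-2,-1⟩,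
   ⟨1,-1,-2,2,1,0,0,-1⟩,
   ⟨1,-1,-2,2,1,0,0,1⟩,
   ⟨1,-1,-2,2,1,0,2,1⟩,
   ⟨1,-1,0,-2,-1,0,-2,1⟩,
   ⟨1,-1,0,-2,-1,0,0,-1⟩,
   ⟨1,-1,0,-2,-1,0,0,1⟩,
   ⟨1,-1,0,-2,-1,0,2,-1⟩,
   ⟨1,-1,0,-2,-1,2,-2,1⟩,
   ⟨1,-1,0,-2,-1,2,2,-1⟩,
   ⟨1,-1,0,-2,1,-2,-2,1⟩,
   ⟨1,-1,0,-2,1,-2,2,-1⟩,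
   ⟨1,-1,0,-2,1,0,-2,1⟩,
   ⟨1,-1,0,-2,1,0,0,-1⟩,
   ⟨1,-1,0,-2,1,0,0,1⟩,
   ⟨1,-1,0,-2,1,0,2,-1⟩,
   ⟨1,-1,0,0,-3,0,0,-1⟩,
   ⟨1,-1,0,0,-3,0,0,1⟩,
   ⟨1,-1,0,0,-1,0,-2,-1⟩,
   ⟨1,-1,0,0,-1,0,-2,1⟩,
   ⟨1,-1,0,0,-1,0,0,-1⟩,
   ⟨1,-1,0,0,-1,0,0,1⟩,
   ⟨1,-1,0,0,-1,0,2,-1⟩,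
   ⟨1,-1,0,0,-1,0,2,1⟩,
   ⟨1,-1,0,0,-1,2,-2,1⟩,
   ⟨1,-1,0,0,-1,2,0,-1⟩,
   ⟨1,-1,0,0,-1,2,0,1⟩,
   ⟨1,-1,0,0,-1,2,2,-1⟩,
   ⟨1,-1,0,0,1,-2,-2,1⟩,
   ⟨1,-1,0,0,1,-2,0,-1⟩,
   ⟨1,-1,0,0,1,-2,0,1⟩,
   ⟨1,-1,0,0,1,-2,2,-1⟩,
   ⟨1,-1,0,0,1,0,-2,-1⟩,
   ⟨1,-1,0,0,1,0,-2,1⟩,
   ⟨1,-1,0,0,1,0,0,-1⟩,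
   ⟨1,-1,0,0,1,0,0,1⟩,
   ⟨1,-1,0,0,1,0,2,-1⟩,
   ⟨1,-1,0,0,1,0,2,1⟩,
   ⟨1,-1,0,0,3,0,0,-1⟩,
   ⟨1,-1,0,0,3,0,0,1⟩,
   ⟨1,-1,0,2,-1,0,-2,1⟩,
   ⟨1,-1,0,2,-1,0,0,-1⟩,
   ⟨1,-1,0,2,-1,0,0,1⟩,
   ⟨1,-1,0,2,-1,0,2,-1⟩,
   ⟨1,-1,0,2,-1,2,-2,1⟩,
   ⟨1,-1,0,2,-1,2,2,-1⟩,
   ⟨1,-1,0,2,1,-2,-2,1⟩,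
   ⟨1,-1,0,2,1,-2,2,-1⟩,
   ⟨1,-1,0,2,1,0,-2,1⟩,
   ⟨1,-1,0,2,1,0,0,-1⟩,
   ⟨1,-1,0,2,1,0,0,1⟩,
   ⟨1,-1,0,2,1,0,2,-1⟩,
   ⟨1,-1,2,-2,-1,0,-2,-1⟩,
   ⟨1,-1,2,-2,-1,0,0,-1⟩,
   ⟨1,-1,2,-2,-1,0,0,1⟩,
   ⟨1,-1,2,-2,-1,0,2,1⟩,
   ⟨1,-1,2,-2,1,0,-2,-1⟩,
   ⟨1,-1,2,-2,1,0,0,-1⟩,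
   ⟨1,-1,2,-2,1,0,0,1⟩,
   ⟨1,-1,2,-2,1,0,2,1⟩,
   ⟨1,-1,2,0,-3,0,0,-1⟩,
   ⟨1,-1,2,0,-3,0,0,1⟩,
   ⟨1,-1,2,0,-1,0,-2,1⟩,
   ⟨1,-1,2,0,-1,0,0,-1⟩,
   ⟨1,-1,2,0,-1,0,0,1⟩,
   ⟨1,-1,2,0,-1,0,2,-1⟩,
   ⟨1,-1,2,0,-1,2,0,-1⟩,
   ⟨1,-1,2,0,-1,2,0,1⟩,
   ⟨1,-1,2,0,1,-2,0,-1⟩,
   ⟨1,-1,2,0,1,-2,0,1⟩,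
   ⟨1,-1,2,0,1,0,-2,1⟩,
   ⟨1,-1,2,0,1,0,0,-1⟩,
   ⟨1,-1,2,0,1,0,0,1⟩,
   ⟨1,-1,2,0,1,0,2,-1⟩,
   ⟨1,-1,2,0,3,0,0,-1⟩,
   ⟨1,-1,2,0,3,0,0,1⟩,
   ⟨1,1,-2,0,-1,0,-2,1⟩,
   ⟨1,1,-2,0,-1,0,0,-1⟩,
   ⟨1,1,-2,0,-1,0,0,1⟩,
   ⟨1,1,-2,0,-1,0,2,-1⟩,
   ⟨1,1,-2,0,-1,2,-2,1⟩,
   ⟨1,1,-2,0,-1,2,2,-1⟩,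
   ⟨1,1,-2,0,1,-2,-2,1⟩,
   ⟨1,1,-2,0,1,-2,2,-1⟩,
   ⟨1,1,-2,0,1,0,-2,1⟩,
   ⟨1,1,-2,0,1,0,0,-1⟩,
   ⟨1,1,-2,0,1,0,0,1⟩,
   ⟨1,1,-2,0,1,0,2,-1⟩,
   ⟨1,1,-2,2,-1,0,0,-1⟩,
   ⟨1,1,-2,2,-1,0,0,1⟩,
   ⟨1,1,-2,2,-1,2,0,-1⟩,
   ⟨1,1,-2,2,-1,2,0,1⟩,
   ⟨1,1,-2,2,1,-2,0,-1⟩,
   ⟨1,1,-2,2,1,-2,0,1⟩,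
   ⟨1,1,-2,2,1,0,0,-1⟩,
   ⟨1,1,-2,2,1,0,0,1⟩]

def shortChunk9_2 : List Q :=
  [⟨1,1,0,0,-3,0,-2,1⟩,
   ⟨1,1,0,0,-3,0,2,-1⟩,
   ⟨1,1,0,0,-1,0,-2,1⟩,
   ⟨1,1,0,0,-1,0,-2,3⟩,
   ⟨1,1,0,0,-1,0,0,-1⟩,
   ⟨1,1,0,0,-1,0,0,1⟩,
   ⟨1,1,0,0,-1,0,2,-3⟩,
   ⟨1,1,0,0,-1,0,2,-1⟩,
   ⟨1,1,0,0,-1,2,-2,1⟩,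
   ⟨1,1,0,0,-1,2,0,-1⟩,
   ⟨1,1,0,0,-1,2,0,1⟩,
   ⟨1,1,0,0,-1,2,2,-1⟩,
   ⟨1,1,0,0,1,-2,-2,1⟩,
   ⟨1,1,0,0,1,-2,0,-1⟩,
   ⟨1,1,0,0,1,-2,0,1⟩,
   ⟨1,1,0,0,1,-2,2,-1⟩,
   ⟨1,1,0,0,1,0,-2,1⟩,
   ⟨1,1,0,0,1,0,-2,3⟩,
   ⟨1,1,0,0,1,0,0,-1⟩,
   ⟨1,1,0,0,1,0,0,1⟩,
   ⟨1,1,0,0,1,0,2,-3⟩,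
   ⟨1,1,0,0,1,0,2,-1⟩,
   ⟨1,1,0,0,3,0,-2,1⟩,
   ⟨1,1,0,0,3,0,2,-1⟩,
   ⟨1,1,2,-2,-1,0,0,-1⟩,
   ⟨1,1,2,-2,-1,0,0,1⟩,
   ⟨1,1,2,-2,-1,2,0,-1⟩,
   ⟨1,1,2,-2,-1,2,0,1⟩,
   ⟨1,1,2,-2,1,-2,0,-1⟩,
   ⟨1,1,2,-2,1,-2,0,1⟩,
   ⟨1,1,2,-2,1,0,0,-1⟩,
   ⟨1,1,2,-2,1,0,0,1⟩,
   ⟨1,1,2,0,-1,0,-2,1⟩,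
   ⟨1,1,2,0,-1,0,0,-1⟩,
   ⟨1,1,2,0,-1,0,0,1⟩,
   ⟨1,1,2,0,-1,0,2,-1⟩,
   ⟨1,1,2,0,-1,2,-2,1⟩,
   ⟨1,1,2,0,-1,2,2,-1⟩,
   ⟨1,1,2,0,1,-2,-2,1⟩,
   ⟨1,1,2,0,1,-2,2,-1⟩,
   ⟨1,1,2,0,1,0,-2,1⟩,
   ⟨1,1,2,0,1,0,0,-1⟩,
   ⟨1,1,2,0,1,0,0,1⟩,
   ⟨1,1,2,0,1,0,2,-1⟩,
   ⟨3,-1,0,-2,-1,0,0,-1⟩,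
   ⟨3,-1,0,-2,-1,0,0,1⟩,
   ⟨3,-1,0,-2,1,0,0,-1⟩,
   ⟨3,-1,0,-2,1,0,0,1⟩,
   ⟨3,-1,0,0,-1,0,-2,-1⟩,
   ⟨3,-1,0,0,-1,0,0,-1⟩,
   ⟨3,-1,0,0,-1,0,0,1⟩,
   ⟨3,-1,0,0,-1,0,2,1⟩,
   ⟨3,-1,0,0,1,0,-2,-1⟩,
   ⟨3,-1,0,0,1,0,0,-1⟩,
   ⟨3,-1,0,0,1,0,0,1⟩,
   ⟨3,-1,0,0,1,0,2,1⟩,
   ⟨3,-1,0,2,-1,0,0,-1⟩,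
   ⟨3,-1,0,2,-1,0,0,1⟩,
   ⟨3,-1,0,2,1,0,0,-1⟩,
   ⟨3,-1,0,2,1,0,0,1⟩]

/-- the short elements of parity class 9 -/
def shortData9 : List Q := shortChunk9_0 ++ shortChunk9_1 ++ shortChunk9_2

def shortChunk10_0 : List Q :=
  [⟨-2,-1,-2,1,-2,1,0,-1⟩,
   ⟨-2,-1,-2,1,-2,1,0,1⟩,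
   ⟨-2,-1,-2,1,0,-1,-2,1⟩,
   ⟨-2,-1,-2,1,0,-1,2,-1⟩,
   ⟨-2,-1,-2,1,0,1,-2,1⟩,
   ⟨-2,-1,-2,1,0,1,2,-1⟩,
   ⟨-2,-1,-2,1,2,-1,0,-1⟩,
   ⟨-2,-1,-2,1,2,-1,0,1⟩,
   ⟨-2,-1,0,-1,-2,1,-2,1⟩,
   ⟨-2,-1,0,-1,-2,1,2,-1⟩,
   ⟨-2,-1,0,-1,2,-1,-2,1⟩,
   ⟨-2,-1,0,-1,2,-1,2,-1⟩,
   ⟨-2,-1,0,1,-2,1,-2,1⟩,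
   ⟨-2,-1,0,1,-2,1,2,-1⟩,
   ⟨-2,-1,0,1,2,-1,-2,1⟩,
   ⟨-2,-1,0,1,2,-1,2,-1⟩,
   ⟨-2,-1,2,-1,-2,1,0,-1⟩,
   ⟨-2,-1,2,-1,-2,1,0,1⟩,
   ⟨-2,-1,2,-1,0,-1,-2,1⟩,
   ⟨-2,-1,2,-1,0,-1,2,-1⟩,
   ⟨-2,-1,2,-1,0,1,-2,1⟩,
   ⟨-2,-1,2,-1,0,1,2,-1⟩,
   ⟨-2,-1,2,-1,2,-1,0,-1⟩,
   ⟨-2,-1,2,-1,2,-1,0,1⟩,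
   ⟨-2,1,-2,-1,-2,1,0,-1⟩,
   ⟨-2,1,-2,-1,-2,1,0,1⟩,
   ⟨-2,1,-2,-1,0,-1,-2,1⟩,
   ⟨-2,1,-2,-1,0,-1,2,-1⟩,
   ⟨-2,1,-2,-1,0,1,-2,1⟩,
   ⟨-2,1,-2,-1,0,1,2,-1⟩,
   ⟨-2,1,-2,-1,2,-1,0,-1⟩,
   ⟨-2,1,-2,-1,2,-1,0,1⟩,
   ⟨-2,1,-2,1,-2,-1,0,-1⟩,
   ⟨-2,1,-2,1,-2,-1,0,1⟩,
   ⟨-2,1,-2,1,0,-1,-2,-1⟩,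
   ⟨-2,1,-2,1,0,-1,0,-1⟩,
   ⟨-2,1,-2,1,0,-1,0,1⟩,
   ⟨-2,1,-2,1,0,-1,2,1⟩,
   ⟨-2,1,-2,1,0,1,-2,-1⟩,
   ⟨-2,1,-2,1,0,1,0,-1⟩,
   ⟨-2,1,-2,1,0,1,0,1⟩,
   ⟨-2,1,-2,1,0,1,2,1⟩,
   ⟨-2,1,-2,1,2,1,0,-1⟩,
   ⟨-2,1,-2,1,2,1,0,1⟩,
   ⟨-2,1,0,-1,-2,-1,-2,1⟩,
   ⟨-2,1,0,-1,-2,-1,2,-1⟩,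
   ⟨-2,1,0,-1,-2,1,-2,-1⟩,
   ⟨-2,1,0,-1,-2,1,0,-1⟩,
   ⟨-2,1,0,-1,-2,1,0,1⟩,
   ⟨-2,1,0,-1,-2,1,2,1⟩,
   ⟨-2,1,0,-1,0,-1,-2,1⟩,
   ⟨-2,1,0,-1,0,-1,0,-1⟩,
   ⟨-2,1,0,-1,0,-1,0,1⟩,
   ⟨-2,1,0,-1,0,-1,2,-1⟩,
   ⟨-2,1,0,-1,0,1,-2,1⟩,
   ⟨-2,1,0,-1,0,1,0,-1⟩,
   ⟨-2,1,0,-1,0,1,0,1⟩,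
   ⟨-2,1,0,-1,0,1,2,-1⟩,
   ⟨-2,1,0,-1,2,-1,-2,-1⟩,
   ⟨-2,1,0,-1,2,-1,0,-1⟩,
   ⟨-2,1,0,-1,2,-1,0,1⟩,
   ⟨-2,1,0,-1,2,-1,2,1⟩,
   ⟨-2,1,0,-1,2,1,-2,1⟩,
   ⟨-2,1,0,-1,2,1,2,-1⟩,
   ⟨-2,1,0,1,-2,-1,-2,1⟩,
   ⟨-2,1,0,1,-2,-1,2,-1⟩,
   ⟨-2,1,0,1,-2,1,-2,-1⟩,
   ⟨-2,1,0,1,-2,1,0,-1⟩,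
   ⟨-2,1,0,1,-2,1,0,1⟩,
   ⟨-2,1,0,1,-2,1,2,1⟩,
   ⟨-2,1,0,1,0,-1,-2,1⟩,
   ⟨-2,1,0,1,0,-1,0,-1⟩,
   ⟨-2,1,0,1,0,-1,0,1⟩,
   ⟨-2,1,0,1,0,-1,2,-1⟩,
   ⟨-2,1,0,1,0,1,-2,1⟩,
   ⟨-2,1,0,1,0,1,0,-1⟩,
   ⟨-2,1,0,1,0,1,0,1⟩,
   ⟨-2,1,0,1,0,1,2,-1⟩,
   ⟨-2,1,0,1,2,-1,-2,-1⟩,
   ⟨-2,1,0,1,2,-1,0,-1⟩,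
   ⟨-2,1,0,1,2,-1,0,1⟩,
   ⟨-2,1,0,1,2,-1,2,1⟩,
   ⟨-2,1,0,1,2,1,-2,1⟩,
   ⟨-2,1,0,1,2,1,2,-1⟩,
   ⟨-2,1,2,-1,-2,-1,0,-1⟩,
   ⟨-2,1,2,-1,-2,-1,0,1⟩,
   ⟨-2,1,2,-1,0,-1,-2,-1⟩,
   ⟨-2,1,2,-1,0,-1,0,-1⟩,
   ⟨-2,1,2,-1,0,-1,0,1⟩,
   ⟨-2,1,2,-1,0,-1,2,1⟩,
   ⟨-2,1,2,-1,0,1,-2,-1⟩,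
   ⟨-2,1,2,-1,0,1,0,-1⟩,
   ⟨-2,1,2,-1,0,1,0,1⟩,
   ⟨-2,1,2,-1,0,1,2,1⟩,
   ⟨-2,1,2,-1,2,1,0,-1⟩,
   ⟨-2,1,2,-1,2,1,0,1⟩,
   ⟨-2,1,2,1,-2,1,0,-1⟩,
   ⟨-2,1,2,1,-2,1,0,1⟩,
   ⟨-2,1,2,1,0,-1,-2,1⟩,
   ⟨-2,1,2,1,0,-1,2,-1⟩,
   ⟨-2,1,2,1,0,1,-2,1⟩,
   ⟨-2,1,2,1,0,1,2,-1⟩,
   ⟨-2,1,2,1,2,-1,0,-1⟩,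
   ⟨-2,1,2,1,2,-1,0,1⟩,
   ⟨-2,3,0,-1,0,-1,0,-1⟩,
   ⟨-2,3,0,-1,0,-1,0,1⟩,
   ⟨-2,3,0,-1,0,1,0,-1⟩,
   ⟨-2,3,0,-1,0,1,0,1⟩,
   ⟨-2,3,0,1,0,-1,0,-1⟩,
   ⟨-2,3,0,1,0,-1,0,1⟩,
   ⟨-2,3,0,1,0,1,0,-1⟩,
   ⟨-2,3,0,1,0,1,0,1⟩,
   ⟨0,-1,-2,-1,-2,1,-2,1⟩,
   ⟨0,-1,-2,-1,-2,1,2,-1⟩,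
   ⟨0,-1,-2,-1,2,-1,-2,1⟩,
   ⟨0,-1,-2,-1,2,-1,2,-1⟩,
   ⟨0,-1,-2,1,-2,-1,-2,1⟩,
   ⟨0,-1,-2,1,-2,-1,2,-1⟩,
   ⟨0,-1,-2,1,-2,1,-2,-1⟩,
   ⟨0,-1,-2,1,-2,1,0,-1⟩,
   ⟨0,-1,-2,1,-2,1,0,1⟩,
   ⟨0,-1,-2,1,-2,1,2,1⟩,
   ⟨0,-1,-2,1,0,-1,-2,1⟩,
   ⟨0,-1,-2,1,0,-1,0,-1⟩,
   ⟨0,-1,-2,1,0,-1,0,1⟩,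
   ⟨0,-1,-2,1,0,-1,2,-1⟩,
   ⟨0,-1,-2,1,0,1,-2,1⟩,
   ⟨0,-1,-2,1,0,1,0,-1⟩,
   ⟨0,-1,-2,1,0,1,0,1⟩,
   ⟨0,-1,-2,1,0,1,2,-1⟩,
   ⟨0,-1,-2,1,2,-1,-2,-1⟩,
   ⟨0,-1,-2,1,2,-1,0,-1⟩,
   ⟨0,-1,-2,1,2,-1,0,1⟩,
   ⟨0,-1,-2,1,2,-1,2,1⟩,
   ⟨0,-1,-2,1,2,1,-2,1⟩,
   ⟨0,-1,-2,1,2,1,2,-1⟩,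
   ⟨0,-1,-2,3,0,-1,0,-1⟩,
   ⟨0,-1,-2,3,0,-1,0,1⟩,
   ⟨0,-1,-2,3,0,1,0,-1⟩,
   ⟨0,-1,-2,3,0,1,0,1⟩,
   ⟨0,-1,0,-1,-2,1,-2,1⟩,
   ⟨0,-1,0,-1,-2,1,0,-1⟩,
   ⟨0,-1,0,-1,-2,1,0,1⟩,
   ⟨0,-1,0,-1,-2,1,2,-1⟩,
   ⟨0,-1,0,-1,-2,3,0,-1⟩,
   ⟨0,-1,0,-1,-2,3,0,1⟩,
   ⟨0,-1,0,-1,0,-1,-2,1⟩,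
   ⟨0,-1,0,-1,0,-1,-2,3⟩,
   ⟨0,-1,0,-1,0,-1,0,-1⟩,
   ⟨0,-1,0,-1,0,-1,0,1⟩]

def shortChunk10_1 : List Q :=
  [⟨0,-1,0,-1,0,-1,2,-3⟩,
   ⟨0,-1,0,-1,0,-1,2,-1⟩,
   ⟨0,-1,0,-1,0,1,-2,1⟩,
   ⟨0,-1,0,-1,0,1,-2,3⟩,
   ⟨0,-1,0,-1,0,1,0,-1⟩,
   ⟨0,-1,0,-1,0,1,0,1⟩,
   ⟨0,-1,0,-1,0,1,2,-3⟩,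
   ⟨0,-1,0,-1,0,1,2,-1⟩,
   ⟨0,-1,0,-1,2,-3,0,-1⟩,
   ⟨0,-1,0,-1,2,-3,0,1⟩,
   ⟨0,-1,0,-1,2,-1,-2,1⟩,
   ⟨0,-1,0,-1,2,-1,0,-1⟩,
   ⟨0,-1,0,-1,2,-1,0,1⟩,
   ⟨0,-1,0,-1,2,-1,2,-1⟩,
   ⟨0,-1,0,1,-2,1,-2,1⟩,
   ⟨0,-1,0,1,-2,1,0,-1⟩,
   ⟨0,-1,0,1,-2,1,0,1⟩,
   ⟨0,-1,0,1,-2,1,2,-1⟩,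
   ⟨0,-1,0,1,-2,3,0,-1⟩,
   ⟨0,-1,0,1,-2,3,0,1⟩,
   ⟨0,-1,0,1,0,-1,-2,1⟩,
   ⟨0,-1,0,1,0,-1,-2,3⟩,
   ⟨0,-1,0,1,0,-1,0,-1⟩,
   ⟨0,-1,0,1,0,-1,0,1⟩,
   ⟨0,-1,0,1,0,-1,2,-3⟩,
   ⟨0,-1,0,1,0,-1,2,-1⟩,
   ⟨0,-1,0,1,0,1,-2,1⟩,
   ⟨0,-1,0,1,0,1,-2,3⟩,
   ⟨0,-1,0,1,0,1,0,-1⟩,
   ⟨0,-1,0,1,0,1,0,1⟩,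
   ⟨0,-1,0,1,0,1,2,-3⟩,
   ⟨0,-1,0,1,0,1,2,-1⟩,
   ⟨0,-1,0,1,2,-3,0,-1⟩,
   ⟨0,-1,0,1,2,-3,0,1⟩,
   ⟨0,-1,0,1,2,-1,-2,1⟩,
   ⟨0,-1,0,1,2,-1,0,-1⟩,
   ⟨0,-1,0,1,2,-1,0,1⟩,
   ⟨0,-1,0,1,2,-1,2,-1⟩,
   ⟨0,-1,2,-3,0,-1,0,-1⟩,
   ⟨0,-1,2,-3,0,-1,0,1⟩,
   ⟨0,-1,2,-3,0,1,0,-1⟩,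
   ⟨0,-1,2,-3,0,1,0,1⟩,
   ⟨0,-1,2,-1,-2,-1,-2,1⟩,
   ⟨0,-1,2,-1,-2,-1,2,-1⟩,
   ⟨0,-1,2,-1,-2,1,-2,-1⟩,
   ⟨0,-1,2,-1,-2,1,0,-1⟩,
   ⟨0,-1,2,-1,-2,1,0,1⟩,
   ⟨0,-1,2,-1,-2,1,2,1⟩,
   ⟨0,-1,2,-1,0,-1,-2,1⟩,
   ⟨0,-1,2,-1,0,-1,0,-1⟩,
   ⟨0,-1,2,-1,0,-1,0,1⟩,
   ⟨0,-1,2,-1,0,-1,2,-1⟩,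
   ⟨0,-1,2,-1,0,1,-2,1⟩,
   ⟨0,-1,2,-1,0,1,0,-1⟩,
   ⟨0,-1,2,-1,0,1,0,1⟩,
   ⟨0,-1,2,-1,0,1,2,-1⟩,
   ⟨0,-1,2,-1,2,-1,-2,-1⟩,
   ⟨0,-1,2,-1,2,-1,0,-1⟩,
   ⟨0,-1,2,-1,2,-1,0,1⟩,
   ⟨0,-1,2,-1,2,-1,2,1⟩,
   ⟨0,-1,2,-1,2,1,-2,1⟩,
   ⟨0,-1,2,-1,2,1,2,-1⟩,
   ⟨0,-1,2,1,-2,1,-2,1⟩,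
   ⟨0,-1,2,1,-2,1,2,-1⟩,
   ⟨0,-1,2,1,2,-1,-2,1⟩,
   ⟨0,-1,2,1,2,-1,2,-1⟩,
   ⟨0,1,-2,-1,-2,1,-2,1⟩,
   ⟨0,1,-2,-1,-2,1,2,-1⟩,
   ⟨0,1,-2,-1,2,-1,-2,1⟩,
   ⟨0,1,-2,-1,2,-1,2,-1⟩,
   ⟨0,1,-2,1,-2,-1,-2,1⟩,
   ⟨0,1,-2,1,-2,-1,2,-1⟩,
   ⟨0,1,-2,1,-2,1,-2,-1⟩,
   ⟨0,1,-2,1,-2,1,0,-1⟩,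
   ⟨0,1,-2,1,-2,1,0,1⟩,
   ⟨0,1,-2,1,-2,1,2,1⟩,
   ⟨0,1,-2,1,0,-1,-2,1⟩,
   ⟨0,1,-2,1,0,-1,0,-1⟩,
   ⟨0,1,-2,1,0,-1,0,1⟩,
   ⟨0,1,-2,1,0,-1,2,-1⟩,
   ⟨0,1,-2,1,0,1,-2,1⟩,
   ⟨0,1,-2,1,0,1,0,-1⟩,
   ⟨0,1,-2,1,0,1,0,1⟩,
   ⟨0,1,-2,1,0,1,2,-1⟩,
   ⟨0,1,-2,1,2,-1,-2,-1⟩,
   ⟨0,1,-2,1,2,-1,0,-1⟩,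
   ⟨0,1,-2,1,2,-1,0,1⟩,
   ⟨0,1,-2,1,2,-1,2,1⟩,
   ⟨0,1,-2,1,2,1,-2,1⟩,
   ⟨0,1,-2,1,2,1,2,-1⟩,
   ⟨0,1,-2,3,0,-1,0,-1⟩,
   ⟨0,1,-2,3,0,-1,0,1⟩,
   ⟨0,1,-2,3,0,1,0,-1⟩,
   ⟨0,1,-2,3,0,1,0,1⟩,
   ⟨0,1,0,-1,-2,1,-2,1⟩,
   ⟨0,1,0,-1,-2,1,0,-1⟩,
   ⟨0,1,0,-1,-2,1,0,1⟩,
   ⟨0,1,0,-1,-2,1,2,-1⟩,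
   ⟨0,1,0,-1,-2,3,0,-1⟩,
   ⟨0,1,0,-1,-2,3,0,1⟩,
   ⟨0,1,0,-1,0,-1,-2,1⟩,
   ⟨0,1,0,-1,0,-1,-2,3⟩,
   ⟨0,1,0,-1,0,-1,0,-1⟩,
   ⟨0,1,0,-1,0,-1,0,1⟩,
   ⟨0,1,0,-1,0,-1,2,-3⟩,
   ⟨0,1,0,-1,0,-1,2,-1⟩,
   ⟨0,1,0,-1,0,1,-2,1⟩,
   ⟨0,1,0,-1,0,1,-2,3⟩,
   ⟨0,1,0,-1,0,1,0,-1⟩,
   ⟨0,1,0,-1,0,1,0,1⟩,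
   ⟨0,1,0,-1,0,1,2,-3⟩,
   ⟨0,1,0,-1,0,1,2,-1⟩,
   ⟨0,1,0,-1,2,-3,0,-1⟩,
   ⟨0,1,0,-1,2,-3,0,1⟩,
   ⟨0,1,0,-1,2,-1,-2,1⟩,
   ⟨0,1,0,-1,2,-1,0,-1⟩,
   ⟨0,1,0,-1,2,-1,0,1⟩,
   ⟨0,1,0,-1,2,-1,2,-1⟩,
   ⟨0,1,0,1,-2,1,-2,1⟩,
   ⟨0,1,0,1,-2,1,0,-1⟩,
   ⟨0,1,0,1,-2,1,0,1⟩,
   ⟨0,1,0,1,-2,1,2,-1⟩,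
   ⟨0,1,0,1,-2,3,0,-1⟩,
   ⟨0,1,0,1,-2,3,0,1⟩,
   ⟨0,1,0,1,0,-1,-2,1⟩,
   ⟨0,1,0,1,0,-1,-2,3⟩,
   ⟨0,1,0,1,0,-1,0,-1⟩,
   ⟨0,1,0,1,0,-1,0,1⟩,
   ⟨0,1,0,1,0,-1,2,-3⟩,
   ⟨0,1,0,1,0,-1,2,-1⟩,
   ⟨0,1,0,1,0,1,-2,1⟩,
   ⟨0,1,0,1,0,1,-2,3⟩,
   ⟨0,1,0,1,0,1,0,-1⟩,
   ⟨0,1,0,1,0,1,0,1⟩,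
   ⟨0,1,0,1,0,1,2,-3⟩,
   ⟨0,1,0,1,0,1,2,-1⟩,
   ⟨0,1,0,1,2,-3,0,-1⟩,
   ⟨0,1,0,1,2,-3,0,1⟩,
   ⟨0,1,0,1,2,-1,-2,1⟩,
   ⟨0,1,0,1,2,-1,0,-1⟩,
   ⟨0,1,0,1,2,-1,0,1⟩,
   ⟨0,1,0,1,2,-1,2,-1⟩,
   ⟨0,1,2,-3,0,-1,0,-1⟩,
   ⟨0,1,2,-3,0,-1,0,1⟩,
   ⟨0,1,2,-3,0,1,0,-1⟩,
   ⟨0,1,2,-3,0,1,0,1⟩,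
   ⟨0,1,2,-1,-2,-1,-2,1⟩,
   ⟨0,1,2,-1,-2,-1,2,-1⟩,
   ⟨0,1,2,-1,-2,1,-2,-1⟩,
   ⟨0,1,2,-1,-2,1,0,-1⟩]

def shortChunk10_2 : List Q :=
  [⟨0,1,2,-1,-2,1,0,1⟩,
   ⟨0,1,2,-1,-2,1,2,1⟩,
   ⟨0,1,2,-1,0,-1,-2,1⟩,
   ⟨0,1,2,-1,0,-1,0,-1⟩,
   ⟨0,1,2,-1,0,-1,0,1⟩,
   ⟨0,1,2,-1,0,-1,2,-1⟩,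
   ⟨0,1,2,-1,0,1,-2,1⟩,
   ⟨0,1,2,-1,0,1,0,-1⟩,
   ⟨0,1,2,-1,0,1,0,1⟩,
   ⟨0,1,2,-1,0,1,2,-1⟩,
   ⟨0,1,2,-1,2,-1,-2,-1⟩,
   ⟨0,1,2,-1,2,-1,0,-1⟩,
   ⟨0,1,2,-1,2,-1,0,1⟩,
   ⟨0,1,2,-1,2,-1,2,1⟩,
   ⟨0,1,2,-1,2,1,-2,1⟩,
   ⟨0,1,2,-1,2,1,2,-1⟩,
   ⟨0,1,2,1,-2,1,-2,1⟩,
   ⟨0,1,2,1,-2,1,2,-1⟩,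
   ⟨0,1,2,1,2,-1,-2,1⟩,
   ⟨0,1,2,1,2,-1,2,-1⟩,
   ⟨2,-3,0,-1,0,-1,0,-1⟩,
   ⟨2,-3,0,-1,0,-1,0,1⟩,
   ⟨2,-3,0,-1,0,1,0,-1⟩,
   ⟨2,-3,0,-1,0,1,0,1⟩,
   ⟨2,-3,0,1,0,-1,0,-1⟩,
   ⟨2,-3,0,1,0,-1,0,1⟩,
   ⟨2,-3,0,1,0,1,0,-1⟩,
   ⟨2,-3,0,1,0,1,0,1⟩,
   ⟨2,-1,-2,-1,-2,1,0,-1⟩,
   ⟨2,-1,-2,-1,-2,1,0,1⟩,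
   ⟨2,-1,-2,-1,0,-1,-2,1⟩,
   ⟨2,-1,-2,-1,0,-1,2,-1⟩,
   ⟨2,-1,-2,-1,0,1,-2,1⟩,
   ⟨2,-1,-2,-1,0,1,2,-1⟩,
   ⟨2,-1,-2,-1,2,-1,0,-1⟩,
   ⟨2,-1,-2,-1,2,-1,0,1⟩,
   ⟨2,-1,-2,1,-2,-1,0,-1⟩,
   ⟨2,-1,-2,1,-2,-1,0,1⟩,
   ⟨2,-1,-2,1,0,-1,-2,-1⟩,
   ⟨2,-1,-2,1,0,-1,0,-1⟩,
   ⟨2,-1,-2,1,0,-1,0,1⟩,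
   ⟨2,-1,-2,1,0,-1,2,1⟩,
   ⟨2,-1,-2,1,0,1,-2,-1⟩,
   ⟨2,-1,-2,1,0,1,0,-1⟩,
   ⟨2,-1,-2,1,0,1,0,1⟩,
   ⟨2,-1,-2,1,0,1,2,1⟩,
   ⟨2,-1,-2,1,2,1,0,-1⟩,
   ⟨2,-1,-2,1,2,1,0,1⟩,
   ⟨2,-1,0,-1,-2,-1,-2,1⟩,
   ⟨2,-1,0,-1,-2,-1,2,-1⟩,
   ⟨2,-1,0,-1,-2,1,-2,-1⟩,
   ⟨2,-1,0,-1,-2,1,0,-1⟩,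
   ⟨2,-1,0,-1,-2,1,0,1⟩,
   ⟨2,-1,0,-1,-2,1,2,1⟩,
   ⟨2,-1,0,-1,0,-1,-2,1⟩,
   ⟨2,-1,0,-1,0,-1,0,-1⟩,
   ⟨2,-1,0,-1,0,-1,0,1⟩,
   ⟨2,-1,0,-1,0,-1,2,-1⟩,
   ⟨2,-1,0,-1,0,1,-2,1⟩,
   ⟨2,-1,0,-1,0,1,0,-1⟩,
   ⟨2,-1,0,-1,0,1,0,1⟩,
   ⟨2,-1,0,-1,0,1,2,-1⟩,
   ⟨2,-1,0,-1,2,-1,-2,-1⟩,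
   ⟨2,-1,0,-1,2,-1,0,-1⟩,
   ⟨2,-1,0,-1,2,-1,0,1⟩,
   ⟨2,-1,0,-1,2,-1,2,1⟩,
   ⟨2,-1,0,-1,2,1,-2,1⟩,
   ⟨2,-1,0,-1,2,1,2,-1⟩,
   ⟨2,-1,0,1,-2,-1,-2,1⟩,
   ⟨2,-1,0,1,-2,-1,2,-1⟩,
   ⟨2,-1,0,1,-2,1,-2,-1⟩,
   ⟨2,-1,0,1,-2,1,0,-1⟩,
   ⟨2,-1,0,1,-2,1,0,1⟩,
   ⟨2,-1,0,1,-2,1,2,1⟩,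
   ⟨2,-1,0,1,0,-1,-2,1⟩,
   ⟨2,-1,0,1,0,-1,0,-1⟩,
   ⟨2,-1,0,1,0,-1,0,1⟩,
   ⟨2,-1,0,1,0,-1,2,-1⟩,
   ⟨2,-1,0,1,0,1,-2,1⟩,
   ⟨2,-1,0,1,0,1,0,-1⟩,
   ⟨2,-1,0,1,0,1,0,1⟩,
   ⟨2,-1,0,1,0,1,2,-1⟩,
   ⟨2,-1,0,1,2,-1,-2,-1⟩,
   ⟨2,-1,0,1,2,-1,0,-1⟩,
   ⟨2,-1,0,1,2,-1,0,1⟩,
   ⟨2,-1,0,1,2,-1,2,1⟩,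
   ⟨2,-1,0,1,2,1,-2,1⟩,
   ⟨2,-1,0,1,2,1,2,-1⟩,
   ⟨2,-1,2,-1,-2,-1,0,-1⟩,
   ⟨2,-1,2,-1,-2,-1,0,1⟩,
   ⟨2,-1,2,-1,0,-1,-2,-1⟩,
   ⟨2,-1,2,-1,0,-1,0,-1⟩,
   ⟨2,-1,2,-1,0,-1,0,1⟩,
   ⟨2,-1,2,-1,0,-1,2,1⟩,
   ⟨2,-1,2,-1,0,1,-2,-1⟩,
   ⟨2,-1,2,-1,0,1,0,-1⟩,
   ⟨2,-1,2,-1,0,1,0,1⟩,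
   ⟨2,-1,2,-1,0,1,2,1⟩,
   ⟨2,-1,2,-1,2,1,0,-1⟩,
   ⟨2,-1,2,-1,2,1,0,1⟩,
   ⟨2,-1,2,1,-2,1,0,-1⟩,
   ⟨2,-1,2,1,-2,1,0,1⟩,
   ⟨2,-1,2,1,0,-1,-2,1⟩,
   ⟨2,-1,2,1,0,-1,2,-1⟩,
   ⟨2,-1,2,1,0,1,-2,1⟩,
   ⟨2,-1,2,1,0,1,2,-1⟩,
   ⟨2,-1,2,1,2,-1,0,-1⟩,
   ⟨2,-1,2,1,2,-1,0,1⟩,
   ⟨2,1,-2,1,-2,1,0,-1⟩,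
   ⟨2,1,-2,1,-2,1,0,1⟩,
   ⟨2,1,-2,1,0,-1,-2,1⟩,
   ⟨2,1,-2,1,0,-1,2,-1⟩,
   ⟨2,1,-2,1,0,1,-2,1⟩,
   ⟨2,1,-2,1,0,1,2,-1⟩,
   ⟨2,1,-2,1,2,-1,0,-1⟩,
   ⟨2,1,-2,1,2,-1,0,1⟩,
   ⟨2,1,0,-1,-2,1,-2,1⟩,
   ⟨2,1,0,-1,-2,1,2,-1⟩,
   ⟨2,1,0,-1,2,-1,-2,1⟩,
   ⟨2,1,0,-1,2,-1,2,-1⟩,
   ⟨2,1,0,1,-2,1,-2,1⟩,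
   ⟨2,1,0,1,-2,1,2,-1⟩,
   ⟨2,1,0,1,2,-1,-2,1⟩,
   ⟨2,1,0,1,2,-1,2,-1⟩,
   ⟨2,1,2,-1,-2,1,0,-1⟩,
   ⟨2,1,2,-1,-2,1,0,1⟩,
   ⟨2,1,2,-1,0,-1,-2,1⟩,
   ⟨2,1,2,-1,0,-1,2,-1⟩,
   ⟨2,1,2,-1,0,1,-2,1⟩,
   ⟨2,1,2,-1,0,1,2,-1⟩,
   ⟨2,1,2,-1,2,-1,0,-1⟩,
   ⟨2,1,2,-1,2,-1,0,1⟩]

/-- the short elements of parity class 10 -/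
def shortData10 : List Q := shortChunk10_0 ++ shortChunk10_1 ++ shortChunk10_2

def shortChunk11_0 : List Q :=
  [⟨-2,0,-3,0,-1,1,0,-1⟩,
   ⟨-2,0,-3,0,-1,1,0,1⟩,
   ⟨-2,0,-3,0,1,-1,0,-1⟩,
   ⟨-2,0,-3,0,1,-1,0,1⟩,
   ⟨-2,0,-1,0,-1,-1,-2,1⟩,
   ⟨-2,0,-1,0,-1,-1,0,-1⟩,
   ⟨-2,0,-1,0,-1,-1,0,1⟩,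
   ⟨-2,0,-1,0,-1,-1,2,-1⟩,
   ⟨-2,0,-1,0,-1,1,-2,1⟩,
   ⟨-2,0,-1,0,-1,1,0,-1⟩,
   ⟨-2,0,-1,0,-1,1,0,1⟩,
   ⟨-2,0,-1,0,-1,1,2,-1⟩,
   ⟨-2,0,-1,0,1,-1,-2,1⟩,
   ⟨-2,0,-1,0,1,-1,0,-1⟩,
   ⟨-2,0,-1,0,1,-1,0,1⟩,
   ⟨-2,0,-1,0,1,-1,2,-1⟩,
   ⟨-2,0,-1,0,1,1,-2,1⟩,
   ⟨-2,0,-1,0,1,1,0,-1⟩,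
   ⟨-2,0,-1,0,1,1,0,1⟩,
   ⟨-2,0,-1,0,1,1,2,-1⟩,
   ⟨-2,0,-1,2,-1,-1,-2,1⟩,
   ⟨-2,0,-1,2,-1,-1,2,-1⟩,
   ⟨-2,0,-1,2,-1,1,0,-1⟩,
   ⟨-2,0,-1,2,-1,1,0,1⟩,
   ⟨-2,0,-1,2,1,-1,0,-1⟩,
   ⟨-2,0,-1,2,1,-1,0,1⟩,
   ⟨-2,0,-1,2,1,1,-2,1⟩,
   ⟨-2,0,-1,2,1,1,2,-1⟩,
   ⟨-2,0,1,-2,-1,-1,-2,1⟩,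
   ⟨-2,0,1,-2,-1,-1,2,-1⟩,
   ⟨-2,0,1,-2,-1,1,0,-1⟩,
   ⟨-2,0,1,-2,-1,1,0,1⟩,
   ⟨-2,0,1,-2,1,-1,0,-1⟩,
   ⟨-2,0,1,-2,1,-1,0,1⟩,
   ⟨-2,0,1,-2,1,1,-2,1⟩,
   ⟨-2,0,1,-2,1,1,2,-1⟩,
   ⟨-2,0,1,0,-1,-1,-2,1⟩,
   ⟨-2,0,1,0,-1,-1,0,-1⟩,
   ⟨-2,0,1,0,-1,-1,0,1⟩,
   ⟨-2,0,1,0,-1,-1,2,-1⟩,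
   ⟨-2,0,1,0,-1,1,-2,1⟩,
   ⟨-2,0,1,0,-1,1,0,-1⟩,
   ⟨-2,0,1,0,-1,1,0,1⟩,
   ⟨-2,0,1,0,-1,1,2,-1⟩,
   ⟨-2,0,1,0,1,-1,-2,1⟩,
   ⟨-2,0,1,0,1,-1,0,-1⟩,
   ⟨-2,0,1,0,1,-1,0,1⟩,
   ⟨-2,0,1,0,1,-1,2,-1⟩,
   ⟨-2,0,1,0,1,1,-2,1⟩,
   ⟨-2,0,1,0,1,1,0,-1⟩,
   ⟨-2,0,1,0,1,1,0,1⟩,
   ⟨-2,0,1,0,1,1,2,-1⟩,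
   ⟨-2,0,3,0,-1,1,0,-1⟩,
   ⟨-2,0,3,0,-1,1,0,1⟩,
   ⟨-2,0,3,0,1,-1,0,-1⟩,
   ⟨-2,0,3,0,1,-1,0,1⟩,
   ⟨-2,2,-1,0,-1,-1,0,-1⟩,
   ⟨-2,2,-1,0,-1,-1,0,1⟩,
   ⟨-2,2,-1,0,-1,1,-2,-1⟩,
   ⟨-2,2,-1,0,-1,1,0,-1⟩,
   ⟨-2,2,-1,0,-1,1,0,1⟩,
   ⟨-2,2,-1,0,-1,1,2,1⟩,
   ⟨-2,2,-1,0,1,-1,-2,-1⟩,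
   ⟨-2,2,-1,0,1,-1,0,-1⟩,
   ⟨-2,2,-1,0,1,-1,0,1⟩,
   ⟨-2,2,-1,0,1,-1,2,1⟩,
   ⟨-2,2,-1,0,1,1,0,-1⟩,
   ⟨-2,2,-1,0,1,1,0,1⟩,
   ⟨-2,2,-1,2,-1,-1,0,-1⟩,
   ⟨-2,2,-1,2,-1,-1,0,1⟩,
   ⟨-2,2,-1,2,1,1,0,-1⟩,
   ⟨-2,2,-1,2,1,1,0,1⟩,
   ⟨-2,2,1,-2,-1,-1,0,-1⟩,
   ⟨-2,2,1,-2,-1,-1,0,1⟩,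
   ⟨-2,2,1,-2,1,1,0,-1⟩,
   ⟨-2,2,1,-2,1,1,0,1⟩,
   ⟨-2,2,1,0,-1,-1,0,-1⟩,
   ⟨-2,2,1,0,-1,-1,0,1⟩,
   ⟨-2,2,1,0,-1,1,-2,-1⟩,
   ⟨-2,2,1,0,-1,1,0,-1⟩,
   ⟨-2,2,1,0,-1,1,0,1⟩,
   ⟨-2,2,1,0,-1,1,2,1⟩,
   ⟨-2,2,1,0,1,-1,-2,-1⟩,
   ⟨-2,2,1,0,1,-1,0,-1⟩,
   ⟨-2,2,1,0,1,-1,0,1⟩,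
   ⟨-2,2,1,0,1,-1,2,1⟩,
   ⟨-2,2,1,0,1,1,0,-1⟩,
   ⟨-2,2,1,0,1,1,0,1⟩,
   ⟨0,-2,-1,0,-3,1,0,-1⟩,
   ⟨0,-2,-1,0,-3,1,0,1⟩,
   ⟨0,-2,-1,0,-1,1,-2,1⟩,
   ⟨0,-2,-1,0,-1,1,0,-1⟩,
   ⟨0,-2,-1,0,-1,1,0,1⟩,
   ⟨0,-2,-1,0,-1,1,2,-1⟩,
   ⟨0,-2,-1,0,1,-1,-2,1⟩,
   ⟨0,-2,-1,0,1,-1,0,-1⟩,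
   ⟨0,-2,-1,0,1,-1,0,1⟩,
   ⟨0,-2,-1,0,1,-1,2,-1⟩,
   ⟨0,-2,-1,0,3,-1,0,-1⟩,
   ⟨0,-2,-1,0,3,-1,0,1⟩,
   ⟨0,-2,-1,2,-1,1,-2,1⟩,
   ⟨0,-2,-1,2,-1,1,2,-1⟩,
   ⟨0,-2,-1,2,1,-1,-2,1⟩,
   ⟨0,-2,-1,2,1,-1,2,-1⟩,
   ⟨0,-2,1,-2,-1,1,-2,1⟩,
   ⟨0,-2,1,-2,-1,1,2,-1⟩,
   ⟨0,-2,1,-2,1,-1,-2,1⟩,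
   ⟨0,-2,1,-2,1,-1,2,-1⟩,
   ⟨0,-2,1,0,-3,1,0,-1⟩,
   ⟨0,-2,1,0,-3,1,0,1⟩,
   ⟨0,-2,1,0,-1,1,-2,1⟩,
   ⟨0,-2,1,0,-1,1,0,-1⟩,
   ⟨0,-2,1,0,-1,1,0,1⟩,
   ⟨0,-2,1,0,-1,1,2,-1⟩,
   ⟨0,-2,1,0,1,-1,-2,1⟩,
   ⟨0,-2,1,0,1,-1,0,-1⟩,
   ⟨0,-2,1,0,1,-1,0,1⟩,
   ⟨0,-2,1,0,1,-1,2,-1⟩,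
   ⟨0,-2,1,0,3,-1,0,-1⟩,
   ⟨0,-2,1,0,3,-1,0,1⟩,
   ⟨0,0,-3,0,-1,-1,-2,1⟩,
   ⟨0,0,-3,0,-1,-1,2,-1⟩,
   ⟨0,0,-3,0,-1,1,0,-1⟩,
   ⟨0,0,-3,0,-1,1,0,1⟩,
   ⟨0,0,-3,0,1,-1,0,-1⟩,
   ⟨0,0,-3,0,1,-1,0,1⟩,
   ⟨0,0,-3,0,1,1,-2,1⟩,
   ⟨0,0,-3,0,1,1,2,-1⟩,
   ⟨0,0,-1,0,-3,1,-2,-1⟩,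
   ⟨0,0,-1,0,-3,1,0,-1⟩,
   ⟨0,0,-1,0,-3,1,0,1⟩,
   ⟨0,0,-1,0,-3,1,2,1⟩,
   ⟨0,0,-1,0,-1,-1,-2,1⟩,
   ⟨0,0,-1,0,-1,-1,-2,3⟩,
   ⟨0,0,-1,0,-1,-1,0,-1⟩,
   ⟨0,0,-1,0,-1,-1,0,1⟩,
   ⟨0,0,-1,0,-1,-1,2,-3⟩,
   ⟨0,0,-1,0,-1,-1,2,-1⟩,
   ⟨0,0,-1,0,-1,1,-2,-1⟩,
   ⟨0,0,-1,0,-1,1,-2,1⟩,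
   ⟨0,0,-1,0,-1,1,0,-1⟩,
   ⟨0,0,-1,0,-1,1,0,1⟩,
   ⟨0,0,-1,0,-1,1,2,-1⟩,
   ⟨0,0,-1,0,-1,1,2,1⟩,
   ⟨0,0,-1,0,-1,3,-2,1⟩,
   ⟨0,0,-1,0,-1,3,2,-1⟩,
   ⟨0,0,-1,0,1,-3,-2,1⟩,
   ⟨0,0,-1,0,1,-3,2,-1⟩,
   ⟨0,0,-1,0,1,-1,-2,-1⟩,
   ⟨0,0,-1,0,1,-1,-2,1⟩]

def shortChunk11_1 : List Q :=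
  [⟨0,0,-1,0,1,-1,0,-1⟩,
   ⟨0,0,-1,0,1,-1,0,1⟩,
   ⟨0,0,-1,0,1,-1,2,-1⟩,
   ⟨0,0,-1,0,1,-1,2,1⟩,
   ⟨0,0,-1,0,1,1,-2,1⟩,
   ⟨0,0,-1,0,1,1,-2,3⟩,
   ⟨0,0,-1,0,1,1,0,-1⟩,
   ⟨0,0,-1,0,1,1,0,1⟩,
   ⟨0,0,-1,0,1,1,2,-3⟩,
   ⟨0,0,-1,0,1,1,2,-1⟩,
   ⟨0,0,-1,0,3,-1,-2,-1⟩,
   ⟨0,0,-1,0,3,-1,0,-1⟩,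
   ⟨0,0,-1,0,3,-1,0,1⟩,
   ⟨0,0,-1,0,3,-1,2,1⟩,
   ⟨0,0,-1,2,-1,-1,-2,1⟩,
   ⟨0,0,-1,2,-1,-1,0,-1⟩,
   ⟨0,0,-1,2,-1,-1,0,1⟩,
   ⟨0,0,-1,2,-1,-1,2,-1⟩,
   ⟨0,0,-1,2,-1,1,-2,1⟩,
   ⟨0,0,-1,2,-1,1,0,-1⟩,
   ⟨0,0,-1,2,-1,1,0,1⟩,
   ⟨0,0,-1,2,-1,1,2,-1⟩,
   ⟨0,0,-1,2,1,-1,-2,1⟩,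
   ⟨0,0,-1,2,1,-1,0,-1⟩,
   ⟨0,0,-1,2,1,-1,0,1⟩,
   ⟨0,0,-1,2,1,-1,2,-1⟩,
   ⟨0,0,-1,2,1,1,-2,1⟩,
   ⟨0,0,-1,2,1,1,0,-1⟩,
   ⟨0,0,-1,2,1,1,0,1⟩,
   ⟨0,0,-1,2,1,1,2,-1⟩,
   ⟨0,0,1,-2,-1,-1,-2,1⟩,
   ⟨0,0,1,-2,-1,-1,0,-1⟩,
   ⟨0,0,1,-2,-1,-1,0,1⟩,
   ⟨0,0,1,-2,-1,-1,2,-1⟩,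
   ⟨0,0,1,-2,-1,1,-2,1⟩,
   ⟨0,0,1,-2,-1,1,0,-1⟩,
   ⟨0,0,1,-2,-1,1,0,1⟩,
   ⟨0,0,1,-2,-1,1,2,-1⟩,
   ⟨0,0,1,-2,1,-1,-2,1⟩,
   ⟨0,0,1,-2,1,-1,0,-1⟩,
   ⟨0,0,1,-2,1,-1,0,1⟩,
   ⟨0,0,1,-2,1,-1,2,-1⟩,
   ⟨0,0,1,-2,1,1,-2,1⟩,
   ⟨0,0,1,-2,1,1,0,-1⟩,
   ⟨0,0,1,-2,1,1,0,1⟩,
   ⟨0,0,1,-2,1,1,2,-1⟩,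
   ⟨0,0,1,0,-3,1,-2,-1⟩,
   ⟨0,0,1,0,-3,1,0,-1⟩,
   ⟨0,0,1,0,-3,1,0,1⟩,
   ⟨0,0,1,0,-3,1,2,1⟩,
   ⟨0,0,1,0,-1,-1,-2,1⟩,
   ⟨0,0,1,0,-1,-1,-2,3⟩,
   ⟨0,0,1,0,-1,-1,0,-1⟩,
   ⟨0,0,1,0,-1,-1,0,1⟩,
   ⟨0,0,1,0,-1,-1,2,-3⟩,
   ⟨0,0,1,0,-1,-1,2,-1⟩,
   ⟨0,0,1,0,-1,1,-2,-1⟩,
   ⟨0,0,1,0,-1,1,-2,1⟩,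
   ⟨0,0,1,0,-1,1,0,-1⟩,
   ⟨0,0,1,0,-1,1,0,1⟩,
   ⟨0,0,1,0,-1,1,2,-1⟩,
   ⟨0,0,1,0,-1,1,2,1⟩,
   ⟨0,0,1,0,-1,3,-2,1⟩,
   ⟨0,0,1,0,-1,3,2,-1⟩,
   ⟨0,0,1,0,1,-3,-2,1⟩,
   ⟨0,0,1,0,1,-3,2,-1⟩,
   ⟨0,0,1,0,1,-1,-2,-1⟩,
   ⟨0,0,1,0,1,-1,-2,1⟩,
   ⟨0,0,1,0,1,-1,0,-1⟩,
   ⟨0,0,1,0,1,-1,0,1⟩,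
   ⟨0,0,1,0,1,-1,2,-1⟩,
   ⟨0,0,1,0,1,-1,2,1⟩,
   ⟨0,0,1,0,1,1,-2,1⟩,
   ⟨0,0,1,0,1,1,-2,3⟩,
   ⟨0,0,1,0,1,1,0,-1⟩,
   ⟨0,0,1,0,1,1,0,1⟩,
   ⟨0,0,1,0,1,1,2,-3⟩,
   ⟨0,0,1,0,1,1,2,-1⟩,
   ⟨0,0,1,0,3,-1,-2,-1⟩,
   ⟨0,0,1,0,3,-1,0,-1⟩,
   ⟨0,0,1,0,3,-1,0,1⟩,
   ⟨0,0,1,0,3,-1,2,1⟩,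
   ⟨0,0,3,0,-1,-1,-2,1⟩,
   ⟨0,0,3,0,-1,-1,2,-1⟩,
   ⟨0,0,3,0,-1,1,0,-1⟩,
   ⟨0,0,3,0,-1,1,0,1⟩,
   ⟨0,0,3,0,1,-1,0,-1⟩,
   ⟨0,0,3,0,1,-1,0,1⟩,
   ⟨0,0,3,0,1,1,-2,1⟩,
   ⟨0,0,3,0,1,1,2,-1⟩,
   ⟨0,2,-1,0,-3,1,0,-1⟩,
   ⟨0,2,-1,0,-3,1,0,1⟩,
   ⟨0,2,-1,0,-1,1,-2,1⟩,
   ⟨0,2,-1,0,-1,1,0,-1⟩,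
   ⟨0,2,-1,0,-1,1,0,1⟩,
   ⟨0,2,-1,0,-1,1,2,-1⟩,
   ⟨0,2,-1,0,1,-1,-2,1⟩,
   ⟨0,2,-1,0,1,-1,0,-1⟩,
   ⟨0,2,-1,0,1,-1,0,1⟩,
   ⟨0,2,-1,0,1,-1,2,-1⟩,
   ⟨0,2,-1,0,3,-1,0,-1⟩,
   ⟨0,2,-1,0,3,-1,0,1⟩,
   ⟨0,2,-1,2,-1,1,-2,1⟩,
   ⟨0,2,-1,2,-1,1,2,-1⟩,
   ⟨0,2,-1,2,1,-1,-2,1⟩,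
   ⟨0,2,-1,2,1,-1,2,-1⟩,
   ⟨0,2,1,-2,-1,1,-2,1⟩,
   ⟨0,2,1,-2,-1,1,2,-1⟩,
   ⟨0,2,1,-2,1,-1,-2,1⟩,
   ⟨0,2,1,-2,1,-1,2,-1⟩,
   ⟨0,2,1,0,-3,1,0,-1⟩,
   ⟨0,2,1,0,-3,1,0,1⟩,
   ⟨0,2,1,0,-1,1,-2,1⟩,
   ⟨0,2,1,0,-1,1,0,-1⟩,
   ⟨0,2,1,0,-1,1,0,1⟩,
   ⟨0,2,1,0,-1,1,2,-1⟩,
   ⟨0,2,1,0,1,-1,-2,1⟩,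
   ⟨0,2,1,0,1,-1,0,-1⟩,
   ⟨0,2,1,0,1,-1,0,1⟩,
   ⟨0,2,1,0,1,-1,2,-1⟩,
   ⟨0,2,1,0,3,-1,0,-1⟩,
   ⟨0,2,1,0,3,-1,0,1⟩,
   ⟨2,-2,-1,0,-1,-1,0,-1⟩,
   ⟨2,-2,-1,0,-1,-1,0,1⟩,
   ⟨2,-2,-1,0,-1,1,-2,-1⟩,
   ⟨2,-2,-1,0,-1,1,0,-1⟩,
   ⟨2,-2,-1,0,-1,1,0,1⟩,
   ⟨2,-2,-1,0,-1,1,2,1⟩,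
   ⟨2,-2,-1,0,1,-1,-2,-1⟩,
   ⟨2,-2,-1,0,1,-1,0,-1⟩,
   ⟨2,-2,-1,0,1,-1,0,1⟩,
   ⟨2,-2,-1,0,1,-1,2,1⟩,
   ⟨2,-2,-1,0,1,1,0,-1⟩,
   ⟨2,-2,-1,0,1,1,0,1⟩,
   ⟨2,-2,-1,2,-1,-1,0,-1⟩,
   ⟨2,-2,-1,2,-1,-1,0,1⟩,
   ⟨2,-2,-1,2,1,1,0,-1⟩,
   ⟨2,-2,-1,2,1,1,0,1⟩,
   ⟨2,-2,1,-2,-1,-1,0,-1⟩,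
   ⟨2,-2,1,-2,-1,-1,0,1⟩,
   ⟨2,-2,1,-2,1,1,0,-1⟩,
   ⟨2,-2,1,-2,1,1,0,1⟩,
   ⟨2,-2,1,0,-1,-1,0,-1⟩,
   ⟨2,-2,1,0,-1,-1,0,1⟩,
   ⟨2,-2,1,0,-1,1,-2,-1⟩,
   ⟨2,-2,1,0,-1,1,0,-1⟩,
   ⟨2,-2,1,0,-1,1,0,1⟩,
   ⟨2,-2,1,0,-1,1,2,1⟩,
   ⟨2,-2,1,0,1,-1,-2,-1⟩,
   ⟨2,-2,1,0,1,-1,0,-1⟩]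

def shortChunk11_2 : List Q :=
  [⟨2,-2,1,0,1,-1,0,1⟩,
   ⟨2,-2,1,0,1,-1,2,1⟩,
   ⟨2,-2,1,0,1,1,0,-1⟩,
   ⟨2,-2,1,0,1,1,0,1⟩,
   ⟨2,0,-3,0,-1,1,0,-1⟩,
   ⟨2,0,-3,0,-1,1,0,1⟩,
   ⟨2,0,-3,0,1,-1,0,-1⟩,
   ⟨2,0,-3,0,1,-1,0,1⟩,
   ⟨2,0,-1,0,-1,-1,-2,1⟩,
   ⟨2,0,-1,0,-1,-1,0,-1⟩,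
   ⟨2,0,-1,0,-1,-1,0,1⟩,
   ⟨2,0,-1,0,-1,-1,2,-1⟩,
   ⟨2,0,-1,0,-1,1,-2,1⟩,
   ⟨2,0,-1,0,-1,1,0,-1⟩,
   ⟨2,0,-1,0,-1,1,0,1⟩,
   ⟨2,0,-1,0,-1,1,2,-1⟩,
   ⟨2,0,-1,0,1,-1,-2,1⟩,
   ⟨2,0,-1,0,1,-1,0,-1⟩,
   ⟨2,0,-1,0,1,-1,0,1⟩,
   ⟨2,0,-1,0,1,-1,2,-1⟩,
   ⟨2,0,-1,0,1,1,-2,1⟩,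
   ⟨2,0,-1,0,1,1,0,-1⟩,
   ⟨2,0,-1,0,1,1,0,1⟩,
   ⟨2,0,-1,0,1,1,2,-1⟩,
   ⟨2,0,-1,2,-1,-1,-2,1⟩,
   ⟨2,0,-1,2,-1,-1,2,-1⟩,
   ⟨2,0,-1,2,-1,1,0,-1⟩,
   ⟨2,0,-1,2,-1,1,0,1⟩,
   ⟨2,0,-1,2,1,-1,0,-1⟩,
   ⟨2,0,-1,2,1,-1,0,1⟩,
   ⟨2,0,-1,2,1,1,-2,1⟩,
   ⟨2,0,-1,2,1,1,2,-1⟩,
   ⟨2,0,1,-2,-1,-1,-2,1⟩,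
   ⟨2,0,1,-2,-1,-1,2,-1⟩,
   ⟨2,0,1,-2,-1,1,0,-1⟩,
   ⟨2,0,1,-2,-1,1,0,1⟩,
   ⟨2,0,1,-2,1,-1,0,-1⟩,
   ⟨2,0,1,-2,1,-1,0,1⟩,
   ⟨2,0,1,-2,1,1,-2,1⟩,
   ⟨2,0,1,-2,1,1,2,-1⟩,
   ⟨2,0,1,0,-1,-1,-2,1⟩,
   ⟨2,0,1,0,-1,-1,0,-1⟩,
   ⟨2,0,1,0,-1,-1,0,1⟩,
   ⟨2,0,1,0,-1,-1,2,-1⟩,
   ⟨2,0,1,0,-1,1,-2,1⟩,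
   ⟨2,0,1,0,-1,1,0,-1⟩,
   ⟨2,0,1,0,-1,1,0,1⟩,
   ⟨2,0,1,0,-1,1,2,-1⟩,
   ⟨2,0,1,0,1,-1,-2,1⟩,
   ⟨2,0,1,0,1,-1,0,-1⟩,
   ⟨2,0,1,0,1,-1,0,1⟩,
   ⟨2,0,1,0,1,-1,2,-1⟩,
   ⟨2,0,1,0,1,1,-2,1⟩,
   ⟨2,0,1,0,1,1,0,-1⟩,
   ⟨2,0,1,0,1,1,0,1⟩,
   ⟨2,0,1,0,1,1,2,-1⟩,
   ⟨2,0,3,0,-1,1,0,-1⟩,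
   ⟨2,0,3,0,-1,1,0,1⟩,
   ⟨2,0,3,0,1,-1,0,-1⟩,
   ⟨2,0,3,0,1,-1,0,1⟩]

/-- the short elements of parity class 11 -/
def shortData11 : List Q := shortChunk11_0 ++ shortChunk11_1 ++ shortChunk11_2

def shortChunk12_0 : List Q :=
  [⟨-2,-1,-1,0,-2,2,-1,1⟩,
   ⟨-2,-1,-1,0,-2,2,1,-1⟩,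
   ⟨-2,-1,-1,0,0,0,-3,1⟩,
   ⟨-2,-1,-1,0,0,0,-1,1⟩,
   ⟨-2,-1,-1,0,0,0,1,-1⟩,
   ⟨-2,-1,-1,0,0,0,3,-1⟩,
   ⟨-2,-1,-1,0,2,-2,-1,1⟩,
   ⟨-2,-1,-1,0,2,-2,1,-1⟩,
   ⟨-2,-1,1,0,-2,2,-1,1⟩,
   ⟨-2,-1,1,0,-2,2,1,-1⟩,
   ⟨-2,-1,1,0,0,0,-3,1⟩,
   ⟨-2,-1,1,0,0,0,-1,1⟩,
   ⟨-2,-1,1,0,0,0,1,-1⟩,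
   ⟨-2,-1,1,0,0,0,3,-1⟩,
   ⟨-2,-1,1,0,2,-2,-1,1⟩,
   ⟨-2,-1,1,0,2,-2,1,-1⟩,
   ⟨-2,1,-3,0,0,0,-1,-1⟩,
   ⟨-2,1,-3,0,0,0,1,1⟩,
   ⟨-2,1,-1,0,-2,0,-1,-1⟩,
   ⟨-2,1,-1,0,-2,0,-1,1⟩,
   ⟨-2,1,-1,0,-2,0,1,-1⟩,
   ⟨-2,1,-1,0,-2,0,1,1⟩,
   ⟨-2,1,-1,0,0,-2,-1,1⟩,
   ⟨-2,1,-1,0,0,-2,1,-1⟩,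
   ⟨-2,1,-1,0,0,0,-1,-1⟩,
   ⟨-2,1,-1,0,0,0,-1,1⟩,
   ⟨-2,1,-1,0,0,0,-1,3⟩,
   ⟨-2,1,-1,0,0,0,1,-3⟩,
   ⟨-2,1,-1,0,0,0,1,-1⟩,
   ⟨-2,1,-1,0,0,0,1,1⟩,
   ⟨-2,1,-1,0,0,2,-1,1⟩,
   ⟨-2,1,-1,0,0,2,1,-1⟩,
   ⟨-2,1,-1,0,2,0,-1,-1⟩,
   ⟨-2,1,-1,0,2,0,-1,1⟩,
   ⟨-2,1,-1,0,2,0,1,-1⟩,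
   ⟨-2,1,-1,0,2,0,1,1⟩,
   ⟨-2,1,-1,2,-2,0,-1,-1⟩,
   ⟨-2,1,-1,2,-2,0,1,1⟩,
   ⟨-2,1,-1,2,0,-2,-1,1⟩,
   ⟨-2,1,-1,2,0,-2,1,-1⟩,
   ⟨-2,1,-1,2,0,0,-1,-1⟩,
   ⟨-2,1,-1,2,0,0,-1,1⟩,
   ⟨-2,1,-1,2,0,0,1,-1⟩,
   ⟨-2,1,-1,2,0,0,1,1⟩,
   ⟨-2,1,-1,2,0,2,-1,1⟩,
   ⟨-2,1,-1,2,0,2,1,-1⟩,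
   ⟨-2,1,-1,2,2,0,-1,-1⟩,
   ⟨-2,1,-1,2,2,0,1,1⟩,
   ⟨-2,1,1,-2,-2,0,-1,-1⟩,
   ⟨-2,1,1,-2,-2,0,1,1⟩,
   ⟨-2,1,1,-2,0,-2,-1,1⟩,
   ⟨-2,1,1,-2,0,-2,1,-1⟩,
   ⟨-2,1,1,-2,0,0,-1,-1⟩,
   ⟨-2,1,1,-2,0,0,-1,1⟩,
   ⟨-2,1,1,-2,0,0,1,-1⟩,
   ⟨-2,1,1,-2,0,0,1,1⟩,
   ⟨-2,1,1,-2,0,2,-1,1⟩,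
   ⟨-2,1,1,-2,0,2,1,-1⟩,
   ⟨-2,1,1,-2,2,0,-1,-1⟩,
   ⟨-2,1,1,-2,2,0,1,1⟩,
   ⟨-2,1,1,0,-2,0,-1,-1⟩,
   ⟨-2,1,1,0,-2,0,-1,1⟩,
   ⟨-2,1,1,0,-2,0,1,-1⟩,
   ⟨-2,1,1,0,-2,0,1,1⟩,
   ⟨-2,1,1,0,0,-2,-1,1⟩,
   ⟨-2,1,1,0,0,-2,1,-1⟩,
   ⟨-2,1,1,0,0,0,-1,-1⟩,
   ⟨-2,1,1,0,0,0,-1,1⟩,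
   ⟨-2,1,1,0,0,0,-1,3⟩,
   ⟨-2,1,1,0,0,0,1,-3⟩,
   ⟨-2,1,1,0,0,0,1,-1⟩,
   ⟨-2,1,1,0,0,0,1,1⟩,
   ⟨-2,1,1,0,0,2,-1,1⟩,
   ⟨-2,1,1,0,0,2,1,-1⟩,
   ⟨-2,1,1,0,2,0,-1,-1⟩,
   ⟨-2,1,1,0,2,0,-1,1⟩,
   ⟨-2,1,1,0,2,0,1,-1⟩,
   ⟨-2,1,1,0,2,0,1,1⟩,
   ⟨-2,1,3,0,0,0,-1,-1⟩,
   ⟨-2,1,3,0,0,0,1,1⟩,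
   ⟨-2,3,-1,0,0,0,-1,-1⟩,
   ⟨-2,3,-1,0,0,0,1,1⟩,
   ⟨-2,3,1,0,0,0,-1,-1⟩,
   ⟨-2,3,1,0,0,0,1,1⟩,
   ⟨0,-1,-3,0,-2,0,-1,1⟩,
   ⟨0,-1,-3,0,-2,0,1,-1⟩,
   ⟨0,-1,-3,0,0,0,-1,1⟩,
   ⟨0,-1,-3,0,0,0,1,-1⟩,
   ⟨0,-1,-3,0,2,0,-1,1⟩,
   ⟨0,-1,-3,0,2,0,1,-1⟩,
   ⟨0,-1,-1,0,-2,0,-1,-1⟩,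
   ⟨0,-1,-1,0,-2,0,-1,1⟩,
   ⟨0,-1,-1,0,-2,0,1,-1⟩,
   ⟨0,-1,-1,0,-2,0,1,1⟩,
   ⟨0,-1,-1,0,-2,2,-1,-1⟩,
   ⟨0,-1,-1,0,-2,2,-1,1⟩,
   ⟨0,-1,-1,0,-2,2,1,-1⟩,
   ⟨0,-1,-1,0,-2,2,1,1⟩,
   ⟨0,-1,-1,0,0,-2,-3,1⟩,
   ⟨0,-1,-1,0,0,-2,-1,1⟩,
   ⟨0,-1,-1,0,0,-2,1,-1⟩,
   ⟨0,-1,-1,0,0,-2,3,-1⟩,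
   ⟨0,-1,-1,0,0,0,-3,1⟩,
   ⟨0,-1,-1,0,0,0,-1,-1⟩,
   ⟨0,-1,-1,0,0,0,-1,1⟩,
   ⟨0,-1,-1,0,0,0,1,-1⟩,
   ⟨0,-1,-1,0,0,0,1,1⟩,
   ⟨0,-1,-1,0,0,0,3,-1⟩,
   ⟨0,-1,-1,0,0,2,-3,1⟩,
   ⟨0,-1,-1,0,0,2,-1,1⟩,
   ⟨0,-1,-1,0,0,2,1,-1⟩,
   ⟨0,-1,-1,0,0,2,3,-1⟩,
   ⟨0,-1,-1,0,2,-2,-1,-1⟩,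
   ⟨0,-1,-1,0,2,-2,-1,1⟩,
   ⟨0,-1,-1,0,2,-2,1,-1⟩,
   ⟨0,-1,-1,0,2,-2,1,1⟩,
   ⟨0,-1,-1,0,2,0,-1,-1⟩,
   ⟨0,-1,-1,0,2,0,-1,1⟩,
   ⟨0,-1,-1,0,2,0,1,-1⟩,
   ⟨0,-1,-1,0,2,0,1,1⟩,
   ⟨0,-1,-1,2,-2,0,-1,1⟩,
   ⟨0,-1,-1,2,-2,0,1,-1⟩,
   ⟨0,-1,-1,2,-2,2,-1,-1⟩,
   ⟨0,-1,-1,2,-2,2,1,1⟩,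
   ⟨0,-1,-1,2,0,0,-1,-1⟩,
   ⟨0,-1,-1,2,0,0,-1,1⟩,
   ⟨0,-1,-1,2,0,0,1,-1⟩,
   ⟨0,-1,-1,2,0,0,1,1⟩,
   ⟨0,-1,-1,2,2,-2,-1,-1⟩,
   ⟨0,-1,-1,2,2,-2,1,1⟩,
   ⟨0,-1,-1,2,2,0,-1,1⟩,
   ⟨0,-1,-1,2,2,0,1,-1⟩,
   ⟨0,-1,1,-2,-2,0,-1,1⟩,
   ⟨0,-1,1,-2,-2,0,1,-1⟩,
   ⟨0,-1,1,-2,-2,2,-1,-1⟩,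
   ⟨0,-1,1,-2,-2,2,1,1⟩,
   ⟨0,-1,1,-2,0,0,-1,-1⟩,
   ⟨0,-1,1,-2,0,0,-1,1⟩,
   ⟨0,-1,1,-2,0,0,1,-1⟩,
   ⟨0,-1,1,-2,0,0,1,1⟩,
   ⟨0,-1,1,-2,2,-2,-1,-1⟩,
   ⟨0,-1,1,-2,2,-2,1,1⟩,
   ⟨0,-1,1,-2,2,0,-1,1⟩,
   ⟨0,-1,1,-2,2,0,1,-1⟩,
   ⟨0,-1,1,0,-2,0,-1,-1⟩,
   ⟨0,-1,1,0,-2,0,-1,1⟩,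
   ⟨0,-1,1,0,-2,0,1,-1⟩,
   ⟨0,-1,1,0,-2,0,1,1⟩,
   ⟨0,-1,1,0,-2,2,-1,-1⟩,
   ⟨0,-1,1,0,-2,2,-1,1⟩]

def shortChunk12_1 : List Q :=
  [⟨0,-1,1,0,-2,2,1,-1⟩,
   ⟨0,-1,1,0,-2,2,1,1⟩,
   ⟨0,-1,1,0,0,-2,-3,1⟩,
   ⟨0,-1,1,0,0,-2,-1,1⟩,
   ⟨0,-1,1,0,0,-2,1,-1⟩,
   ⟨0,-1,1,0,0,-2,3,-1⟩,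
   ⟨0,-1,1,0,0,0,-3,1⟩,
   ⟨0,-1,1,0,0,0,-1,-1⟩,
   ⟨0,-1,1,0,0,0,-1,1⟩,
   ⟨0,-1,1,0,0,0,1,-1⟩,
   ⟨0,-1,1,0,0,0,1,1⟩,
   ⟨0,-1,1,0,0,0,3,-1⟩,
   ⟨0,-1,1,0,0,2,-3,1⟩,
   ⟨0,-1,1,0,0,2,-1,1⟩,
   ⟨0,-1,1,0,0,2,1,-1⟩,
   ⟨0,-1,1,0,0,2,3,-1⟩,
   ⟨0,-1,1,0,2,-2,-1,-1⟩,
   ⟨0,-1,1,0,2,-2,-1,1⟩,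
   ⟨0,-1,1,0,2,-2,1,-1⟩,
   ⟨0,-1,1,0,2,-2,1,1⟩,
   ⟨0,-1,1,0,2,0,-1,-1⟩,
   ⟨0,-1,1,0,2,0,-1,1⟩,
   ⟨0,-1,1,0,2,0,1,-1⟩,
   ⟨0,-1,1,0,2,0,1,1⟩,
   ⟨0,-1,3,0,-2,0,-1,1⟩,
   ⟨0,-1,3,0,-2,0,1,-1⟩,
   ⟨0,-1,3,0,0,0,-1,1⟩,
   ⟨0,-1,3,0,0,0,1,-1⟩,
   ⟨0,-1,3,0,2,0,-1,1⟩,
   ⟨0,-1,3,0,2,0,1,-1⟩,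
   ⟨0,1,-3,0,-2,0,-1,1⟩,
   ⟨0,1,-3,0,-2,0,1,-1⟩,
   ⟨0,1,-3,0,0,0,-1,1⟩,
   ⟨0,1,-3,0,0,0,1,-1⟩,
   ⟨0,1,-3,0,2,0,-1,1⟩,
   ⟨0,1,-3,0,2,0,1,-1⟩,
   ⟨0,1,-1,0,-2,0,-1,-1⟩,
   ⟨0,1,-1,0,-2,0,-1,1⟩,
   ⟨0,1,-1,0,-2,0,1,-1⟩,
   ⟨0,1,-1,0,-2,0,1,1⟩,
   ⟨0,1,-1,0,-2,2,-1,-1⟩,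
   ⟨0,1,-1,0,-2,2,-1,1⟩,
   ⟨0,1,-1,0,-2,2,1,-1⟩,
   ⟨0,1,-1,0,-2,2,1,1⟩,
   ⟨0,1,-1,0,0,-2,-3,1⟩,
   ⟨0,1,-1,0,0,-2,-1,1⟩,
   ⟨0,1,-1,0,0,-2,1,-1⟩,
   ⟨0,1,-1,0,0,-2,3,-1⟩,
   ⟨0,1,-1,0,0,0,-3,1⟩,
   ⟨0,1,-1,0,0,0,-1,-1⟩,
   ⟨0,1,-1,0,0,0,-1,1⟩,
   ⟨0,1,-1,0,0,0,1,-1⟩,
   ⟨0,1,-1,0,0,0,1,1⟩,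
   ⟨0,1,-1,0,0,0,3,-1⟩,
   ⟨0,1,-1,0,0,2,-3,1⟩,
   ⟨0,1,-1,0,0,2,-1,1⟩,
   ⟨0,1,-1,0,0,2,1,-1⟩,
   ⟨0,1,-1,0,0,2,3,-1⟩,
   ⟨0,1,-1,0,2,-2,-1,-1⟩,
   ⟨0,1,-1,0,2,-2,-1,1⟩,
   ⟨0,1,-1,0,2,-2,1,-1⟩,
   ⟨0,1,-1,0,2,-2,1,1⟩,
   ⟨0,1,-1,0,2,0,-1,-1⟩,
   ⟨0,1,-1,0,2,0,-1,1⟩,
   ⟨0,1,-1,0,2,0,1,-1⟩,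
   ⟨0,1,-1,0,2,0,1,1⟩,
   ⟨0,1,-1,2,-2,0,-1,1⟩,
   ⟨0,1,-1,2,-2,0,1,-1⟩,
   ⟨0,1,-1,2,-2,2,-1,-1⟩,
   ⟨0,1,-1,2,-2,2,1,1⟩,
   ⟨0,1,-1,2,0,0,-1,-1⟩,
   ⟨0,1,-1,2,0,0,-1,1⟩,
   ⟨0,1,-1,2,0,0,1,-1⟩,
   ⟨0,1,-1,2,0,0,1,1⟩,
   ⟨0,1,-1,2,2,-2,-1,-1⟩,
   ⟨0,1,-1,2,2,-2,1,1⟩,
   ⟨0,1,-1,2,2,0,-1,1⟩,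
   ⟨0,1,-1,2,2,0,1,-1⟩,
   ⟨0,1,1,-2,-2,0,-1,1⟩,
   ⟨0,1,1,-2,-2,0,1,-1⟩,
   ⟨0,1,1,-2,-2,2,-1,-1⟩,
   ⟨0,1,1,-2,-2,2,1,1⟩,
   ⟨0,1,1,-2,0,0,-1,-1⟩,
   ⟨0,1,1,-2,0,0,-1,1⟩,
   ⟨0,1,1,-2,0,0,1,-1⟩,
   ⟨0,1,1,-2,0,0,1,1⟩,
   ⟨0,1,1,-2,2,-2,-1,-1⟩,
   ⟨0,1,1,-2,2,-2,1,1⟩,
   ⟨0,1,1,-2,2,0,-1,1⟩,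
   ⟨0,1,1,-2,2,0,1,-1⟩,
   ⟨0,1,1,0,-2,0,-1,-1⟩,
   ⟨0,1,1,0,-2,0,-1,1⟩,
   ⟨0,1,1,0,-2,0,1,-1⟩,
   ⟨0,1,1,0,-2,0,1,1⟩,
   ⟨0,1,1,0,-2,2,-1,-1⟩,
   ⟨0,1,1,0,-2,2,-1,1⟩,
   ⟨0,1,1,0,-2,2,1,-1⟩,
   ⟨0,1,1,0,-2,2,1,1⟩,
   ⟨0,1,1,0,0,-2,-3,1⟩,
   ⟨0,1,1,0,0,-2,-1,1⟩,
   ⟨0,1,1,0,0,-2,1,-1⟩,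
   ⟨0,1,1,0,0,-2,3,-1⟩,
   ⟨0,1,1,0,0,0,-3,1⟩,
   ⟨0,1,1,0,0,0,-1,-1⟩,
   ⟨0,1,1,0,0,0,-1,1⟩,
   ⟨0,1,1,0,0,0,1,-1⟩,
   ⟨0,1,1,0,0,0,1,1⟩,
   ⟨0,1,1,0,0,0,3,-1⟩,
   ⟨0,1,1,0,0,2,-3,1⟩,
   ⟨0,1,1,0,0,2,-1,1⟩,
   ⟨0,1,1,0,0,2,1,-1⟩,
   ⟨0,1,1,0,0,2,3,-1⟩,
   ⟨0,1,1,0,2,-2,-1,-1⟩,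
   ⟨0,1,1,0,2,-2,-1,1⟩,
   ⟨0,1,1,0,2,-2,1,-1⟩,
   ⟨0,1,1,0,2,-2,1,1⟩,
   ⟨0,1,1,0,2,0,-1,-1⟩,
   ⟨0,1,1,0,2,0,-1,1⟩,
   ⟨0,1,1,0,2,0,1,-1⟩,
   ⟨0,1,1,0,2,0,1,1⟩,
   ⟨0,1,3,0,-2,0,-1,1⟩,
   ⟨0,1,3,0,-2,0,1,-1⟩,
   ⟨0,1,3,0,0,0,-1,1⟩,
   ⟨0,1,3,0,0,0,1,-1⟩,
   ⟨0,1,3,0,2,0,-1,1⟩,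
   ⟨0,1,3,0,2,0,1,-1⟩,
   ⟨2,-3,-1,0,0,0,-1,-1⟩,
   ⟨2,-3,-1,0,0,0,1,1⟩,
   ⟨2,-3,1,0,0,0,-1,-1⟩,
   ⟨2,-3,1,0,0,0,1,1⟩,
   ⟨2,-1,-3,0,0,0,-1,-1⟩,
   ⟨2,-1,-3,0,0,0,1,1⟩,
   ⟨2,-1,-1,0,-2,0,-1,-1⟩,
   ⟨2,-1,-1,0,-2,0,-1,1⟩,
   ⟨2,-1,-1,0,-2,0,1,-1⟩,
   ⟨2,-1,-1,0,-2,0,1,1⟩,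
   ⟨2,-1,-1,0,0,-2,-1,1⟩,
   ⟨2,-1,-1,0,0,-2,1,-1⟩,
   ⟨2,-1,-1,0,0,0,-1,-1⟩,
   ⟨2,-1,-1,0,0,0,-1,1⟩,
   ⟨2,-1,-1,0,0,0,-1,3⟩,
   ⟨2,-1,-1,0,0,0,1,-3⟩,
   ⟨2,-1,-1,0,0,0,1,-1⟩,
   ⟨2,-1,-1,0,0,0,1,1⟩,
   ⟨2,-1,-1,0,0,2,-1,1⟩,
   ⟨2,-1,-1,0,0,2,1,-1⟩,
   ⟨2,-1,-1,0,2,0,-1,-1⟩,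
   ⟨2,-1,-1,0,2,0,-1,1⟩,
   ⟨2,-1,-1,0,2,0,1,-1⟩,
   ⟨2,-1,-1,0,2,0,1,1⟩]

def shortChunk12_2 : List Q :=
  [⟨2,-1,-1,2,-2,0,-1,-1⟩,
   ⟨2,-1,-1,2,-2,0,1,1⟩,
   ⟨2,-1,-1,2,0,-2,-1,1⟩,
   ⟨2,-1,-1,2,0,-2,1,-1⟩,
   ⟨2,-1,-1,2,0,0,-1,-1⟩,
   ⟨2,-1,-1,2,0,0,-1,1⟩,
   ⟨2,-1,-1,2,0,0,1,-1⟩,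
   ⟨2,-1,-1,2,0,0,1,1⟩,
   ⟨2,-1,-1,2,0,2,-1,1⟩,
   ⟨2,-1,-1,2,0,2,1,-1⟩,
   ⟨2,-1,-1,2,2,0,-1,-1⟩,
   ⟨2,-1,-1,2,2,0,1,1⟩,
   ⟨2,-1,1,-2,-2,0,-1,-1⟩,
   ⟨2,-1,1,-2,-2,0,1,1⟩,
   ⟨2,-1,1,-2,0,-2,-1,1⟩,
   ⟨2,-1,1,-2,0,-2,1,-1⟩,
   ⟨2,-1,1,-2,0,0,-1,-1⟩,
   ⟨2,-1,1,-2,0,0,-1,1⟩,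
   ⟨2,-1,1,-2,0,0,1,-1⟩,
   ⟨2,-1,1,-2,0,0,1,1⟩,
   ⟨2,-1,1,-2,0,2,-1,1⟩,
   ⟨2,-1,1,-2,0,2,1,-1⟩,
   ⟨2,-1,1,-2,2,0,-1,-1⟩,
   ⟨2,-1,1,-2,2,0,1,1⟩,
   ⟨2,-1,1,0,-2,0,-1,-1⟩,
   ⟨2,-1,1,0,-2,0,-1,1⟩,
   ⟨2,-1,1,0,-2,0,1,-1⟩,
   ⟨2,-1,1,0,-2,0,1,1⟩,
   ⟨2,-1,1,0,0,-2,-1,1⟩,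
   ⟨2,-1,1,0,0,-2,1,-1⟩,
   ⟨2,-1,1,0,0,0,-1,-1⟩,
   ⟨2,-1,1,0,0,0,-1,1⟩,
   ⟨2,-1,1,0,0,0,-1,3⟩,
   ⟨2,-1,1,0,0,0,1,-3⟩,
   ⟨2,-1,1,0,0,0,1,-1⟩,
   ⟨2,-1,1,0,0,0,1,1⟩,
   ⟨2,-1,1,0,0,2,-1,1⟩,
   ⟨2,-1,1,0,0,2,1,-1⟩,
   ⟨2,-1,1,0,2,0,-1,-1⟩,
   ⟨2,-1,1,0,2,0,-1,1⟩,
   ⟨2,-1,1,0,2,0,1,-1⟩,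
   ⟨2,-1,1,0,2,0,1,1⟩,
   ⟨2,-1,3,0,0,0,-1,-1⟩,
   ⟨2,-1,3,0,0,0,1,1⟩,
   ⟨2,1,-1,0,-2,2,-1,1⟩,
   ⟨2,1,-1,0,-2,2,1,-1⟩,
   ⟨2,1,-1,0,0,0,-3,1⟩,
   ⟨2,1,-1,0,0,0,-1,1⟩,
   ⟨2,1,-1,0,0,0,1,-1⟩,
   ⟨2,1,-1,0,0,0,3,-1⟩,
   ⟨2,1,-1,0,2,-2,-1,1⟩,
   ⟨2,1,-1,0,2,-2,1,-1⟩,
   ⟨2,1,1,0,-2,2,-1,1⟩,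
   ⟨2,1,1,0,-2,2,1,-1⟩,
   ⟨2,1,1,0,0,0,-3,1⟩,
   ⟨2,1,1,0,0,0,-1,1⟩,
   ⟨2,1,1,0,0,0,1,-1⟩,
   ⟨2,1,1,0,0,0,3,-1⟩,
   ⟨2,1,1,0,2,-2,-1,1⟩,
   ⟨2,1,1,0,2,-2,1,-1⟩]

/-- the short elements of parity class 12 -/
def shortData12 : List Q := shortChunk12_0 ++ shortChunk12_1 ++ shortChunk12_2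

def shortChunk13_0 : List Q :=
  [⟨-2,0,-2,1,-1,0,-1,-1⟩,
   ⟨-2,0,-2,1,-1,0,-1,1⟩,
   ⟨-2,0,-2,1,-1,0,1,-1⟩,
   ⟨-2,0,-2,1,-1,0,1,1⟩,
   ⟨-2,0,-2,1,-1,2,-1,-1⟩,
   ⟨-2,0,-2,1,-1,2,1,1⟩,
   ⟨-2,0,-2,1,1,-2,-1,-1⟩,
   ⟨-2,0,-2,1,1,-2,1,1⟩,
   ⟨-2,0,-2,1,1,0,-1,-1⟩,
   ⟨-2,0,-2,1,1,0,-1,1⟩,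
   ⟨-2,0,-2,1,1,0,1,-1⟩,
   ⟨-2,0,-2,1,1,0,1,1⟩,
   ⟨-2,0,0,-1,-3,0,-1,1⟩,
   ⟨-2,0,0,-1,-3,0,1,-1⟩,
   ⟨-2,0,0,-1,-1,0,-1,-1⟩,
   ⟨-2,0,0,-1,-1,0,-1,1⟩,
   ⟨-2,0,0,-1,-1,0,1,-1⟩,
   ⟨-2,0,0,-1,-1,0,1,1⟩,
   ⟨-2,0,0,-1,-1,2,-1,1⟩,
   ⟨-2,0,0,-1,-1,2,1,-1⟩,
   ⟨-2,0,0,-1,1,-2,-1,1⟩,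
   ⟨-2,0,0,-1,1,-2,1,-1⟩,
   ⟨-2,0,0,-1,1,0,-1,-1⟩,
   ⟨-2,0,0,-1,1,0,-1,1⟩,
   ⟨-2,0,0,-1,1,0,1,-1⟩,
   ⟨-2,0,0,-1,1,0,1,1⟩,
   ⟨-2,0,0,-1,3,0,-1,1⟩,
   ⟨-2,0,0,-1,3,0,1,-1⟩,
   ⟨-2,0,0,1,-3,0,-1,1⟩,
   ⟨-2,0,0,1,-3,0,1,-1⟩,
   ⟨-2,0,0,1,-1,0,-1,-1⟩,
   ⟨-2,0,0,1,-1,0,-1,1⟩,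
   ⟨-2,0,0,1,-1,0,1,-1⟩,
   ⟨-2,0,0,1,-1,0,1,1⟩,
   ⟨-2,0,0,1,-1,2,-1,1⟩,
   ⟨-2,0,0,1,-1,2,1,-1⟩,
   ⟨-2,0,0,1,1,-2,-1,1⟩,
   ⟨-2,0,0,1,1,-2,1,-1⟩,
   ⟨-2,0,0,1,1,0,-1,-1⟩,
   ⟨-2,0,0,1,1,0,-1,1⟩,
   ⟨-2,0,0,1,1,0,1,-1⟩,
   ⟨-2,0,0,1,1,0,1,1⟩,
   ⟨-2,0,0,1,3,0,-1,1⟩,
   ⟨-2,0,0,1,3,0,1,-1⟩,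
   ⟨-2,0,2,-1,-1,0,-1,-1⟩,
   ⟨-2,0,2,-1,-1,0,-1,1⟩,
   ⟨-2,0,2,-1,-1,0,1,-1⟩,
   ⟨-2,0,2,-1,-1,0,1,1⟩,
   ⟨-2,0,2,-1,-1,2,-1,-1⟩,
   ⟨-2,0,2,-1,-1,2,1,1⟩,
   ⟨-2,0,2,-1,1,-2,-1,-1⟩,
   ⟨-2,0,2,-1,1,-2,1,1⟩,
   ⟨-2,0,2,-1,1,0,-1,-1⟩,
   ⟨-2,0,2,-1,1,0,-1,1⟩,
   ⟨-2,0,2,-1,1,0,1,-1⟩,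
   ⟨-2,0,2,-1,1,0,1,1⟩,
   ⟨-2,2,-2,-1,-1,0,-1,1⟩,
   ⟨-2,2,-2,-1,-1,0,1,-1⟩,
   ⟨-2,2,-2,-1,1,0,-1,1⟩,
   ⟨-2,2,-2,-1,1,0,1,-1⟩,
   ⟨-2,2,0,-1,-1,0,-1,-1⟩,
   ⟨-2,2,0,-1,-1,0,-1,1⟩,
   ⟨-2,2,0,-1,-1,0,1,-1⟩,
   ⟨-2,2,0,-1,-1,0,1,1⟩,
   ⟨-2,2,0,-1,-1,2,-1,-1⟩,
   ⟨-2,2,0,-1,-1,2,1,1⟩,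
   ⟨-2,2,0,-1,1,-2,-1,-1⟩,
   ⟨-2,2,0,-1,1,-2,1,1⟩,
   ⟨-2,2,0,-1,1,0,-1,-1⟩,
   ⟨-2,2,0,-1,1,0,-1,1⟩,
   ⟨-2,2,0,-1,1,0,1,-1⟩,
   ⟨-2,2,0,-1,1,0,1,1⟩,
   ⟨-2,2,0,1,-1,0,-1,-1⟩,
   ⟨-2,2,0,1,-1,0,-1,1⟩,
   ⟨-2,2,0,1,-1,0,1,-1⟩,
   ⟨-2,2,0,1,-1,0,1,1⟩,
   ⟨-2,2,0,1,-1,2,-1,-1⟩,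
   ⟨-2,2,0,1,-1,2,1,1⟩,
   ⟨-2,2,0,1,1,-2,-1,-1⟩,
   ⟨-2,2,0,1,1,-2,1,1⟩,
   ⟨-2,2,0,1,1,0,-1,-1⟩,
   ⟨-2,2,0,1,1,0,-1,1⟩,
   ⟨-2,2,0,1,1,0,1,-1⟩,
   ⟨-2,2,0,1,1,0,1,1⟩,
   ⟨-2,2,2,1,-1,0,-1,1⟩,
   ⟨-2,2,2,1,-1,0,1,-1⟩,
   ⟨-2,2,2,1,1,0,-1,1⟩,
   ⟨-2,2,2,1,1,0,1,-1⟩,
   ⟨0,-2,-2,1,-1,0,-1,1⟩,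
   ⟨0,-2,-2,1,-1,0,1,-1⟩,
   ⟨0,-2,-2,1,-1,2,-1,1⟩,
   ⟨0,-2,-2,1,-1,2,1,-1⟩,
   ⟨0,-2,-2,1,1,-2,-1,1⟩,
   ⟨0,-2,-2,1,1,-2,1,-1⟩,
   ⟨0,-2,-2,1,1,0,-1,1⟩,
   ⟨0,-2,-2,1,1,0,1,-1⟩,
   ⟨0,-2,0,-1,-1,0,-3,1⟩,
   ⟨0,-2,0,-1,-1,0,-1,1⟩,
   ⟨0,-2,0,-1,-1,0,1,-1⟩,
   ⟨0,-2,0,-1,-1,0,3,-1⟩,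
   ⟨0,-2,0,-1,1,0,-3,1⟩,
   ⟨0,-2,0,-1,1,0,-1,1⟩,
   ⟨0,-2,0,-1,1,0,1,-1⟩,
   ⟨0,-2,0,-1,1,0,3,-1⟩,
   ⟨0,-2,0,1,-1,0,-3,1⟩,
   ⟨0,-2,0,1,-1,0,-1,1⟩,
   ⟨0,-2,0,1,-1,0,1,-1⟩,
   ⟨0,-2,0,1,-1,0,3,-1⟩,
   ⟨0,-2,0,1,1,0,-3,1⟩,
   ⟨0,-2,0,1,1,0,-1,1⟩,
   ⟨0,-2,0,1,1,0,1,-1⟩,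
   ⟨0,-2,0,1,1,0,3,-1⟩,
   ⟨0,-2,2,-1,-1,0,-1,1⟩,
   ⟨0,-2,2,-1,-1,0,1,-1⟩,
   ⟨0,-2,2,-1,-1,2,-1,1⟩,
   ⟨0,-2,2,-1,-1,2,1,-1⟩,
   ⟨0,-2,2,-1,1,-2,-1,1⟩,
   ⟨0,-2,2,-1,1,-2,1,-1⟩,
   ⟨0,-2,2,-1,1,0,-1,1⟩,
   ⟨0,-2,2,-1,1,0,1,-1⟩,
   ⟨0,0,-2,-1,-1,0,-3,1⟩,
   ⟨0,0,-2,-1,-1,0,-1,1⟩,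
   ⟨0,0,-2,-1,-1,0,1,-1⟩,
   ⟨0,0,-2,-1,-1,0,3,-1⟩,
   ⟨0,0,-2,-1,1,0,-3,1⟩,
   ⟨0,0,-2,-1,1,0,-1,1⟩,
   ⟨0,0,-2,-1,1,0,1,-1⟩,
   ⟨0,0,-2,-1,1,0,3,-1⟩,
   ⟨0,0,-2,1,-3,0,-1,-1⟩,
   ⟨0,0,-2,1,-3,0,1,1⟩,
   ⟨0,0,-2,1,-1,0,-1,-1⟩,
   ⟨0,0,-2,1,-1,0,-1,1⟩,
   ⟨0,0,-2,1,-1,0,-1,3⟩,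
   ⟨0,0,-2,1,-1,0,1,-3⟩,
   ⟨0,0,-2,1,-1,0,1,-1⟩,
   ⟨0,0,-2,1,-1,0,1,1⟩,
   ⟨0,0,-2,1,-1,2,-1,-1⟩,
   ⟨0,0,-2,1,-1,2,-1,1⟩,
   ⟨0,0,-2,1,-1,2,1,-1⟩,
   ⟨0,0,-2,1,-1,2,1,1⟩,
   ⟨0,0,-2,1,1,-2,-1,-1⟩,
   ⟨0,0,-2,1,1,-2,-1,1⟩,
   ⟨0,0,-2,1,1,-2,1,-1⟩,
   ⟨0,0,-2,1,1,-2,1,1⟩,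
   ⟨0,0,-2,1,1,0,-1,-1⟩,
   ⟨0,0,-2,1,1,0,-1,1⟩,
   ⟨0,0,-2,1,1,0,-1,3⟩,
   ⟨0,0,-2,1,1,0,1,-3⟩,
   ⟨0,0,-2,1,1,0,1,-1⟩,
   ⟨0,0,-2,1,1,0,1,1⟩]

def shortChunk13_1 : List Q :=
  [⟨0,0,-2,1,3,0,-1,-1⟩,
   ⟨0,0,-2,1,3,0,1,1⟩,
   ⟨0,0,-2,3,-1,0,-1,-1⟩,
   ⟨0,0,-2,3,-1,0,1,1⟩,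
   ⟨0,0,-2,3,1,0,-1,-1⟩,
   ⟨0,0,-2,3,1,0,1,1⟩,
   ⟨0,0,0,-1,-3,0,-1,1⟩,
   ⟨0,0,0,-1,-3,0,1,-1⟩,
   ⟨0,0,0,-1,-1,0,-3,1⟩,
   ⟨0,0,0,-1,-1,0,-1,-1⟩,
   ⟨0,0,0,-1,-1,0,-1,1⟩,
   ⟨0,0,0,-1,-1,0,1,-1⟩,
   ⟨0,0,0,-1,-1,0,1,1⟩,
   ⟨0,0,0,-1,-1,0,3,-1⟩,
   ⟨0,0,0,-1,-1,2,-1,-1⟩,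
   ⟨0,0,0,-1,-1,2,-1,1⟩,
   ⟨0,0,0,-1,-1,2,1,-1⟩,
   ⟨0,0,0,-1,-1,2,1,1⟩,
   ⟨0,0,0,-1,1,-2,-1,-1⟩,
   ⟨0,0,0,-1,1,-2,-1,1⟩,
   ⟨0,0,0,-1,1,-2,1,-1⟩,
   ⟨0,0,0,-1,1,-2,1,1⟩,
   ⟨0,0,0,-1,1,0,-3,1⟩,
   ⟨0,0,0,-1,1,0,-1,-1⟩,
   ⟨0,0,0,-1,1,0,-1,1⟩,
   ⟨0,0,0,-1,1,0,1,-1⟩,
   ⟨0,0,0,-1,1,0,1,1⟩,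
   ⟨0,0,0,-1,1,0,3,-1⟩,
   ⟨0,0,0,-1,3,0,-1,1⟩,
   ⟨0,0,0,-1,3,0,1,-1⟩,
   ⟨0,0,0,1,-3,0,-1,1⟩,
   ⟨0,0,0,1,-3,0,1,-1⟩,
   ⟨0,0,0,1,-1,0,-3,1⟩,
   ⟨0,0,0,1,-1,0,-1,-1⟩,
   ⟨0,0,0,1,-1,0,-1,1⟩,
   ⟨0,0,0,1,-1,0,1,-1⟩,
   ⟨0,0,0,1,-1,0,1,1⟩,
   ⟨0,0,0,1,-1,0,3,-1⟩,
   ⟨0,0,0,1,-1,2,-1,-1⟩,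
   ⟨0,0,0,1,-1,2,-1,1⟩,
   ⟨0,0,0,1,-1,2,1,-1⟩,
   ⟨0,0,0,1,-1,2,1,1⟩,
   ⟨0,0,0,1,1,-2,-1,-1⟩,
   ⟨0,0,0,1,1,-2,-1,1⟩,
   ⟨0,0,0,1,1,-2,1,-1⟩,
   ⟨0,0,0,1,1,-2,1,1⟩,
   ⟨0,0,0,1,1,0,-3,1⟩,
   ⟨0,0,0,1,1,0,-1,-1⟩,
   ⟨0,0,0,1,1,0,-1,1⟩,
   ⟨0,0,0,1,1,0,1,-1⟩,
   ⟨0,0,0,1,1,0,1,1⟩,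
   ⟨0,0,0,1,1,0,3,-1⟩,
   ⟨0,0,0,1,3,0,-1,1⟩,
   ⟨0,0,0,1,3,0,1,-1⟩,
   ⟨0,0,2,-3,-1,0,-1,-1⟩,
   ⟨0,0,2,-3,-1,0,1,1⟩,
   ⟨0,0,2,-3,1,0,-1,-1⟩,
   ⟨0,0,2,-3,1,0,1,1⟩,
   ⟨0,0,2,-1,-3,0,-1,-1⟩,
   ⟨0,0,2,-1,-3,0,1,1⟩,
   ⟨0,0,2,-1,-1,0,-1,-1⟩,
   ⟨0,0,2,-1,-1,0,-1,1⟩,
   ⟨0,0,2,-1,-1,0,-1,3⟩,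
   ⟨0,0,2,-1,-1,0,1,-3⟩,
   ⟨0,0,2,-1,-1,0,1,-1⟩,
   ⟨0,0,2,-1,-1,0,1,1⟩,
   ⟨0,0,2,-1,-1,2,-1,-1⟩,
   ⟨0,0,2,-1,-1,2,-1,1⟩,
   ⟨0,0,2,-1,-1,2,1,-1⟩,
   ⟨0,0,2,-1,-1,2,1,1⟩,
   ⟨0,0,2,-1,1,-2,-1,-1⟩,
   ⟨0,0,2,-1,1,-2,-1,1⟩,
   ⟨0,0,2,-1,1,-2,1,-1⟩,
   ⟨0,0,2,-1,1,-2,1,1⟩,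
   ⟨0,0,2,-1,1,0,-1,-1⟩,
   ⟨0,0,2,-1,1,0,-1,1⟩,
   ⟨0,0,2,-1,1,0,-1,3⟩,
   ⟨0,0,2,-1,1,0,1,-3⟩,
   ⟨0,0,2,-1,1,0,1,-1⟩,
   ⟨0,0,2,-1,1,0,1,1⟩,
   ⟨0,0,2,-1,3,0,-1,-1⟩,
   ⟨0,0,2,-1,3,0,1,1⟩,
   ⟨0,0,2,1,-1,0,-3,1⟩,
   ⟨0,0,2,1,-1,0,-1,1⟩,
   ⟨0,0,2,1,-1,0,1,-1⟩,
   ⟨0,0,2,1,-1,0,3,-1⟩,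
   ⟨0,0,2,1,1,0,-3,1⟩,
   ⟨0,0,2,1,1,0,-1,1⟩,
   ⟨0,0,2,1,1,0,1,-1⟩,
   ⟨0,0,2,1,1,0,3,-1⟩,
   ⟨0,2,-2,1,-1,0,-1,1⟩,
   ⟨0,2,-2,1,-1,0,1,-1⟩,
   ⟨0,2,-2,1,-1,2,-1,1⟩,
   ⟨0,2,-2,1,-1,2,1,-1⟩,
   ⟨0,2,-2,1,1,-2,-1,1⟩,
   ⟨0,2,-2,1,1,-2,1,-1⟩,
   ⟨0,2,-2,1,1,0,-1,1⟩,
   ⟨0,2,-2,1,1,0,1,-1⟩,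
   ⟨0,2,0,-1,-1,0,-3,1⟩,
   ⟨0,2,0,-1,-1,0,-1,1⟩,
   ⟨0,2,0,-1,-1,0,1,-1⟩,
   ⟨0,2,0,-1,-1,0,3,-1⟩,
   ⟨0,2,0,-1,1,0,-3,1⟩,
   ⟨0,2,0,-1,1,0,-1,1⟩,
   ⟨0,2,0,-1,1,0,1,-1⟩,
   ⟨0,2,0,-1,1,0,3,-1⟩,
   ⟨0,2,0,1,-1,0,-3,1⟩,
   ⟨0,2,0,1,-1,0,-1,1⟩,
   ⟨0,2,0,1,-1,0,1,-1⟩,
   ⟨0,2,0,1,-1,0,3,-1⟩,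
   ⟨0,2,0,1,1,0,-3,1⟩,
   ⟨0,2,0,1,1,0,-1,1⟩,
   ⟨0,2,0,1,1,0,1,-1⟩,
   ⟨0,2,0,1,1,0,3,-1⟩,
   ⟨0,2,2,-1,-1,0,-1,1⟩,
   ⟨0,2,2,-1,-1,0,1,-1⟩,
   ⟨0,2,2,-1,-1,2,-1,1⟩,
   ⟨0,2,2,-1,-1,2,1,-1⟩,
   ⟨0,2,2,-1,1,-2,-1,1⟩,
   ⟨0,2,2,-1,1,-2,1,-1⟩,
   ⟨0,2,2,-1,1,0,-1,1⟩,
   ⟨0,2,2,-1,1,0,1,-1⟩,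
   ⟨2,-2,-2,-1,-1,0,-1,1⟩,
   ⟨2,-2,-2,-1,-1,0,1,-1⟩,
   ⟨2,-2,-2,-1,1,0,-1,1⟩,
   ⟨2,-2,-2,-1,1,0,1,-1⟩,
   ⟨2,-2,0,-1,-1,0,-1,-1⟩,
   ⟨2,-2,0,-1,-1,0,-1,1⟩,
   ⟨2,-2,0,-1,-1,0,1,-1⟩,
   ⟨2,-2,0,-1,-1,0,1,1⟩,
   ⟨2,-2,0,-1,-1,2,-1,-1⟩,
   ⟨2,-2,0,-1,-1,2,1,1⟩,
   ⟨2,-2,0,-1,1,-2,-1,-1⟩,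
   ⟨2,-2,0,-1,1,-2,1,1⟩,
   ⟨2,-2,0,-1,1,0,-1,-1⟩,
   ⟨2,-2,0,-1,1,0,-1,1⟩,
   ⟨2,-2,0,-1,1,0,1,-1⟩,
   ⟨2,-2,0,-1,1,0,1,1⟩,
   ⟨2,-2,0,1,-1,0,-1,-1⟩,
   ⟨2,-2,0,1,-1,0,-1,1⟩,
   ⟨2,-2,0,1,-1,0,1,-1⟩,
   ⟨2,-2,0,1,-1,0,1,1⟩,
   ⟨2,-2,0,1,-1,2,-1,-1⟩,
   ⟨2,-2,0,1,-1,2,1,1⟩,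
   ⟨2,-2,0,1,1,-2,-1,-1⟩,
   ⟨2,-2,0,1,1,-2,1,1⟩,
   ⟨2,-2,0,1,1,0,-1,-1⟩,
   ⟨2,-2,0,1,1,0,-1,1⟩,
   ⟨2,-2,0,1,1,0,1,-1⟩,
   ⟨2,-2,0,1,1,0,1,1⟩]

def shortChunk13_2 : List Q :=
  [⟨2,-2,2,1,-1,0,-1,1⟩,
   ⟨2,-2,2,1,-1,0,1,-1⟩,
   ⟨2,-2,2,1,1,0,-1,1⟩,
   ⟨2,-2,2,1,1,0,1,-1⟩,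
   ⟨2,0,-2,1,-1,0,-1,-1⟩,
   ⟨2,0,-2,1,-1,0,-1,1⟩,
   ⟨2,0,-2,1,-1,0,1,-1⟩,
   ⟨2,0,-2,1,-1,0,1,1⟩,
   ⟨2,0,-2,1,-1,2,-1,-1⟩,
   ⟨2,0,-2,1,-1,2,1,1⟩,
   ⟨2,0,-2,1,1,-2,-1,-1⟩,
   ⟨2,0,-2,1,1,-2,1,1⟩,
   ⟨2,0,-2,1,1,0,-1,-1⟩,
   ⟨2,0,-2,1,1,0,-1,1⟩,
   ⟨2,0,-2,1,1,0,1,-1⟩,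
   ⟨2,0,-2,1,1,0,1,1⟩,
   ⟨2,0,0,-1,-3,0,-1,1⟩,
   ⟨2,0,0,-1,-3,0,1,-1⟩,
   ⟨2,0,0,-1,-1,0,-1,-1⟩,
   ⟨2,0,0,-1,-1,0,-1,1⟩,
   ⟨2,0,0,-1,-1,0,1,-1⟩,
   ⟨2,0,0,-1,-1,0,1,1⟩,
   ⟨2,0,0,-1,-1,2,-1,1⟩,
   ⟨2,0,0,-1,-1,2,1,-1⟩,
   ⟨2,0,0,-1,1,-2,-1,1⟩,
   ⟨2,0,0,-1,1,-2,1,-1⟩,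
   ⟨2,0,0,-1,1,0,-1,-1⟩,
   ⟨2,0,0,-1,1,0,-1,1⟩,
   ⟨2,0,0,-1,1,0,1,-1⟩,
   ⟨2,0,0,-1,1,0,1,1⟩,
   ⟨2,0,0,-1,3,0,-1,1⟩,
   ⟨2,0,0,-1,3,0,1,-1⟩,
   ⟨2,0,0,1,-3,0,-1,1⟩,
   ⟨2,0,0,1,-3,0,1,-1⟩,
   ⟨2,0,0,1,-1,0,-1,-1⟩,
   ⟨2,0,0,1,-1,0,-1,1⟩,
   ⟨2,0,0,1,-1,0,1,-1⟩,
   ⟨2,0,0,1,-1,0,1,1⟩,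
   ⟨2,0,0,1,-1,2,-1,1⟩,
   ⟨2,0,0,1,-1,2,1,-1⟩,
   ⟨2,0,0,1,1,-2,-1,1⟩,
   ⟨2,0,0,1,1,-2,1,-1⟩,
   ⟨2,0,0,1,1,0,-1,-1⟩,
   ⟨2,0,0,1,1,0,-1,1⟩,
   ⟨2,0,0,1,1,0,1,-1⟩,
   ⟨2,0,0,1,1,0,1,1⟩,
   ⟨2,0,0,1,3,0,-1,1⟩,
   ⟨2,0,0,1,3,0,1,-1⟩,
   ⟨2,0,2,-1,-1,0,-1,-1⟩,
   ⟨2,0,2,-1,-1,0,-1,1⟩,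
   ⟨2,0,2,-1,-1,0,1,-1⟩,
   ⟨2,0,2,-1,-1,0,1,1⟩,
   ⟨2,0,2,-1,-1,2,-1,-1⟩,
   ⟨2,0,2,-1,-1,2,1,1⟩,
   ⟨2,0,2,-1,1,-2,-1,-1⟩,
   ⟨2,0,2,-1,1,-2,1,1⟩,
   ⟨2,0,2,-1,1,0,-1,-1⟩,
   ⟨2,0,2,-1,1,0,-1,1⟩,
   ⟨2,0,2,-1,1,0,1,-1⟩,
   ⟨2,0,2,-1,1,0,1,1⟩]

/-- the short elements of parity class 13 -/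
def shortData13 : List Q := shortChunk13_0 ++ shortChunk13_1 ++ shortChunk13_2

def shortChunk14_0 : List Q :=
  [⟨-3,0,-2,0,0,-1,-1,1⟩,
   ⟨-3,0,-2,0,0,-1,1,-1⟩,
   ⟨-3,0,-2,0,0,1,-1,1⟩,
   ⟨-3,0,-2,0,0,1,1,-1⟩,
   ⟨-3,0,0,0,-2,1,-1,-1⟩,
   ⟨-3,0,0,0,-2,1,1,1⟩,
   ⟨-3,0,0,0,0,-1,-1,1⟩,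
   ⟨-3,0,0,0,0,-1,1,-1⟩,
   ⟨-3,0,0,0,0,1,-1,1⟩,
   ⟨-3,0,0,0,0,1,1,-1⟩,
   ⟨-3,0,0,0,2,-1,-1,-1⟩,
   ⟨-3,0,0,0,2,-1,1,1⟩,
   ⟨-3,0,2,0,0,-1,-1,1⟩,
   ⟨-3,0,2,0,0,-1,1,-1⟩,
   ⟨-3,0,2,0,0,1,-1,1⟩,
   ⟨-3,0,2,0,0,1,1,-1⟩,
   ⟨-1,0,-2,0,-2,1,-1,-1⟩,
   ⟨-1,0,-2,0,-2,1,-1,1⟩,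
   ⟨-1,0,-2,0,-2,1,1,-1⟩,
   ⟨-1,0,-2,0,-2,1,1,1⟩,
   ⟨-1,0,-2,0,0,-1,-1,-1⟩,
   ⟨-1,0,-2,0,0,-1,-1,1⟩,
   ⟨-1,0,-2,0,0,-1,1,-1⟩,
   ⟨-1,0,-2,0,0,-1,1,1⟩,
   ⟨-1,0,-2,0,0,1,-1,-1⟩,
   ⟨-1,0,-2,0,0,1,-1,1⟩,
   ⟨-1,0,-2,0,0,1,1,-1⟩,
   ⟨-1,0,-2,0,0,1,1,1⟩,
   ⟨-1,0,-2,0,2,-1,-1,-1⟩,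
   ⟨-1,0,-2,0,2,-1,-1,1⟩,
   ⟨-1,0,-2,0,2,-1,1,-1⟩,
   ⟨-1,0,-2,0,2,-1,1,1⟩,
   ⟨-1,0,-2,2,-2,-1,-1,1⟩,
   ⟨-1,0,-2,2,-2,-1,1,-1⟩,
   ⟨-1,0,-2,2,0,-1,-1,-1⟩,
   ⟨-1,0,-2,2,0,-1,-1,1⟩,
   ⟨-1,0,-2,2,0,-1,1,-1⟩,
   ⟨-1,0,-2,2,0,-1,1,1⟩,
   ⟨-1,0,-2,2,0,1,-1,-1⟩,
   ⟨-1,0,-2,2,0,1,-1,1⟩,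
   ⟨-1,0,-2,2,0,1,1,-1⟩,
   ⟨-1,0,-2,2,0,1,1,1⟩,
   ⟨-1,0,-2,2,2,1,-1,1⟩,
   ⟨-1,0,-2,2,2,1,1,-1⟩,
   ⟨-1,0,0,-2,-2,1,-1,1⟩,
   ⟨-1,0,0,-2,-2,1,1,-1⟩,
   ⟨-1,0,0,-2,0,-1,-3,1⟩,
   ⟨-1,0,0,-2,0,-1,-1,1⟩,
   ⟨-1,0,0,-2,0,-1,1,-1⟩,
   ⟨-1,0,0,-2,0,-1,3,-1⟩,
   ⟨-1,0,0,-2,0,1,-3,1⟩,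
   ⟨-1,0,0,-2,0,1,-1,1⟩,
   ⟨-1,0,0,-2,0,1,1,-1⟩,
   ⟨-1,0,0,-2,0,1,3,-1⟩,
   ⟨-1,0,0,-2,2,-1,-1,1⟩,
   ⟨-1,0,0,-2,2,-1,1,-1⟩,
   ⟨-1,0,0,0,-2,-1,-3,1⟩,
   ⟨-1,0,0,0,-2,-1,-1,1⟩,
   ⟨-1,0,0,0,-2,-1,1,-1⟩,
   ⟨-1,0,0,0,-2,-1,3,-1⟩,
   ⟨-1,0,0,0,-2,1,-1,-1⟩,
   ⟨-1,0,0,0,-2,1,-1,1⟩,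
   ⟨-1,0,0,0,-2,1,-1,3⟩,
   ⟨-1,0,0,0,-2,1,1,-3⟩,
   ⟨-1,0,0,0,-2,1,1,-1⟩,
   ⟨-1,0,0,0,-2,1,1,1⟩,
   ⟨-1,0,0,0,-2,3,-1,-1⟩,
   ⟨-1,0,0,0,-2,3,1,1⟩,
   ⟨-1,0,0,0,0,-1,-3,1⟩,
   ⟨-1,0,0,0,0,-1,-1,-1⟩,
   ⟨-1,0,0,0,0,-1,-1,1⟩,
   ⟨-1,0,0,0,0,-1,1,-1⟩,
   ⟨-1,0,0,0,0,-1,1,1⟩,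
   ⟨-1,0,0,0,0,-1,3,-1⟩,
   ⟨-1,0,0,0,0,1,-3,1⟩,
   ⟨-1,0,0,0,0,1,-1,-1⟩,
   ⟨-1,0,0,0,0,1,-1,1⟩,
   ⟨-1,0,0,0,0,1,1,-1⟩,
   ⟨-1,0,0,0,0,1,1,1⟩,
   ⟨-1,0,0,0,0,1,3,-1⟩,
   ⟨-1,0,0,0,2,-3,-1,-1⟩,
   ⟨-1,0,0,0,2,-3,1,1⟩,
   ⟨-1,0,0,0,2,-1,-1,-1⟩,
   ⟨-1,0,0,0,2,-1,-1,1⟩,
   ⟨-1,0,0,0,2,-1,-1,3⟩,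
   ⟨-1,0,0,0,2,-1,1,-3⟩,
   ⟨-1,0,0,0,2,-1,1,-1⟩,
   ⟨-1,0,0,0,2,-1,1,1⟩,
   ⟨-1,0,0,0,2,1,-3,1⟩,
   ⟨-1,0,0,0,2,1,-1,1⟩,
   ⟨-1,0,0,0,2,1,1,-1⟩,
   ⟨-1,0,0,0,2,1,3,-1⟩,
   ⟨-1,0,0,2,-2,1,-1,1⟩,
   ⟨-1,0,0,2,-2,1,1,-1⟩,
   ⟨-1,0,0,2,0,-1,-3,1⟩,
   ⟨-1,0,0,2,0,-1,-1,1⟩,
   ⟨-1,0,0,2,0,-1,1,-1⟩,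
   ⟨-1,0,0,2,0,-1,3,-1⟩,
   ⟨-1,0,0,2,0,1,-3,1⟩,
   ⟨-1,0,0,2,0,1,-1,1⟩,
   ⟨-1,0,0,2,0,1,1,-1⟩,
   ⟨-1,0,0,2,0,1,3,-1⟩,
   ⟨-1,0,0,2,2,-1,-1,1⟩,
   ⟨-1,0,0,2,2,-1,1,-1⟩,
   ⟨-1,0,2,-2,-2,-1,-1,1⟩,
   ⟨-1,0,2,-2,-2,-1,1,-1⟩,
   ⟨-1,0,2,-2,0,-1,-1,-1⟩,
   ⟨-1,0,2,-2,0,-1,-1,1⟩,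
   ⟨-1,0,2,-2,0,-1,1,-1⟩,
   ⟨-1,0,2,-2,0,-1,1,1⟩,
   ⟨-1,0,2,-2,0,1,-1,-1⟩,
   ⟨-1,0,2,-2,0,1,-1,1⟩,
   ⟨-1,0,2,-2,0,1,1,-1⟩,
   ⟨-1,0,2,-2,0,1,1,1⟩,
   ⟨-1,0,2,-2,2,1,-1,1⟩,
   ⟨-1,0,2,-2,2,1,1,-1⟩,
   ⟨-1,0,2,0,-2,1,-1,-1⟩,
   ⟨-1,0,2,0,-2,1,-1,1⟩,
   ⟨-1,0,2,0,-2,1,1,-1⟩,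
   ⟨-1,0,2,0,-2,1,1,1⟩,
   ⟨-1,0,2,0,0,-1,-1,-1⟩,
   ⟨-1,0,2,0,0,-1,-1,1⟩,
   ⟨-1,0,2,0,0,-1,1,-1⟩,
   ⟨-1,0,2,0,0,-1,1,1⟩,
   ⟨-1,0,2,0,0,1,-1,-1⟩,
   ⟨-1,0,2,0,0,1,-1,1⟩,
   ⟨-1,0,2,0,0,1,1,-1⟩,
   ⟨-1,0,2,0,0,1,1,1⟩,
   ⟨-1,0,2,0,2,-1,-1,-1⟩,
   ⟨-1,0,2,0,2,-1,-1,1⟩,
   ⟨-1,0,2,0,2,-1,1,-1⟩,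
   ⟨-1,0,2,0,2,-1,1,1⟩,
   ⟨-1,2,-2,0,-2,1,-1,-1⟩,
   ⟨-1,2,-2,0,-2,1,1,1⟩,
   ⟨-1,2,-2,0,0,-1,-1,1⟩,
   ⟨-1,2,-2,0,0,-1,1,-1⟩,
   ⟨-1,2,-2,0,0,1,-1,1⟩,
   ⟨-1,2,-2,0,0,1,1,-1⟩,
   ⟨-1,2,-2,0,2,-1,-1,-1⟩,
   ⟨-1,2,-2,0,2,-1,1,1⟩,
   ⟨-1,2,-2,2,0,-1,-1,-1⟩,
   ⟨-1,2,-2,2,0,-1,1,1⟩,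
   ⟨-1,2,-2,2,0,1,-1,-1⟩,
   ⟨-1,2,-2,2,0,1,1,1⟩,
   ⟨-1,2,0,-2,-2,1,-1,1⟩,
   ⟨-1,2,0,-2,-2,1,1,-1⟩,
   ⟨-1,2,0,-2,2,-1,-1,1⟩,
   ⟨-1,2,0,-2,2,-1,1,-1⟩,
   ⟨-1,2,0,0,-2,1,-1,-1⟩,
   ⟨-1,2,0,0,-2,1,-1,1⟩]

def shortChunk14_1 : List Q :=
  [⟨-1,2,0,0,-2,1,1,-1⟩,
   ⟨-1,2,0,0,-2,1,1,1⟩,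
   ⟨-1,2,0,0,0,-1,-1,-1⟩,
   ⟨-1,2,0,0,0,-1,-1,1⟩,
   ⟨-1,2,0,0,0,-1,1,-1⟩,
   ⟨-1,2,0,0,0,-1,1,1⟩,
   ⟨-1,2,0,0,0,1,-1,-1⟩,
   ⟨-1,2,0,0,0,1,-1,1⟩,
   ⟨-1,2,0,0,0,1,1,-1⟩,
   ⟨-1,2,0,0,0,1,1,1⟩,
   ⟨-1,2,0,0,2,-1,-1,-1⟩,
   ⟨-1,2,0,0,2,-1,-1,1⟩,
   ⟨-1,2,0,0,2,-1,1,-1⟩,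
   ⟨-1,2,0,0,2,-1,1,1⟩,
   ⟨-1,2,0,2,-2,1,-1,1⟩,
   ⟨-1,2,0,2,-2,1,1,-1⟩,
   ⟨-1,2,0,2,2,-1,-1,1⟩,
   ⟨-1,2,0,2,2,-1,1,-1⟩,
   ⟨-1,2,2,-2,0,-1,-1,-1⟩,
   ⟨-1,2,2,-2,0,-1,1,1⟩,
   ⟨-1,2,2,-2,0,1,-1,-1⟩,
   ⟨-1,2,2,-2,0,1,1,1⟩,
   ⟨-1,2,2,0,-2,1,-1,-1⟩,
   ⟨-1,2,2,0,-2,1,1,1⟩,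
   ⟨-1,2,2,0,0,-1,-1,1⟩,
   ⟨-1,2,2,0,0,-1,1,-1⟩,
   ⟨-1,2,2,0,0,1,-1,1⟩,
   ⟨-1,2,2,0,0,1,1,-1⟩,
   ⟨-1,2,2,0,2,-1,-1,-1⟩,
   ⟨-1,2,2,0,2,-1,1,1⟩,
   ⟨1,-2,-2,0,-2,1,-1,-1⟩,
   ⟨1,-2,-2,0,-2,1,1,1⟩,
   ⟨1,-2,-2,0,0,-1,-1,1⟩,
   ⟨1,-2,-2,0,0,-1,1,-1⟩,
   ⟨1,-2,-2,0,0,1,-1,1⟩,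
   ⟨1,-2,-2,0,0,1,1,-1⟩,
   ⟨1,-2,-2,0,2,-1,-1,-1⟩,
   ⟨1,-2,-2,0,2,-1,1,1⟩,
   ⟨1,-2,-2,2,0,-1,-1,-1⟩,
   ⟨1,-2,-2,2,0,-1,1,1⟩,
   ⟨1,-2,-2,2,0,1,-1,-1⟩,
   ⟨1,-2,-2,2,0,1,1,1⟩,
   ⟨1,-2,0,-2,-2,1,-1,1⟩,
   ⟨1,-2,0,-2,-2,1,1,-1⟩,
   ⟨1,-2,0,-2,2,-1,-1,1⟩,
   ⟨1,-2,0,-2,2,-1,1,-1⟩,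
   ⟨1,-2,0,0,-2,1,-1,-1⟩,
   ⟨1,-2,0,0,-2,1,-1,1⟩,
   ⟨1,-2,0,0,-2,1,1,-1⟩,
   ⟨1,-2,0,0,-2,1,1,1⟩,
   ⟨1,-2,0,0,0,-1,-1,-1⟩,
   ⟨1,-2,0,0,0,-1,-1,1⟩,
   ⟨1,-2,0,0,0,-1,1,-1⟩,
   ⟨1,-2,0,0,0,-1,1,1⟩,
   ⟨1,-2,0,0,0,1,-1,-1⟩,
   ⟨1,-2,0,0,0,1,-1,1⟩,
   ⟨1,-2,0,0,0,1,1,-1⟩,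
   ⟨1,-2,0,0,0,1,1,1⟩,
   ⟨1,-2,0,0,2,-1,-1,-1⟩,
   ⟨1,-2,0,0,2,-1,-1,1⟩,
   ⟨1,-2,0,0,2,-1,1,-1⟩,
   ⟨1,-2,0,0,2,-1,1,1⟩,
   ⟨1,-2,0,2,-2,1,-1,1⟩,
   ⟨1,-2,0,2,-2,1,1,-1⟩,
   ⟨1,-2,0,2,2,-1,-1,1⟩,
   ⟨1,-2,0,2,2,-1,1,-1⟩,
   ⟨1,-2,2,-2,0,-1,-1,-1⟩,
   ⟨1,-2,2,-2,0,-1,1,1⟩,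
   ⟨1,-2,2,-2,0,1,-1,-1⟩,
   ⟨1,-2,2,-2,0,1,1,1⟩,
   ⟨1,-2,2,0,-2,1,-1,-1⟩,
   ⟨1,-2,2,0,-2,1,1,1⟩,
   ⟨1,-2,2,0,0,-1,-1,1⟩,
   ⟨1,-2,2,0,0,-1,1,-1⟩,
   ⟨1,-2,2,0,0,1,-1,1⟩,
   ⟨1,-2,2,0,0,1,1,-1⟩,
   ⟨1,-2,2,0,2,-1,-1,-1⟩,
   ⟨1,-2,2,0,2,-1,1,1⟩,
   ⟨1,0,-2,0,-2,1,-1,-1⟩,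
   ⟨1,0,-2,0,-2,1,-1,1⟩,
   ⟨1,0,-2,0,-2,1,1,-1⟩,
   ⟨1,0,-2,0,-2,1,1,1⟩,
   ⟨1,0,-2,0,0,-1,-1,-1⟩,
   ⟨1,0,-2,0,0,-1,-1,1⟩,
   ⟨1,0,-2,0,0,-1,1,-1⟩,
   ⟨1,0,-2,0,0,-1,1,1⟩,
   ⟨1,0,-2,0,0,1,-1,-1⟩,
   ⟨1,0,-2,0,0,1,-1,1⟩,
   ⟨1,0,-2,0,0,1,1,-1⟩,
   ⟨1,0,-2,0,0,1,1,1⟩,
   ⟨1,0,-2,0,2,-1,-1,-1⟩,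
   ⟨1,0,-2,0,2,-1,-1,1⟩,
   ⟨1,0,-2,0,2,-1,1,-1⟩,
   ⟨1,0,-2,0,2,-1,1,1⟩,
   ⟨1,0,-2,2,-2,-1,-1,1⟩,
   ⟨1,0,-2,2,-2,-1,1,-1⟩,
   ⟨1,0,-2,2,0,-1,-1,-1⟩,
   ⟨1,0,-2,2,0,-1,-1,1⟩,
   ⟨1,0,-2,2,0,-1,1,-1⟩,
   ⟨1,0,-2,2,0,-1,1,1⟩,
   ⟨1,0,-2,2,0,1,-1,-1⟩,
   ⟨1,0,-2,2,0,1,-1,1⟩,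
   ⟨1,0,-2,2,0,1,1,-1⟩,
   ⟨1,0,-2,2,0,1,1,1⟩,
   ⟨1,0,-2,2,2,1,-1,1⟩,
   ⟨1,0,-2,2,2,1,1,-1⟩,
   ⟨1,0,0,-2,-2,1,-1,1⟩,
   ⟨1,0,0,-2,-2,1,1,-1⟩,
   ⟨1,0,0,-2,0,-1,-3,1⟩,
   ⟨1,0,0,-2,0,-1,-1,1⟩,
   ⟨1,0,0,-2,0,-1,1,-1⟩,
   ⟨1,0,0,-2,0,-1,3,-1⟩,
   ⟨1,0,0,-2,0,1,-3,1⟩,
   ⟨1,0,0,-2,0,1,-1,1⟩,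
   ⟨1,0,0,-2,0,1,1,-1⟩,
   ⟨1,0,0,-2,0,1,3,-1⟩,
   ⟨1,0,0,-2,2,-1,-1,1⟩,
   ⟨1,0,0,-2,2,-1,1,-1⟩,
   ⟨1,0,0,0,-2,-1,-3,1⟩,
   ⟨1,0,0,0,-2,-1,-1,1⟩,
   ⟨1,0,0,0,-2,-1,1,-1⟩,
   ⟨1,0,0,0,-2,-1,3,-1⟩,
   ⟨1,0,0,0,-2,1,-1,-1⟩,
   ⟨1,0,0,0,-2,1,-1,1⟩,
   ⟨1,0,0,0,-2,1,-1,3⟩,
   ⟨1,0,0,0,-2,1,1,-3⟩,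
   ⟨1,0,0,0,-2,1,1,-1⟩,
   ⟨1,0,0,0,-2,1,1,1⟩,
   ⟨1,0,0,0,-2,3,-1,-1⟩,
   ⟨1,0,0,0,-2,3,1,1⟩,
   ⟨1,0,0,0,0,-1,-3,1⟩,
   ⟨1,0,0,0,0,-1,-1,-1⟩,
   ⟨1,0,0,0,0,-1,-1,1⟩,
   ⟨1,0,0,0,0,-1,1,-1⟩,
   ⟨1,0,0,0,0,-1,1,1⟩,
   ⟨1,0,0,0,0,-1,3,-1⟩,
   ⟨1,0,0,0,0,1,-3,1⟩,
   ⟨1,0,0,0,0,1,-1,-1⟩,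
   ⟨1,0,0,0,0,1,-1,1⟩,
   ⟨1,0,0,0,0,1,1,-1⟩,
   ⟨1,0,0,0,0,1,1,1⟩,
   ⟨1,0,0,0,0,1,3,-1⟩,
   ⟨1,0,0,0,2,-3,-1,-1⟩,
   ⟨1,0,0,0,2,-3,1,1⟩,
   ⟨1,0,0,0,2,-1,-1,-1⟩,
   ⟨1,0,0,0,2,-1,-1,1⟩,
   ⟨1,0,0,0,2,-1,-1,3⟩,
   ⟨1,0,0,0,2,-1,1,-3⟩,
   ⟨1,0,0,0,2,-1,1,-1⟩,
   ⟨1,0,0,0,2,-1,1,1⟩]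

def shortChunk14_2 : List Q :=
  [⟨1,0,0,0,2,1,-3,1⟩,
   ⟨1,0,0,0,2,1,-1,1⟩,
   ⟨1,0,0,0,2,1,1,-1⟩,
   ⟨1,0,0,0,2,1,3,-1⟩,
   ⟨1,0,0,2,-2,1,-1,1⟩,
   ⟨1,0,0,2,-2,1,1,-1⟩,
   ⟨1,0,0,2,0,-1,-3,1⟩,
   ⟨1,0,0,2,0,-1,-1,1⟩,
   ⟨1,0,0,2,0,-1,1,-1⟩,
   ⟨1,0,0,2,0,-1,3,-1⟩,
   ⟨1,0,0,2,0,1,-3,1⟩,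
   ⟨1,0,0,2,0,1,-1,1⟩,
   ⟨1,0,0,2,0,1,1,-1⟩,
   ⟨1,0,0,2,0,1,3,-1⟩,
   ⟨1,0,0,2,2,-1,-1,1⟩,
   ⟨1,0,0,2,2,-1,1,-1⟩,
   ⟨1,0,2,-2,-2,-1,-1,1⟩,
   ⟨1,0,2,-2,-2,-1,1,-1⟩,
   ⟨1,0,2,-2,0,-1,-1,-1⟩,
   ⟨1,0,2,-2,0,-1,-1,1⟩,
   ⟨1,0,2,-2,0,-1,1,-1⟩,
   ⟨1,0,2,-2,0,-1,1,1⟩,
   ⟨1,0,2,-2,0,1,-1,-1⟩,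
   ⟨1,0,2,-2,0,1,-1,1⟩,
   ⟨1,0,2,-2,0,1,1,-1⟩,
   ⟨1,0,2,-2,0,1,1,1⟩,
   ⟨1,0,2,-2,2,1,-1,1⟩,
   ⟨1,0,2,-2,2,1,1,-1⟩,
   ⟨1,0,2,0,-2,1,-1,-1⟩,
   ⟨1,0,2,0,-2,1,-1,1⟩,
   ⟨1,0,2,0,-2,1,1,-1⟩,
   ⟨1,0,2,0,-2,1,1,1⟩,
   ⟨1,0,2,0,0,-1,-1,-1⟩,
   ⟨1,0,2,0,0,-1,-1,1⟩,
   ⟨1,0,2,0,0,-1,1,-1⟩,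
   ⟨1,0,2,0,0,-1,1,1⟩,
   ⟨1,0,2,0,0,1,-1,-1⟩,
   ⟨1,0,2,0,0,1,-1,1⟩,
   ⟨1,0,2,0,0,1,1,-1⟩,
   ⟨1,0,2,0,0,1,1,1⟩,
   ⟨1,0,2,0,2,-1,-1,-1⟩,
   ⟨1,0,2,0,2,-1,-1,1⟩,
   ⟨1,0,2,0,2,-1,1,-1⟩,
   ⟨1,0,2,0,2,-1,1,1⟩,
   ⟨3,0,-2,0,0,-1,-1,1⟩,
   ⟨3,0,-2,0,0,-1,1,-1⟩,
   ⟨3,0,-2,0,0,1,-1,1⟩,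
   ⟨3,0,-2,0,0,1,1,-1⟩,
   ⟨3,0,0,0,-2,1,-1,-1⟩,
   ⟨3,0,0,0,-2,1,1,1⟩,
   ⟨3,0,0,0,0,-1,-1,1⟩,
   ⟨3,0,0,0,0,-1,1,-1⟩,
   ⟨3,0,0,0,0,1,-1,1⟩,
   ⟨3,0,0,0,0,1,1,-1⟩,
   ⟨3,0,0,0,2,-1,-1,-1⟩,
   ⟨3,0,0,0,2,-1,1,1⟩,
   ⟨3,0,2,0,0,-1,-1,1⟩,
   ⟨3,0,2,0,0,-1,1,-1⟩,
   ⟨3,0,2,0,0,1,-1,1⟩,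
   ⟨3,0,2,0,0,1,1,-1⟩]

/-- the short elements of parity class 14 -/
def shortData14 : List Q := shortChunk14_0 ++ shortChunk14_1 ++ shortChunk14_2

def shortChunk15_0 : List Q :=
  [⟨-3,1,-1,-1,-1,-1,-1,1⟩,
   ⟨-3,1,-1,-1,-1,-1,1,-1⟩,
   ⟨-3,1,-1,-1,-1,1,-1,-1⟩,
   ⟨-3,1,-1,-1,-1,1,1,1⟩,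
   ⟨-3,1,-1,-1,1,-1,-1,-1⟩,
   ⟨-3,1,-1,-1,1,-1,1,1⟩,
   ⟨-3,1,-1,-1,1,1,-1,1⟩,
   ⟨-3,1,-1,-1,1,1,1,-1⟩,
   ⟨-3,1,-1,1,-1,-1,-1,-1⟩,
   ⟨-3,1,-1,1,-1,-1,1,1⟩,
   ⟨-3,1,-1,1,1,1,-1,-1⟩,
   ⟨-3,1,-1,1,1,1,1,1⟩,
   ⟨-3,1,1,-1,-1,-1,-1,-1⟩,
   ⟨-3,1,1,-1,-1,-1,1,1⟩,
   ⟨-3,1,1,-1,1,1,-1,-1⟩,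
   ⟨-3,1,1,-1,1,1,1,1⟩,
   ⟨-3,1,1,1,-1,-1,-1,1⟩,
   ⟨-3,1,1,1,-1,-1,1,-1⟩,
   ⟨-3,1,1,1,-1,1,-1,-1⟩,
   ⟨-3,1,1,1,-1,1,1,1⟩,
   ⟨-3,1,1,1,1,-1,-1,-1⟩,
   ⟨-3,1,1,1,1,-1,1,1⟩,
   ⟨-3,1,1,1,1,1,-1,1⟩,
   ⟨-3,1,1,1,1,1,1,-1⟩,
   ⟨-1,-1,-3,1,-1,-1,-1,1⟩,
   ⟨-1,-1,-3,1,-1,-1,1,-1⟩,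
   ⟨-1,-1,-3,1,-1,1,-1,-1⟩,
   ⟨-1,-1,-3,1,-1,1,1,1⟩,
   ⟨-1,-1,-3,1,1,-1,-1,-1⟩,
   ⟨-1,-1,-3,1,1,-1,1,1⟩,
   ⟨-1,-1,-3,1,1,1,-1,1⟩,
   ⟨-1,-1,-3,1,1,1,1,-1⟩,
   ⟨-1,-1,-1,-1,-3,1,-1,1⟩,
   ⟨-1,-1,-1,-1,-3,1,1,-1⟩,
   ⟨-1,-1,-1,-1,-1,1,-3,1⟩,
   ⟨-1,-1,-1,-1,-1,1,-1,1⟩,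
   ⟨-1,-1,-1,-1,-1,1,1,-1⟩,
   ⟨-1,-1,-1,-1,-1,1,3,-1⟩,
   ⟨-1,-1,-1,-1,1,-1,-3,1⟩,
   ⟨-1,-1,-1,-1,1,-1,-1,1⟩,
   ⟨-1,-1,-1,-1,1,-1,1,-1⟩,
   ⟨-1,-1,-1,-1,1,-1,3,-1⟩,
   ⟨-1,-1,-1,-1,3,-1,-1,1⟩,
   ⟨-1,-1,-1,-1,3,-1,1,-1⟩,
   ⟨-1,-1,-1,1,-3,1,-1,-1⟩,
   ⟨-1,-1,-1,1,-3,1,1,1⟩,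
   ⟨-1,-1,-1,1,-1,-1,-3,1⟩,
   ⟨-1,-1,-1,1,-1,-1,-1,1⟩,
   ⟨-1,-1,-1,1,-1,-1,1,-1⟩,
   ⟨-1,-1,-1,1,-1,-1,3,-1⟩,
   ⟨-1,-1,-1,1,-1,1,-1,-1⟩,
   ⟨-1,-1,-1,1,-1,1,-1,1⟩,
   ⟨-1,-1,-1,1,-1,1,1,-1⟩,
   ⟨-1,-1,-1,1,-1,1,1,1⟩,
   ⟨-1,-1,-1,1,1,-1,-1,-1⟩,
   ⟨-1,-1,-1,1,1,-1,-1,1⟩,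
   ⟨-1,-1,-1,1,1,-1,1,-1⟩,
   ⟨-1,-1,-1,1,1,-1,1,1⟩,
   ⟨-1,-1,-1,1,1,1,-3,1⟩,
   ⟨-1,-1,-1,1,1,1,-1,1⟩,
   ⟨-1,-1,-1,1,1,1,1,-1⟩,
   ⟨-1,-1,-1,1,1,1,3,-1⟩,
   ⟨-1,-1,-1,1,3,-1,-1,-1⟩,
   ⟨-1,-1,-1,1,3,-1,1,1⟩,
   ⟨-1,-1,1,-1,-3,1,-1,-1⟩,
   ⟨-1,-1,1,-1,-3,1,1,1⟩,
   ⟨-1,-1,1,-1,-1,-1,-3,1⟩,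
   ⟨-1,-1,1,-1,-1,-1,-1,1⟩,
   ⟨-1,-1,1,-1,-1,-1,1,-1⟩,
   ⟨-1,-1,1,-1,-1,-1,3,-1⟩,
   ⟨-1,-1,1,-1,-1,1,-1,-1⟩,
   ⟨-1,-1,1,-1,-1,1,-1,1⟩,
   ⟨-1,-1,1,-1,-1,1,1,-1⟩,
   ⟨-1,-1,1,-1,-1,1,1,1⟩,
   ⟨-1,-1,1,-1,1,-1,-1,-1⟩,
   ⟨-1,-1,1,-1,1,-1,-1,1⟩,
   ⟨-1,-1,1,-1,1,-1,1,-1⟩,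
   ⟨-1,-1,1,-1,1,-1,1,1⟩,
   ⟨-1,-1,1,-1,1,1,-3,1⟩,
   ⟨-1,-1,1,-1,1,1,-1,1⟩,
   ⟨-1,-1,1,-1,1,1,1,-1⟩,
   ⟨-1,-1,1,-1,1,1,3,-1⟩,
   ⟨-1,-1,1,-1,3,-1,-1,-1⟩,
   ⟨-1,-1,1,-1,3,-1,1,1⟩,
   ⟨-1,-1,1,1,-3,1,-1,1⟩,
   ⟨-1,-1,1,1,-3,1,1,-1⟩,
   ⟨-1,-1,1,1,-1,1,-3,1⟩,
   ⟨-1,-1,1,1,-1,1,-1,1⟩,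
   ⟨-1,-1,1,1,-1,1,1,-1⟩,
   ⟨-1,-1,1,1,-1,1,3,-1⟩,
   ⟨-1,-1,1,1,1,-1,-3,1⟩,
   ⟨-1,-1,1,1,1,-1,-1,1⟩,
   ⟨-1,-1,1,1,1,-1,1,-1⟩,
   ⟨-1,-1,1,1,1,-1,3,-1⟩,
   ⟨-1,-1,1,1,3,-1,-1,1⟩,
   ⟨-1,-1,1,1,3,-1,1,-1⟩,
   ⟨-1,-1,3,-1,-1,-1,-1,1⟩,
   ⟨-1,-1,3,-1,-1,-1,1,-1⟩,
   ⟨-1,-1,3,-1,-1,1,-1,-1⟩,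
   ⟨-1,-1,3,-1,-1,1,1,1⟩,
   ⟨-1,-1,3,-1,1,-1,-1,-1⟩,
   ⟨-1,-1,3,-1,1,-1,1,1⟩,
   ⟨-1,-1,3,-1,1,1,-1,1⟩,
   ⟨-1,-1,3,-1,1,1,1,-1⟩,
   ⟨-1,1,-3,1,-1,-1,-1,-1⟩,
   ⟨-1,1,-3,1,-1,-1,1,1⟩,
   ⟨-1,1,-3,1,1,1,-1,-1⟩,
   ⟨-1,1,-3,1,1,1,1,1⟩,
   ⟨-1,1,-1,-1,-3,1,-1,-1⟩,
   ⟨-1,1,-1,-1,-3,1,1,1⟩,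
   ⟨-1,1,-1,-1,-1,-1,-3,1⟩,
   ⟨-1,1,-1,-1,-1,-1,-1,1⟩,
   ⟨-1,1,-1,-1,-1,-1,1,-1⟩,
   ⟨-1,1,-1,-1,-1,-1,3,-1⟩,
   ⟨-1,1,-1,-1,-1,1,-1,-1⟩,
   ⟨-1,1,-1,-1,-1,1,-1,1⟩,
   ⟨-1,1,-1,-1,-1,1,1,-1⟩,
   ⟨-1,1,-1,-1,-1,1,1,1⟩,
   ⟨-1,1,-1,-1,1,-1,-1,-1⟩,
   ⟨-1,1,-1,-1,1,-1,-1,1⟩,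
   ⟨-1,1,-1,-1,1,-1,1,-1⟩,
   ⟨-1,1,-1,-1,1,-1,1,1⟩,
   ⟨-1,1,-1,-1,1,1,-3,1⟩,
   ⟨-1,1,-1,-1,1,1,-1,1⟩,
   ⟨-1,1,-1,-1,1,1,1,-1⟩,
   ⟨-1,1,-1,-1,1,1,3,-1⟩,
   ⟨-1,1,-1,-1,3,-1,-1,-1⟩,
   ⟨-1,1,-1,-1,3,-1,1,1⟩,
   ⟨-1,1,-1,1,-1,-1,-1,-1⟩,
   ⟨-1,1,-1,1,-1,-1,-1,1⟩,
   ⟨-1,1,-1,1,-1,-1,1,-1⟩,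
   ⟨-1,1,-1,1,-1,-1,1,1⟩,
   ⟨-1,1,-1,1,-1,1,-1,-1⟩,
   ⟨-1,1,-1,1,-1,1,-1,1⟩,
   ⟨-1,1,-1,1,-1,1,-1,3⟩,
   ⟨-1,1,-1,1,-1,1,1,-3⟩,
   ⟨-1,1,-1,1,-1,1,1,-1⟩,
   ⟨-1,1,-1,1,-1,1,1,1⟩,
   ⟨-1,1,-1,1,-1,3,-1,1⟩,
   ⟨-1,1,-1,1,-1,3,1,-1⟩,
   ⟨-1,1,-1,1,1,-3,-1,1⟩,
   ⟨-1,1,-1,1,1,-3,1,-1⟩,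
   ⟨-1,1,-1,1,1,-1,-1,-1⟩,
   ⟨-1,1,-1,1,1,-1,-1,1⟩,
   ⟨-1,1,-1,1,1,-1,-1,3⟩,
   ⟨-1,1,-1,1,1,-1,1,-3⟩,
   ⟨-1,1,-1,1,1,-1,1,-1⟩,
   ⟨-1,1,-1,1,1,-1,1,1⟩,
   ⟨-1,1,-1,1,1,1,-1,-1⟩,
   ⟨-1,1,-1,1,1,1,-1,1⟩]

def shortChunk15_1 : List Q :=
  [⟨-1,1,-1,1,1,1,1,-1⟩,
   ⟨-1,1,-1,1,1,1,1,1⟩,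
   ⟨-1,1,-1,3,-1,1,-1,1⟩,
   ⟨-1,1,-1,3,-1,1,1,-1⟩,
   ⟨-1,1,-1,3,1,-1,-1,1⟩,
   ⟨-1,1,-1,3,1,-1,1,-1⟩,
   ⟨-1,1,1,-3,-1,1,-1,1⟩,
   ⟨-1,1,1,-3,-1,1,1,-1⟩,
   ⟨-1,1,1,-3,1,-1,-1,1⟩,
   ⟨-1,1,1,-3,1,-1,1,-1⟩,
   ⟨-1,1,1,-1,-1,-1,-1,-1⟩,
   ⟨-1,1,1,-1,-1,-1,-1,1⟩,
   ⟨-1,1,1,-1,-1,-1,1,-1⟩,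
   ⟨-1,1,1,-1,-1,-1,1,1⟩,
   ⟨-1,1,1,-1,-1,1,-1,-1⟩,
   ⟨-1,1,1,-1,-1,1,-1,1⟩,
   ⟨-1,1,1,-1,-1,1,-1,3⟩,
   ⟨-1,1,1,-1,-1,1,1,-3⟩,
   ⟨-1,1,1,-1,-1,1,1,-1⟩,
   ⟨-1,1,1,-1,-1,1,1,1⟩,
   ⟨-1,1,1,-1,-1,3,-1,1⟩,
   ⟨-1,1,1,-1,-1,3,1,-1⟩,
   ⟨-1,1,1,-1,1,-3,-1,1⟩,
   ⟨-1,1,1,-1,1,-3,1,-1⟩,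
   ⟨-1,1,1,-1,1,-1,-1,-1⟩,
   ⟨-1,1,1,-1,1,-1,-1,1⟩,
   ⟨-1,1,1,-1,1,-1,-1,3⟩,
   ⟨-1,1,1,-1,1,-1,1,-3⟩,
   ⟨-1,1,1,-1,1,-1,1,-1⟩,
   ⟨-1,1,1,-1,1,-1,1,1⟩,
   ⟨-1,1,1,-1,1,1,-1,-1⟩,
   ⟨-1,1,1,-1,1,1,-1,1⟩,
   ⟨-1,1,1,-1,1,1,1,-1⟩,
   ⟨-1,1,1,-1,1,1,1,1⟩,
   ⟨-1,1,1,1,-3,1,-1,-1⟩,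
   ⟨-1,1,1,1,-3,1,1,1⟩,
   ⟨-1,1,1,1,-1,-1,-3,1⟩,
   ⟨-1,1,1,1,-1,-1,-1,1⟩,
   ⟨-1,1,1,1,-1,-1,1,-1⟩,
   ⟨-1,1,1,1,-1,-1,3,-1⟩,
   ⟨-1,1,1,1,-1,1,-1,-1⟩,
   ⟨-1,1,1,1,-1,1,-1,1⟩,
   ⟨-1,1,1,1,-1,1,1,-1⟩,
   ⟨-1,1,1,1,-1,1,1,1⟩,
   ⟨-1,1,1,1,1,-1,-1,-1⟩,
   ⟨-1,1,1,1,1,-1,-1,1⟩,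
   ⟨-1,1,1,1,1,-1,1,-1⟩,
   ⟨-1,1,1,1,1,-1,1,1⟩,
   ⟨-1,1,1,1,1,1,-3,1⟩,
   ⟨-1,1,1,1,1,1,-1,1⟩,
   ⟨-1,1,1,1,1,1,1,-1⟩,
   ⟨-1,1,1,1,1,1,3,-1⟩,
   ⟨-1,1,1,1,3,-1,-1,-1⟩,
   ⟨-1,1,1,1,3,-1,1,1⟩,
   ⟨-1,1,3,-1,-1,-1,-1,-1⟩,
   ⟨-1,1,3,-1,-1,-1,1,1⟩,
   ⟨-1,1,3,-1,1,1,-1,-1⟩,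
   ⟨-1,1,3,-1,1,1,1,1⟩,
   ⟨-1,3,-1,1,-1,1,-1,1⟩,
   ⟨-1,3,-1,1,-1,1,1,-1⟩,
   ⟨-1,3,-1,1,1,-1,-1,1⟩,
   ⟨-1,3,-1,1,1,-1,1,-1⟩,
   ⟨-1,3,1,-1,-1,1,-1,1⟩,
   ⟨-1,3,1,-1,-1,1,1,-1⟩,
   ⟨-1,3,1,-1,1,-1,-1,1⟩,
   ⟨-1,3,1,-1,1,-1,1,-1⟩,
   ⟨1,-3,-1,1,-1,1,-1,1⟩,
   ⟨1,-3,-1,1,-1,1,1,-1⟩,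
   ⟨1,-3,-1,1,1,-1,-1,1⟩,
   ⟨1,-3,-1,1,1,-1,1,-1⟩,
   ⟨1,-3,1,-1,-1,1,-1,1⟩,
   ⟨1,-3,1,-1,-1,1,1,-1⟩,
   ⟨1,-3,1,-1,1,-1,-1,1⟩,
   ⟨1,-3,1,-1,1,-1,1,-1⟩,
   ⟨1,-1,-3,1,-1,-1,-1,-1⟩,
   ⟨1,-1,-3,1,-1,-1,1,1⟩,
   ⟨1,-1,-3,1,1,1,-1,-1⟩,
   ⟨1,-1,-3,1,1,1,1,1⟩,
   ⟨1,-1,-1,-1,-3,1,-1,-1⟩,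
   ⟨1,-1,-1,-1,-3,1,1,1⟩,
   ⟨1,-1,-1,-1,-1,-1,-3,1⟩,
   ⟨1,-1,-1,-1,-1,-1,-1,1⟩,
   ⟨1,-1,-1,-1,-1,-1,1,-1⟩,
   ⟨1,-1,-1,-1,-1,-1,3,-1⟩,
   ⟨1,-1,-1,-1,-1,1,-1,-1⟩,
   ⟨1,-1,-1,-1,-1,1,-1,1⟩,
   ⟨1,-1,-1,-1,-1,1,1,-1⟩,
   ⟨1,-1,-1,-1,-1,1,1,1⟩,
   ⟨1,-1,-1,-1,1,-1,-1,-1⟩,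
   ⟨1,-1,-1,-1,1,-1,-1,1⟩,
   ⟨1,-1,-1,-1,1,-1,1,-1⟩,
   ⟨1,-1,-1,-1,1,-1,1,1⟩,
   ⟨1,-1,-1,-1,1,1,-3,1⟩,
   ⟨1,-1,-1,-1,1,1,-1,1⟩,
   ⟨1,-1,-1,-1,1,1,1,-1⟩,
   ⟨1,-1,-1,-1,1,1,3,-1⟩,
   ⟨1,-1,-1,-1,3,-1,-1,-1⟩,
   ⟨1,-1,-1,-1,3,-1,1,1⟩,
   ⟨1,-1,-1,1,-1,-1,-1,-1⟩,
   ⟨1,-1,-1,1,-1,-1,-1,1⟩,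
   ⟨1,-1,-1,1,-1,-1,1,-1⟩,
   ⟨1,-1,-1,1,-1,-1,1,1⟩,
   ⟨1,-1,-1,1,-1,1,-1,-1⟩,
   ⟨1,-1,-1,1,-1,1,-1,1⟩,
   ⟨1,-1,-1,1,-1,1,-1,3⟩,
   ⟨1,-1,-1,1,-1,1,1,-3⟩,
   ⟨1,-1,-1,1,-1,1,1,-1⟩,
   ⟨1,-1,-1,1,-1,1,1,1⟩,
   ⟨1,-1,-1,1,-1,3,-1,1⟩,
   ⟨1,-1,-1,1,-1,3,1,-1⟩,
   ⟨1,-1,-1,1,1,-3,-1,1⟩,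
   ⟨1,-1,-1,1,1,-3,1,-1⟩,
   ⟨1,-1,-1,1,1,-1,-1,-1⟩,
   ⟨1,-1,-1,1,1,-1,-1,1⟩,
   ⟨1,-1,-1,1,1,-1,-1,3⟩,
   ⟨1,-1,-1,1,1,-1,1,-3⟩,
   ⟨1,-1,-1,1,1,-1,1,-1⟩,
   ⟨1,-1,-1,1,1,-1,1,1⟩,
   ⟨1,-1,-1,1,1,1,-1,-1⟩,
   ⟨1,-1,-1,1,1,1,-1,1⟩,
   ⟨1,-1,-1,1,1,1,1,-1⟩,
   ⟨1,-1,-1,1,1,1,1,1⟩,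
   ⟨1,-1,-1,3,-1,1,-1,1⟩,
   ⟨1,-1,-1,3,-1,1,1,-1⟩,
   ⟨1,-1,-1,3,1,-1,-1,1⟩,
   ⟨1,-1,-1,3,1,-1,1,-1⟩,
   ⟨1,-1,1,-3,-1,1,-1,1⟩,
   ⟨1,-1,1,-3,-1,1,1,-1⟩,
   ⟨1,-1,1,-3,1,-1,-1,1⟩,
   ⟨1,-1,1,-3,1,-1,1,-1⟩,
   ⟨1,-1,1,-1,-1,-1,-1,-1⟩,
   ⟨1,-1,1,-1,-1,-1,-1,1⟩,
   ⟨1,-1,1,-1,-1,-1,1,-1⟩,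
   ⟨1,-1,1,-1,-1,-1,1,1⟩,
   ⟨1,-1,1,-1,-1,1,-1,-1⟩,
   ⟨1,-1,1,-1,-1,1,-1,1⟩,
   ⟨1,-1,1,-1,-1,1,-1,3⟩,
   ⟨1,-1,1,-1,-1,1,1,-3⟩,
   ⟨1,-1,1,-1,-1,1,1,-1⟩,
   ⟨1,-1,1,-1,-1,1,1,1⟩,
   ⟨1,-1,1,-1,-1,3,-1,1⟩,
   ⟨1,-1,1,-1,-1,3,1,-1⟩,
   ⟨1,-1,1,-1,1,-3,-1,1⟩,
   ⟨1,-1,1,-1,1,-3,1,-1⟩,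
   ⟨1,-1,1,-1,1,-1,-1,-1⟩,
   ⟨1,-1,1,-1,1,-1,-1,1⟩,
   ⟨1,-1,1,-1,1,-1,-1,3⟩,
   ⟨1,-1,1,-1,1,-1,1,-3⟩,
   ⟨1,-1,1,-1,1,-1,1,-1⟩,
   ⟨1,-1,1,-1,1,-1,1,1⟩]

def shortChunk15_2 : List Q :=
  [⟨1,-1,1,-1,1,1,-1,-1⟩,
   ⟨1,-1,1,-1,1,1,-1,1⟩,
   ⟨1,-1,1,-1,1,1,1,-1⟩,
   ⟨1,-1,1,-1,1,1,1,1⟩,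
   ⟨1,-1,1,1,-3,1,-1,-1⟩,
   ⟨1,-1,1,1,-3,1,1,1⟩,
   ⟨1,-1,1,1,-1,-1,-3,1⟩,
   ⟨1,-1,1,1,-1,-1,-1,1⟩,
   ⟨1,-1,1,1,-1,-1,1,-1⟩,
   ⟨1,-1,1,1,-1,-1,3,-1⟩,
   ⟨1,-1,1,1,-1,1,-1,-1⟩,
   ⟨1,-1,1,1,-1,1,-1,1⟩,
   ⟨1,-1,1,1,-1,1,1,-1⟩,
   ⟨1,-1,1,1,-1,1,1,1⟩,
   ⟨1,-1,1,1,1,-1,-1,-1⟩,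
   ⟨1,-1,1,1,1,-1,-1,1⟩,
   ⟨1,-1,1,1,1,-1,1,-1⟩,
   ⟨1,-1,1,1,1,-1,1,1⟩,
   ⟨1,-1,1,1,1,1,-3,1⟩,
   ⟨1,-1,1,1,1,1,-1,1⟩,
   ⟨1,-1,1,1,1,1,1,-1⟩,
   ⟨1,-1,1,1,1,1,3,-1⟩,
   ⟨1,-1,1,1,3,-1,-1,-1⟩,
   ⟨1,-1,1,1,3,-1,1,1⟩,
   ⟨1,-1,3,-1,-1,-1,-1,-1⟩,
   ⟨1,-1,3,-1,-1,-1,1,1⟩,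
   ⟨1,-1,3,-1,1,1,-1,-1⟩,
   ⟨1,-1,3,-1,1,1,1,1⟩,
   ⟨1,1,-3,1,-1,-1,-1,1⟩,
   ⟨1,1,-3,1,-1,-1,1,-1⟩,
   ⟨1,1,-3,1,-1,1,-1,-1⟩,
   ⟨1,1,-3,1,-1,1,1,1⟩,
   ⟨1,1,-3,1,1,-1,-1,-1⟩,
   ⟨1,1,-3,1,1,-1,1,1⟩,
   ⟨1,1,-3,1,1,1,-1,1⟩,
   ⟨1,1,-3,1,1,1,1,-1⟩,
   ⟨1,1,-1,-1,-3,1,-1,1⟩,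
   ⟨1,1,-1,-1,-3,1,1,-1⟩,
   ⟨1,1,-1,-1,-1,1,-3,1⟩,
   ⟨1,1,-1,-1,-1,1,-1,1⟩,
   ⟨1,1,-1,-1,-1,1,1,-1⟩,
   ⟨1,1,-1,-1,-1,1,3,-1⟩,
   ⟨1,1,-1,-1,1,-1,-3,1⟩,
   ⟨1,1,-1,-1,1,-1,-1,1⟩,
   ⟨1,1,-1,-1,1,-1,1,-1⟩,
   ⟨1,1,-1,-1,1,-1,3,-1⟩,
   ⟨1,1,-1,-1,3,-1,-1,1⟩,
   ⟨1,1,-1,-1,3,-1,1,-1⟩,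
   ⟨1,1,-1,1,-3,1,-1,-1⟩,
   ⟨1,1,-1,1,-3,1,1,1⟩,
   ⟨1,1,-1,1,-1,-1,-3,1⟩,
   ⟨1,1,-1,1,-1,-1,-1,1⟩,
   ⟨1,1,-1,1,-1,-1,1,-1⟩,
   ⟨1,1,-1,1,-1,-1,3,-1⟩,
   ⟨1,1,-1,1,-1,1,-1,-1⟩,
   ⟨1,1,-1,1,-1,1,-1,1⟩,
   ⟨1,1,-1,1,-1,1,1,-1⟩,
   ⟨1,1,-1,1,-1,1,1,1⟩,
   ⟨1,1,-1,1,1,-1,-1,-1⟩,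
   ⟨1,1,-1,1,1,-1,-1,1⟩,
   ⟨1,1,-1,1,1,-1,1,-1⟩,
   ⟨1,1,-1,1,1,-1,1,1⟩,
   ⟨1,1,-1,1,1,1,-3,1⟩,
   ⟨1,1,-1,1,1,1,-1,1⟩,
   ⟨1,1,-1,1,1,1,1,-1⟩,
   ⟨1,1,-1,1,1,1,3,-1⟩,
   ⟨1,1,-1,1,3,-1,-1,-1⟩,
   ⟨1,1,-1,1,3,-1,1,1⟩,
   ⟨1,1,1,-1,-3,1,-1,-1⟩,
   ⟨1,1,1,-1,-3,1,1,1⟩,
   ⟨1,1,1,-1,-1,-1,-3,1⟩,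
   ⟨1,1,1,-1,-1,-1,-1,1⟩,
   ⟨1,1,1,-1,-1,-1,1,-1⟩,
   ⟨1,1,1,-1,-1,-1,3,-1⟩,
   ⟨1,1,1,-1,-1,1,-1,-1⟩,
   ⟨1,1,1,-1,-1,1,-1,1⟩,
   ⟨1,1,1,-1,-1,1,1,-1⟩,
   ⟨1,1,1,-1,-1,1,1,1⟩,
   ⟨1,1,1,-1,1,-1,-1,-1⟩,
   ⟨1,1,1,-1,1,-1,-1,1⟩,
   ⟨1,1,1,-1,1,-1,1,-1⟩,
   ⟨1,1,1,-1,1,-1,1,1⟩,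
   ⟨1,1,1,-1,1,1,-3,1⟩,
   ⟨1,1,1,-1,1,1,-1,1⟩,
   ⟨1,1,1,-1,1,1,1,-1⟩,
   ⟨1,1,1,-1,1,1,3,-1⟩,
   ⟨1,1,1,-1,3,-1,-1,-1⟩,
   ⟨1,1,1,-1,3,-1,1,1⟩,
   ⟨1,1,1,1,-3,1,-1,1⟩,
   ⟨1,1,1,1,-3,1,1,-1⟩,
   ⟨1,1,1,1,-1,1,-3,1⟩,
   ⟨1,1,1,1,-1,1,-1,1⟩,
   ⟨1,1,1,1,-1,1,1,-1⟩,
   ⟨1,1,1,1,-1,1,3,-1⟩,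
   ⟨1,1,1,1,1,-1,-3,1⟩,
   ⟨1,1,1,1,1,-1,-1,1⟩,
   ⟨1,1,1,1,1,-1,1,-1⟩,
   ⟨1,1,1,1,1,-1,3,-1⟩,
   ⟨1,1,1,1,3,-1,-1,1⟩,
   ⟨1,1,1,1,3,-1,1,-1⟩,
   ⟨1,1,3,-1,-1,-1,-1,1⟩,
   ⟨1,1,3,-1,-1,-1,1,-1⟩,
   ⟨1,1,3,-1,-1,1,-1,-1⟩,
   ⟨1,1,3,-1,-1,1,1,1⟩,
   ⟨1,1,3,-1,1,-1,-1,-1⟩,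
   ⟨1,1,3,-1,1,-1,1,1⟩,
   ⟨1,1,3,-1,1,1,-1,1⟩,
   ⟨1,1,3,-1,1,1,1,-1⟩,
   ⟨3,-1,-1,-1,-1,-1,-1,1⟩,
   ⟨3,-1,-1,-1,-1,-1,1,-1⟩,
   ⟨3,-1,-1,-1,-1,1,-1,-1⟩,
   ⟨3,-1,-1,-1,-1,1,1,1⟩,
   ⟨3,-1,-1,-1,1,-1,-1,-1⟩,
   ⟨3,-1,-1,-1,1,-1,1,1⟩,
   ⟨3,-1,-1,-1,1,1,-1,1⟩,
   ⟨3,-1,-1,-1,1,1,1,-1⟩,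
   ⟨3,-1,-1,1,-1,-1,-1,-1⟩,
   ⟨3,-1,-1,1,-1,-1,1,1⟩,
   ⟨3,-1,-1,1,1,1,-1,-1⟩,
   ⟨3,-1,-1,1,1,1,1,1⟩,
   ⟨3,-1,1,-1,-1,-1,-1,-1⟩,
   ⟨3,-1,1,-1,-1,-1,1,1⟩,
   ⟨3,-1,1,-1,1,1,-1,-1⟩,
   ⟨3,-1,1,-1,1,1,1,1⟩,
   ⟨3,-1,1,1,-1,-1,-1,1⟩,
   ⟨3,-1,1,1,-1,-1,1,-1⟩,
   ⟨3,-1,1,1,-1,1,-1,-1⟩,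
   ⟨3,-1,1,1,-1,1,1,1⟩,
   ⟨3,-1,1,1,1,-1,-1,-1⟩,
   ⟨3,-1,1,1,1,-1,1,1⟩,
   ⟨3,-1,1,1,1,1,-1,1⟩,
   ⟨3,-1,1,1,1,1,1,-1⟩]

/-- the short elements of parity class 15 -/
def shortData15 : List Q := shortChunk15_0 ++ shortChunk15_1 ++ shortChunk15_2

/-- all nonzero short elements -/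
def shortAll : List Q :=
  shortData0 ++
  shortData1 ++
  shortData2 ++
  shortData3 ++
  shortData4 ++
  shortData5 ++
  shortData6 ++
  shortData7 ++
  shortData8 ++
  shortData9 ++
  shortData10 ++
  shortData11 ++
  shortData12 ++
  shortData13 ++
  shortData14 ++
  shortData15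

end CfsgLib.J2
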