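import Mathlib

/-! The element orders of small symmetric groups. -/

set_option autoImplicit false
set_option maxRecDepth 100000

namespace CfsgLib.J2

/-- all least common multiples of at most `f` parts of size at least 2 of total size at most `n` -/
def lcms : ℕ → ℕ → List ℕ
  | 0, _ => [1]
  | f + 1, n => 1 :: (List.range' 2 (n - 1)).flatMap fun p => (lcms f (n - p)).map (Nat.lcm p)

theorem lcm_mem_lcms (m : Multiset ℕ) : (∀ a ∈ m, 2 ≤ a) → ∀ f n : ℕ, m.sum ≤ n → n ≤ 2 * f + 1 →
    m.lcm ∈ lcms f n := by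
  induction m using Multiset.induction_on with
  | empty =>
    intro _ f n _ _
    cases f <;> simp [lcms]
  | cons a m ih =>
    intro h f n hs hf
    have ha := h a (Multiset.mem_cons_self a m)
    rw [Multiset.sum_cons] at hs
    cases f with
    | zero => omega
    | succ f =>
      rw [Multiset.lcm_cons]
      refine List.mem_cons_of_mem _ (List.mem_flatMap.2 ⟨a, List.mem_range'_1.2 ⟨ha, by omega⟩, ?_⟩)
      exact List.mem_map.2 ⟨m.lcm, ih (fun b hb => h b (Multiset.mem_cons_of_mem hb)) f (n - a) (by omega) (by omega), rfl⟩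

theorem orderOf_perm_mem {α : Type*} [Fintype α] [DecidableEq α] (σ : Equiv.Perm α) (n : ℕ)
    (h : Fintype.card α ≤ n) : orderOf σ ∈ lcms (n / 2) n := by
  rw [← Equiv.Perm.lcm_cycleType]
  refine lcm_mem_lcms _ (fun a ha => Equiv.Perm.two_le_of_mem_cycleType ha) _ _ ?_ (by omega)
  rw [Equiv.Perm.sum_cycleType]
  exact le_trans (Finset.card_le_univ _) h

theorem range_orderOf_perm8 :
    Set.range (orderOf : Equiv.Perm (Fin 8) → ℕ) = {1, 2, 3, 4, 5, 6, 7, 8, 10, 12, 15} := by
  ext n
  constructor
  · rintro ⟨σ, rfl⟩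
    have h := orderOf_perm_mem σ 8 (by simp)
    have key : ∀ a ∈ lcms 4 8, a ∈ [1, 2, 3, 4, 5, 6, 7, 8, 10, 12, 15] := by decide +kernel
    have := key _ h
    simp only [List.mem_cons, List.not_mem_nil, or_false] at this
    simpa only [Set.mem_insert_iff, Set.mem_singleton_iff] using this
  · intro hn
    have key : ∀ (σ : Equiv.Perm (Fin 8)) (m : ℕ), 0 < m → σ ^ m = 1 → (∀ j < m, 0 < j → σ ^ j ≠ 1) →
        m ∈ Set.range (orderOf : Equiv.Perm (Fin 8) → ℕ) :=
      fun σ m hm h1 h2 => ⟨σ, (orderOf_eq_iff hm).2 ⟨h1, fun j hj hj0 => h2 j hj hj0⟩⟩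
    simp only [Set.mem_insert_iff, Set.mem_singleton_iff] at hn
    rcases hn with rfl | rfl | rfl | rfl | rfl | rfl | rfl | rfl | rfl | rfl | rfl
    · exact ⟨1, orderOf_one⟩
    · exact key (List.formPerm [0, 1]) 2 (by norm_num) (by decide +kernel) (by decide +kernel)
    · exact key (List.formPerm [0, 1, 2]) 3 (by norm_num) (by decide +kernel) (by decide +kernel)
    · exact key (List.formPerm [0, 1, 2, 3]) 4 (by norm_num) (by decide +kernel) (by decide +kernel)
    · exact key (List.formPerm [0, 1, 2, 3, 4]) 5 (by norm_num) (by decide +kernel) (by decide +kernel)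
    · exact key (List.formPerm [0, 1, 2, 3, 4, 5]) 6 (by norm_num) (by decide +kernel) (by decide +kernel)
    · exact key (List.formPerm [0, 1, 2, 3, 4, 5, 6]) 7 (by norm_num) (by decide +kernel) (by decide +kernel)
    · exact key (List.formPerm [0, 1, 2, 3, 4, 5, 6, 7]) 8 (by norm_num) (by decide +kernel) (by decide +kernel)
    · exact key (List.formPerm [0, 1, 2, 3, 4] * List.formPerm [5, 6]) 10 (by norm_num) (by decide +kernel)
        (by decide +kernel)
    · exact key (List.formPerm [0, 1, 2, 3] * List.formPerm [4, 5, 6]) 12 (by norm_num) (by decide +kernel)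
        (by decide +kernel)
    · exact key (List.formPerm [0, 1, 2, 3, 4] * List.formPerm [5, 6, 7]) 15 (by norm_num) (by decide +kernel)
        (by decide +kernel)

end CfsgLib.J2
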