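import Cfsg.Agent.Lib.Spor.J2.U33Data
import Cfsg.Agent.Lib.Chev.G2Two.UnitaryChk

/-! The checks for the subgroup of index 100. -/

set_option autoImplicit false
set_option maxRecDepth 100000

namespace CfsgLib.J2

open CfsgLib.Chev.G2Two.Unitary (cp)

/-- the `i`-th point of the orbit -/
def uPt (i : Fin 63) : ℕ := uPts.getD i 0

/-- the bits of the image of the orbit under a product -/
def uMask (w : List ℕ) : ℕ := (uPts.map fun p => 2 ^ evalW w p).sum

/-- a representative word -/
def uWord (x : ℕ) : List ℕ := pick chainLists (uReps.getD x [])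

/-- the generator with a given number -/
def uGen (q : ℕ) : ℕ := if q = 0 then uA else uB

theorem uA_word : (Nat.beq (pick chainLists uAIdx).length 5 && Nat.beq (foldP (pick chainLists uAIdx)) uA &&
    Nat.beq (pick chainLists uBIdx).length 5 && Nat.beq (foldP (pick chainLists uBIdx)) uB) = true := by
  decide +kernel

theorem uPts_ok : uPts.length = 63 ∧ uPts.Nodup ∧ (∀ p ∈ uPts, p < 315) ∧ ∀ f ∈ base5, f ∈ uPts := by
  decide +kernel

theorem uA_cp : ∀ i : Fin 63, getP uA (uPt i) = uPt (cp 0 i) ∧ getP uB (uPt i) = uPt (cp 1 i) := by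
  decide +kernel

theorem uReps_ok : (uReps.all fun is => Nat.beq (pick chainLists is).length 5) = true ∧ uReps.length = 100 ∧
    uMasks.length = 100 ∧ uMasks.Nodup := by decide +kernel

theorem uMasks_ok : ((List.range 100).all fun x => Nat.beq (uMask (uWord x)) (uMasks.getD x 0)) = true := by
  decide +kernel

/-- membership, evaluating the sought number first -/
def contains' (ms : List ℕ) : ℕ → Bool
  | 0 => ms.any (Nat.beq 0)
  | m + 1 => ms.any (Nat.beq (m + 1))

/-- the check of an orbit -/
def uOrbOK (L : List (ℕ × ℕ × ℕ)) : Bool :=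
  let ms := L.map fun e => uMasks.getD e.1 0
  decide (L.map Prod.fst).Nodup && (L.all fun e => Nat.blt e.1 100) &&
    (List.range L.length).all fun n =>
      let e := L.getD n (0, 0, 0)
      (Nat.beq n 0 ||
        (Nat.blt e.2.2 n &&
          Nat.beq (uMask (uGen e.2.1 :: uWord (L.getD e.2.2 (0, 0, 0)).1)) (uMasks.getD e.1 0))) &&
        contains' ms (uMask (uA :: uWord e.1)) && contains' ms (uMask (uB :: uWord e.1))

theorem uOrb36_ok : uOrbOK uOrb36 = true ∧ uOrb36.length = 36 := by decide +kernel

theorem uOrb63_ok : uOrbOK uOrb63 = true ∧ uOrb63.length = 63 := by decide +kernel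

end CfsgLib.J2
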