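import Cfsg.Agent.Lib.Spor.J2.Simple
import Cfsg.Agent.Lib.Spor.J2.U33Check
import Cfsg.Agent.Lib.Chev.G2Two.Main

/-! The unitary group of degree 3 over nine elements inside the Hall–Janko group, with index 100. -/

set_option autoImplicit false
set_option maxRecDepth 100000

namespace CfsgLib.J2

open CfsgLib.Chev.G2Two Subgroup
open CfsgLib.Chev.G2Two.Unitary (cp linePerm cert_mem linePerm_inj)

attribute [local irreducible] uMask uWord searchFrom

/-- the subgroup generated by the two permutations agrees with the unitary group -/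
theorem closure_cp {K : Type*} [Field K] [Fintype K] (hK : Fintype.card K = 9)
    (φ : CfsgLib.Rec.ThreeSpectrum.K9 ≃+* K) (A B : Equiv.Perm (Fin 63))
    (hA : ∀ i, A i = cp 0 i) (hB : ∀ i, B i = cp 1 i) :
    Subgroup.closure ({A, B} : Set (Equiv.Perm (Fin 63))) = (linePerm φ).range := by
  classical
  set H := Subgroup.closure ({A, B} : Set (Equiv.Perm (Fin 63))) with hH
  set I := (linePerm φ).range with hI
  have hcp : ∀ (k : Fin 38) (p : Equiv.Perm (Fin 63)), (∀ i, p i = cp k i) → p ∈ I := by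
    intro k p hp
    obtain ⟨g, hg⟩ := cert_mem φ k
    exact ⟨g, Equiv.ext fun i => (hg i).trans (hp i).symm⟩
  have hle : H ≤ I := (Subgroup.closure_le _).2 (by
    rintro p (rfl | rfl)
    exacts [hcp 0 _ hA, hcp 1 _ hB])
  refine le_antisymm hle ?_
  haveI := CfsgLib.Chev.G2Two.Unitary.isSimple (K := K) hK
  let eI := MonoidHom.ofInjective (linePerm_inj φ hK)
  haveI : IsSimpleGroup ↥I := MulEquiv.isSimpleGroup eI.symm
  have hcI : Nat.card ↥I = 6048 := by
    rw [← Nat.card_congr eI.toEquiv, CfsgLib.Chev.G2Two.Unitary.card_eq hK]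
  rw [← Subgroup.subgroupOf_eq_top]
  by_contra hne
  have hd := card_dvd_factorial (H.subgroupOf I) hne
  have hmul := Subgroup.card_mul_index (H.subgroupOf I)
  rw [Nat.card_congr (Subgroup.subgroupOfEquivOfLe hle).toEquiv, hcI] at hmul
  obtain ⟨m, hm⟩ : 1512 ∣ Nat.card ↥H := dvd_card_closure _ _ hA hB
  have h4 : (H.subgroupOf I).index ∣ 4 := ⟨m, by
    rw [hm] at hmul
    apply Nat.eq_of_mul_eq_mul_left (show 0 < 1512 by norm_num)
    linarith⟩
  have := Nat.le_of_dvd (Nat.factorial_pos _) hd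
  rw [hcI] at this
  have h24 : (H.subgroupOf I).index.factorial ≤ 24 :=
    le_trans (Nat.factorial_le (Nat.le_of_dvd (by norm_num) h4)) (by decide)
  omega

theorem exists_imgGen_rep {is : List ℕ} {a : ℕ} (h : Nat.beq (pick chainLists is).length 5 = true)
    (e : Nat.beq (foldP (pick chainLists is)) a = true) : ∃ x : imgGen, Rep (x : Equiv.Perm (Fin 315)) a := by
  obtain ⟨σ, hσ, hr⟩ := rep_pick_chain h
  exact ⟨⟨σ, hσ⟩, Nat.eq_of_beq_eq_true e ▸ hr⟩

/-- the first generator -/
noncomputable def uAEl : imgGen :=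
  (exists_imgGen_rep (is := uAIdx) (a := uA)
    (by have := uA_word; simp only [Bool.and_eq_true] at this; exact this.1.1.1)
    (by have := uA_word; simp only [Bool.and_eq_true] at this; exact this.1.1.2)).choose

theorem uAEl_rep : Rep (uAEl : Equiv.Perm (Fin 315)) uA := by
  rw [uAEl]
  exact Exists.choose_spec (p := fun x : imgGen => Rep (x : Equiv.Perm (Fin 315)) uA) _

/-- the second generator -/
noncomputable def uBEl : imgGen :=
  (exists_imgGen_rep (is := uBIdx) (a := uB)
    (by have := uA_word; simp only [Bool.and_eq_true] at this; exact this.1.2)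
    (by have := uA_word; simp only [Bool.and_eq_true] at this; exact this.2)).choose

theorem uBEl_rep : Rep (uBEl : Equiv.Perm (Fin 315)) uB := by
  rw [uBEl]
  exact Exists.choose_spec (p := fun x : imgGen => Rep (x : Equiv.Perm (Fin 315)) uB) _

/-- the subgroup -/
noncomputable def uSub : Subgroup imgGen := Subgroup.closure {uAEl, uBEl}

theorem uPt_lt (i : Fin 63) : uPt i < 315 := by
  obtain ⟨hl, -, h, -⟩ := uPts_ok
  rw [uPt, List.getD_eq_getElem _ _ (by omega)]
  exact h _ (List.getElem_mem _)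

/-- a line of the orbit -/
def uLine (i : Fin 63) : Fin 315 := ⟨uPt i, uPt_lt i⟩

theorem uLine_injective : Function.Injective uLine := by
  intro i j h
  obtain ⟨hl, hnd, -, -⟩ := uPts_ok
  have e : uPt i = uPt j := congrArg Fin.val h
  rw [uPt, uPt, List.getD_eq_getElem _ _ (by omega), List.getD_eq_getElem _ _ (by omega)] at e
  exact Fin.ext ((List.Nodup.getElem_inj_iff hnd).1 e)

theorem mem_uPts {f : ℕ} : f ∈ uPts ↔ ∃ i : Fin 63, uPt i = f := by
  obtain ⟨hl, -, -, -⟩ := uPts_ok
  constructor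
  · intro h
    obtain ⟨n, hn, rfl⟩ := List.getElem_of_mem h
    exact ⟨⟨n, by omega⟩, by rw [uPt, List.getD_eq_getElem _ _ hn]⟩
  · rintro ⟨i, rfl⟩
    rw [uPt, List.getD_eq_getElem _ _ (by omega)]
    exact List.getElem_mem _

theorem uSub_pres (h : uSub) (i : Fin 63) : ∃ j, (h.1 : Equiv.Perm (Fin 315)) (uLine i) = uLine j := by
  obtain ⟨x, hx⟩ := h
  induction hx using Subgroup.closure_induction generalizing i with
  | mem y hy =>
    rcases hy with rfl | rfl
    · exact ⟨cp 0 i, Fin.ext ((uAEl_rep (uLine i)).symm.trans (uA_cp i).1)⟩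
    · exact ⟨cp 1 i, Fin.ext ((uBEl_rep (uLine i)).symm.trans (uA_cp i).2)⟩
  | one => exact ⟨i, rfl⟩
  | mul a b _ _ ha hb =>
    obtain ⟨j, hj⟩ := hb i
    obtain ⟨k, hk⟩ := ha j
    exact ⟨k, by show ((a * b : imgGen) : Equiv.Perm (Fin 315)) _ = _; rw [Subgroup.coe_mul, Equiv.Perm.mul_apply]; exact (congrArg _ hj).trans hk⟩
  | inv a _ ha =>
    have hsurj : Function.Surjective fun j => (ha j).choose := by
      refine Finite.injective_iff_surjective.1 fun j j' e => uLine_injective ?_
      have h1 := (ha j).choose_spec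
      have h2 := (ha j').choose_spec
      rw [show (ha j).choose = (ha j').choose from e] at h1
      exact (a : Equiv.Perm (Fin 315)).injective (h1.trans h2.symm)
    obtain ⟨j, hj⟩ := hsurj i
    refine ⟨j, ?_⟩
    show ((a⁻¹ : imgGen) : Equiv.Perm (Fin 315)) _ = _
    rw [Subgroup.coe_inv, Equiv.Perm.inv_eq_iff_eq, ← hj]
    exact (ha j).choose_spec.symm

/-- the action on the orbit -/
noncomputable def uPerm : uSub →* Equiv.Perm (Fin 63) :=
  let F : uSub → Fin 63 → Fin 63 := fun h i => (uSub_pres h i).choose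
  have key : ∀ h i, (h.1 : Equiv.Perm (Fin 315)) (uLine i) = uLine (F h i) := fun h i => (uSub_pres h i).choose_spec
  have one : ∀ i, F 1 i = i := fun i => uLine_injective (key 1 i).symm
  have mul : ∀ h k i, F (h * k) i = F h (F k i) := fun h k i => uLine_injective (by
    rw [← key, ← key, ← key]; rfl)
  { toFun := fun h => ⟨F h, F h⁻¹, fun i => by rw [← mul, inv_mul_cancel, one],
      fun i => by rw [← mul, mul_inv_cancel, one]⟩
    map_one' := Equiv.ext one
    map_mul' := fun h k => Equiv.ext (mul h k) }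

theorem uPerm_spec (h : uSub) (i : Fin 63) : (h.1 : Equiv.Perm (Fin 315)) (uLine i) = uLine (uPerm h i) :=
  (uSub_pres h i).choose_spec

theorem uPerm_injective : Function.Injective uPerm := by
  intro h k e
  refine Subtype.ext (Subtype.ext (imgGen_rigid h.1.2 k.1.2 fun f hf => ?_))
  obtain ⟨i, hi⟩ := mem_uPts.1 (uPts_ok.2.2.2 f (by simp [base5]; omega))
  have : f = uLine i := Fin.ext hi.symm
  rw [this, uPerm_spec, uPerm_spec, e]

theorem uPerm_range {K : Type*} [Field K] [Fintype K] (hK : Fintype.card K = 9)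
    (φ : CfsgLib.Rec.ThreeSpectrum.K9 ≃+* K) : uPerm.range = (linePerm φ).range := by
  let a : uSub := ⟨uAEl, Subgroup.subset_closure (Or.inl rfl)⟩
  let b : uSub := ⟨uBEl, Subgroup.subset_closure (Or.inr rfl)⟩
  have ha : ∀ i, uPerm a i = cp 0 i := fun i => uLine_injective
    ((uPerm_spec a i).symm.trans (Fin.ext ((uAEl_rep (uLine i)).symm.trans (uA_cp i).1)))
  have hb : ∀ i, uPerm b i = cp 1 i := fun i => uLine_injective
    ((uPerm_spec b i).symm.trans (Fin.ext ((uBEl_rep (uLine i)).symm.trans (uA_cp i).2)))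
  rw [← closure_cp hK φ _ _ ha hb]
  have htop : (⊤ : Subgroup uSub) = Subgroup.closure ({a, b} : Set uSub) := by
    refine (Subgroup.map_injective uSub.subtype_injective ?_)
    rw [MonoidHom.map_closure, ← MonoidHom.range_eq_map, Subgroup.range_subtype, Set.image_pair]
    rfl
  rw [MonoidHom.range_eq_map, htop, MonoidHom.map_closure, Set.image_pair]

/-- the field of nine elements -/
abbrev F9 : Type := GaloisField 3 2

theorem uSub_iso : ∃ (F : Type) (_ : Field F) (_ : Fintype F), Fintype.card F = 9 ∧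
    Nonempty (uSub ≃* Cfsg.PSU 3 F 3) ∧ Nat.card uSub = 6048 := by
  letI : Fintype F9 := Fintype.ofFinite _
  have hK : Fintype.card F9 = 9 := by
    rw [← Nat.card_eq_fintype_card, GaloisField.card 3 2 (by norm_num)]; norm_num
  obtain ⟨φ⟩ := CfsgLib.Rec.ThreeSpectrum.exists_ringEquiv_K9 hK
  obtain ⟨e⟩ := CfsgLib.Chev.G2Two.Unitary.nonempty_equiv_PSU (K := F9) hK
  let e' : uSub ≃* ↥(Cfsg.SU 3 F9 3) := ((MonoidHom.ofInjective uPerm_injective).trans
    (MulEquiv.subgroupCongr (uPerm_range hK φ))).trans (MonoidHom.ofInjective (linePerm_inj φ hK)).symm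
  exact ⟨F9, inferInstance, inferInstance, hK, ⟨e'.trans e⟩,
    (Nat.card_congr e'.toEquiv).trans (CfsgLib.Chev.G2Two.Unitary.card_eq hK)⟩

theorem card_uSub : Nat.card uSub = 6048 := uSub_iso.choose_spec.choose_spec.choose_spec.2.2

theorem index_uSub : uSub.index = 100 := by
  have h := Subgroup.card_mul_index uSub
  rw [card_uSub, chain_facts.2.1] at h
  omega

/-- the image of the orbit -/
noncomputable def uImage (σ : imgGen) : Finset (Fin 315) :=
  Finset.univ.image fun i => (σ : Equiv.Perm (Fin 315)) (uLine i)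

theorem uImage_mul_right (σ : imgGen) (h : uSub) : uImage (σ * h.1) = uImage σ := by
  have e : (fun i => ((σ * h.1 : imgGen) : Equiv.Perm (Fin 315)) (uLine i)) =
      (fun i => (σ : Equiv.Perm (Fin 315)) (uLine i)) ∘ uPerm h := by
    funext i
    rw [Subgroup.coe_mul, Equiv.Perm.mul_apply, uPerm_spec]; rfl
  rw [uImage, uImage, e, ← Finset.image_image, Finset.image_univ_equiv]

theorem uImage_left (g σ τ : imgGen) (h : uImage σ = uImage τ) : uImage (g * σ) = uImage (g * τ) := by
  have e : ∀ x : imgGen, uImage (g * x) = (uImage x).image (g : Equiv.Perm (Fin 315)) := by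
    intro x; rw [uImage, uImage, Finset.image_image]; rfl
  rw [e, e, h]

theorem uMask_eq (σ : imgGen) (w : List ℕ)
    (hw : ∀ f : Fin 315, evalW w f = ((σ : Equiv.Perm (Fin 315)) f : ℕ)) :
    uMask w = ∑ k ∈ (uImage σ).image Fin.val, 2 ^ k := by
  have e : uPts = List.ofFn fun i : Fin 63 => (uLine i : ℕ) := by
    refine List.ext_getElem (by rw [List.length_ofFn]; exact uPts_ok.1) fun n h1 h2 => ?_
    rw [List.getElem_ofFn]
    show _ = uPts.getD n 0
    rw [List.getD_eq_getElem _ _ h1]
  rw [uMask, e, List.map_ofFn, List.sum_ofFn, uImage, Finset.image_image]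
  symm
  refine (Finset.sum_image (fun i _ j _ h => uLine_injective ((σ : Equiv.Perm (Fin 315)).injective (Fin.val_injective h)))).trans ?_
  exact Finset.sum_congr rfl fun i _ => congrArg (2 ^ ·) (hw (uLine i)).symm

theorem uImage_eq_iff {σ τ : imgGen} {w v : List ℕ}
    (hw : ∀ f : Fin 315, evalW w f = ((σ : Equiv.Perm (Fin 315)) f : ℕ))
    (hv : ∀ f : Fin 315, evalW v f = ((τ : Equiv.Perm (Fin 315)) f : ℕ)) :
    uMask w = uMask v ↔ uImage σ = uImage τ := by
  rw [uMask_eq σ w hw, uMask_eq τ v hv]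
  constructor
  · intro h
    exact Finset.image_injective Fin.val_injective (Finset.geomSum_injective le_rfl h)
  · intro h; rw [h]

theorem uMask_word {x : ℕ} (hx : x < 100) : uMask (uWord x) = uMasks.getD x 0 :=
  Nat.eq_of_beq_eq_true (List.all_eq_true.1 uMasks_ok x (List.mem_range.2 hx))

theorem uMask_word_inj {x y : ℕ} (hx : x < 100) (hy : y < 100) (h : uMask (uWord x) = uMask (uWord y)) : x = y := by
  rw [uMask_word hx, uMask_word hy] at h
  obtain ⟨-, -, hlen, hnd⟩ := uReps_ok
  rw [List.getD_eq_getElem _ _ (by omega), List.getD_eq_getElem _ _ (by omega)] at h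
  exact (List.Nodup.getElem_inj_iff hnd).1 h

theorem uWord_rep {x : ℕ} (hx : x < 100) :
    ∃ σ : imgGen, ∀ f : Fin 315, evalW (uWord x) f = ((σ : Equiv.Perm (Fin 315)) f : ℕ) := by
  have h := List.all_eq_true.1 uReps_ok.1 (uReps.getD x []) (by
    rw [List.getD_eq_getElem _ _ (by rw [uReps_ok.2.1]; exact hx)]; exact List.getElem_mem _)
  obtain ⟨ρs, h1, h2⟩ := exists_list_pick h
  refine ⟨⟨ρs.prod, h2⟩, fun f => ?_⟩
  rw [uWord]
  exact evalW_prod _ _ h1 f

/-- a representative of a coset -/
noncomputable def uRep (x : Fin 100) : imgGen := (uWord_rep x.is_lt).choose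

theorem uRep_spec (x : Fin 100) (f : Fin 315) :
    evalW (uWord x) f = ((uRep x : imgGen) : Equiv.Perm (Fin 315)) f := (uWord_rep x.is_lt).choose_spec f

/-- the image of a coset -/
noncomputable def cosetImage : imgGen ⧸ uSub → Finset (Fin 315) :=
  Quotient.lift uImage fun a b h => by
    have h' : a⁻¹ * b ∈ uSub := QuotientGroup.leftRel_apply.1 h
    rw [← uImage_mul_right a ⟨_, h'⟩, mul_inv_cancel_left]

theorem cosetImage_injective : Function.Injective cosetImage := by
  classical
  haveI : Fintype (imgGen ⧸ uSub) := Fintype.ofFinite _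
  have hcard : Fintype.card (imgGen ⧸ uSub) = 100 := by
    rw [← Nat.card_eq_fintype_card]; exact index_uSub
  have hinj : Function.Injective fun x : Fin 100 => uImage (uRep x) := by
    intro x y h
    exact Fin.ext (uMask_word_inj x.is_lt y.is_lt ((uImage_eq_iff (uRep_spec x) (uRep_spec y)).2 h))
  have hle : 100 ≤ (Finset.univ.image cosetImage).card := by
    refine le_trans (le_of_eq ?_) (Finset.card_le_card (s := Finset.univ.image fun x => uImage (uRep x)) ?_)
    · rw [Finset.card_image_of_injective _ hinj, Finset.card_univ, Fintype.card_fin]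
    · intro S hS
      obtain ⟨x, -, rfl⟩ := Finset.mem_image.1 hS
      exact Finset.mem_image.2 ⟨QuotientGroup.mk (uRep x), Finset.mem_univ _, rfl⟩
  have := Finset.card_image_iff.1 (le_antisymm (Finset.card_image_le (s := Finset.univ) (f := cosetImage))
    (by rw [Finset.card_univ, hcard]; exact hle))
  intro a b h
  exact this (Finset.mem_coe.2 (Finset.mem_univ a)) (Finset.mem_coe.2 (Finset.mem_univ b)) h

theorem orbit_ncard {L : List (ℕ × ℕ × ℕ)} {n : ℕ} (hn : L.length = n) (h0 : 0 < n) (hL : uOrbOK L = true) :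
    ∃ c : imgGen ⧸ uSub, (MulAction.orbit uSub c).ncard = n := by
  classical
  simp only [uOrbOK, Bool.and_eq_true, Bool.or_eq_true, List.all_eq_true, decide_eq_true_eq, Nat.blt_eq,
    List.mem_range] at hL
  obtain ⟨⟨hnd, hlt⟩, hstep⟩ := hL
  have hcont : ∀ (ms : List ℕ) (m : ℕ), contains' ms m = true → m ∈ ms := by
    intro ms m h
    have h' : ms.any (Nat.beq m) = true := by cases m <;> exact h
    obtain ⟨x, hx, he⟩ := List.any_eq_true.1 h'
    rw [Nat.eq_of_beq_eq_true he]; exact hx
  have hget : ∀ k, k < L.length → L.getD k (0, 0, 0) ∈ L := fun k hk => by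
    rw [List.getD_eq_getElem _ _ hk]; exact List.getElem_mem _
  let pt : Fin L.length → imgGen ⧸ uSub := fun k =>
    QuotientGroup.mk (uRep ⟨(L.getD k (0, 0, 0)).1, hlt _ (hget k k.is_lt)⟩)
  have hgen : ∀ q : ℕ, ∃ g : uSub, ∀ f : Fin 315, getP (uGen q) f = ((g.1 : imgGen) : Equiv.Perm (Fin 315)) f := by
    intro q
    by_cases hq : q = 0
    · exact ⟨⟨uAEl, Subgroup.subset_closure (Or.inl rfl)⟩, fun f => by rw [uGen, if_pos hq]; exact uAEl_rep f⟩
    · exact ⟨⟨uBEl, Subgroup.subset_closure (Or.inr rfl)⟩, fun f => by rw [uGen, if_neg hq]; exact uBEl_rep f⟩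
  have heq : ∀ (a : ℕ) (g : imgGen) (x y : Fin 100), (∀ f : Fin 315, getP a f = ((g : imgGen) : Equiv.Perm (Fin 315)) f) →
      uMask (a :: uWord x) = uMask (uWord y) →
      (QuotientGroup.mk (g * uRep x) : imgGen ⧸ uSub) = QuotientGroup.mk (uRep y) := by
    intro a g x y ha hm
    refine cosetImage_injective ?_
    refine (uImage_eq_iff (σ := g * uRep x) (fun f => ?_) (uRep_spec y)).1 hm
    rw [evalW, uRep_spec x f, ha, Subgroup.coe_mul, Equiv.Perm.mul_apply]
  let k0 : Fin L.length := ⟨0, by omega⟩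
  refine ⟨pt k0, ?_⟩
  have hreach : ∀ k : ℕ, ∀ hk : k < L.length, pt ⟨k, hk⟩ ∈ MulAction.orbit uSub (pt k0) := by
    intro k
    induction k using Nat.strong_induction_on with
    | _ k ih =>
      intro hk
      rcases (hstep k hk).1.1 with h | ⟨hp, hm⟩
      · have : k = 0 := Nat.eq_of_beq_eq_true h
        subst this; exact MulAction.mem_orbit_self _
      · obtain ⟨g, hg⟩ := hgen (L.getD k (0, 0, 0)).2.1
        obtain ⟨h', hh'⟩ := ih _ hp (by omega)
        refine ⟨g * h', ?_⟩
        show (g * h') • pt k0 = _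
        rw [mul_smul, show h' • pt k0 = _ from hh']
        exact heq _ g.1 ⟨_, hlt _ (hget _ (by omega))⟩ ⟨_, hlt _ (hget k hk)⟩ hg
          ((Nat.eq_of_beq_eq_true hm).trans (uMask_word (hlt _ (hget k hk))).symm)
  have hclosed : ∀ h : uSub, ∀ x ∈ Set.range pt, h • x ∈ Set.range pt := by
    have hone : ∀ (a : ℕ) (g : imgGen) (hg : g ∈ uSub), (∀ f : Fin 315, getP a f = ((g : imgGen) : Equiv.Perm (Fin 315)) f) →
        (∀ k < L.length, contains' (L.map fun e => uMasks.getD e.1 0) (uMask (a :: uWord (L.getD k (0, 0, 0)).1)) = true) →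
        ∀ x ∈ Set.range pt, (⟨g, hg⟩ : uSub) • x ∈ Set.range pt := by
      rintro a g hg ha hany x ⟨k, rfl⟩
      obtain ⟨e, he, hme⟩ := List.mem_map.1 (hcont _ _ (hany k k.is_lt))
      obtain ⟨j, hj, rfl⟩ := List.getElem_of_mem he
      refine ⟨⟨j, hj⟩, ?_⟩
      symm
      refine heq a g _ _ ha ?_
      rw [← hme]
      simp only [List.getD_eq_getElem _ _ hj]
      exact (uMask_word (hlt _ (List.getElem_mem hj))).symm
    intro h
    obtain ⟨h, hh⟩ := h
    induction hh using Subgroup.closure_induction with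
    | mem y hy =>
      rcases hy with rfl | rfl
      · exact hone uA _ _ (fun f => uAEl_rep f) fun k hk => (hstep k hk).1.2
      · exact hone uB _ _ (fun f => uBEl_rep f) fun k hk => (hstep k hk).2
    | one => intro x hx; show (1 : uSub) • x ∈ _; rw [one_smul]; exact hx
    | mul a b ha' hb' ha hb =>
      intro x hx
      show ((⟨a, ha'⟩ : uSub) * ⟨b, hb'⟩) • x ∈ _
      rw [mul_smul]; exact ha _ (hb _ hx)
    | inv a ha' ha =>
      intro x hx
      have hfin : Set.MapsTo (fun y => (⟨a, ha'⟩ : uSub) • y) (Set.range pt) (Set.range pt) := fun y hy => ha y hy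
      haveI : Finite (Set.range pt) := Set.toFinite _
      obtain ⟨⟨y, hy⟩, hyx'⟩ := (Finite.injective_iff_surjective.1
        (hfin.restrict_inj.2 (MulAction.injective _).injOn)) ⟨x, hx⟩
      have hyx : (⟨a, ha'⟩ : uSub) • y = x := congrArg Subtype.val hyx'
      show (⟨a, ha'⟩ : uSub)⁻¹ • x ∈ _
      rw [← hyx, inv_smul_smul]; exact hy
  have horb : MulAction.orbit uSub (pt k0) = Set.range pt := by
    refine Set.Subset.antisymm ?_ ?_
    · rintro _ ⟨h, rfl⟩
      exact hclosed h _ ⟨k0, rfl⟩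
    · rintro _ ⟨k, rfl⟩
      exact hreach k k.is_lt
  have hinj : Function.Injective pt := by
    intro i j h
    have hm := (uImage_eq_iff (uRep_spec _) (uRep_spec _)).2 (congrArg cosetImage h)
    have h1 := uMask_word_inj (hlt _ (hget i i.is_lt)) (hlt _ (hget j j.is_lt)) hm
    rw [List.getD_eq_getElem _ _ i.is_lt, List.getD_eq_getElem _ _ j.is_lt] at h1
    exact Fin.ext ((List.Nodup.getElem_inj_iff hnd (hi := by simp) (hj := by simp)).1 (by simpa using h1))
  rw [horb, Set.ncard_range_of_injective hinj, Nat.card_fin, hn]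

end CfsgLib.J2
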